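import Groth.Prelude.Def_HopfRep
import Groth.Prelude.Def_Hoch
import Groth.Agent.H62.Comod
import Groth.Agent.H40.Comod
import Mathlib.RingTheory.TensorProduct.Basic
import Mathlib.Algebra.Algebra.Operations

set_option autoImplicit false
universe u

open TensorProduct

namespace Groth.Agent.H59.LinRed

open HopfRep Groth.Agent.H62

section General

variable {k : Type u} [Field k] {A : Type u} [CommRing A] [Bialgebra k A]

/-- preimage version of surjectivity on invariants -/
theorem exists_fixed_preimage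
    (hG : HopfRep.IsLinearlyReductive k A)
    (V : Type u) [AddCommGroup V] [Module k V] [HopfRep.Comod k A V]
    (W : Type u) [AddCommGroup W] [Module k W] [HopfRep.Comod k A W]
    (φ : V →ₗ[k] W) (hφ : Hoch.IsComodHom A φ) (v0 : V)
    (hw : φ v0 ∈ HopfRep.fixedPts k A W) :
    ∃ v ∈ HopfRep.fixedPts k A V, φ v = φ v0 := by
  obtain ⟨V0, hV0, hfin, hv0mem⟩ := exists_finite_subcomod (k := k) (A := A) v0
  let _ := subComod V0 hV0
  set ψ : V0 →ₗ[k] W := φ ∘ₗ V0.subtype with hψdef
  have hψ : Hoch.IsComodHom A ψ := H62.isComodHom_comp (subtype_isComodHom V0 hV0) hφ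
  obtain ⟨C, hC, hcompl⟩ := hG V0 inferInstance (LinearMap.ker ψ) (H62.isSubcomod_ker ψ hψ)
  have htop : (⟨v0, hv0mem⟩ : V0) ∈ LinearMap.ker ψ ⊔ C := by
    rw [hcompl.sup_eq_top]; trivial
  obtain ⟨κ, hκ, c, hc, hsum⟩ := Submodule.mem_sup.mp htop
  have hψc : ψ c = φ v0 := by
    have : ψ (⟨v0, hv0mem⟩ : V0) = φ v0 := rfl
    rw [← hsum, map_add, LinearMap.mem_ker.mp hκ, zero_add] at this
    exact this
  obtain ⟨y, hy⟩ := hC c hc
  let ψC : C →ₗ[k] W := ψ ∘ₗ C.subtype
  have hψC : Function.Injective ψC := by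
    rw [← LinearMap.ker_eq_bot, LinearMap.ker_comp, ← Submodule.disjoint_iff_comap_eq_bot]
    exact hcompl.symm.disjoint
  have h1 : ψC.rTensor A y = ψC.rTensor A ((⟨c, hc⟩ : C) ⊗ₜ[k] (1 : A)) := by
    have e1 : ψC.rTensor A y = ψ.rTensor A (C.subtype.rTensor A y) := by
      rw [← LinearMap.comp_apply, ← LinearMap.rTensor_comp]
    rw [e1, hy]
    have h2 := LinearMap.congr_fun hψ c
    simp only [LinearMap.comp_apply] at h2
    have h4 : ψ.rTensor A (Comod.coact (k := k) (A := A) c) = Comod.coact (k := k) (A := A) (ψ c) :=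
      h2.symm
    rw [h4, LinearMap.rTensor_tmul]
    have h5 : ψC ⟨c, hc⟩ = ψ c := rfl
    rw [h5, hψc]
    exact hw
  have h3 := rTensor_injective ψC hψC A h1
  have hcfix : Comod.coact (k := k) (A := A) c = c ⊗ₜ[k] (1 : A) := by
    rw [← hy, h3, LinearMap.rTensor_tmul]
    rfl
  refine ⟨(c : V), ?_, hψc⟩
  change Comod.coact (k := k) (A := A) (c : V) = (c : V) ⊗ₜ[k] (1 : A)
  rw [← subtype_subCoact V0 hV0 c]
  have : subCoact V0 hV0 c = c ⊗ₜ[k] (1 : A) := hcfix
  rw [this, LinearMap.rTensor_tmul]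
  rfl

/-- comodule maps preserve fixed vectors -/
lemma map_fixedPts {V : Type u} [AddCommGroup V] [Module k V] [HopfRep.Comod k A V]
    {W : Type u} [AddCommGroup W] [Module k W] [HopfRep.Comod k A W]
    (f : V →ₗ[k] W) (hf : Hoch.IsComodHom A f) (v : V) (hv : v ∈ fixedPts k A V) :
    f v ∈ fixedPts k A W := by
  change Comod.coact (k := k) (A := A) (f v) = f v ⊗ₜ[k] (1 : A)
  have h := LinearMap.congr_fun hf v
  simp only [LinearMap.comp_apply] at h
  have hv' : Comod.coact (k := k) (A := A) v = v ⊗ₜ[k] (1 : A) := hv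
  rw [h, hv', LinearMap.rTensor_tmul]

lemma isSubcomod_top {V : Type u} [AddCommGroup V] [Module k V] [HopfRep.Comod k A V] :
    IsSubcomod (k := k) (A := A) (⊤ : Submodule k V) := by
  intro w _
  have hs : Function.Surjective ((⊤ : Submodule k V).subtype.rTensor A) := by
    apply LinearMap.rTensor_surjective
    intro v
    exact ⟨⟨v, trivial⟩, rfl⟩
  exact LinearMap.range_eq_top.mpr hs ▸ Submodule.mem_top

lemma range_rTensor_mono {V : Type u} [AddCommGroup V] [Module k V]
    {M N : Submodule k V} (h : M ≤ N) :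
    LinearMap.range (M.subtype.rTensor A) ≤ LinearMap.range (N.subtype.rTensor A) := by
  rintro _ ⟨y, rfl⟩
  refine ⟨(Submodule.inclusion h).rTensor A y, ?_⟩
  rw [← LinearMap.comp_apply, ← LinearMap.rTensor_comp]
  rfl

lemma isSubcomod_sup {V : Type u} [AddCommGroup V] [Module k V] [HopfRep.Comod k A V]
    (M N : Submodule k V) (hM : IsSubcomod (k := k) (A := A) M)
    (hN : IsSubcomod (k := k) (A := A) N) : IsSubcomod (k := k) (A := A) (M ⊔ N) := by
  intro w hw
  obtain ⟨m, hm, n, hn, rfl⟩ := Submodule.mem_sup.mp hw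
  rw [map_add]
  exact Submodule.add_mem _ (range_rTensor_mono le_sup_left (hM m hm))
    (range_rTensor_mono le_sup_right (hN n hn))

lemma isSubcomod_finset_sup {V : Type u} [AddCommGroup V] [Module k V] [HopfRep.Comod k A V]
    {ι : Type*} (T : Finset ι) (M : ι → Submodule k V)
    (hM : ∀ i ∈ T, IsSubcomod (k := k) (A := A) (M i)) :
    IsSubcomod (k := k) (A := A) (T.sup M) := by
  classical
  induction T using Finset.induction_on with
  | empty =>
    intro w hw
    simp only [Finset.sup_empty, Submodule.mem_bot] at hw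
    rw [hw, map_zero]
    exact Submodule.zero_mem _
  | insert a T _ ih =>
    rw [Finset.sup_insert]
    exact isSubcomod_sup _ _ (hM a (Finset.mem_insert_self a T))
      (ih fun i hi => hM i (Finset.mem_insert_of_mem hi))

end General

section Alg

variable {k : Type u} [Field k] {A : Type u} [CommRing A] [Bialgebra k A]
variable {R : Type u} [CommRing R] [Algebra k R] [HopfRep.Comod k A R]

lemma mulLeft_isComodHom
    (hmul : ∀ f g : R, HopfRep.Comod.coact (k := k) (A := A) (f * g) =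
      HopfRep.Comod.coact (k := k) (A := A) f * HopfRep.Comod.coact (k := k) (A := A) g)
    (m : R) (hm : m ∈ fixedPts k A R) :
    Hoch.IsComodHom A (LinearMap.mulLeft k m) := by
  unfold Hoch.IsComodHom
  ext r
  simp only [LinearMap.comp_apply, LinearMap.mulLeft_apply]
  have hm' : Comod.coact (k := k) (A := A) m = m ⊗ₜ[k] (1 : A) := hm
  rw [hmul, hm']
  generalize Comod.coact (k := k) (A := A) r = x
  induction x with
  | zero => simp
  | tmul r a => simp [Algebra.TensorProduct.tmul_mul_tmul]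
  | add x y hx hy => rw [mul_add, map_add, hx, hy]

lemma isSubcomod_one
    (hone : HopfRep.Comod.coact (k := k) (A := A) (1 : R) = 1) :
    IsSubcomod (k := k) (A := A) (1 : Submodule k R) := by
  intro w hw
  obtain ⟨c, rfl⟩ := Submodule.mem_one.mp hw
  refine ⟨c • ((⟨1, Submodule.one_le.mp le_rfl⟩ : (1 : Submodule k R)) ⊗ₜ[k] (1 : A)), ?_⟩
  rw [map_smul, LinearMap.rTensor_tmul, Algebra.algebraMap_eq_smul_one, map_smul, hone,
    Algebra.TensorProduct.one_def]
  rfl

lemma mul_mem_range (M N : Submodule k R) (y : M ⊗[k] A) (z : N ⊗[k] A) :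
    M.subtype.rTensor A y * N.subtype.rTensor A z ∈
      LinearMap.range ((M * N).subtype.rTensor A) := by
  induction y with
  | zero => rw [map_zero, zero_mul]; exact Submodule.zero_mem _
  | add y₁ y₂ h₁ h₂ => rw [map_add, add_mul]; exact Submodule.add_mem _ h₁ h₂
  | tmul m a =>
    induction z with
    | zero => rw [map_zero, mul_zero]; exact Submodule.zero_mem _
    | add z₁ z₂ h₁ h₂ => rw [map_add, mul_add]; exact Submodule.add_mem _ h₁ h₂
    | tmul n b =>
      refine ⟨(⟨(m : R) * (n : R), Submodule.mul_mem_mul m.2 n.2⟩ : (M * N : Submodule k R)) ⊗ₜ[k]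
        (a * b), ?_⟩
      rw [LinearMap.rTensor_tmul, LinearMap.rTensor_tmul, LinearMap.rTensor_tmul,
        Algebra.TensorProduct.tmul_mul_tmul]
      rfl

lemma isSubcomod_mul
    (hmul : ∀ f g : R, HopfRep.Comod.coact (k := k) (A := A) (f * g) =
      HopfRep.Comod.coact (k := k) (A := A) f * HopfRep.Comod.coact (k := k) (A := A) g)
    (M N : Submodule k R) (hM : IsSubcomod (k := k) (A := A) M)
    (hN : IsSubcomod (k := k) (A := A) N) : IsSubcomod (k := k) (A := A) (M * N) := by
  intro w hw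
  induction hw using Submodule.mul_induction_on' with
  | mem_mul_mem m hm n hn =>
    rw [hmul]
    obtain ⟨y, hy⟩ := hM m hm
    obtain ⟨z, hz⟩ := hN n hn
    rw [← hy, ← hz]
    exact mul_mem_range M N y z
  | add x _ y _ hx hy => rw [map_add]; exact Submodule.add_mem _ hx hy

lemma isSubcomod_pow
    (hmul : ∀ f g : R, HopfRep.Comod.coact (k := k) (A := A) (f * g) =
      HopfRep.Comod.coact (k := k) (A := A) f * HopfRep.Comod.coact (k := k) (A := A) g)
    (hone : HopfRep.Comod.coact (k := k) (A := A) (1 : R) = 1)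
    (M : Submodule k R) (hM : IsSubcomod (k := k) (A := A) M) (d : ℕ) :
    IsSubcomod (k := k) (A := A) (M ^ d) := by
  induction d with
  | zero => rw [pow_zero]; exact isSubcomod_one hone
  | succ d ih => rw [pow_succ]; exact isSubcomod_mul hmul _ _ ih hM

/-- one step: an invariant element of `J + f W` is `j + f w` with `j`, `w` invariant -/
theorem step (hG : HopfRep.IsLinearlyReductive k A)
    (hmul : ∀ f g : R, HopfRep.Comod.coact (k := k) (A := A) (f * g) =
      HopfRep.Comod.coact (k := k) (A := A) f * HopfRep.Comod.coact (k := k) (A := A) g)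
    (J W : Submodule k R) (hJ : IsSubcomod (k := k) (A := A) J)
    (hW : IsSubcomod (k := k) (A := A) W) (f : R) (hf : f ∈ fixedPts k A R)
    (h : R) (hh : h ∈ fixedPts k A R) (j : R) (hj : j ∈ J) (w : R) (hw : w ∈ W)
    (e : h = j + f * w) :
    ∃ j' ∈ J ⊓ fixedPts k A R, ∃ w' ∈ W ⊓ fixedPts k A R, h = j' + f * w' := by
  let _ := subComod J hJ
  let _ := subComod W hW
  let _ := H40.prodComod (k := k) (C := A) J W
  let Ψ : J × W →ₗ[k] R :=
    J.subtype ∘ₗ LinearMap.fst k _ _ + LinearMap.mulLeft k f ∘ₗ W.subtype ∘ₗ LinearMap.snd k _ _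
  have hΨ1 : Hoch.IsComodHom A (J.subtype ∘ₗ LinearMap.fst k J W) :=
    H40.isComodHom_comp (H40.isComodHom_fst _ _) (subtype_isComodHom _ hJ)
  have hΨ2 : Hoch.IsComodHom A (W.subtype ∘ₗ LinearMap.snd k J W) :=
    H40.isComodHom_comp (H40.isComodHom_snd _ _) (subtype_isComodHom _ hW)
  have hΨ : Hoch.IsComodHom A Ψ :=
    H40.isComodHom_add hΨ1 (H40.isComodHom_comp hΨ2 (mulLeft_isComodHom hmul f hf))
  have hΨapp : ∀ p : J × W, Ψ p = (p.1 : R) + f * (p.2 : R) := fun p => rfl
  let v0 : J × W := (⟨j, hj⟩, ⟨w, hw⟩)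
  have hv0 : Ψ v0 = h := by rw [hΨapp, e]
  have hfix : Ψ v0 ∈ fixedPts k A R := by rw [hv0]; exact hh
  obtain ⟨v, hv, hvv⟩ := exists_fixed_preimage hG _ _ Ψ hΨ v0 hfix
  have h1 : ((v.1 : J) : R) ∈ fixedPts k A R := map_fixedPts _ hΨ1 v hv
  have h2 : ((v.2 : W) : R) ∈ fixedPts k A R := map_fixedPts _ hΨ2 v hv
  refine ⟨v.1, ⟨v.1.2, h1⟩, v.2, ⟨v.2.2, h2⟩, ?_⟩
  rw [← hΨapp, hvv, hv0]

/-- finite sums: an invariant element `j + ∑ f i * r i` with `r i ∈ W i`, `f i` invariant,
can be rewritten with invariant `j` and `r i`. -/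
theorem finite_sum_invariants (hG : HopfRep.IsLinearlyReductive k A)
    (hmul : ∀ f g : R, HopfRep.Comod.coact (k := k) (A := A) (f * g) =
      HopfRep.Comod.coact (k := k) (A := A) f * HopfRep.Comod.coact (k := k) (A := A) g)
    {ι : Type*} [DecidableEq ι] (T : Finset ι) (W : ι → Submodule k R)
    (hW : ∀ i, IsSubcomod (k := k) (A := A) (W i))
    (f : ι → R) (hf : ∀ i, f i ∈ fixedPts k A R) :
    ∀ (J : Submodule k R), IsSubcomod (k := k) (A := A) J →
      ∀ h ∈ fixedPts k A R, ∀ j ∈ J, ∀ r : ι → R, (∀ i ∈ T, r i ∈ W i) →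
        h = j + ∑ i ∈ T, f i * r i →
        ∃ j' ∈ J ⊓ fixedPts k A R, ∃ r' : ι → R, (∀ i ∈ T, r' i ∈ W i ⊓ fixedPts k A R) ∧
          h = j' + ∑ i ∈ T, f i * r' i := by
  induction T using Finset.induction_on with
  | empty =>
    intro J _ h hh j hj r _ e
    rw [Finset.sum_empty, add_zero] at e
    exact ⟨h, ⟨e ▸ hj, hh⟩, fun _ => 0, by simp, by simp⟩
  | insert a T haT ih =>
    intro J hJ h hh j hj r hr e
    rw [Finset.sum_insert haT, ← add_assoc] at e
    set J' : Submodule k R := J ⊔ (W a).map (LinearMap.mulLeft k (f a)) with hJ'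
    have hJ's : IsSubcomod (k := k) (A := A) J' :=
      isSubcomod_sup _ _ hJ
        (isSubcomod_map _ (mulLeft_isComodHom hmul (f a) (hf a)) _ (hW a))
    have hmem : j + f a * r a ∈ J' :=
      Submodule.add_mem_sup hj
        (Submodule.mem_map.mpr ⟨r a, hr a (Finset.mem_insert_self a T), rfl⟩)
    obtain ⟨j'', ⟨hj''J, hj''fix⟩, r'', hr'', e''⟩ :=
      ih J' hJ's h hh (j + f a * r a) hmem r
        (fun i hi => hr i (Finset.mem_insert_of_mem hi)) e
    obtain ⟨j0, hj0, y, hy, hsum⟩ := Submodule.mem_sup.mp hj''J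
    obtain ⟨w0, hw0, rfl⟩ := Submodule.mem_map.mp hy
    obtain ⟨j', hj', w', hw', e3⟩ :=
      step hG hmul J (W a) hJ (hW a) (f a) (hf a) j'' hj''fix j0 hj0 w0 hw0 hsum.symm
    refine ⟨j', hj', Function.update r'' a w', ?_, ?_⟩
    · intro i hi
      rcases Finset.mem_insert.mp hi with rfl | hi
      · rw [Function.update_self]; exact hw'
      · have hne : i ≠ a := fun h => haT (h ▸ hi)
        rw [Function.update_of_ne hne]
        exact hr'' i hi
    · rw [Finset.sum_insert haT, Function.update_self, e'', e3, add_assoc]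
      congr 2
      refine Finset.sum_congr rfl fun i hi => ?_
      have hne : i ≠ a := fun h => haT (h ▸ hi)
      rw [Function.update_of_ne hne]

end Alg

end Groth.Agent.H59.LinRed
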