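import Groth.Prelude.Def_HopfRep
import Groth.Prelude.Def_Hoch
import Groth.Agent.H59.LinRed
import Mathlib.RingTheory.Jacobson.Ring
import Mathlib.FieldTheory.IsAlgClosed.Basic
import Mathlib.RingTheory.Ideal.Quotient.Operations

set_option autoImplicit false
universe u

open TensorProduct

namespace Groth.Agent.H59.Orbit

open HopfRep Groth.Agent.H62 Groth.Agent.H59.LinRed

section Points

variable {k : Type u} [Field k] [IsAlgClosed k]
variable {R : Type u} [CommRing R] [Algebra k R] [Algebra.FiniteType k R]

/-- Nullstellensatz: every maximal ideal of a finitely generated algebra over an algebraically closed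
field is the kernel of a rational point. -/
theorem exists_point_of_isMaximal (M : Ideal R) (hM : M.IsMaximal) :
    ∃ x : R →ₐ[k] k, ∀ f, x f = 0 ↔ f ∈ M := by
  letI := Ideal.Quotient.field M
  haveI : Algebra.FiniteType k (R ⧸ M) :=
    Algebra.FiniteType.of_surjective (Ideal.Quotient.mkₐ k M) (Ideal.Quotient.mkₐ_surjective k M)
  haveI : Module.Finite k (R ⧸ M) := finite_of_finite_type_of_isJacobsonRing k (R ⧸ M)
  have hbij : Function.Bijective (algebraMap k (R ⧸ M)) :=
    IsAlgClosed.algebraMap_bijective_of_isIntegral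
  let e : (R ⧸ M) ≃ₐ[k] k := (AlgEquiv.ofBijective (Algebra.ofId k (R ⧸ M)) hbij).symm
  refine ⟨(e : (R ⧸ M) →ₐ[k] k).comp (Ideal.Quotient.mkₐ k M), fun f => ?_⟩
  change e (Ideal.Quotient.mk M f) = 0 ↔ f ∈ M
  rw [← Ideal.Quotient.eq_zero_iff_mem]
  exact map_eq_zero_iff e e.injective

/-- an element killed by all rational points is nilpotent -/
theorem isNilpotent_of_forall_point (a : R) (h : ∀ g : R →ₐ[k] k, g a = 0) : IsNilpotent a := by
  have hJ : IsJacobsonRing R := isJacobsonRing_of_finiteType (A := k) (B := R)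
  have h1 : (nilradical R).jacobson = nilradical R :=
    hJ.out (Ideal.radical_isRadical _)
  rw [← mem_nilradical, ← h1, Ideal.jacobson, Ideal.mem_sInf]
  rintro M ⟨_, hM⟩
  obtain ⟨x, hx⟩ := exists_point_of_isMaximal (k := k) M hM
  exact (hx a).mp (h x)

/-- a proper ideal has a rational point vanishing on it -/
theorem exists_point_of_ne_top (J : Ideal R) (hJ : J ≠ ⊤) :
    ∃ x : R →ₐ[k] k, ∀ f ∈ J, x f = 0 := by
  obtain ⟨M, hM, hle⟩ := Ideal.exists_le_maximal _ hJ
  obtain ⟨x, hx⟩ := exists_point_of_isMaximal (k := k) M hM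
  exact ⟨x, fun f hf => (hx f).mpr (hle hf)⟩

end Points

section Theta

variable {k : Type u} [Field k] {A : Type u} [CommRing A] [Bialgebra k A]
variable {R : Type u} [CommRing R] [Algebra k R] [HopfRep.Comod k A R]

/-- the linear map `R ⊗ M → M`, `r ⊗ m ↦ x r • m` -/
noncomputable def ev (x : R →ₐ[k] k) (M : Type u) [AddCommGroup M] [Module k M] : R ⊗[k] M →ₗ[k] M :=
  (TensorProduct.lid k M).toLinearMap ∘ₗ x.toLinearMap.rTensor M

@[simp] lemma ev_tmul (x : R →ₐ[k] k) (M : Type u) [AddCommGroup M] [Module k M] (r : R) (m : M) :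
    ev x M (r ⊗ₜ[k] m) = x r • m := by
  simp [ev]

/-- the orbit map `R → A` of a rational point, `f ↦ (x ⊗ id)(coact f)` -/
noncomputable def theta (x : R →ₐ[k] k) : R →ₗ[k] A :=
  ev x A ∘ₗ Comod.coact (k := k) (A := A)

lemma theta_apply (x : R →ₐ[k] k) (f : R) :
    theta (A := A) x f = ev x A (Comod.coact (k := k) (A := A) f) := rfl

lemma ev_mul (x : R →ₐ[k] k) (s t : R ⊗[k] A) : ev x A (s * t) = ev x A s * ev x A t := by
  induction s with
  | zero => simp
  | add s₁ s₂ h₁ h₂ => rw [add_mul, map_add, map_add, add_mul, h₁, h₂]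
  | tmul r a =>
    induction t with
    | zero => simp
    | add t₁ t₂ h₁ h₂ => rw [mul_add, map_add, map_add, mul_add, h₁, h₂]
    | tmul r' a' =>
      rw [Algebra.TensorProduct.tmul_mul_tmul, ev_tmul, ev_tmul, ev_tmul, map_mul,
        smul_mul_smul_comm]

lemma theta_mul
    (hmul : ∀ f g : R, HopfRep.Comod.coact (k := k) (A := A) (f * g) =
      HopfRep.Comod.coact (k := k) (A := A) f * HopfRep.Comod.coact (k := k) (A := A) g)
    (x : R →ₐ[k] k) (f g : R) : theta (A := A) x (f * g) = theta x f * theta x g := by
  rw [theta_apply, hmul, ev_mul]; rfl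

lemma theta_one (hone : HopfRep.Comod.coact (k := k) (A := A) (1 : R) = 1)
    (x : R →ₐ[k] k) : theta (A := A) x 1 = 1 := by
  rw [theta_apply, hone, Algebra.TensorProduct.one_def, ev_tmul, map_one, one_smul]

/-- `x (g · f) = g (θ_x f)` -/
lemma apply_act (x : R →ₐ[k] k) (g : A →ₐ[k] k) (f : R) :
    x (Comod.act k A R g f) = g (theta x f) := by
  unfold Comod.act
  rw [theta_apply]
  simp only [LinearMap.comp_apply, LinearEquiv.coe_coe]
  generalize Comod.coact (k := k) (A := A) f = t
  induction t with
  | zero => simp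
  | add s t hs ht => simp only [map_add, hs, ht]
  | tmul r a =>
    simp [mul_comm]

/-- the orbit map is a map of comodules (`A` with its regular coaction) -/
lemma theta_isComodHom (x : R →ₐ[k] k) : Hoch.IsComodHom A (theta (A := A) x) := by
  unfold Hoch.IsComodHom
  ext f
  simp only [LinearMap.comp_apply]
  change CoalgebraStruct.comul (R := k) (A := A) (theta x f) = _
  -- apply `ev x (A ⊗ A)` to the coassociativity identity
  have hco := LinearMap.congr_fun (Comod.coassoc (k := k) (A := A) (V := R)) f
  simp only [LinearMap.comp_apply, LinearEquiv.coe_coe] at hco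
  have h1 : ∀ t : R ⊗[k] A, ev x (A ⊗[k] A) ((CoalgebraStruct.comul (R := k) (A := A)).lTensor R t) =
      CoalgebraStruct.comul (R := k) (A := A) (ev x A t) := by
    intro t
    induction t with
    | zero => simp
    | add s t hs ht => simp only [map_add, hs, ht]
    | tmul r a => simp
  have h2 : ∀ s : (R ⊗[k] A) ⊗[k] A, ev x (A ⊗[k] A) (TensorProduct.assoc k R A A s) =
      (ev x A).rTensor A s := by
    intro s
    induction s with
    | zero => simp
    | add s t hs ht => simp only [map_add, hs, ht]
    | tmul t a =>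
      induction t with
      | zero => simp
      | add s t hs ht => simp only [add_tmul, map_add, hs, ht]
      | tmul r a' => simp [TensorProduct.smul_tmul']
  rw [theta_apply, ← h1, ← hco, h2, ← LinearMap.comp_apply, ← LinearMap.rTensor_comp]
  rfl

/-- evaluating the orbit map at the identity gives back the point -/
lemma counit_theta (x : R →ₐ[k] k) (f : R) :
    CoalgebraStruct.counit (R := k) (A := A) (theta x f) = x f := by
  have hc := LinearMap.congr_fun (Comod.counit_comp (k := k) (A := A) (V := R)) f
  simp only [LinearMap.comp_apply, LinearMap.flip_apply, TensorProduct.mk_apply] at hc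
  have h1 : ∀ t : R ⊗[k] A, CoalgebraStruct.counit (R := k) (A := A) (ev x A t) =
      ev x k ((CoalgebraStruct.counit (R := k) (A := A)).lTensor R t) := by
    intro t
    induction t with
    | zero => simp
    | add s t hs ht => simp only [map_add, hs, ht]
    | tmul r a => simp
  rw [theta_apply, h1, hc, ev_tmul]
  simp

/-- invariants are fixed by the action of every rational point of the group -/
lemma act_of_mem_fixedPts (g : A →ₐ[k] k) (f : R) (hf : f ∈ fixedPts k A R) :
    Comod.act k A R g f = f := by
  have hf' : Comod.coact (k := k) (A := A) f = f ⊗ₜ[k] (1 : A) := hf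
  unfold Comod.act
  simp [hf']

end Theta

end Groth.Agent.H59.Orbit
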