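import Mathlib
import Groth.Prelude.Def_SheafNL

/-!
# Homotopies between maps of two-term complexes, and homotopy invariance of `NLCx.cx`

* `homotopyOfDouble`: a homotopy between two chain maps out of a `double` complex in degrees
  `-1, 0` from a "diagonal" map.
* `NLCx.map` is functorial, and two maps of extensions induce homotopic maps (the homotopy is
  Mathlib's `Algebra.Extension.Hom.sub`).
-/

set_option autoImplicit false
set_option linter.style.haveILetI false
universe u v

namespace Groth.Agent.H59.NLHomotopy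

open CategoryTheory CategoryTheory.Limits HomologicalComplex

section General

variable {C : Type*} [Category C] [Preadditive C] [HasZeroObject C]
variable {X₀ X₁ : C} {f : X₀ ⟶ X₁}

/-- the relation `-1 → 0` in `ComplexShape.up ℤ` -/
theorem rel : (ComplexShape.up ℤ).Rel (-1) 0 := by simp

theorem ne : (-1 : ℤ) ≠ 0 := by decide

open scoped Classical in
/-- A homotopy between two maps out of a two-term complex in degrees `-1, 0`. -/
noncomputable def homotopyOfDouble {K : CochainComplex C ℤ} (φ ψ : double f rel ⟶ K)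
    (σ : X₁ ⟶ K.X (-1))
    (h₀ : φ.f (-1) = (doubleXIso₀ f rel).hom ≫ f ≫ σ + ψ.f (-1))
    (h₁ : φ.f 0 = (doubleXIso₁ f rel ne).hom ≫ σ ≫ K.d (-1) 0 + ψ.f 0) :
    Homotopy φ ψ where
  hom i j := if h : i = 0 ∧ j = -1 then
      eqToHom (by rw [h.1]) ≫ (doubleXIso₁ f rel ne).hom ≫ σ ≫ eqToHom (by rw [h.2])
    else 0
  zero i j hij := by
    rw [dif_neg]
    rintro ⟨rfl, rfl⟩
    exact hij (by simp)
  comm i := by
    by_cases hi₀ : i = -1
    · subst hi₀
      rw [dNext_eq _ (show (ComplexShape.up ℤ).Rel (-1) 0 by simp),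
        prevD_eq _ (show (ComplexShape.up ℤ).Rel (-2) (-1) by simp)]
      rw [dif_pos (⟨rfl, rfl⟩ : (0 : ℤ) = 0 ∧ (-1 : ℤ) = -1),
        dif_neg (by decide : ¬ ((-1 : ℤ) = 0 ∧ (-2 : ℤ) = -1)), zero_comp, add_zero, h₀,
        double_d f rel ne]
      simp
    · by_cases hi₁ : i = 0
      · subst hi₁
        rw [dNext_eq _ (show (ComplexShape.up ℤ).Rel 0 1 by simp),
          prevD_eq _ (show (ComplexShape.up ℤ).Rel (-1) 0 by simp)]
        rw [dif_pos (⟨rfl, rfl⟩ : (0 : ℤ) = 0 ∧ (-1 : ℤ) = -1),
          dif_neg (by decide : ¬ ((1 : ℤ) = 0 ∧ (0 : ℤ) = -1)), comp_zero, zero_add, h₁]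
        simp
      · exact (isZero_double_X f rel i hi₀ hi₁).eq_of_src _ _

end General

section NL

open Algebra Algebra.Extension

variable {R S : Type u} [CommRing R] [CommRing S] [Algebra R S]

/-- The degree `-1` term of the naive cotangent complex is the conormal module. -/
noncomputable def xIso₀ (P : Algebra.Extension.{u} R S) :
    (NLCx.cx P).X (-1) ≅ ModuleCat.of S P.Cotangent :=
  doubleXIso₀ (ModuleCat.ofHom P.cotangentComplex) rel

/-- The degree `0` term of the naive cotangent complex is the cotangent space. -/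
noncomputable def xIso₁ (P : Algebra.Extension.{u} R S) :
    (NLCx.cx P).X 0 ≅ ModuleCat.of S P.CotangentSpace :=
  doubleXIso₁ (ModuleCat.ofHom P.cotangentComplex) rel ne

theorem isZero_X (P : Algebra.Extension.{u} R S) (k : ℤ) (h₀ : k ≠ -1) (h₁ : k ≠ 0) :
    IsZero ((NLCx.cx P).X k) :=
  isZero_double_X _ _ k h₀ h₁

theorem cx_d (P : Algebra.Extension.{u} R S) :
    (NLCx.cx P).d (-1) 0 = (xIso₀ P).hom ≫ ModuleCat.ofHom P.cotangentComplex ≫ (xIso₁ P).inv :=
  double_d _ _ ne

variable {R' : Type u} [CommRing R'] [Algebra R' S] [Algebra R R'] [IsScalarTower R R' S]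
variable {P : Algebra.Extension.{u} R S} {P' : Algebra.Extension.{u} R' S}

theorem map_f_neg_one (f : P.Hom P') :
    (NLCx.map f).f (-1) = (xIso₀ P).hom ≫
      ModuleCat.ofHom (Algebra.Extension.Cotangent.map f) ≫ (xIso₀ P').inv := by
  unfold NLCx.map
  exact mkHomFromDouble_f₀ ..

theorem map_f_zero (f : P.Hom P') :
    (NLCx.map f).f 0 = (xIso₁ P).hom ≫
      ModuleCat.ofHom (Algebra.Extension.CotangentSpace.map f) ≫ (xIso₁ P').inv := by
  unfold NLCx.map
  exact mkHomFromDouble_f₁ ..

/-- Two maps of extensions induce homotopic maps of naive cotangent complexes. -/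
noncomputable def homotopyMap (f g : P.Hom P') : Homotopy (NLCx.map f) (NLCx.map g) := by
  refine homotopyOfDouble (NLCx.map f) (NLCx.map g)
    (ModuleCat.ofHom (f.sub g) ≫ (xIso₀ P').inv) ?_ ?_
  · rw [map_f_neg_one, map_f_neg_one]
    have h := Algebra.Extension.Cotangent.map_sub_map f g
    have h' : ModuleCat.ofHom (Algebra.Extension.Cotangent.map f) =
        ModuleCat.ofHom P.cotangentComplex ≫ ModuleCat.ofHom (f.sub g) +
          ModuleCat.ofHom (Algebra.Extension.Cotangent.map g) := by
      apply ModuleCat.hom_ext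
      apply LinearMap.ext
      intro x
      have := LinearMap.congr_fun h x
      simp only [LinearMap.sub_apply, LinearMap.coe_comp, Function.comp_apply] at this
      simp [← this]
    rw [h']
    change _ = (xIso₀ P).hom ≫ _ + _
    simp only [Preadditive.add_comp, Preadditive.comp_add, Category.assoc]
  · rw [map_f_zero, map_f_zero]
    have h := Algebra.Extension.CotangentSpace.map_sub_map f g
    have h' : ModuleCat.ofHom (Algebra.Extension.CotangentSpace.map f) =
        ModuleCat.ofHom (f.sub g) ≫ ModuleCat.ofHom P'.cotangentComplex +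
          ModuleCat.ofHom (Algebra.Extension.CotangentSpace.map g) := by
      apply ModuleCat.hom_ext
      apply LinearMap.ext
      intro x
      have := LinearMap.congr_fun h x
      simp only [LinearMap.sub_apply, LinearMap.coe_comp, Function.comp_apply,
        LinearMap.coe_restrictScalars] at this
      simp [← this]
    rw [h', cx_d]
    change _ = (xIso₁ P).hom ≫ _ + _
    simp only [Preadditive.add_comp, Preadditive.comp_add, Category.assoc, Iso.inv_hom_id_assoc]

theorem map_id : NLCx.map (Algebra.Extension.Hom.id P) = 𝟙 (NLCx.cx P) := by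
  apply from_double_hom_ext
  · rw [map_f_neg_one, Algebra.Extension.Cotangent.map_id]
    change _ ≫ 𝟙 _ ≫ _ = _
    simp
  · rw [map_f_zero, Algebra.Extension.CotangentSpace.map_id]
    change _ ≫ 𝟙 _ ≫ _ = _
    simp

section Comp

variable {R'' : Type u} [CommRing R''] [Algebra R'' S] [Algebra R R''] [Algebra R' R'']
  [IsScalarTower R R'' S] [IsScalarTower R' R'' S] [IsScalarTower R R' R'']
  {P'' : Algebra.Extension.{u} R'' S}

theorem map_comp (f : P.Hom P') (g : P'.Hom P'') :
    NLCx.map (g.comp f) = NLCx.map f ≫ NLCx.map g := by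
  apply from_double_hom_ext
  · rw [HomologicalComplex.comp_f, map_f_neg_one, map_f_neg_one, map_f_neg_one,
      Algebra.Extension.Cotangent.map_comp]
    simp only [Category.assoc, Iso.inv_hom_id_assoc]
    rfl
  · rw [HomologicalComplex.comp_f, map_f_zero, map_f_zero, map_f_zero,
      Algebra.Extension.CotangentSpace.map_comp]
    simp only [Category.assoc, Iso.inv_hom_id_assoc]
    rfl

end Comp

section Equiv

variable {Q Q' : Algebra.Extension.{u} R S}

/-- Extensions with maps both ways have homotopy equivalent naive cotangent complexes. -/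
noncomputable def homotopyEquiv (f : Q.Hom Q') (g : Q'.Hom Q) :
    HomotopyEquiv (NLCx.cx Q) (NLCx.cx Q') where
  hom := NLCx.map f
  inv := NLCx.map g
  homotopyHomInvId :=
    (Homotopy.ofEq (map_comp f g).symm).trans
      ((homotopyMap (g.comp f) (Algebra.Extension.Hom.id Q)).trans (Homotopy.ofEq map_id))
  homotopyInvHomId :=
    (Homotopy.ofEq (map_comp g f).symm).trans
      ((homotopyMap (f.comp g) (Algebra.Extension.Hom.id Q')).trans (Homotopy.ofEq map_id))

attribute [local instance] HasDerivedCategory.standard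

/-- Extensions with maps both ways have isomorphic naive cotangent complexes in `D(S)`. -/
theorem nonempty_toD_iso (f : Q.Hom Q') (g : Q'.Hom Q) :
    Nonempty (DRing.toD (NLCx.cx Q) ≅ DRing.toD (NLCx.cx Q')) := by
  haveI : QuasiIso (homotopyEquiv f g).hom := inferInstance
  haveI : IsIso (DerivedCategory.Q.map (homotopyEquiv f g).hom) := inferInstance
  exact ⟨asIso (DerivedCategory.Q.map (homotopyEquiv f g).hom)⟩

end Equiv

end NL

end Groth.Agent.H59.NLHomotopy
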