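import Mathlib
import Groth.Prelude.Def_SheafNL
import Groth.Agent.H59.NLHomotopy

/-!
# Isomorphism criteria for maps of naive cotangent complexes

* `isIso_map_of_bijective`: `NLCx.map f` is an isomorphism of complexes if `f` induces bijections on
  the conormal modules and on the cotangent spaces.
* `cotangent_map_bijective_of_isLocalization`: a map of extensions of the same ring which is a
  localization on the level of the extension rings induces a bijection on conormal modules.
* `cotangentSpace_map_bijective_of_sameVars`: a map of polynomial presentations on the same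
  variables, sending each variable to itself, induces a bijection on cotangent spaces.
-/

set_option autoImplicit false
set_option linter.style.haveILetI false
universe u

namespace Groth.Agent.H59.NLIso

open CategoryTheory CategoryTheory.Limits HomologicalComplex Groth.Agent.H59.NLHomotopy

section General

variable {R S : Type u} [CommRing R] [CommRing S] [Algebra R S]
variable {R' : Type u} [CommRing R'] [Algebra R' S] [Algebra R R'] [IsScalarTower R R' S]
variable {P : Algebra.Extension.{u} R S} {P' : Algebra.Extension.{u} R' S}

theorem isIso_ofHom_of_bijective {M N : Type u} [AddCommGroup M] [AddCommGroup N] [Module S M]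
    [Module S N] (g : M →ₗ[S] N) (hg : Function.Bijective g) : IsIso (ModuleCat.ofHom g) := by
  have : ModuleCat.ofHom g = (LinearEquiv.ofBijective g hg).toModuleIso.hom := rfl
  rw [this]
  infer_instance

/-- `NLCx.map f` is an isomorphism as soon as `f` is bijective on conormal modules and cotangent
spaces. -/
theorem isIso_map_of_bijective (f : P.Hom P')
    (h₀ : Function.Bijective (Algebra.Extension.Cotangent.map f))
    (h₁ : Function.Bijective (Algebra.Extension.CotangentSpace.map f)) :
    IsIso (NLCx.map f) := by
  haveI : ∀ n : ℤ, IsIso ((NLCx.map f).f n) := by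
    intro n
    by_cases hn₀ : n = -1
    · subst hn₀
      rw [map_f_neg_one]
      haveI := isIso_ofHom_of_bijective _ h₀
      infer_instance
    · by_cases hn₁ : n = 0
      · subst hn₁
        rw [map_f_zero]
        haveI := isIso_ofHom_of_bijective _ h₁
        infer_instance
      · exact (isZero_X P n hn₀ hn₁).isIso (isZero_X P' n hn₀ hn₁) _
  exact HomologicalComplex.Hom.isIso_of_components _

/-- A map of extensions of the same ring `S` which exhibits `P'.Ring` as a localization of `P.Ring`
induces a bijection on conormal modules. -/
theorem cotangent_map_bijective_of_isLocalization (f : P.Hom P') (T : Submonoid P.Ring)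
    [Algebra P.Ring P'.Ring] (halg : algebraMap P.Ring P'.Ring = f.toRingHom)
    [IsLocalization T P'.Ring] :
    Function.Bijective (Algebra.Extension.Cotangent.map f) := by
  have hcomp : ∀ x : P.Ring, algebraMap P'.Ring S (f.toRingHom x) = algebraMap P.Ring S x := by
    intro x
    have := f.algebraMap_toRingHom x
    simpa using f.algebraMap_toRingHom x
  have hunit : ∀ t ∈ T, IsUnit (algebraMap P.Ring S t) := by
    intro t ht
    rw [← hcomp]
    have := IsLocalization.map_units P'.Ring (⟨t, ht⟩ : T)
    rw [halg] at this
    exact this.map _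
  have hker : ∀ x : P.Ring, f.toRingHom x ∈ P'.ker → x ∈ P.ker := by
    intro x hx
    rw [Algebra.Extension.ker, RingHom.mem_ker] at hx ⊢
    rw [← hcomp, hx]
  -- `P'.ker` is the extension of `P.ker`
  have hmap : P'.ker = P.ker.map (algebraMap P.Ring P'.Ring) := by
    apply le_antisymm
    · intro y hy
      obtain ⟨⟨x, t⟩, hxt⟩ := IsLocalization.surj T y
      rw [IsLocalization.mem_map_algebraMap_iff T]
      refine ⟨⟨⟨x, hker x ?_⟩, t⟩, hxt⟩
      rw [← halg, ← hxt]
      exact Ideal.mul_mem_right _ _ hy
    · rw [Ideal.map_le_iff_le_comap]
      intro x hx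
      rw [Ideal.mem_comap, halg, Algebra.Extension.ker, RingHom.mem_ker, hcomp]
      exact hx
  constructor
  · rw [injective_iff_map_eq_zero]
    intro ξ hξ
    obtain ⟨x, rfl⟩ := Algebra.Extension.Cotangent.mk_surjective ξ
    rw [Algebra.Extension.Cotangent.map_mk, Algebra.Extension.Cotangent.mk_eq_zero_iff] at hξ
    change f.toRingHom x.1 ∈ P'.ker ^ 2 at hξ
    rw [hmap, ← Ideal.map_pow, IsLocalization.mem_map_algebraMap_iff T] at hξ
    obtain ⟨⟨a, s⟩, has⟩ := hξ
    rw [← halg, ← map_mul, IsLocalization.eq_iff_exists T] at has
    obtain ⟨c, hc⟩ := has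
    -- `(c * s) • mk x = 0`
    have h0 : ((c : P.Ring) * (s : P.Ring)) • Algebra.Extension.Cotangent.mk x = 0 := by
      rw [← map_smul, Algebra.Extension.Cotangent.mk_eq_zero_iff]
      change (c : P.Ring) * (s : P.Ring) * x.1 ∈ P.ker ^ 2
      have : (c : P.Ring) * (s : P.Ring) * x.1 = c * a.1 := by
        rw [← hc]; ring
      rw [this]
      exact Ideal.mul_mem_left _ _ a.2
    rw [← algebraMap_smul S] at h0
    exact (hunit _ (T.mul_mem c.2 s.2)).smul_eq_zero.mp h0
  · intro η
    obtain ⟨y, rfl⟩ := Algebra.Extension.Cotangent.mk_surjective η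
    obtain ⟨⟨x, t⟩, hxt⟩ := IsLocalization.surj T y.1
    have hx : x ∈ P.ker := by
      apply hker
      rw [← halg, ← hxt]
      exact Ideal.mul_mem_right _ _ y.2
    obtain ⟨u, hu⟩ := hunit t t.2
    refine ⟨(↑u⁻¹ : S) • Algebra.Extension.Cotangent.mk ⟨x, hx⟩, ?_⟩
    rw [map_smul, Algebra.Extension.Cotangent.map_mk]
    have h1 : (Algebra.Extension.Cotangent.mk
        ⟨f.toAlgHom x, by
          change f.toRingHom x ∈ P'.ker
          rw [← halg, ← hxt]; exact Ideal.mul_mem_right _ _ y.2⟩ : P'.Cotangent) =
        (f.toRingHom t) • Algebra.Extension.Cotangent.mk y := by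
      rw [← map_smul]
      congr 1
      ext
      change f.toRingHom x = f.toRingHom t * y.1
      rw [← halg, ← hxt, mul_comm]
    rw [h1, ← algebraMap_smul S (f.toRingHom t), hcomp, ← hu, smul_smul, Units.inv_mul, one_smul]

end General

section Generators

variable {R S : Type u} [CommRing R] [CommRing S] [Algebra R S]
variable {R' : Type u} [CommRing R'] [Algebra R' S] [Algebra R R'] [IsScalarTower R R' S]

/-- For polynomial presentations on the same variables (over possibly different bases), the map
sending each variable to itself is bijective on cotangent spaces. -/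
theorem cotangentSpace_map_bijective_of_sameVars {ι : Type u} (G : Algebra.Generators R S ι)
    (G' : Algebra.Generators R' S ι) (f : G.Hom G') (hf : ∀ i, f.val i = MvPolynomial.X i) :
    Function.Bijective (Algebra.Extension.CotangentSpace.map f.toExtensionHom) := by
  have : Algebra.Extension.CotangentSpace.map f.toExtensionHom =
      (G.cotangentSpaceBasis.equiv G'.cotangentSpaceBasis (Equiv.refl ι)).toLinearMap := by
    apply G.cotangentSpaceBasis.ext
    intro i
    rw [LinearEquiv.coe_coe, Module.Basis.equiv_apply, Equiv.refl_apply,
      Algebra.Generators.cotangentSpaceBasis_apply, Algebra.Generators.cotangentSpaceBasis_apply]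
    refine (Algebra.Extension.CotangentSpace.map_tmul f.toExtensionHom 1
      (MvPolynomial.X i : G.toExtension.Ring)).trans ?_
    have hX : f.toExtensionHom.toAlgHom (MvPolynomial.X i : G.toExtension.Ring) =
        (MvPolynomial.X i : MvPolynomial ι R') := by
      exact (Algebra.Generators.Hom.toAlgHom_X f i).trans (hf i)
    rw [map_one, hX]
    rfl
  rw [this]
  exact (G.cotangentSpaceBasis.equiv G'.cotangentSpaceBasis (Equiv.refl ι)).bijective

end Generators

end Groth.Agent.H59.NLIso
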