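import Mathlib
import Groth.Prelude.Def_SheafNL
import Groth.Agent.H59.NLHomotopy
import Groth.Agent.H59.NLIso

/-!
# Base change of naive cotangent complexes: `NLCx.bcCx`, `NLCx.bcMap`

Components, functoriality and homotopy invariance of `NLCx.bcMap`, parallel to `NLHomotopy`.
-/

set_option autoImplicit false
set_option linter.style.haveILetI false
set_option linter.unusedSectionVars false
universe u

namespace Groth.Agent.H59.NLBC

open CategoryTheory CategoryTheory.Limits HomologicalComplex TensorProduct
  Groth.Agent.H59.NLHomotopy Groth.Agent.H59.NLIso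

variable {R S R' S' : Type u} [CommRing R] [CommRing S] [CommRing R'] [CommRing S']
  [Algebra R S] [Algebra R' S'] [Algebra R R'] [Algebra S S'] [Algebra R S']
  [IsScalarTower R R' S'] [IsScalarTower R S S']

/-- The degree `-1` term of `NL(P) ⊗_S S'`. -/
noncomputable def bcXIso₀ (P : Algebra.Extension.{u} R S) (S' : Type u) [CommRing S'] [Algebra S S'] :
    (NLCx.bcCx P S').X (-1) ≅ ModuleCat.of S' (S' ⊗[S] P.Cotangent) :=
  doubleXIso₀ (ModuleCat.ofHom (P.cotangentComplex.baseChange S')) rel

/-- The degree `0` term of `NL(P) ⊗_S S'`. -/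
noncomputable def bcXIso₁ (P : Algebra.Extension.{u} R S) (S' : Type u) [CommRing S'] [Algebra S S'] :
    (NLCx.bcCx P S').X 0 ≅ ModuleCat.of S' (S' ⊗[S] P.CotangentSpace) :=
  doubleXIso₁ (ModuleCat.ofHom (P.cotangentComplex.baseChange S')) rel ne

theorem isZero_bcX (P : Algebra.Extension.{u} R S) (S' : Type u) [CommRing S'] [Algebra S S']
    (k : ℤ) (h₀ : k ≠ -1) (h₁ : k ≠ 0) : IsZero ((NLCx.bcCx P S').X k) :=
  isZero_double_X _ _ k h₀ h₁

theorem bc_d (P : Algebra.Extension.{u} R S) (S' : Type u) [CommRing S'] [Algebra S S'] :
    (NLCx.bcCx P S').d (-1) 0 = (bcXIso₀ P S').hom ≫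
      ModuleCat.ofHom (P.cotangentComplex.baseChange S') ≫ (bcXIso₁ P S').inv :=
  double_d _ _ ne

variable {P : Algebra.Extension.{u} R S} {P' : Algebra.Extension.{u} R' S'}

theorem bcMap_f_neg_one (f : P.Hom P') :
    (NLCx.bcMap f).f (-1) = (bcXIso₀ P S').hom ≫
      ModuleCat.ofHom (LinearMap.liftBaseChange S' (Algebra.Extension.Cotangent.map f)) ≫
        (xIso₀ P').inv := by
  unfold NLCx.bcMap
  exact mkHomFromDouble_f₀ ..

theorem bcMap_f_zero (f : P.Hom P') :
    (NLCx.bcMap f).f 0 = (bcXIso₁ P S').hom ≫
      ModuleCat.ofHom (LinearMap.liftBaseChange S' (Algebra.Extension.CotangentSpace.map f)) ≫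
        (xIso₁ P').inv := by
  unfold NLCx.bcMap
  exact mkHomFromDouble_f₁ ..

/-- Two maps of extensions over the same square induce homotopic base change maps. -/
noncomputable def bcHomotopy (f g : P.Hom P') : Homotopy (NLCx.bcMap f) (NLCx.bcMap g) := by
  refine homotopyOfDouble (NLCx.bcMap f) (NLCx.bcMap g)
    (ModuleCat.ofHom (LinearMap.liftBaseChange S' (f.sub g)) ≫ (xIso₀ P').inv) ?_ ?_
  · rw [bcMap_f_neg_one, bcMap_f_neg_one]
    have h := Algebra.Extension.Cotangent.map_sub_map f g
    have h' : ModuleCat.ofHom (LinearMap.liftBaseChange S' (Algebra.Extension.Cotangent.map f)) =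
        ModuleCat.ofHom (P.cotangentComplex.baseChange S') ≫
          ModuleCat.ofHom (LinearMap.liftBaseChange S' (f.sub g)) +
          ModuleCat.ofHom (LinearMap.liftBaseChange S' (Algebra.Extension.Cotangent.map g)) := by
      apply ModuleCat.hom_ext
      apply LinearMap.ext
      intro x
      induction x using TensorProduct.induction_on with
      | zero => simp
      | tmul s m =>
        have := LinearMap.congr_fun h m
        simp only [LinearMap.sub_apply, LinearMap.coe_comp, Function.comp_apply] at this
        simp [← this, smul_sub]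
      | add x y hx hy => simp only [map_add, hx, hy]
    rw [h']
    change _ = (bcXIso₀ P S').hom ≫ _ + _
    simp only [Preadditive.add_comp, Preadditive.comp_add, Category.assoc]
  · rw [bcMap_f_zero, bcMap_f_zero]
    have h := Algebra.Extension.CotangentSpace.map_sub_map f g
    have h' : ModuleCat.ofHom
        (LinearMap.liftBaseChange S' (Algebra.Extension.CotangentSpace.map f)) =
        ModuleCat.ofHom (LinearMap.liftBaseChange S' (f.sub g)) ≫
          ModuleCat.ofHom P'.cotangentComplex +
          ModuleCat.ofHom
            (LinearMap.liftBaseChange S' (Algebra.Extension.CotangentSpace.map g)) := by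
      apply ModuleCat.hom_ext
      apply LinearMap.ext
      intro x
      induction x using TensorProduct.induction_on with
      | zero => simp
      | tmul s m =>
        have := LinearMap.congr_fun h m
        simp only [LinearMap.sub_apply, LinearMap.coe_comp, Function.comp_apply,
          LinearMap.coe_restrictScalars] at this
        simp [← this, smul_sub]
      | add x y hx hy => simp only [map_add, hx, hy]
    rw [h', cx_d]
    change _ = (bcXIso₁ P S').hom ≫ _ + _
    simp only [Preadditive.add_comp, Preadditive.comp_add, Category.assoc, Iso.inv_hom_id_assoc]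

section Comp

variable {P'' : Algebra.Extension.{u} R' S'}

theorem bcMap_comp (f : P.Hom P') (g : P'.Hom P'') :
    NLCx.bcMap (g.comp f) = NLCx.bcMap f ≫ NLCx.map g := by
  apply from_double_hom_ext
  · rw [HomologicalComplex.comp_f, bcMap_f_neg_one, bcMap_f_neg_one, map_f_neg_one,
      Algebra.Extension.Cotangent.map_comp]
    simp only [Category.assoc, Iso.inv_hom_id_assoc]
    congr 1
    rw [← Category.assoc]
    congr 1
    apply ModuleCat.hom_ext
    apply LinearMap.ext
    intro x
    induction x using TensorProduct.induction_on with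
    | zero => simp
    | tmul s m => simp
    | add x y hx hy => simp only [map_add, hx, hy]
  · rw [HomologicalComplex.comp_f, bcMap_f_zero, bcMap_f_zero, map_f_zero,
      Algebra.Extension.CotangentSpace.map_comp]
    simp only [Category.assoc, Iso.inv_hom_id_assoc]
    congr 1
    rw [← Category.assoc]
    congr 1
    apply ModuleCat.hom_ext
    apply LinearMap.ext
    intro x
    induction x using TensorProduct.induction_on with
    | zero => simp
    | tmul s m => simp
    | add x y hx hy => simp only [map_add, hx, hy]

end Comp

/-- `NLCx.bcMap f` is an isomorphism as soon as the two base-changed linear maps are bijective. -/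
theorem isIso_bcMap_of_bijective (f : P.Hom P')
    (h₀ : Function.Bijective (LinearMap.liftBaseChange S' (Algebra.Extension.Cotangent.map f)))
    (h₁ : Function.Bijective
      (LinearMap.liftBaseChange S' (Algebra.Extension.CotangentSpace.map f))) :
    IsIso (NLCx.bcMap f) := by
  haveI : ∀ n : ℤ, IsIso ((NLCx.bcMap f).f n) := by
    intro n
    by_cases hn₀ : n = -1
    · subst hn₀
      rw [bcMap_f_neg_one]
      haveI := isIso_ofHom_of_bijective _ h₀
      infer_instance
    · by_cases hn₁ : n = 0
      · subst hn₁
        rw [bcMap_f_zero]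
        haveI := isIso_ofHom_of_bijective _ h₁
        infer_instance
      · exact (isZero_bcX P S' n hn₀ hn₁).isIso (isZero_X P' n hn₀ hn₁) _
  exact HomologicalComplex.Hom.isIso_of_components _

end Groth.Agent.H59.NLBC
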