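import Mathlib
import Groth.Prelude.Def_SheafNL
import Groth.Agent.H59.NLBC

/-!
# Base change of the conormal module

For a map of extensions `f : P.Hom P'` over a commutative square, with `P'.ker` the extension of
`P.ker`: the base-changed map `S' ⊗_S I/I² → I'/I'²` is surjective, and it is injective when
`P'.Ring` is flat over `P.Ring`.
-/

set_option autoImplicit false
set_option linter.style.haveILetI false
set_option linter.unusedSectionVars false
universe u

namespace Groth.Agent.H59.NLBC2

open TensorProduct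

variable {R S R' S' : Type u} [CommRing R] [CommRing S] [CommRing R'] [CommRing S']
  [Algebra R S] [Algebra R' S'] [Algebra R R'] [Algebra S S'] [Algebra R S']
  [IsScalarTower R R' S'] [IsScalarTower R S S']
variable {P : Algebra.Extension.{u} R S} {P' : Algebra.Extension.{u} R' S'}

section

variable (f : P.Hom P') [Algebra P.Ring P'.Ring] (halg : algebraMap P.Ring P'.Ring = f.toRingHom)

include halg

theorem algebraMap_comp (x : P.Ring) :
    algebraMap P'.Ring S' (algebraMap P.Ring P'.Ring x) = algebraMap S S' (algebraMap P.Ring S x) := by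
  rw [halg]
  exact f.algebraMap_toRingHom x

theorem map_ker_le : P.ker.map (algebraMap P.Ring P'.Ring) ≤ P'.ker := by
  rw [Ideal.map_le_iff_le_comap]
  intro x hx
  rw [Ideal.mem_comap, Algebra.Extension.ker, RingHom.mem_ker, algebraMap_comp f halg]
  rw [Algebra.Extension.ker, RingHom.mem_ker] at hx
  rw [hx, map_zero]

theorem lift_one_tmul_mk (x : P.ker) :
    LinearMap.liftBaseChange S' (Algebra.Extension.Cotangent.map f) (1 ⊗ₜ Algebra.Extension.Cotangent.mk x) =
      Algebra.Extension.Cotangent.mk ⟨algebraMap P.Ring P'.Ring x.1,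
        map_ker_le f halg (Ideal.mem_map_of_mem _ x.2)⟩ := by
  rw [LinearMap.liftBaseChange_tmul, one_smul, Algebra.Extension.Cotangent.map_mk]
  congr 1
  ext
  show f.toRingHom x.1 = algebraMap P.Ring P'.Ring x.1
  rw [halg]

/-- `S' ⊗_S I/I² → I'/I'²` is surjective when `I'` is generated by the image of `I`. -/
theorem bc_cotangent_surjective (hle : P'.ker ≤ P.ker.map (algebraMap P.Ring P'.Ring)) :
    Function.Surjective (LinearMap.liftBaseChange S' (Algebra.Extension.Cotangent.map f)) := by
  intro η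
  obtain ⟨y, rfl⟩ := Algebra.Extension.Cotangent.mk_surjective η
  have key : ∀ z ∈ P.ker.map (algebraMap P.Ring P'.Ring), ∀ hz : z ∈ P'.ker,
      ∃ ξ, LinearMap.liftBaseChange S' (Algebra.Extension.Cotangent.map f) ξ =
        Algebra.Extension.Cotangent.mk ⟨z, hz⟩ := by
    intro z hz
    refine Submodule.span_induction (p := fun z _ => ∀ hz : z ∈ P'.ker,
      ∃ ξ, LinearMap.liftBaseChange S' (Algebra.Extension.Cotangent.map f) ξ =
        Algebra.Extension.Cotangent.mk ⟨z, hz⟩) ?_ ?_ ?_ ?_ hz
    · rintro _ ⟨x, hx, rfl⟩ hz'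
      exact ⟨1 ⊗ₜ Algebra.Extension.Cotangent.mk ⟨x, hx⟩, lift_one_tmul_mk f halg ⟨x, hx⟩⟩
    · intro hz'
      refine ⟨0, ?_⟩
      rw [map_zero]
      exact (map_zero (Algebra.Extension.Cotangent.mk (P := P'))).symm
    · intro a b ha hb iha ihb hz'
      obtain ⟨ξa, hξa⟩ := iha (map_ker_le f halg ha)
      obtain ⟨ξb, hξb⟩ := ihb (map_ker_le f halg hb)
      refine ⟨ξa + ξb, ?_⟩
      rw [map_add, hξa, hξb, ← map_add]
      rfl
    · intro a b hb ihb hz'
      obtain ⟨ξb, hξb⟩ := ihb (map_ker_le f halg hb)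
      refine ⟨algebraMap P'.Ring S' a • ξb, ?_⟩
      rw [map_smul, hξb, algebraMap_smul, ← map_smul]
      rfl
  exact key y.1 (hle y.2) y.2

end

section Flat

variable (f : P.Hom P') [Algebra P.Ring P'.Ring] (halg : algebraMap P.Ring P'.Ring = f.toRingHom)

/-- multiplication map `P' ⊗_P J → P'` for an ideal `J` of `P` -/
noncomputable def mu (J : Ideal P.Ring) : P'.Ring ⊗[P.Ring] J →ₗ[P'.Ring] P'.Ring :=
  LinearMap.liftBaseChange P'.Ring ((Algebra.linearMap P.Ring P'.Ring) ∘ₗ J.subtype)

omit [Algebra R S'] [IsScalarTower R R' S'] [IsScalarTower R S S'] [Algebra S S'] [Algebra R R'] in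
theorem mu_tmul (J : Ideal P.Ring) (a : P'.Ring) (x : J) :
    mu (P := P) (P' := P') J (a ⊗ₜ x) = a * algebraMap P.Ring P'.Ring x.1 := by
  simp [mu]

omit [Algebra R S'] [IsScalarTower R R' S'] [IsScalarTower R S S'] [Algebra S S'] [Algebra R R'] in
theorem mu_injective [Module.Flat P.Ring P'.Ring] (J : Ideal P.Ring) :
    Function.Injective (mu (P := P) (P' := P') J) := by
  have h1 : Function.Injective (LinearMap.lTensor P'.Ring J.subtype) :=
    Module.Flat.lTensor_preserves_injective_linearMap (M := P'.Ring) J.subtype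
      Subtype.val_injective
  have h2 : ∀ η, mu (P := P) (P' := P') J η =
      TensorProduct.rid P.Ring P'.Ring (LinearMap.lTensor P'.Ring J.subtype η) := by
    intro η
    induction η using TensorProduct.induction_on with
    | zero => simp
    | tmul a x => simp [mu_tmul, Algebra.smul_def, mul_comm]
    | add x y hx hy => simp only [map_add, hx, hy]
  intro a b hab
  rw [h2, h2] at hab
  exact h1 ((TensorProduct.rid P.Ring P'.Ring).injective hab)

omit [Algebra R S'] [IsScalarTower R R' S'] [IsScalarTower R S S'] [Algebra S S'] [Algebra R R'] in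
theorem map_le_range_mu (J : Ideal P.Ring) (z : P'.Ring)
    (hz : z ∈ J.map (algebraMap P.Ring P'.Ring)) :
    ∃ ζ, mu (P := P) (P' := P') J ζ = z := by
  refine Submodule.span_induction (p := fun z _ => ∃ ζ, mu (P := P) (P' := P') J ζ = z)
    ?_ ?_ ?_ ?_ hz
  · rintro _ ⟨x, hx, rfl⟩
    exact ⟨1 ⊗ₜ ⟨x, hx⟩, by simp [mu_tmul]⟩
  · exact ⟨0, map_zero _⟩
  · rintro a b _ _ ⟨ζa, rfl⟩ ⟨ζb, rfl⟩
    exact ⟨ζa + ζb, map_add _ _ _⟩
  · rintro a b _ ⟨ζb, rfl⟩
    exact ⟨a • ζb, map_smul _ _ _⟩

include halg

/-- the additive map `P' ⊗_P I → S' ⊗_S I/I²` -/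
noncomputable def nu : P'.Ring ⊗[P.Ring] P.ker →+ S' ⊗[S] P.Cotangent :=
  TensorProduct.liftAddHom
    { toFun := fun a =>
        { toFun := fun x => algebraMap P'.Ring S' a ⊗ₜ[S] Algebra.Extension.Cotangent.mk x
          map_zero' := by simp
          map_add' := fun x y => by simp [tmul_add] }
      map_zero' := by ext x; simp
      map_add' := fun a b => by ext x; simp [add_tmul] }
    (by
      intro r a x
      change algebraMap P'.Ring S' (r • a) ⊗ₜ[S] Algebra.Extension.Cotangent.mk x =
        algebraMap P'.Ring S' a ⊗ₜ[S] Algebra.Extension.Cotangent.mk (r • x)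
      rw [Algebra.smul_def, map_mul, algebraMap_comp f halg, map_smul, ← algebraMap_smul S r,
        tmul_smul, smul_tmul', Algebra.smul_def, mul_comm])

theorem nu_tmul (a : P'.Ring) (x : P.ker) :
    nu f halg (a ⊗ₜ x) = algebraMap P'.Ring S' a ⊗ₜ[S] Algebra.Extension.Cotangent.mk x := rfl

theorem nu_surjective : Function.Surjective (nu f halg) := by
  intro ξ
  induction ξ using TensorProduct.induction_on with
  | zero => exact ⟨0, map_zero _⟩
  | tmul s m =>
    obtain ⟨a, rfl⟩ := P'.algebraMap_surjective s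
    obtain ⟨x, rfl⟩ := Algebra.Extension.Cotangent.mk_surjective m
    exact ⟨a ⊗ₜ x, nu_tmul f halg a x⟩
  | add x y hx hy =>
    obtain ⟨a, rfl⟩ := hx
    obtain ⟨b, rfl⟩ := hy
    exact ⟨a + b, map_add _ _ _⟩

/-- The class of `L (ν η)` in `P'/I'²` is the class of `μ η`. -/
theorem lift_nu (η : P'.Ring ⊗[P.Ring] P.ker) :
    P'.ker.cotangentToQuotientSquare
        (LinearMap.liftBaseChange S' (Algebra.Extension.Cotangent.map f) (nu f halg η)).val =
      Ideal.Quotient.mk (P'.ker ^ 2) (mu (P := P) (P' := P') P.ker η) := by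
  induction η using TensorProduct.induction_on with
  | zero => simp
  | tmul a x =>
    rw [nu_tmul, LinearMap.liftBaseChange_tmul, algebraMap_smul, Algebra.Extension.Cotangent.map_mk,
      ← map_smul, Algebra.Extension.Cotangent.val_mk, Ideal.toCotangent_to_quotient_square, mu_tmul]
    rw [halg]
    rfl
  | add x y hx hy =>
    rw [map_add, map_add, Algebra.Extension.Cotangent.val_add, map_add, hx, hy, map_add, map_add]

/-- `S' ⊗_S I/I² → I'/I'²` is injective when `P'.Ring` is flat over `P.Ring` and `I'` is generated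
by the image of `I`. -/
theorem bc_cotangent_injective [Module.Flat P.Ring P'.Ring]
    (hle : P'.ker ≤ P.ker.map (algebraMap P.Ring P'.Ring)) :
    Function.Injective (LinearMap.liftBaseChange S' (Algebra.Extension.Cotangent.map f)) := by
  rw [injective_iff_map_eq_zero]
  intro ξ hξ
  obtain ⟨η, rfl⟩ := nu_surjective f halg ξ
  have h1 := lift_nu f halg η
  rw [hξ] at h1
  have h2 : mu (P := P) (P' := P') P.ker η ∈ P'.ker ^ 2 := by
    rw [← Ideal.Quotient.eq_zero_iff_mem, ← h1]
    simp
  have h3 : mu (P := P) (P' := P') P.ker η ∈ (P.ker ^ 2).map (algebraMap P.Ring P'.Ring) := by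
    rw [Ideal.map_pow]
    exact Ideal.pow_right_mono hle 2 h2
  obtain ⟨ζ, hζ⟩ := map_le_range_mu (P := P) (P' := P') (P.ker ^ 2) _ h3
  set incl : ↥(P.ker ^ 2) →ₗ[P.Ring] ↥P.ker :=
    Submodule.inclusion (Ideal.pow_le_self two_ne_zero) with hincl
  have h4 : ∀ ζ, mu (P := P) (P' := P') P.ker (LinearMap.lTensor P'.Ring incl ζ) =
      mu (P := P) (P' := P') (P.ker ^ 2) ζ := by
    intro ζ
    induction ζ using TensorProduct.induction_on with
    | zero => simp
    | tmul a x => simp [mu_tmul, hincl]
    | add x y hx hy => simp only [map_add, hx, hy]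
  have h5 : ∀ ζ, nu f halg (LinearMap.lTensor P'.Ring incl ζ) = 0 := by
    intro ζ
    induction ζ using TensorProduct.induction_on with
    | zero => simp
    | tmul a x =>
      rw [LinearMap.lTensor_tmul, nu_tmul]
      have : Algebra.Extension.Cotangent.mk (incl x) = 0 := by
        rw [Algebra.Extension.Cotangent.mk_eq_zero_iff]
        exact x.2
      rw [this, tmul_zero]
    | add x y hx hy => rw [map_add, map_add, hx, hy, add_zero]
  have h6 : η = LinearMap.lTensor P'.Ring incl ζ := by
    apply mu_injective (P := P) (P' := P') P.ker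
    rw [h4, hζ]
  rw [h6, h5]

end Flat

end Groth.Agent.H59.NLBC2
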