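import Mathlib
import Groth.Prelude.Def_SheafNL
import Groth.Agent.H59.NLBC2

/-!
# Base change of polynomial presentations over a pushout square

For a cocartesian square `R → S`, `R → R'`, `S' = S ⊗_R R'`, a presentation `G` of `S` over `R`
and the presentation `G'` of `S'` over `R'` on the same variables:
* `ker_le_map_of_isPushout`: the kernel of `G'` is generated by the image of the kernel of `G`;
* `bc_cotangentSpace_bijective`: `S' ⊗_S (S ⊗ Ω_P) → S' ⊗ Ω_{P'}` is bijective;
* `flat_mvPolynomial`: `R'[x]` is flat over `R[x]` when `R'` is flat over `R`;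
* `baseChangeGens`: the base-changed presentation exists.
-/

set_option autoImplicit false
set_option linter.style.haveILetI false
set_option linter.unusedSectionVars false
universe u

namespace Groth.Agent.H59.NLBC3

open TensorProduct MvPolynomial

variable {R S R' S' : Type u} [CommRing R] [CommRing S] [CommRing R'] [CommRing S']
  [Algebra R S] [Algebra R' S'] [Algebra R R'] [Algebra S S'] [Algebra R S']
  [IsScalarTower R R' S'] [IsScalarTower R S S']

attribute [local instance] MvPolynomial.algebraMvPolynomial

theorem flat_mvPolynomial [Module.Flat R R'] (σ : Type u) :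
    Module.Flat (MvPolynomial σ R) (MvPolynomial σ R') := by
  have e := Algebra.IsPushout.equiv R (MvPolynomial σ R) R' (MvPolynomial σ R')
  exact Module.Flat.of_linearEquiv (R := MvPolynomial σ R) (M := MvPolynomial σ R ⊗[R] R')
    e.toLinearEquiv.symm

section SameVars

variable {ι : Type u} (G : Algebra.Generators R S ι) (G' : Algebra.Generators R' S' ι)
  (f : G.Hom G') (hf : ∀ i, f.val i = MvPolynomial.X i)

include hf

theorem algebraMap_eq_toRingHom :
    algebraMap (MvPolynomial ι R) (MvPolynomial ι R') = f.toExtensionHom.toRingHom := by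
  apply MvPolynomial.ringHom_ext
  · intro a
    change MvPolynomial.map (algebraMap R R') (MvPolynomial.C a) =
      f.toAlgHom (algebraMap R (MvPolynomial ι R) a)
    rw [MvPolynomial.map_C, AlgHom.commutes,
      IsScalarTower.algebraMap_apply R R' (MvPolynomial ι R')]
    rfl
  · intro i
    change MvPolynomial.map (algebraMap R R') (MvPolynomial.X i) = f.toAlgHom (MvPolynomial.X i)
    rw [MvPolynomial.map_X, Algebra.Generators.Hom.toAlgHom_X, hf]

/-- `S' ⊗_S (S ⊗_P Ω_P) → S' ⊗_{P'} Ω_{P'}` is bijective for presentations on the same variables. -/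
theorem bc_cotangentSpace_bijective :
    Function.Bijective
      (LinearMap.liftBaseChange S' (Algebra.Extension.CotangentSpace.map f.toExtensionHom)) := by
  have : LinearMap.liftBaseChange S' (Algebra.Extension.CotangentSpace.map f.toExtensionHom) =
      ((G.cotangentSpaceBasis.baseChange S').equiv G'.cotangentSpaceBasis
        (Equiv.refl ι)).toLinearMap := by
    apply (G.cotangentSpaceBasis.baseChange S').ext
    intro i
    rw [LinearEquiv.coe_coe, Module.Basis.equiv_apply, Equiv.refl_apply,
      Module.Basis.baseChange_apply, LinearMap.liftBaseChange_tmul, one_smul,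
      Algebra.Generators.cotangentSpaceBasis_apply, Algebra.Generators.cotangentSpaceBasis_apply]
    refine (Algebra.Extension.CotangentSpace.map_tmul f.toExtensionHom 1
      (MvPolynomial.X i : G.toExtension.Ring)).trans ?_
    have hX : f.toExtensionHom.toAlgHom (MvPolynomial.X i : G.toExtension.Ring) =
        (MvPolynomial.X i : MvPolynomial ι R') :=
      (Algebra.Generators.Hom.toAlgHom_X f i).trans (hf i)
    rw [map_one, hX]
    rfl
  rw [this]
  exact ((G.cotangentSpaceBasis.baseChange S').equiv G'.cotangentSpaceBasis
    (Equiv.refl ι)).bijective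

end SameVars

section Pushout

variable [Algebra.IsPushout R R' S S']
variable {ι : Type u} (G : Algebra.Generators R S ι) (G' : Algebra.Generators R' S' ι)
  (h : ∀ i, G'.val i = algebraMap S S' (G.val i))

include h

/-- Over a pushout square, the kernel of the base-changed presentation is generated by the image of
the kernel of the original presentation. -/
theorem ker_le_map_of_isPushout :
    G'.ker ≤ G.ker.map (algebraMap (MvPolynomial ι R) (MvPolynomial ι R')) := by
  set J : Ideal (MvPolynomial ι R') :=
    G.ker.map (algebraMap (MvPolynomial ι R) (MvPolynomial ι R')) with hJ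
  -- the `R`-algebra map `P → P'`
  let φ : MvPolynomial ι R →ₐ[R] MvPolynomial ι R' :=
    { algebraMap (MvPolynomial ι R) (MvPolynomial ι R') with
      commutes' := fun r => by
        change MvPolynomial.map (algebraMap R R') (MvPolynomial.C r) = _
        rw [MvPolynomial.map_C, IsScalarTower.algebraMap_apply R R' (MvPolynomial ι R')]
        rfl }
  have hφ : ∀ x, φ x = algebraMap (MvPolynomial ι R) (MvPolynomial ι R') x := fun _ => rfl
  have hsurj : Function.Surjective (MvPolynomial.aeval (R := R) G.val) := by
    intro s
    exact ⟨G.σ s, G.aeval_val_σ s⟩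
  -- the map `S → P'/J`
  let gS : S →ₐ[R] (MvPolynomial ι R' ⧸ J) :=
    AlgHom.liftOfSurjective (MvPolynomial.aeval (R := R) G.val) hsurj
      ((Ideal.Quotient.mkₐ R J).comp φ) (by
        intro x hx
        rw [RingHom.mem_ker] at hx ⊢
        change Ideal.Quotient.mk J (φ x) = 0
        rw [Ideal.Quotient.eq_zero_iff_mem, hφ]
        apply Ideal.mem_map_of_mem
        rw [Algebra.Generators.ker_eq_ker_aeval_val, RingHom.mem_ker]
        exact hx)
  have hgS : ∀ x, gS (MvPolynomial.aeval (R := R) G.val x) = Ideal.Quotient.mk J (φ x) := by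
    intro x
    exact AlgHom.liftOfSurjective_apply _ hsurj _ _ x
  let D : S' →ₐ[R] (MvPolynomial ι R' ⧸ J) :=
    Algebra.pushoutDesc S' (IsScalarTower.toAlgHom R R' (MvPolynomial ι R' ⧸ J)) gS
      (fun _ _ => mul_comm _ _)
  have hD : (D : S' →+* (MvPolynomial ι R' ⧸ J)).comp
      (MvPolynomial.aeval (R := R') G'.val : MvPolynomial ι R' →ₐ[R'] S').toRingHom =
      Ideal.Quotient.mk J := by
    apply MvPolynomial.ringHom_ext
    · intro r'
      change D (MvPolynomial.aeval (R := R') G'.val (MvPolynomial.C r')) = _
      rw [MvPolynomial.aeval_C, Algebra.pushoutDesc_left]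
      rfl
    · intro i
      change D (MvPolynomial.aeval (R := R') G'.val (MvPolynomial.X i)) = _
      rw [MvPolynomial.aeval_X, h, Algebra.pushoutDesc_right]
      have := hgS (MvPolynomial.X i)
      rw [MvPolynomial.aeval_X] at this
      rw [this, hφ]
      change Ideal.Quotient.mk J (MvPolynomial.map (algebraMap R R') (MvPolynomial.X i)) = _
      rw [MvPolynomial.map_X]
  intro x hx
  rw [Algebra.Generators.ker_eq_ker_aeval_val, RingHom.mem_ker] at hx
  have := RingHom.congr_fun hD x
  change D (MvPolynomial.aeval (R := R') G'.val x) = _ at this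
  rw [hx, map_zero] at this
  exact Ideal.Quotient.eq_zero_iff_mem.mp this.symm

end Pushout

section BaseChangeGens

variable [Algebra.IsPushout R R' S S']
variable {ι : Type u} (G : Algebra.Generators R S ι)

/-- The base change of a presentation along a pushout square, on the same variables. -/
noncomputable def baseChangeGens (S' : Type u) [CommRing S'] [Algebra R' S'] [Algebra S S']
    [Algebra R S'] [IsScalarTower R R' S'] [IsScalarTower R S S'] [Algebra.IsPushout R R' S S'] :
    Algebra.Generators R' S' ι :=
  Algebra.Generators.ofSurjective (fun i => algebraMap S S' (G.val i)) (by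
    intro s'
    have H : Algebra.IsPushout R R' S S' := inferInstance
    refine H.1.inductionOn s' _ ?_ ?_ ?_ ?_
    · exact ⟨0, map_zero _⟩
    · intro s
      refine ⟨MvPolynomial.map (algebraMap R R') (G.σ s), ?_⟩
      change _ = algebraMap S S' s
      rw [MvPolynomial.aeval_map_algebraMap]
      have h1 : MvPolynomial.aeval (R := R) (fun i => algebraMap S S' (G.val i)) (G.σ s) =
          algebraMap S S' (MvPolynomial.aeval (R := R) G.val (G.σ s)) := by
        have := MvPolynomial.comp_aeval_apply (R := R) (f := G.val)
          (IsScalarTower.toAlgHom R S S') (G.σ s)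
        exact this.symm
      rw [h1, G.aeval_val_σ]
    · rintro r' s'' ⟨p, rfl⟩
      refine ⟨MvPolynomial.C r' * p, ?_⟩
      rw [map_mul, MvPolynomial.aeval_C, Algebra.smul_def]
    · rintro a b ⟨p, rfl⟩ ⟨q, rfl⟩
      exact ⟨p + q, map_add _ _ _⟩)

theorem baseChangeGens_val (i : ι) :
    (baseChangeGens (R' := R') G S').val i = algebraMap S S' (G.val i) := rfl

end BaseChangeGens

end Groth.Agent.H59.NLBC3
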