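import Mathlib
import Groth.Prelude.Def_SheafNL
import Groth.Agent.H59.NLBC3

/-!
# Flat base change of the naive cotangent complex

* `isIso_bcMap_of_flat`: for a pushout square with `R → R'` flat, `NL(G) ⊗_S S' → NL(G')` is an
  isomorphism of complexes for presentations on the same variables.
* `homotopyEquivSelf`: as soon as `NL(G) ⊗_S S' → NL(G')` is an isomorphism for the standard
  presentation `G = self R S` and its base change, `NLCx.bcMapSelf` is a homotopy equivalence.
-/

set_option autoImplicit false
set_option linter.style.haveILetI false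
set_option linter.unusedSectionVars false
universe u

namespace Groth.Agent.H59.NLBC4

open CategoryTheory TensorProduct MvPolynomial Groth.Agent.H59.NLHomotopy Groth.Agent.H59.NLBC
  Groth.Agent.H59.NLBC2 Groth.Agent.H59.NLBC3

variable {R S R' S' : Type u} [CommRing R] [CommRing S] [CommRing R'] [CommRing S']
  [Algebra R S] [Algebra R' S'] [Algebra R R'] [Algebra S S'] [Algebra R S']
  [IsScalarTower R R' S'] [IsScalarTower R S S']

attribute [local instance] MvPolynomial.algebraMvPolynomial

section

variable [Algebra.IsPushout R R' S S']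
variable {ι : Type u} (G : Algebra.Generators R S ι) (G' : Algebra.Generators R' S' ι)
  (f : G.Hom G') (hf : ∀ i, f.val i = MvPolynomial.X i)
  (h : ∀ i, G'.val i = algebraMap S S' (G.val i))

include hf h

theorem bc_cotangent_surjective_of_isPushout :
    Function.Surjective
      (LinearMap.liftBaseChange S' (Algebra.Extension.Cotangent.map f.toExtensionHom)) := by
  letI alg : Algebra G.toExtension.Ring G'.toExtension.Ring :=
    (MvPolynomial.algebraMvPolynomial : Algebra (MvPolynomial ι R) (MvPolynomial ι R'))
  exact bc_cotangent_surjective (P := G.toExtension) (P' := G'.toExtension) f.toExtensionHom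
    (algebraMap_eq_toRingHom G G' f hf) (ker_le_map_of_isPushout G G' h)

theorem bc_cotangent_injective_of_flat [Module.Flat R R'] :
    Function.Injective
      (LinearMap.liftBaseChange S' (Algebra.Extension.Cotangent.map f.toExtensionHom)) := by
  letI alg : Algebra G.toExtension.Ring G'.toExtension.Ring :=
    (MvPolynomial.algebraMvPolynomial : Algebra (MvPolynomial ι R) (MvPolynomial ι R'))
  haveI : Module.Flat G.toExtension.Ring G'.toExtension.Ring :=
    (flat_mvPolynomial (R := R) (R' := R') ι : Module.Flat (MvPolynomial ι R) (MvPolynomial ι R'))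
  exact bc_cotangent_injective (P := G.toExtension) (P' := G'.toExtension) f.toExtensionHom
    (algebraMap_eq_toRingHom G G' f hf) (ker_le_map_of_isPushout G G' h)

/-- Flat base change: `NL(G) ⊗_S S' → NL(G')` is an isomorphism of complexes. -/
theorem isIso_bcMap_of_flat [Module.Flat R R'] : IsIso (NLCx.bcMap f.toExtensionHom) :=
  isIso_bcMap_of_bijective _
    ⟨bc_cotangent_injective_of_flat G G' f hf h, bc_cotangent_surjective_of_isPushout G G' f hf h⟩
    (bc_cotangentSpace_bijective G G' f hf)

end

section SelfEquiv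

variable [Algebra.IsPushout R R' S S']

variable (R S R' S') in
/-- The map from the standard presentation of `S` over `R` to its base change to `R'`. -/
noncomputable def selfToBC :
    (Algebra.Generators.self R S).Hom (baseChangeGens (R' := R') (Algebra.Generators.self R S) S') :=
  NLCx.sameVarsHom (Algebra.Generators.self R S)
    (baseChangeGens (R' := R') (Algebra.Generators.self R S) S') (fun _ => rfl)

/-- If `NL_{S/R} ⊗_S S' → NL(G'')` is an isomorphism for the base change `G''` of the standard
presentation, then `NLCx.bcMapSelf` is a homotopy equivalence. -/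
noncomputable def homotopyEquivSelf
    (hα : IsIso (NLCx.bcMap (selfToBC R S R' S').toExtensionHom)) :
    HomotopyEquiv (NLCx.bcCx (Algebra.Generators.self R S).toExtension S')
      (NLCx.cx (Algebra.Generators.self R' S').toExtension) := by
  haveI := hα
  let G'' := baseChangeGens (R' := R') (Algebra.Generators.self R S) S'
  let a := (selfToBC R S R' S').toExtensionHom
  let b := (G''.defaultHom (Algebra.Generators.self R' S')).toExtensionHom
  let b' := ((Algebra.Generators.self R' S').defaultHom G'').toExtensionHom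
  -- `bcMapSelf ≃ α ≫ map b`
  have H₁ : Homotopy (NLCx.bcMapSelf R S R' S') (NLCx.bcMap a ≫ NLCx.map b) :=
    (bcHomotopy _ (b.comp a)).trans (Homotopy.ofEq (bcMap_comp a b))
  have H₂ : Homotopy (NLCx.map b ≫ NLCx.map b') (𝟙 _) :=
    (Homotopy.ofEq (map_comp b b').symm).trans
      ((homotopyMap (b'.comp b) (Algebra.Extension.Hom.id _)).trans (Homotopy.ofEq map_id))
  have H₃ : Homotopy (NLCx.map b' ≫ NLCx.map b) (𝟙 _) :=
    (Homotopy.ofEq (map_comp b' b).symm).trans
      ((homotopyMap (b.comp b') (Algebra.Extension.Hom.id _)).trans (Homotopy.ofEq map_id))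
  refine
    { hom := NLCx.bcMapSelf R S R' S'
      inv := NLCx.map b' ≫ inv (NLCx.bcMap a)
      homotopyHomInvId := ?_
      homotopyInvHomId := ?_ }
  · -- `bcMapSelf ≫ map b' ≫ α⁻¹ ≃ α ≫ map b ≫ map b' ≫ α⁻¹ ≃ α ≫ α⁻¹ = 𝟙`
    refine (H₁.compRight (NLCx.map b' ≫ inv (NLCx.bcMap a))).trans ?_
    have e1 : (NLCx.bcMap a ≫ NLCx.map b) ≫ NLCx.map b' ≫ inv (NLCx.bcMap a) =
        NLCx.bcMap a ≫ (NLCx.map b ≫ NLCx.map b') ≫ inv (NLCx.bcMap a) := by
      simp only [Category.assoc]
    refine (Homotopy.ofEq e1).trans ?_
    refine (((H₂.compRight (inv (NLCx.bcMap a))).compLeft (NLCx.bcMap a))).trans ?_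
    exact Homotopy.ofEq (by simp)
  · -- `map b' ≫ α⁻¹ ≫ bcMapSelf ≃ map b' ≫ α⁻¹ ≫ α ≫ map b = map b' ≫ map b ≃ 𝟙`
    refine ((H₁.compLeft (NLCx.map b' ≫ inv (NLCx.bcMap a)))).trans ?_
    have e2 : (NLCx.map b' ≫ inv (NLCx.bcMap a)) ≫ NLCx.bcMap a ≫ NLCx.map b =
        NLCx.map b' ≫ NLCx.map b := by
      simp only [Category.assoc, IsIso.inv_hom_id_assoc]
    exact (Homotopy.ofEq e2).trans H₃

theorem homotopyEquivSelf_hom
    (hα : IsIso (NLCx.bcMap (selfToBC R S R' S').toExtensionHom)) :
    (homotopyEquivSelf hα).hom = NLCx.bcMapSelf R S R' S' := rfl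

end SelfEquiv

end Groth.Agent.H59.NLBC4
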