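import Mathlib
import Groth.Prelude.Def_SheafNL
import Groth.Agent.H59.NLBC4
import Groth.Agent.H70.PdFibre.Inj

/-!
# Base change of the naive cotangent complex of a flat algebra

For a pushout square with `S` flat over `R` (instead of `R'` flat over `R`),
`NL(G) ⊗_S S' → NL(G')` is again an isomorphism of complexes, and `NLCx.bcMapSelf` is a homotopy
equivalence.
-/

set_option autoImplicit false
set_option linter.style.haveILetI false
set_option linter.unusedSectionVars false
universe u

namespace Groth.Agent.H59.NLBC6

open CategoryTheory TensorProduct MvPolynomial Groth.Agent.H59.NLHomotopy Groth.Agent.H59.NLBC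
  Groth.Agent.H59.NLBC2 Groth.Agent.H59.NLBC3 Groth.Agent.H59.NLBC4

variable {R S R' S' : Type u} [CommRing R] [CommRing S] [CommRing R'] [CommRing S']
  [Algebra R S] [Algebra R' S'] [Algebra R R'] [Algebra S S'] [Algebra R S']
  [IsScalarTower R R' S'] [IsScalarTower R S S']

section General

variable {P : Algebra.Extension.{u} R S} {P' : Algebra.Extension.{u} R' S'}
variable (f : P.Hom P') [Algebra P.Ring P'.Ring] (halg : algebraMap P.Ring P'.Ring = f.toRingHom)

include halg

/-- `S' ⊗_S I/I² → I'/I'²` is injective when `P' ⊗_P I → P'` is injective and `I'` is generated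
by the image of `I`. -/
theorem bc_cotangent_injective_of_mu
    (hμ : Function.Injective (mu (P := P) (P' := P') P.ker))
    (hle : P'.ker ≤ P.ker.map (algebraMap P.Ring P'.Ring)) :
    Function.Injective (LinearMap.liftBaseChange S' (Algebra.Extension.Cotangent.map f)) := by
  rw [injective_iff_map_eq_zero]
  intro ξ hξ
  obtain ⟨η, rfl⟩ := nu_surjective f halg ξ
  have h1 := lift_nu f halg η
  rw [hξ] at h1
  have h2 : mu (P := P) (P' := P') P.ker η ∈ P'.ker ^ 2 := by
    rw [← Ideal.Quotient.eq_zero_iff_mem, ← h1]
    simp
  have h3 : mu (P := P) (P' := P') P.ker η ∈ (P.ker ^ 2).map (algebraMap P.Ring P'.Ring) := by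
    rw [Ideal.map_pow]
    exact Ideal.pow_right_mono hle 2 h2
  obtain ⟨ζ, hζ⟩ := map_le_range_mu (P := P) (P' := P') (P.ker ^ 2) _ h3
  set incl : ↥(P.ker ^ 2) →ₗ[P.Ring] ↥P.ker :=
    Submodule.inclusion (Ideal.pow_le_self two_ne_zero) with hincl
  have h4 : ∀ ζ, mu (P := P) (P' := P') P.ker (LinearMap.lTensor P'.Ring incl ζ) =
      mu (P := P) (P' := P') (P.ker ^ 2) ζ := by
    intro ζ
    induction ζ using TensorProduct.induction_on with
    | zero => simp
    | tmul a x => simp [mu_tmul, hincl]
    | add x y hx hy => simp only [map_add, hx, hy]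
  have h5 : ∀ ζ, nu f halg (LinearMap.lTensor P'.Ring incl ζ) = 0 := by
    intro ζ
    induction ζ using TensorProduct.induction_on with
    | zero => simp
    | tmul a x =>
      rw [LinearMap.lTensor_tmul, nu_tmul]
      have : Algebra.Extension.Cotangent.mk (incl x) = 0 := by
        rw [Algebra.Extension.Cotangent.mk_eq_zero_iff]
        exact x.2
      rw [this, tmul_zero]
    | add x y hx hy => rw [map_add, map_add, hx, hy, add_zero]
  have h6 : η = LinearMap.lTensor P'.Ring incl ζ := by
    apply hμ
    rw [h4, hζ]
  rw [h6, h5]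

end General

section GenMu

variable {P : Algebra.Extension.{u} R S} {P' : Algebra.Extension.{u} R' S'}

/-- For `S` flat over `R` and `P'.Ring = R' ⊗_R P.Ring`, the map `P' ⊗_P I → P'` is injective. -/
theorem mu_injective_of_flat_gen [Algebra P.Ring P'.Ring] [Algebra R P'.Ring]
    [IsScalarTower R P.Ring P'.Ring] [IsScalarTower R R' P'.Ring]
    [Algebra.IsPushout R R' P.Ring P'.Ring] [Module.Flat R S] :
    Function.Injective (mu (P := P) (P' := P') P.ker) := by
  let π : P.Ring →ₗ[P.Ring] S := Algebra.linearMap P.Ring S
  have hπ : Function.Surjective π := P.algebraMap_surjective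
  have hex : Function.Exact (P.ker.subtype : P.ker →ₗ[P.Ring] P.Ring) π := by
    intro x
    constructor
    · intro hx
      exact ⟨⟨x, hx⟩, rfl⟩
    · rintro ⟨y, rfl⟩
      exact y.2
  have h1 : Function.Injective ((P.ker.subtype).baseChange P'.Ring) :=
    Groth.Agent.H70.PdFibre.baseChange_injective_of_flat R R' P.Ring P'.Ring
      (P.ker.subtype) π Subtype.val_injective hπ hex
  have h2 : ∀ η, mu (P := P) (P' := P') P.ker η =
      TensorProduct.rid P.Ring P'.Ring ((P.ker.subtype).baseChange P'.Ring η) := by
    intro η
    induction η using TensorProduct.induction_on with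
    | zero => simp
    | tmul a x =>
      rw [mu_tmul, LinearMap.baseChange_tmul, TensorProduct.rid_tmul, Algebra.smul_def, mul_comm]
      rfl
    | add x y hx hy => simp only [map_add, hx, hy]
  intro a b hab
  rw [h2, h2] at hab
  exact h1 ((TensorProduct.rid _ _).injective hab)

end GenMu

attribute [local instance] MvPolynomial.algebraMvPolynomial

section Gens

variable {ι : Type u} (G : Algebra.Generators R S ι) (G' : Algebra.Generators R' S' ι)

/-- For `S` flat over `R`, `R'[x] ⊗_{R[x]} I → R'[x]` is injective, `I` the kernel of `R[x] → S`. -/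
theorem mu_injective_of_flat [Module.Flat R S] :
    letI alg : Algebra G.toExtension.Ring G'.toExtension.Ring :=
      (MvPolynomial.algebraMvPolynomial : Algebra (MvPolynomial ι R) (MvPolynomial ι R'))
    Function.Injective (mu (P := G.toExtension) (P' := G'.toExtension) G.toExtension.ker) := by
  letI alg : Algebra G.toExtension.Ring G'.toExtension.Ring :=
    (MvPolynomial.algebraMvPolynomial : Algebra (MvPolynomial ι R) (MvPolynomial ι R'))
  letI : Algebra R G'.toExtension.Ring := (inferInstance : Algebra R (MvPolynomial ι R'))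
  haveI : IsScalarTower R G.toExtension.Ring G'.toExtension.Ring :=
    (inferInstance : IsScalarTower R (MvPolynomial ι R) (MvPolynomial ι R'))
  haveI : IsScalarTower R R' G'.toExtension.Ring :=
    (inferInstance : IsScalarTower R R' (MvPolynomial ι R'))
  haveI : Algebra.IsPushout R R' G.toExtension.Ring G'.toExtension.Ring :=
    (inferInstance : Algebra.IsPushout R R' (MvPolynomial ι R) (MvPolynomial ι R'))
  exact mu_injective_of_flat_gen

end Gens

section

variable [Algebra.IsPushout R R' S S']
variable {ι : Type u} (G : Algebra.Generators R S ι) (G' : Algebra.Generators R' S' ι)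
  (f : G.Hom G') (hf : ∀ i, f.val i = MvPolynomial.X i)
  (h : ∀ i, G'.val i = algebraMap S S' (G.val i))

include hf h

theorem bc_cotangent_injective_of_flat' [Module.Flat R S] :
    Function.Injective
      (LinearMap.liftBaseChange S' (Algebra.Extension.Cotangent.map f.toExtensionHom)) := by
  letI alg : Algebra G.toExtension.Ring G'.toExtension.Ring :=
    (MvPolynomial.algebraMvPolynomial : Algebra (MvPolynomial ι R) (MvPolynomial ι R'))
  exact bc_cotangent_injective_of_mu (P := G.toExtension) (P' := G'.toExtension)
    f.toExtensionHom (algebraMap_eq_toRingHom G G' f hf) (mu_injective_of_flat G G')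
    (ker_le_map_of_isPushout G G' h)

/-- Base change of a flat algebra: `NL(G) ⊗_S S' → NL(G')` is an isomorphism of complexes. -/
theorem isIso_bcMap_of_flat' [Module.Flat R S] : IsIso (NLCx.bcMap f.toExtensionHom) :=
  isIso_bcMap_of_bijective _
    ⟨bc_cotangent_injective_of_flat' G G' f hf h, bc_cotangent_surjective_of_isPushout G G' f hf h⟩
    (bc_cotangentSpace_bijective G G' f hf)

end

/-- For a pushout square with `S` flat over `R`, `NL_{S/R} ⊗_S S' → NL_{S'/R'}` is a
quasi-isomorphism. -/
theorem quasiIso_bcMapSelf [Algebra.IsPushout R R' S S'] [Module.Flat R S] :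
    QuasiIso (NLCx.bcMapSelf R S R' S') := by
  have hα : IsIso (NLCx.bcMap (selfToBC R S R' S').toExtensionHom) :=
    isIso_bcMap_of_flat' _ _ _ (fun _ => rfl) (fun _ => rfl)
  have : QuasiIso (homotopyEquivSelf hα).hom := inferInstance
  exact this

end Groth.Agent.H59.NLBC6
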