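import Mathlib
import Groth.Prelude.Def_DRing2
import Groth.Agent.H35.ProjRes
import Groth.Agent.H35.KFTorInv
import Groth.Agent.H35.FlatCoker
import Groth.Agent.H43.QisElem
import Groth.Agent.H12.FlatExact

/-!
# A two-term complex with tor-amplitude `[-1,0]` and flat degree-zero term has flat terms

Let `K` be a cochain complex of `B`-modules concentrated in degrees `-1, 0` with `K⁰` flat.  If `K`
has tor-amplitude in `[-1,0]` (isomorphic in `D(B)` to a complex of flat modules concentrated in
degrees `-1, 0`), then `K⁻¹` is flat.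
-/

set_option autoImplicit false
set_option linter.style.haveILetI false
universe u

namespace Groth.Agent.H59.TwoTermFlat

open CategoryTheory CategoryTheory.Limits HomologicalComplex DerivedCategory TensorProduct
  Groth.Agent.H35.KF Groth.Agent.H43.QisElem

attribute [local instance] HasDerivedCategory.standard

variable {B : Type u} [CommRing B]

theorem eq_zero_of_isZero {M : ModuleCat.{u} B} (h : IsZero M) (x : M) : x = 0 := by
  haveI := ModuleCat.subsingleton_of_isZero h
  exact Subsingleton.elim _ _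

theorem flat_X_neg_one_of_hasTorAmplitudeIn (K : DRing.Cx B)
    (hK : ∀ i : ℤ, i ≠ -1 → i ≠ 0 → IsZero (K.X i)) (hF : Module.Flat B (K.X 0))
    (hTor : DRing.HasTorAmplitudeIn B (-1) 0 (DRing.toD K)) : Module.Flat B (K.X (-1)) := by
  obtain ⟨E, hE, hEfl, ⟨e⟩⟩ := hTor
  haveI : K.IsStrictlyLE 0 :=
    (CochainComplex.isStrictlyLE_iff K 0).2 (fun i hi => hK i (by omega) (by omega))
  obtain ⟨P, f, hf, hPproj, hPle⟩ := Groth.Agent.H35.exists_quasiIso_projective K 0
  have hPflat : ∀ i, Module.Flat B (P.X i) := fun i => by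
    have : Module.Projective B (P.X i) := (IsProjective.iff_projective (P.X i)).2 (hPproj i)
    infer_instance
  have hPb : ∀ i : ℤ, 0 < i → IsZero (P.X i) := fun i hi => P.isZero_of_isStrictlyLE 0 i hi
  haveI : IsIso (Q.map f) := (DerivedCategory.isIso_Q_map_iff_quasiIso (φ := f)).2 hf
  let e' : Q.obj P ≅ Q.obj E := asIso (Q.map f) ≪≫ e.symm
  -- tor vanishing in degree `-2`
  have hex : ∀ (N : Type u) [AddCommGroup N] [Module B N],
      Function.Exact (LinearMap.rTensor N (P.d (-3) (-2)).hom)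
        (LinearMap.rTensor N (P.d (-2) (-1)).hom) := by
    intro N _ _
    rw [← tensExactAt_iff_function_exact P N (-3) (-2) (-1) (by norm_num) (by norm_num),
      tensExactAt_iff_of_iso_Q P E 0 0 hPb (fun i hi => hE i (Or.inr hi)) hPflat hEfl e' _ (-2)]
    exact tensExactAt_of_isZero E _ (-2) (hE (-2) (Or.inl (by norm_num)))
  haveI := hPflat (-1)
  have hC' : Module.Flat B (P.X (-1) ⧸ LinearMap.range (P.d (-2) (-1)).hom) :=
    Groth.Agent.H35.flat_coker_of_forall_exact (P.d (-3) (-2)).hom (P.d (-2) (-1)).hom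
      (by
        apply LinearMap.ext
        intro x
        exact d_apply_d P (-3) (-2) (-1) x) hex
  -- quasi-isomorphism, elementwise
  haveI : QuasiIso f := hf
  haveI h0 : IsIso (HomologicalComplex.homologyMap f 0) :=
    (quasiIsoAt_iff_isIso_homologyMap f 0).1 inferInstance
  haveI h1 : IsIso (HomologicalComplex.homologyMap f (-1)) :=
    (quasiIsoAt_iff_isIso_homologyMap f (-1)).1 inferInstance
  haveI i0 := isIso_homologyMap_sc' f (-1) 0 1 (by norm_num) (by norm_num)
  haveI i1 := isIso_homologyMap_sc' f (-2) (-1) 0 (by norm_num) (by norm_num)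
  -- the short exact sequence `0 → C' → K⁻¹ × P⁰ → K⁰ → 0`
  let α₀ : P.X (-1) →ₗ[B] (K.X (-1) × P.X 0) :=
    LinearMap.prod (f.f (-1)).hom (P.d (-1) 0).hom
  have hα₀ : LinearMap.range (P.d (-2) (-1)).hom ≤ LinearMap.ker α₀ := by
    rintro _ ⟨x, rfl⟩
    rw [LinearMap.mem_ker]
    refine Prod.ext ?_ ?_
    · change (f.f (-1)).hom ((P.d (-2) (-1)).hom x) = 0
      rw [comm_apply f (-2) (-1) x, eq_zero_of_isZero (hK (-2) (by norm_num) (by norm_num))
        ((f.f (-2)).hom x), map_zero]
    · exact d_apply_d P (-2) (-1) 0 x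
  let α : (P.X (-1) ⧸ LinearMap.range (P.d (-2) (-1)).hom) →ₗ[B] (K.X (-1) × P.X 0) :=
    Submodule.liftQ _ α₀ hα₀
  let β : (K.X (-1) × P.X 0) →ₗ[B] K.X 0 :=
    LinearMap.coprod (K.d (-1) 0).hom (-(f.f 0).hom)
  have hα : Function.Injective α := by
    rw [injective_iff_map_eq_zero]
    intro x hx
    obtain ⟨p, rfl⟩ := Submodule.mkQ_surjective _ x
    have hx' : α₀ p = 0 := hx
    have h1 : (f.f (-1)).hom p = 0 := congrArg Prod.fst hx'
    have h2 : (P.d (-1) 0).hom p = 0 := congrArg Prod.snd hx'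
    obtain ⟨(w' : P.X (-2)), hw'⟩ := inj_of_isIso
      ((HomologicalComplex.shortComplexFunctor' _ _ (-2) (-1) 0).map f) p h2 0 (by
        change (K.d (-2) (-1)).hom 0 = (f.f (-1)).hom p
        rw [map_zero, h1])
    rw [Submodule.mkQ_apply, Submodule.Quotient.mk_eq_zero]
    exact ⟨w', hw'⟩
  have hβ : Function.Surjective β := by
    intro y
    obtain ⟨(z : P.X 0), -, (w : K.X (-1)), hw⟩ := surj_of_isIso
      ((HomologicalComplex.shortComplexFunctor' _ _ (-1) 0 1).map f) y
      (eq_zero_of_isZero (hK 1 (by norm_num) (by norm_num)) _)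
    have hw' : y = (f.f 0).hom z + (K.d (-1) 0).hom w := hw
    refine ⟨(w, -z), ?_⟩
    change (K.d (-1) 0).hom w + (-(f.f 0).hom) (-z) = y
    rw [LinearMap.neg_apply, map_neg, neg_neg, hw', add_comm]
  have hαβ : Function.Exact α β := by
    intro y
    constructor
    · intro hy
      obtain ⟨c, p0⟩ := y
      have hy' : (K.d (-1) 0).hom c - (f.f 0).hom p0 = 0 := by
        have : (K.d (-1) 0).hom c + (-(f.f 0).hom) p0 = 0 := hy
        rw [LinearMap.neg_apply] at this
        rw [sub_eq_add_neg]; exact this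
      obtain ⟨(p' : P.X (-1)), hp'⟩ := inj_of_isIso
        ((HomologicalComplex.shortComplexFunctor' _ _ (-1) 0 1).map f) p0
        (eq_zero_of_isZero (hPb 1 (by norm_num)) _) c (by
          change (K.d (-1) 0).hom c = (f.f 0).hom p0
          exact sub_eq_zero.mp hy')
      have hp'' : (P.d (-1) 0).hom p' = p0 := hp'
      have hker : (K.d (-1) 0).hom (c - (f.f (-1)).hom p') = 0 := by
        rw [map_sub, ← comm_apply f (-1) 0 p', hp'']
        exact hy'
      obtain ⟨(z : P.X (-1)), hz, (w : K.X (-2)), hw⟩ := surj_of_isIso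
        ((HomologicalComplex.shortComplexFunctor' _ _ (-2) (-1) 0).map f)
        (c - (f.f (-1)).hom p') hker
      have hz' : (P.d (-1) 0).hom z = 0 := hz
      have hw' : c - (f.f (-1)).hom p' = (f.f (-1)).hom z + (K.d (-2) (-1)).hom w := hw
      rw [eq_zero_of_isZero (hK (-2) (by norm_num) (by norm_num)) w, map_zero, add_zero] at hw'
      refine ⟨Submodule.Quotient.mk (p' + z), ?_⟩
      change α₀ (p' + z) = (c, p0)
      refine Prod.ext ?_ ?_
      · change (f.f (-1)).hom (p' + z) = c
        rw [map_add, ← hw']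
        abel
      · change (P.d (-1) 0).hom (p' + z) = p0
        rw [map_add, hz', add_zero, hp'']
    · rintro ⟨x, rfl⟩
      obtain ⟨p, rfl⟩ := Submodule.mkQ_surjective _ x
      change (K.d (-1) 0).hom ((f.f (-1)).hom p) + (-(f.f 0).hom) ((P.d (-1) 0).hom p) = 0
      rw [LinearMap.neg_apply, comm_apply f (-1) 0 p, add_neg_cancel]
  haveI := hPflat 0
  haveI := hF
  haveI : Module.Flat B (K.X (-1) × P.X 0) :=
    Groth.Agent.H12.flat_of_exact_middle α β hα hβ hαβ
  exact Module.Flat.of_retract (LinearMap.inl B (K.X (-1)) (P.X 0)) (LinearMap.fst B _ _)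
    (by ext x; simp)

end Groth.Agent.H59.TwoTermFlat
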