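import Mathlib
import Groth.Prelude.Def_SheafNL
import Groth.Prelude.Def_LCI2
import Groth.Agent.H59.NLBC6
import Groth.Agent.H59.TwoTermFlat
import Groth.Agent.H35.LBaseChangeLib

/-!
# `NL(P) ⊗_S S'` versus extension of scalars of `NL(P)`; derived base change of `NL`

* `extIso M : (ModuleCat.extendScalars (algebraMap B B')).obj M ≅ ModuleCat.of B' (B' ⊗[B] M)`, natural.
* `bcCxToExt P S' : NLCx.bcCx P S' ⟶ (extCx (algebraMap S S')).obj (NLCx.cx P)`, an isomorphism.
* `nonempty_LBaseChange_iso`: if `NL_{B/A}` has tor-amplitude in `[-1,0]` and `B` is flat over `A`, then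
  `NL_{B/A} ⊗^L_B B' ≅ NL_{B'/A'}` for a cocartesian square.
-/

set_option autoImplicit false
set_option linter.style.haveILetI false
set_option linter.unusedSectionVars false
universe u

namespace Groth.Agent.H59.NLBC7

open CategoryTheory CategoryTheory.Limits HomologicalComplex TensorProduct
  Groth.Agent.H59.NLHomotopy Groth.Agent.H59.NLIso Groth.Agent.H59.NLBC

attribute [local instance] HasDerivedCategory.standard

section Ext

variable {B B' : Type u} [CommRing B] [CommRing B'] [Algebra B B']

/-- `B'` with the `B`-module structure through `algebraMap B B'` versus through the algebra instance. -/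
noncomputable def e₀ :
    ((ModuleCat.restrictScalars (algebraMap B B')).obj (ModuleCat.of B' B')) ≃ₗ[B] B' where
  toFun := fun x => x
  invFun := fun x => x
  map_add' := fun _ _ => rfl
  map_smul' := fun b s => by
    change algebraMap B B' b * (show B' from s) = b • (show B' from s)
    rw [Algebra.smul_def]
  left_inv := fun _ => rfl
  right_inv := fun _ => rfl

noncomputable def extAddEquiv (M : ModuleCat.{u} B) :
    ((ModuleCat.extendScalars (algebraMap B B')).obj M) ≃+ (B' ⊗[B] M) :=
  (TensorProduct.congr e₀ (LinearEquiv.refl B M)).toAddEquiv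

open ChangeOfRings in
lemma extAddEquiv_tmul (M : ModuleCat.{u} B) (s : B') (m : M) :
    extAddEquiv M (s ⊗ₜ[B, algebraMap B B'] m) = s ⊗ₜ m := rfl

open ChangeOfRings in
set_option backward.isDefEq.respectTransparency false in
lemma extAddEquiv_smul (M : ModuleCat.{u} B) (s : B')
    (x : (ModuleCat.extendScalars (algebraMap B B')).obj M) :
    extAddEquiv M (s • x) = s • extAddEquiv M x := by
  induction x using TensorProduct.induction_on with
  | zero => rw [smul_zero, map_zero, smul_zero]
  | tmul s' m =>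
    change extAddEquiv M (s • (s' ⊗ₜ[B, algebraMap B B'] m)) =
      s • extAddEquiv M (s' ⊗ₜ[B, algebraMap B B'] m)
    rw [ModuleCat.ExtendScalars.smul_tmul, extAddEquiv_tmul, extAddEquiv_tmul,
      TensorProduct.smul_tmul', smul_eq_mul]
  | add x y hx hy =>
    rw [smul_add, map_add, map_add, smul_add, hx, hy]

/-- Mathlib's extension of scalars along `algebraMap B B'` is `B' ⊗[B] -`. -/
noncomputable def extEquiv (M : ModuleCat.{u} B) :
    ((ModuleCat.extendScalars (algebraMap B B')).obj M) ≃ₗ[B'] (B' ⊗[B] M) :=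
  AddEquiv.toLinearEquiv (extAddEquiv M) (extAddEquiv_smul M)

open ChangeOfRings in
lemma extEquiv_tmul (M : ModuleCat.{u} B) (s : B') (m : M) :
    extEquiv M (s ⊗ₜ[B, algebraMap B B'] m) = s ⊗ₜ m := rfl

noncomputable def extIso (M : ModuleCat.{u} B) :
    (ModuleCat.extendScalars (algebraMap B B')).obj M ≅ ModuleCat.of B' (B' ⊗[B] M) :=
  (extEquiv M).toModuleIso

theorem extIso_naturality {M N : ModuleCat.{u} B} (f : M ⟶ N) :
    (ModuleCat.extendScalars (algebraMap B B')).map f ≫ (extIso N).hom =
      (extIso M).hom ≫ ModuleCat.ofHom (f.hom.baseChange B') := by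
  apply ModuleCat.ExtendScalars.hom_ext
  intro m
  rfl

theorem extIso_inv_naturality {M N : ModuleCat.{u} B} (f : M ⟶ N) :
    (extIso M).inv ≫ (ModuleCat.extendScalars (algebraMap B B')).map f =
      ModuleCat.ofHom (f.hom.baseChange B') ≫ (extIso N).inv := by
  rw [Iso.inv_comp_eq, ← Category.assoc, Iso.eq_comp_inv]
  exact extIso_naturality f

end Ext

section Cx

open Groth.Agent.H35.LT

variable {R S : Type u} [CommRing R] [CommRing S] [Algebra R S]

/-- The terms of the extension of scalars of a complex (a definitional unfolding). -/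
noncomputable def extXIso {S' : Type u} [CommRing S'] [Algebra S S'] (K : DRing.Cx S) (i : ℤ) :
    ((extCx (algebraMap S S')).obj K).X i ≅
      (ModuleCat.extendScalars.{u, u, u} (algebraMap S S')).obj (K.X i) :=
  Iso.refl _

theorem ext_d {S' : Type u} [CommRing S'] [Algebra S S'] (K : DRing.Cx S) (i j : ℤ) :
    ((extCx (algebraMap S S')).obj K).d i j = (extXIso K i).hom ≫
      (ModuleCat.extendScalars.{u, u, u} (algebraMap S S')).map (K.d i j) ≫ (extXIso K j).inv := by
  have h : ((extCx (algebraMap S S')).obj K).d i j =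
      𝟙 _ ≫ ((extCx (algebraMap S S')).obj K).d i j ≫ 𝟙 _ := by
    rw [Category.comp_id, Category.id_comp]
  exact h

theorem isZero_extX (P : Algebra.Extension.{u} R S) (S' : Type u) [CommRing S'] [Algebra S S']
    (k : ℤ) (h₀ : k ≠ -1) (h₁ : k ≠ 0) :
    IsZero (((extCx (algebraMap S S')).obj (NLCx.cx P)).X k) :=
  (ModuleCat.extendScalars.{u, u, u} (algebraMap S S')).map_isZero (isZero_X P k h₀ h₁)

/-- The comparison map `NL(P) ⊗_S S' ⟶ extendScalars (NL(P))`. -/
noncomputable def bcCxToExt (P : Algebra.Extension.{u} R S) (S' : Type u) [CommRing S']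
    [Algebra S S'] :
    NLCx.bcCx P S' ⟶ (extCx (algebraMap S S')).obj (NLCx.cx P) :=
  HomologicalComplex.mkHomFromDouble _ ne
    ((extIso (ModuleCat.of S P.Cotangent)).inv ≫
      (ModuleCat.extendScalars.{u, u, u} (algebraMap S S')).map (xIso₀ P).inv ≫
        (extXIso (NLCx.cx P) (-1)).inv)
    ((extIso (ModuleCat.of S P.CotangentSpace)).inv ≫
      (ModuleCat.extendScalars.{u, u, u} (algebraMap S S')).map (xIso₁ P).inv ≫
        (extXIso (NLCx.cx P) 0).inv)
    (by
      rw [ext_d, cx_d]
      simp only [Category.assoc, Iso.inv_hom_id_assoc]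
      rw [← Functor.map_comp_assoc, Iso.inv_hom_id_assoc, Functor.map_comp_assoc,
        ← Category.assoc, extIso_inv_naturality, Category.assoc])
    (fun k hk => (isZero_extX P S' k (by simp at hk; omega) (by simp at hk; omega)).eq_of_tgt _ _)

theorem bcCxToExt_f_neg_one (P : Algebra.Extension.{u} R S) (S' : Type u) [CommRing S']
    [Algebra S S'] :
    (bcCxToExt P S').f (-1) = (bcXIso₀ P S').hom ≫ (extIso (ModuleCat.of S P.Cotangent)).inv ≫
      (ModuleCat.extendScalars.{u, u, u} (algebraMap S S')).map (xIso₀ P).inv ≫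
        (extXIso (NLCx.cx P) (-1)).inv := by
  unfold bcCxToExt
  exact mkHomFromDouble_f₀ ..

theorem bcCxToExt_f_zero (P : Algebra.Extension.{u} R S) (S' : Type u) [CommRing S']
    [Algebra S S'] :
    (bcCxToExt P S').f 0 = (bcXIso₁ P S').hom ≫ (extIso (ModuleCat.of S P.CotangentSpace)).inv ≫
      (ModuleCat.extendScalars.{u, u, u} (algebraMap S S')).map (xIso₁ P).inv ≫
        (extXIso (NLCx.cx P) 0).inv := by
  unfold bcCxToExt
  exact mkHomFromDouble_f₁ ..

instance isIso_bcCxToExt (P : Algebra.Extension.{u} R S) (S' : Type u) [CommRing S']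
    [Algebra S S'] : IsIso (bcCxToExt P S') := by
  haveI : ∀ n : ℤ, IsIso ((bcCxToExt P S').f n) := by
    intro n
    by_cases hn₀ : n = -1
    · subst hn₀
      rw [bcCxToExt_f_neg_one]
      infer_instance
    · by_cases hn₁ : n = 0
      · subst hn₁
        rw [bcCxToExt_f_zero]
        infer_instance
      · exact (isZero_bcX P S' n hn₀ hn₁).isIso (isZero_extX P S' n hn₀ hn₁) _
  exact HomologicalComplex.Hom.isIso_of_components _

end Cx

section Main

open Groth.Agent.H35.LT Groth.Agent.H35.KF

variable (A B A' B' : Type u) [CommRing A] [CommRing B] [CommRing A'] [CommRing B']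
  [Algebra A B] [Algebra A' B'] [Algebra A A'] [Algebra B B'] [Algebra A B']
  [IsScalarTower A A' B'] [IsScalarTower A B B']

theorem flat_of_iso {M N : ModuleCat.{u} B} (e : M ≅ N) (h : Module.Flat B N) :
    Module.Flat B M :=
  Module.Flat.of_linearEquiv e.toLinearEquiv

/-- If `NL_{B/A}` (presentation on all elements) has tor-amplitude in `[-1,0]`, it is termwise flat,
hence K-flat. -/
theorem isKFlat_cx_self (hTor : DRing.HasTorAmplitudeIn B (-1) 0 (LCI.NL A B)) :
    IsKFlat (NLCx.cx (Algebra.Generators.self A B).toExtension) := by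
  let P := (Algebra.Generators.self A B).toExtension
  have hF0 : Module.Flat B ((NLCx.cx P).X 0) := by
    haveI : Module.Free B P.CotangentSpace :=
      Module.Free.of_basis (Algebra.Generators.self A B).cotangentSpaceBasis
    exact flat_of_iso B (xIso₁ P) (inferInstanceAs (Module.Flat B P.CotangentSpace))
  have hFm1 : Module.Flat B ((NLCx.cx P).X (-1)) :=
    Groth.Agent.H59.TwoTermFlat.flat_X_neg_one_of_hasTorAmplitudeIn (NLCx.cx P)
      (fun i h₀ h₁ => isZero_X P i h₀ h₁) hF0 hTor
  have hflat : ∀ i, Module.Flat B ((NLCx.cx P).X i) := by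
    intro i
    by_cases h₀ : i = -1
    · subst h₀; exact hFm1
    · by_cases h₁ : i = 0
      · subst h₁; exact hF0
      · haveI := ModuleCat.subsingleton_of_isZero (isZero_X P i h₀ h₁)
        infer_instance
  exact isKFlat_of_bounded_flat (NLCx.cx P) 0
    (fun i hi => isZero_X P i (by omega) (by omega)) hflat

theorem nonempty_LBaseChange_iso [Algebra.IsPushout A A' B B'] [Module.Flat A B]
    (hTor : DRing.HasTorAmplitudeIn B (-1) 0 (LCI.NL A B))
    [DRing.HasLBaseChange (algebraMap B B')] :
    Nonempty ((DRing.LBaseChange (algebraMap B B')).obj (LCI.NL A B) ≅ LCI.NL A' B') := by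
  let P := (Algebra.Generators.self A B).toExtension
  have hKF := isKFlat_cx_self A B hTor
  have e1 : (DRing.LBaseChange (algebraMap B B')).obj (DerivedCategory.Q.obj (NLCx.cx P)) ≅
      DerivedCategory.Q.obj ((extCx (algebraMap B B')).obj (NLCx.cx P)) :=
    LBaseChangeIso (algebraMap B B') (NLCx.cx P) hKF
  have e2 : DerivedCategory.Q.obj (NLCx.bcCx P B') ≅
      DerivedCategory.Q.obj ((extCx (algebraMap B B')).obj (NLCx.cx P)) :=
    DerivedCategory.Q.mapIso (asIso (bcCxToExt P B'))
  haveI : QuasiIso (NLCx.bcMapSelf A B A' B') := Groth.Agent.H59.NLBC6.quasiIso_bcMapSelf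
  haveI : IsIso (DerivedCategory.Q.map (NLCx.bcMapSelf A B A' B')) :=
    (DerivedCategory.isIso_Q_map_iff_quasiIso (φ := NLCx.bcMapSelf A B A' B')).2 inferInstance
  have e3 : DerivedCategory.Q.obj (NLCx.bcCx P B') ≅
      DerivedCategory.Q.obj (NLCx.cx (Algebra.Generators.self A' B').toExtension) :=
    asIso (DerivedCategory.Q.map (NLCx.bcMapSelf A B A' B'))
  exact ⟨e1 ≪≫ e2.symm ≪≫ e3⟩

end Main

end Groth.Agent.H59.NLBC7
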