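import Mathlib
import Groth.Prelude.Def_CAlg
import Groth.Prelude.Def_CAlgX
import Groth.Prelude.Def_LCI2
import Groth.Agent.H26.GorLCI
import Groth.Agent.H26.GorFieldLocal
import Groth.Agent.H26.GorFieldAny
import Groth.Agent.H46.QuasiRegGCI
import Groth.Agent.H39.KoszulFlatBC
import Groth.Agent.H81.Liaison
import Groth.Agent.H2.GorensteinCM

/-!
# Local complete intersections, generically smooth over a field: `H¹(L) = 0`

* `exists_quasiRegular_atPrime`: a Koszul-regular ideal is generated, in the local ring at a prime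
  containing it, by a quasi-regular sequence.
* `mem_sq_of_forall_minimalPrimes`: in a Gorenstein ring `P` with a Koszul-regular ideal `I`, an
  element `x ∈ I` which lies in `I²` locally at every minimal prime of `I` lies in `I²` (the
  conormal module `I/I²` is locally free over the Cohen–Macaulay ring `P/I`, which has no embedded
  primes).
-/

set_option autoImplicit false
set_option linter.style.haveILetI false
universe u

open IsLocalRing

namespace Groth.Agent.H59.LciH1

variable {P : Type u} [CommRing P]

set_option backward.isDefEq.respectTransparency false in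
/-- A Koszul-regular ideal is generated by a quasi-regular sequence in the local ring at any prime
containing it. -/
theorem exists_quasiRegular_atPrime (I : Ideal P) (hI : LCI.IsKoszulRegularIdeal I)
    (Q : Ideal P) [hQ : Q.IsPrime] (hIQ : I ≤ Q) :
    ∃ (c : ℕ) (fs : Fin c → Localization.AtPrime Q), CAlgX.IsQuasiRegular fs ∧
      Ideal.span (Set.range fs) = I.map (algebraMap P (Localization.AtPrime Q)) := by
  obtain ⟨g, hgQ, l, hl, hspan⟩ := hI ⟨Q, hQ⟩ hIQ
  have hu : IsUnit (algebraMap P (Localization.AtPrime Q) g) :=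
    IsLocalization.map_units (Localization.AtPrime Q) (⟨g, hgQ⟩ : Q.primeCompl)
  let φ : Localization.Away g →+* Localization.AtPrime Q :=
    IsLocalization.Away.lift (S := Localization.Away g) g hu
  letI : Algebra (Localization.Away g) (Localization.AtPrime Q) := φ.toAlgebra
  haveI : IsScalarTower P (Localization.Away g) (Localization.AtPrime Q) :=
    IsScalarTower.of_algebraMap_eq (fun x => (IsLocalization.Away.lift_eq g hu x).symm)
  have hle : Submonoid.powers g ≤ Q.primeCompl := by
    rintro _ ⟨n, rfl⟩
    exact Q.primeCompl.pow_mem hgQ n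
  haveI : IsLocalization (Q.primeCompl.map (algebraMap P (Localization.Away g)))
      (Localization.AtPrime Q) :=
    IsLocalization.isLocalization_of_submonoid_le (Localization.Away g) (Localization.AtPrime Q)
      (Submonoid.powers g) Q.primeCompl hle
  haveI : Module.Flat (Localization.Away g) (Localization.AtPrime Q) :=
    IsLocalization.flat _ (Q.primeCompl.map (algebraMap P (Localization.Away g)))
  have hflat : φ.Flat := by
    show Module.Flat (Localization.Away g) (Localization.AtPrime Q)
    infer_instance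
  have hk := Groth.Agent.H39.KoszulFlatBC.isKoszulRegularSeq_map_of_flat φ hflat l hl
  have hmapI : (I.map (algebraMap P (Localization.Away g))).map φ =
      I.map (algebraMap P (Localization.AtPrime Q)) := by
    rw [Ideal.map_map]
    congr 1
    exact IsLocalization.Away.lift_comp g hu
  have hof : Ideal.ofList (l.map φ) = I.map (algebraMap P (Localization.AtPrime Q)) := by
    rw [← Ideal.map_ofList, ← hmapI, hspan]
  refine ⟨(l.map φ).length, (l.map φ).get, ?_, ?_⟩
  · apply Groth.Agent.H46.QuasiRegGCI.isQuasiRegular_of_isKoszulRegularSeq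
    rw [List.ofFn_get]
    exact hk
  · rw [← hof]
    unfold Ideal.ofList
    congr 1
    ext x
    simp [List.mem_iff_get]

/-- The degree one case of quasi-regularity: a linear relation modulo `J²` has coefficients in
`J`. -/
theorem coeff_mem_of_isQuasiRegular {R : Type u} [CommRing R] {c : ℕ} (fs : Fin c → R)
    (hq : CAlgX.IsQuasiRegular fs) (a : Fin c → R)
    (h : ∑ i, a i * fs i ∈ Ideal.span (Set.range fs) ^ 2) (i : Fin c) :
    a i ∈ Ideal.span (Set.range fs) := by
  have hhom : (∑ j, MvPolynomial.C (a j) * MvPolynomial.X j :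
      MvPolynomial (Fin c) R).IsHomogeneous 1 := by
    apply MvPolynomial.IsHomogeneous.sum
    intro j _
    have := (MvPolynomial.isHomogeneous_C (Fin c) (a j)).mul
      (MvPolynomial.isHomogeneous_X R j)
    simpa using this
  have heval : MvPolynomial.eval fs (∑ j, MvPolynomial.C (a j) * MvPolynomial.X j) =
      ∑ j, a j * fs j := by
    simp
  have := hq 1 _ hhom (by rw [heval]; exact h) (Finsupp.single i 1)
  rw [MvPolynomial.coeff_sum] at this
  simp only [MvPolynomial.coeff_C_mul, MvPolynomial.coeff_X] at this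
  rw [Finset.sum_eq_single i] at this
  · simpa using this
  · intro j _ hji
    rw [if_neg]
    · simp
    · intro h1
      exact hji ((Finsupp.single_left_inj one_ne_zero).mp h1)
  · intro h1
    exact absurd (Finset.mem_univ i) h1

set_option backward.isDefEq.respectTransparency false in
/-- In a Gorenstein ring `P` with a Koszul-regular ideal `I`, an element of `I` which lies in `I²`
locally at every minimal prime of `I` lies in `I²`. -/
theorem mem_sq_of_forall_minimalPrimes (hP : LocCoh.IsGorensteinRing P) (I : Ideal P)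
    (hI : LCI.IsKoszulRegularIdeal I) (x : P) (hx : x ∈ I)
    (h : ∀ Q ∈ I.minimalPrimes, ∃ s, s ∉ Q ∧ s * x ∈ I ^ 2) : x ∈ I ^ 2 := by
  haveI : IsNoetherianRing P := hP.toIsNoetherian
  by_contra hx2
  let xb : P ⧸ I ^ 2 := Ideal.Quotient.mk _ x
  have hxb : xb ≠ 0 := by rwa [Ne, Ideal.Quotient.eq_zero_iff_mem]
  let N : Submodule P (P ⧸ I ^ 2) := Submodule.span P {xb}
  haveI : Nontrivial N := by
    refine ⟨⟨⟨xb, Submodule.mem_span_singleton_self xb⟩, 0, ?_⟩⟩
    intro h0
    exact hxb (congrArg Subtype.val h0)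
  obtain ⟨Q, hQ⟩ := associatedPrimes.nonempty P N
  obtain ⟨hQp, y, hy⟩ := isAssociatedPrime_iff.mp hQ
  obtain ⟨b, hb⟩ := Submodule.mem_span_singleton.mp y.2
  have hmem : ∀ a : P, a ∈ Q ↔ a * (b * x) ∈ I ^ 2 := by
    intro a
    rw [hy, Submodule.mem_colon_singleton, Submodule.mem_bot, ← Subtype.coe_inj,
      Submodule.coe_smul, ← hb, Submodule.coe_zero, ← Ideal.Quotient.eq_zero_iff_mem]
    show a • b • (Ideal.Quotient.mk (I ^ 2) x) = 0 ↔ _
    rw [map_mul, map_mul]
    rfl
  have hx' : b * x ∈ I := Ideal.mul_mem_left _ _ hx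
  have hIQ : I ≤ Q := by
    intro a ha
    rw [hmem, pow_two]
    exact Ideal.mul_mem_mul ha hx'
  have h1Q : (1 : P) ∉ Q := fun h1 => hQp.ne_top ((Ideal.eq_top_iff_one Q).mpr h1)
  -- localize at `Q`
  set R := Localization.AtPrime Q with hR
  set J : Ideal R := I.map (algebraMap P R) with hJ
  obtain ⟨c, fs, hq, hspan⟩ : ∃ (c : ℕ) (fs : Fin c → R), CAlgX.IsQuasiRegular fs ∧
      Ideal.span (Set.range fs) = J := exists_quasiRegular_atPrime I hI Q hIQ
  have hJ2 : (I ^ 2).map (algebraMap P R) = J ^ 2 := Ideal.map_pow _ _ _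
  obtain ⟨a, ha⟩ : ∃ a : Fin c → R, ∑ i, a i * fs i = algebraMap P R (b * x) := by
    apply Ideal.mem_span_range_iff_exists_fun.mp
    rw [hspan]
    exact Ideal.mem_map_of_mem _ hx'
  have hA : ∀ a₀ ∈ Q, ∀ i, algebraMap P R a₀ * a i ∈ J := by
    intro a₀ ha₀ i
    have h1 : algebraMap P R (a₀ * (b * x)) ∈ J ^ 2 := by
      rw [← hJ2]
      exact Ideal.mem_map_of_mem _ ((hmem a₀).mp ha₀)
    have h2 : ∑ i, (algebraMap P R a₀ * a i) * fs i ∈ Ideal.span (Set.range fs) ^ 2 := by
      rw [hspan]
      have : ∑ i, (algebraMap P R a₀ * a i) * fs i = algebraMap P R (a₀ * (b * x)) := by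
        rw [map_mul, ← ha, Finset.mul_sum]
        exact Finset.sum_congr rfl (fun i _ => by ring)
      rw [this]
      exact h1
    have := coeff_mem_of_isQuasiRegular fs hq _ h2 i
    rwa [hspan] at this
  have hB : ∃ i, a i ∉ J := by
    by_contra hall
    push Not at hall
    have h1 : algebraMap P R (b * x) ∈ (I ^ 2).map (algebraMap P R) := by
      rw [hJ2, ← ha, pow_two]
      refine Ideal.sum_mem _ (fun i _ => Ideal.mul_mem_mul (hall i) ?_)
      rw [← hspan]
      exact Ideal.subset_span ⟨i, rfl⟩
    obtain ⟨⟨⟨p, hp⟩, ⟨s, hs⟩⟩, hps⟩ :=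
      (IsLocalization.mem_map_algebraMap_iff Q.primeCompl R).mp h1
    simp only at hps
    rw [← map_mul] at hps
    obtain ⟨⟨t, ht⟩, hts⟩ := (IsLocalization.eq_iff_exists Q.primeCompl R).mp hps
    simp only at hts
    have h2 : (t * s) * (b * x) ∈ I ^ 2 := by
      have : (t * s) * (b * x) = t * p := by rw [← hts]; ring
      rw [this]
      exact Ideal.mul_mem_left _ _ hp
    have h3 := (hmem (t * s)).mpr h2
    rcases hQp.mem_or_mem h3 with h4 | h4
    · exact ht h4
    · exact hs h4
  obtain ⟨i, hi⟩ := hB
  -- the maximal ideal of `R` is an associated prime of `R ⧸ J`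
  have hass : maximalIdeal R ∈ associatedPrimes R (R ⧸ J) := by
    refine isAssociatedPrime_iff.mpr ⟨inferInstance, Ideal.Quotient.mk J (a i), ?_⟩
    apply le_antisymm
    · rw [← Localization.AtPrime.map_eq_maximalIdeal, Ideal.map_le_iff_le_comap]
      intro a₀ ha₀
      rw [Ideal.mem_comap, Submodule.mem_colon_singleton, Submodule.mem_bot]
      show Ideal.Quotient.mk J (algebraMap P R a₀ * a i) = 0
      rw [Ideal.Quotient.eq_zero_iff_mem]
      exact hA a₀ ha₀ i
    · apply IsLocalRing.le_maximalIdeal
      intro htop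
      have h1 : (1 : R) ∈ (⊥ : Submodule R (R ⧸ J)).colon {Ideal.Quotient.mk J (a i)} := by
        rw [htop]; trivial
      rw [Submodule.mem_colon_singleton, Submodule.mem_bot, one_smul,
        Ideal.Quotient.eq_zero_iff_mem] at h1
      exact hi h1
  have hG : LocCoh.IsGorensteinLocalRing (R ⧸ J) :=
    Groth.Agent.H26.GorLCI.gor_atPrime_quotient P hP I hI Q hIQ
  have hGR := Groth.Agent.H26.GorFieldLocal.isGorensteinRing_of_isGorensteinLocalRing _ hG
  have hCM : ∀ (P' : Ideal (R ⧸ J)) [P'.IsPrime],
      LocCoh.IsCohenMacaulayLocalRing (Localization.AtPrime P') := fun P' _ =>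
    @Groth.Agent.H2.GorensteinCM.isCohenMacaulayLocalRing _ _
      (hGR.isGorensteinLocalRing_localization P')
  haveI : IsNoetherianRing R := IsLocalization.isNoetherianRing Q.primeCompl R inferInstance
  have hmin := Groth.Agent.H81.Liaison.mem_minimalPrimes_of_mem_associatedPrimes_quotient J hCM
    (maximalIdeal R) hass
  rw [hJ, IsLocalization.minimalPrimes_map Q.primeCompl R I] at hmin
  have hQmin : Q ∈ I.minimalPrimes := by
    have : (maximalIdeal R).under P = Q := Localization.AtPrime.under_maximalIdeal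
    rw [← this]
    exact hmin
  obtain ⟨s, hsQ, hsx⟩ := h Q hQmin
  apply hsQ
  rw [hmem]
  have : s * (b * x) = b * (s * x) := by ring
  rw [this]
  exact Ideal.mul_mem_left _ _ hsx

set_option backward.isDefEq.respectTransparency false in
/-- A local complete intersection algebra over a field which is formally smooth at its minimal
primes has vanishing `H¹` of the naive cotangent complex. -/
theorem subsingleton_h1Cotangent (k : Type u) [Field k] (A : Type u) [CommRing A] [Algebra k A]
    (hlci : LCI.IsLCI k A)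
    (hgs : ∀ (p : Ideal A) [p.IsPrime], p ∈ minimalPrimes A →
      Algebra.FormallySmooth k (Localization.AtPrime p)) :
    Subsingleton (Algebra.H1Cotangent k A) := by
  obtain ⟨-, n, f, hf, hI⟩ := hlci
  let E : Algebra.Extension k A := Algebra.Extension.ofSurjective f hf
  haveI : Algebra.FormallySmooth k E.Ring :=
    inferInstanceAs (Algebra.FormallySmooth k (MvPolynomial (Fin n) k))
  rw [← E.equivH1CotangentOfFormallySmooth.subsingleton_congr]
  have hP : LocCoh.IsGorensteinRing (MvPolynomial (Fin n) k) :=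
    Groth.Agent.H26.GorLCI.isGorensteinRing_mvPolynomial k
      (Groth.Agent.H26.GorFieldAny.isGorensteinRing_of_isRegularRing k) n
  have hker : E.ker = RingHom.ker f.toRingHom := rfl
  refine ⟨fun y₁ y₂ => ?_⟩
  suffices H : ∀ y : E.H1Cotangent, y = 0 by rw [H y₁, H y₂]
  intro y
  obtain ⟨x, hx⟩ := Algebra.Extension.Cotangent.mk_surjective y.1
  apply Subtype.ext
  rw [← hx]
  show Algebra.Extension.Cotangent.mk x = 0
  rw [Algebra.Extension.Cotangent.mk_eq_zero_iff]
  refine mem_sq_of_forall_minimalPrimes hP E.ker (hker ▸ hI) x.1 x.2 ?_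
  intro Q hQ
  haveI hQp : Q.IsPrime := hQ.1.1
  -- the image of `Q` is a minimal prime of `A`
  have hfs : Function.Surjective f.toRingHom := hf
  have hmin : Q.map f.toRingHom ∈ minimalPrimes A := by
    have h1 := Ideal.minimalPrimes_map_of_surjective hfs (RingHom.ker f.toRingHom)
    rw [sup_idem, (Ideal.map_eq_bot_iff_le_ker _).mpr le_rfl] at h1
    show Q.map f.toRingHom ∈ (⊥ : Ideal A).minimalPrimes
    rw [h1]
    exact ⟨Q, hQ, rfl⟩
  haveI hpp : (Q.map f.toRingHom).IsPrime := hmin.1.1
  haveI := hgs (Q.map f.toRingHom) hmin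
  let p := Q.map f.toRingHom
  let y' : Algebra.H1Cotangent k A := E.equivH1CotangentOfFormallySmooth y
  have h0 : Algebra.H1Cotangent.map k k A (Localization.AtPrime p) y' = 0 :=
    Subsingleton.elim _ _
  obtain ⟨⟨c, hc⟩, hcy⟩ := (IsLocalizedModule.eq_zero_iff p.primeCompl
    (Algebra.H1Cotangent.map k k A (Localization.AtPrime p))).mp h0
  have hcy' : c • y = 0 := by
    have h1 : c • y' = 0 := hcy
    apply E.equivH1CotangentOfFormallySmooth.injective
    rw [map_smul, map_zero]
    exact h1
  obtain ⟨s, rfl⟩ := hf c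
  refine ⟨s, fun hs => hc (Ideal.mem_map_of_mem _ hs), ?_⟩
  have h2 : (f s • y).1 = 0 := by rw [hcy']; rfl
  let s' : E.Ring := s
  have h3 : (f s • y).1 = Algebra.Extension.Cotangent.mk (s' • x) := by
    rw [map_smul, hx]
    show f s • y.1 = s' • y.1
    exact algebraMap_smul A s' y.1
  rw [h3, Algebra.Extension.Cotangent.mk_eq_zero_iff] at h2
  exact h2

end Groth.Agent.H59.LciH1
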