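import Mathlib

/-!
# Local bases and finite projective modules

`IsLocBasis T m`: the family `m : Fin c → M` becomes a basis of `T⁻¹M`, stated elementwise.
`free_finite_localizedModule`: then `T⁻¹M` is finite free over `T⁻¹R`.
`finite_projective_of_cover`: a module with local bases on a cover by basic opens is finite
projective.
-/

set_option autoImplicit false
universe u v

namespace Groth.Agent.H59.LocFree

variable {R : Type u} [CommRing R] {M : Type v} [AddCommGroup M] [Module R M]

/-- The family `m` is a basis of `M` after inverting `T`. -/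
structure IsLocBasis (T : Submonoid R) {c : ℕ} (m : Fin c → M) : Prop where
  span : ∀ x : M, ∃ t ∈ T, t • x ∈ Submodule.span R (Set.range m)
  indep : ∀ r : Fin c → R, ∑ i, r i • m i = 0 → ∃ t ∈ T, ∀ i, t * r i = 0

theorem IsLocBasis.mono {T T' : Submonoid R} (hTT' : T ≤ T') {c : ℕ} {m : Fin c → M}
    (h : IsLocBasis T m) : IsLocBasis T' m where
  span x := by
    obtain ⟨t, ht, hx⟩ := h.span x
    exact ⟨t, hTT' ht, hx⟩
  indep r hr := by
    obtain ⟨t, ht, hx⟩ := h.indep r hr
    exact ⟨t, hTT' ht, hx⟩

variable (T : Submonoid R) {c : ℕ} {m : Fin c → M}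

theorem linearIndependent_mk (h : IsLocBasis T m) :
    LinearIndependent (Localization T) (fun i => LocalizedModule.mk (m i) (1 : T)) := by
  rw [Fintype.linearIndependent_iff]
  intro g hg i
  obtain ⟨b, hb⟩ := IsLocalization.exist_integer_multiples_of_finite T g
  choose r hr using hb
  have h1 : ∑ i, algebraMap R (Localization T) (r i) • LocalizedModule.mk (m i) (1 : T) = 0 := by
    have : ∀ i, algebraMap R (Localization T) (r i) • LocalizedModule.mk (m i) (1 : T) =
        (b : R) • (g i • LocalizedModule.mk (m i) (1 : T)) := by
      intro i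
      rw [hr i, smul_assoc]
    simp_rw [this]
    rw [← Finset.smul_sum, hg, smul_zero]
  have h2 : LocalizedModule.mk (∑ i, r i • m i) (1 : T) = 0 := by
    rw [← h1]
    have : ∀ i, algebraMap R (Localization T) (r i) • LocalizedModule.mk (m i) (1 : T) =
        LocalizedModule.mk (r i • m i) (1 : T) := by
      intro i
      rw [algebraMap_smul, LocalizedModule.smul'_mk]
    simp_rw [this]
    induction (Finset.univ : Finset (Fin c)) using Finset.induction_on with
    | empty => simp
    | insert a s ha ih =>
      rw [Finset.sum_insert ha, Finset.sum_insert ha, ← ih, LocalizedModule.mk_add_mk]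
      simp
  rw [← LocalizedModule.mkLinearMap_apply, IsLocalizedModule.eq_zero_iff T] at h2
  obtain ⟨u, hu⟩ := h2
  have h3 : ∑ i, ((u : R) * r i) • m i = 0 := by
    rw [← hu, Submonoid.smul_def, Finset.smul_sum]
    exact Finset.sum_congr rfl (fun i _ => by rw [mul_smul])
  obtain ⟨t, ht, htr⟩ := h.indep _ h3
  have h4 : algebraMap R (Localization T) (r i) = 0 := by
    rw [IsLocalization.map_eq_zero_iff T]
    refine ⟨⟨t, ht⟩ * u, ?_⟩
    simp only [Submonoid.coe_mul]
    rw [mul_assoc]
    exact htr i
  rw [hr i] at h4
  have hunit : IsUnit (algebraMap R (Localization T) (b : R)) := IsLocalization.map_units _ b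
  rw [Algebra.smul_def] at h4
  exact (hunit.mul_right_eq_zero).mp h4

theorem span_mk_eq_top (h : IsLocBasis T m) :
    Submodule.span (Localization T)
      (Set.range fun i => LocalizedModule.mk (m i) (1 : T)) = ⊤ := by
  rw [eq_top_iff]
  rintro y -
  induction y using LocalizedModule.induction_on with
  | h x s =>
    obtain ⟨t, ht, hx⟩ := h.span x
    have h1 : LocalizedModule.mk x s =
        (Localization.mk 1 (⟨t, ht⟩ * s) : Localization T) • LocalizedModule.mk (t • x) (1 : T) := by
      rw [LocalizedModule.mk_smul_mk, one_smul, mul_one]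
      rw [LocalizedModule.mk_eq]
      refine ⟨1, ?_⟩
      simp only [one_smul]
      show ((t * (s : R)) • x : M) = (s : R) • t • x
      rw [mul_comm, mul_smul]
    rw [h1]
    apply Submodule.smul_mem
    have h2 : LocalizedModule.mk (t • x) (1 : T) ∈
        Submodule.map ((LocalizedModule.mkLinearMap T M))
          (Submodule.span R (Set.range m)) := ⟨t • x, hx, rfl⟩
    rw [Submodule.map_span] at h2
    have h3 : Submodule.span R ((LocalizedModule.mkLinearMap T M) '' Set.range m) ≤
        (Submodule.span (Localization T)
          (Set.range fun i => LocalizedModule.mk (m i) (1 : T))).restrictScalars R := by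
      rw [Submodule.span_le]
      rintro _ ⟨_, ⟨i, rfl⟩, rfl⟩
      exact Submodule.subset_span ⟨i, rfl⟩
    exact h3 h2

/-- A local basis gives a finite free localized module. -/
theorem free_finite_localizedModule (h : IsLocBasis T m) :
    Module.Free (Localization T) (LocalizedModule T M) ∧
      Module.Finite (Localization T) (LocalizedModule T M) := by
  let b := Module.Basis.mk (linearIndependent_mk T h) (span_mk_eq_top T h).ge
  exact ⟨Module.Free.of_basis b, Module.Finite.of_basis b⟩

/-- A module which has local bases on a cover by basic opens is finite projective. -/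
theorem finite_projective_of_cover (s : Set R) (hs : Ideal.span s = ⊤)
    (h : ∀ r ∈ s, ∃ (c : ℕ) (m : Fin c → M), IsLocBasis (Submonoid.powers r) m) :
    Module.Finite R M ∧ Module.Projective R M := by
  haveI hfp : Module.FinitePresentation R M := by
    apply Module.FinitePresentation.of_localizationSpan s hs
    intro g
    obtain ⟨c, m, hm⟩ := h g.1 g.2
    obtain ⟨h1, h2⟩ := free_finite_localizedModule (Submonoid.powers g.1) hm
    exact Module.finitePresentation_of_projective _ _
  refine ⟨inferInstance, ?_⟩
  apply Module.projective_of_localization_maximal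
  intro I hI
  have : ∃ r ∈ s, r ∉ I := by
    by_contra hcon
    push Not at hcon
    have : Ideal.span s ≤ I := Ideal.span_le.mpr hcon
    rw [hs] at this
    exact hI.ne_top (top_le_iff.mp this)
  obtain ⟨r, hrs, hrI⟩ := this
  obtain ⟨c, m, hm⟩ := h r hrs
  have hle : Submonoid.powers r ≤ I.primeCompl := by
    rintro _ ⟨n, rfl⟩
    exact I.primeCompl.pow_mem hrI n
  obtain ⟨h1, h2⟩ := free_finite_localizedModule I.primeCompl (hm.mono hle)
  infer_instance

end Groth.Agent.H59.LocFree
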