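import Mathlib
import Groth.Prelude.Def_CAlgX
import Groth.Prelude.Def_LCI2
import Groth.Agent.H46.QuasiRegGCI
import Groth.Agent.H59.LciH1
import Groth.Agent.H59.LocFree

/-!
# The conormal module of a Koszul-regular ideal is finite projective

For an extension `E` of `B` over `A` (a surjection `E.Ring → B`) whose kernel is a Koszul-regular
ideal, the conormal module `E.Cotangent = I/I²` is a finite projective `B`-module.
-/

set_option autoImplicit false
set_option linter.style.haveILetI false
universe u

namespace Groth.Agent.H59.ConormalProj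

open Groth.Agent.H59.LocFree Groth.Agent.H59.LciH1

variable {A B : Type u} [CommRing A] [CommRing B] [Algebra A B] (E : Algebra.Extension.{u} A B)

set_option backward.isDefEq.respectTransparency false in
/-- On a basic open where the kernel is generated by a Koszul-regular sequence, the conormal module
has a local basis. -/
theorem exists_isLocBasis (g : E.Ring) (l : List (Localization.Away g))
    (hl : LCI.IsKoszulRegularSeq (Localization.Away g) l)
    (hspan : E.ker.map (algebraMap E.Ring (Localization.Away g)) = Ideal.span {x | x ∈ l}) :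
    ∃ (c : ℕ) (m : Fin c → E.Cotangent),
      IsLocBasis (Submonoid.powers (algebraMap E.Ring B g)) m := by
  set J : Ideal (Localization.Away g) := E.ker.map (algebraMap E.Ring (Localization.Away g)) with hJ
  let c := l.length
  let fs : Fin c → (Localization.Away g) := l.get
  have hq : CAlgX.IsQuasiRegular fs := by
    apply Groth.Agent.H46.QuasiRegGCI.isQuasiRegular_of_isKoszulRegularSeq
    rw [List.ofFn_get]
    exact hl
  have hfs : Ideal.span (Set.range fs) = J := by
    rw [hspan]
    congr 1
    ext x
    simp only [Set.mem_range, Set.mem_ofPred_eq, List.mem_iff_get, fs]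
    exact Iff.rfl
  have hJ2 : (E.ker ^ 2).map (algebraMap E.Ring (Localization.Away g)) = J ^ 2 := Ideal.map_pow _ _ _
  -- numerators
  have hnum : ∀ i, ∃ (x : E.ker) (u : Submonoid.powers g),
      fs i * algebraMap E.Ring (Localization.Away g) (u : E.Ring) = algebraMap E.Ring (Localization.Away g) (x : E.Ring) := by
    intro i
    have h1 : fs i ∈ J := by
      rw [← hfs]
      exact Ideal.subset_span ⟨i, rfl⟩
    obtain ⟨⟨⟨x, hx⟩, u⟩, hxu⟩ :=
      (IsLocalization.mem_map_algebraMap_iff (Submonoid.powers g) (Localization.Away g)).mp h1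
    exact ⟨⟨x, hx⟩, u, hxu⟩
  choose x u hxu using hnum
  have hpow : ∀ t : Submonoid.powers g,
      algebraMap E.Ring B (t : E.Ring) ∈ Submonoid.powers (algebraMap E.Ring B g) := by
    rintro ⟨_, n, rfl⟩
    exact ⟨n, (map_pow _ _ _).symm⟩
  have hunit : ∀ t : Submonoid.powers g, IsUnit (algebraMap E.Ring (Localization.Away g) (t : E.Ring)) :=
    fun t => IsLocalization.map_units (Localization.Away g) t
  refine ⟨c, fun i => Algebra.Extension.Cotangent.mk (x i), ?_, ?_⟩
  · -- spanning
    intro y
    obtain ⟨z, rfl⟩ := Algebra.Extension.Cotangent.mk_surjective y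
    have hz : algebraMap E.Ring (Localization.Away g) (z : E.Ring) ∈ Ideal.span (Set.range fs) := by
      rw [hfs]
      exact Ideal.mem_map_of_mem _ z.2
    obtain ⟨a, ha⟩ := Ideal.mem_span_range_iff_exists_fun.mp hz
    -- `b i = a i / u i`
    let b : Fin c → (Localization.Away g) := fun i => a i * ((hunit (u i)).unit⁻¹ : (Localization.Away g)ˣ)
    have hb : ∑ i, b i * algebraMap E.Ring (Localization.Away g) (x i : E.Ring) = algebraMap E.Ring (Localization.Away g) (z : E.Ring) := by
      rw [← ha]
      refine Finset.sum_congr rfl (fun i _ => ?_)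
      rw [← hxu i]
      have : ((hunit (u i)).unit⁻¹ : (Localization.Away g)ˣ) * algebraMap E.Ring (Localization.Away g) (u i : E.Ring) = (1 : (Localization.Away g)) :=
        (hunit (u i)).val_inv_mul
      calc b i * (fs i * algebraMap E.Ring (Localization.Away g) (u i : E.Ring))
          = a i * fs i * (((hunit (u i)).unit⁻¹ : (Localization.Away g)ˣ) * algebraMap E.Ring (Localization.Away g) (u i : E.Ring)) := by
            simp only [b]; ring
        _ = a i * fs i := by rw [this, mul_one]
    obtain ⟨t, ht⟩ := IsLocalization.exist_integer_multiples_of_finite (Submonoid.powers g) b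
    choose r hr using ht
    have h1 : algebraMap E.Ring (Localization.Away g) ((t : E.Ring) * (z : E.Ring)) =
        algebraMap E.Ring (Localization.Away g) (∑ i, r i * (x i : E.Ring)) := by
      rw [map_mul, ← hb, Finset.mul_sum, map_sum]
      refine Finset.sum_congr rfl (fun i _ => ?_)
      rw [map_mul, hr i, Algebra.smul_def]
      ring
    obtain ⟨t', ht'⟩ := (IsLocalization.eq_iff_exists (Submonoid.powers g) (Localization.Away g)).mp h1
    refine ⟨algebraMap E.Ring B ((t' : E.Ring) * (t : E.Ring)), ?_, ?_⟩
    · rw [map_mul]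
      exact Submonoid.mul_mem _ (hpow t') (hpow t)
    · rw [algebraMap_smul, ← map_smul]
      have h2 : ((t' : E.Ring) * (t : E.Ring)) • z = ∑ i, ((t' : E.Ring) * r i) • x i := by
        apply Subtype.ext
        rw [Submodule.coe_smul, Submodule.coe_sum]
        simp only [Submodule.coe_smul, smul_eq_mul]
        rw [mul_assoc, ht', Finset.mul_sum]
        exact Finset.sum_congr rfl (fun i _ => by ring)
      rw [h2, map_sum]
      refine Submodule.sum_mem _ (fun i _ => ?_)
      rw [map_smul, ← algebraMap_smul B]
      exact Submodule.smul_mem _ _ (Submodule.subset_span ⟨i, rfl⟩)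
  · -- independence
    intro r hr
    have hsurj := E.algebraMap_surjective
    choose ρ hρ using fun i => hsurj (r i)
    have h1 : Algebra.Extension.Cotangent.mk (∑ i, ρ i • x i) = 0 := by
      rw [map_sum, ← hr]
      refine Finset.sum_congr rfl (fun i _ => ?_)
      rw [map_smul, ← hρ i, algebraMap_smul]
    rw [Algebra.Extension.Cotangent.mk_eq_zero_iff] at h1
    have h2 : algebraMap E.Ring (Localization.Away g) (∑ i, ρ i * (x i : E.Ring)) ∈ J ^ 2 := by
      rw [← hJ2]
      apply Ideal.mem_map_of_mem
      convert h1 using 1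
      rw [Submodule.coe_sum]
      simp
    have h3 : ∑ i, (algebraMap E.Ring (Localization.Away g) (ρ i) * algebraMap E.Ring (Localization.Away g) (u i : E.Ring)) * fs i ∈
        Ideal.span (Set.range fs) ^ 2 := by
      rw [hfs]
      convert h2 using 1
      rw [map_sum]
      refine Finset.sum_congr rfl (fun i _ => ?_)
      rw [map_mul, ← hxu i]
      ring
    have h4 : ∀ i, ∃ w : Submonoid.powers g, (w : E.Ring) * ρ i ∈ E.ker := by
      intro i
      have h5 := coeff_mem_of_isQuasiRegular fs hq _ h3 i
      rw [hfs, ← map_mul] at h5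
      obtain ⟨⟨⟨y, hy⟩, s⟩, hys⟩ :=
        (IsLocalization.mem_map_algebraMap_iff (Submonoid.powers g) (Localization.Away g)).mp h5
      simp only at hys
      rw [← map_mul] at hys
      obtain ⟨t'', ht''⟩ := (IsLocalization.eq_iff_exists (Submonoid.powers g) (Localization.Away g)).mp hys
      refine ⟨t'' * u i * s, ?_⟩
      have : ((t'' * u i * s : Submonoid.powers g) : E.Ring) * ρ i =
          (t'' : E.Ring) * (ρ i * (u i : E.Ring) * (s : E.Ring)) := by
        simp only [Submonoid.coe_mul]; ring
      rw [this, ht'']
      exact E.ker.mul_mem_left _ hy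
    choose w hw using h4
    refine ⟨algebraMap E.Ring B ((∏ i, w i : Submonoid.powers g) : E.Ring), hpow _, ?_⟩
    intro i
    rw [← hρ i, ← map_mul]
    show _ ∈ E.ker
    have : ((∏ j, w j : Submonoid.powers g) : E.Ring) =
        ((∏ j ∈ Finset.univ.erase i, w j : Submonoid.powers g) : E.Ring) * (w i : E.Ring) := by
      rw [← Submonoid.coe_mul, Finset.prod_erase_mul _ _ (Finset.mem_univ i)]
    rw [this, mul_assoc]
    exact E.ker.mul_mem_left _ (hw i)

/-- The conormal module of an extension with Koszul-regular kernel is finite projective. -/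
theorem finite_projective_cotangent (hI : LCI.IsKoszulRegularIdeal E.ker) :
    Module.Finite B E.Cotangent ∧ Module.Projective B E.Cotangent := by
  apply finite_projective_of_cover
    {r : B | ∃ (c : ℕ) (m : Fin c → E.Cotangent), IsLocBasis (Submonoid.powers r) m}
  · by_contra hne
    obtain ⟨𝔪, h𝔪, hle⟩ := Ideal.exists_le_maximal _ hne
    haveI : 𝔪.IsPrime := h𝔪.isPrime
    have hI𝔮 : E.ker ≤ 𝔪.comap (algebraMap E.Ring B) := by
      intro x hx
      rw [Ideal.mem_comap, (RingHom.mem_ker).mp hx]
      exact zero_mem _
    obtain ⟨g, hg, l, hl, hspan⟩ := hI ⟨𝔪.comap (algebraMap E.Ring B), inferInstance⟩ hI𝔮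
    apply hg
    show algebraMap E.Ring B g ∈ 𝔪
    exact hle (Ideal.subset_span (exists_isLocBasis E g l hl hspan))
  · intro r hr
    exact hr

end Groth.Agent.H59.ConormalProj
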