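import Mathlib
import Groth.Prelude.Def_SheafNL
import Groth.Prelude.Def_DRing2
import Groth.Agent.H59.NLHomotopy
import Groth.Agent.H59.ConormalProj

/-!
# Perfectness of the naive cotangent complex of a local complete intersection

If `E` is an extension of `B` over `A` with Koszul-regular kernel and finite projective cotangent
space, admitting a map to the standard presentation, then `NL_{B/A}` is perfect with tor-amplitude
in `[-1, 0]`.
-/

set_option autoImplicit false
set_option linter.style.haveILetI false
universe u

namespace Groth.Agent.H59.NLPerfect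

open CategoryTheory CategoryTheory.Limits HomologicalComplex Groth.Agent.H59.NLHomotopy

attribute [local instance] HasDerivedCategory.standard

variable {A B : Type u} [CommRing A] [CommRing B] [Algebra A B]

theorem finite_projective_of_iso {M N : ModuleCat.{u} B} (e : M ≅ N)
    (h : Module.Finite B N ∧ Module.Projective B N) :
    Module.Finite B M ∧ Module.Projective B M := by
  obtain ⟨h₁, h₂⟩ := h
  exact ⟨Module.Finite.equiv e.toLinearEquiv.symm, Module.Projective.of_equiv e.toLinearEquiv.symm⟩

theorem finite_projective_of_isZero {M : ModuleCat.{u} B} (h : IsZero M) :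
    Module.Finite B M ∧ Module.Projective B M := by
  haveI := ModuleCat.subsingleton_of_isZero h
  exact ⟨inferInstance, inferInstance⟩

/-- The naive cotangent complex of an extension with Koszul-regular kernel and finite projective
cotangent space is a two-term complex of finite projective modules. -/
theorem cx_termwise (E : Algebra.Extension.{u} A B) (hI : LCI.IsKoszulRegularIdeal E.ker)
    (hΩ : Module.Finite B E.CotangentSpace ∧ Module.Projective B E.CotangentSpace) :
    DRing.VanishesOutside (NLCx.cx E) (-1) 0 ∧ DRing.TermwiseFiniteProjective (NLCx.cx E) := by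
  refine ⟨fun i hi => isZero_X E i (by omega) (by omega), fun i => ?_⟩
  by_cases h₀ : i = -1
  · subst h₀
    exact finite_projective_of_iso (xIso₀ E)
      (Groth.Agent.H59.ConormalProj.finite_projective_cotangent E hI)
  · by_cases h₁ : i = 0
    · subst h₁
      exact finite_projective_of_iso (xIso₁ E) hΩ
    · exact finite_projective_of_isZero (isZero_X E i h₀ h₁)

/-- `NL_{B/A}` is perfect of tor-amplitude `[-1,0]` as soon as some extension `E` of `B` over `A`
with Koszul-regular kernel and finite projective cotangent space maps to the standard
presentation. -/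
theorem isPerfect_and_torAmplitude (E : Algebra.Extension.{u} A B)
    (g : E.Hom (Algebra.Generators.self A B).toExtension)
    (hI : LCI.IsKoszulRegularIdeal E.ker)
    (hΩ : Module.Finite B E.CotangentSpace ∧ Module.Projective B E.CotangentSpace) :
    DRing.IsPerfect B (LCI.NL A B) ∧ DRing.HasTorAmplitudeIn B (-1) 0 (LCI.NL A B) := by
  obtain ⟨hv, ht⟩ := cx_termwise E hI hΩ
  obtain ⟨e⟩ := nonempty_toD_iso g E.defaultHom
  refine ⟨⟨NLCx.cx E, -1, 0, hv, ht, ⟨e⟩⟩, ⟨NLCx.cx E, hv, fun i => ?_, ⟨e⟩⟩⟩
  haveI := (ht i).2
  infer_instance

end Groth.Agent.H59.NLPerfect
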