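import Mathlib
import Groth.Prelude.Def_CAlg
import Groth.Agent.H2.DepthSES
import Groth.Agent.H72.FlatCM
import Groth.Agent.H15.Depth

/-!
# Gluing Cohen–Macaulay quotients of a local ring

If `R/a`, `R/b` are Cohen–Macaulay of dimension `e + 1` and `R/(a + b)` is Cohen–Macaulay of dimension
`e`, then `R/(a ∩ b)` is Cohen–Macaulay of dimension `e + 1`.
-/

set_option autoImplicit false
set_option linter.unusedSectionVars false

universe u

namespace Groth.Agent.H59.CMGlue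

section dim

variable {R : Type*} [CommRing R]

theorem ringKrullDim_quotient_inf_le (a b : Ideal R) :
    ringKrullDim (R ⧸ (a ⊓ b)) ≤ max (ringKrullDim (R ⧸ a)) (ringKrullDim (R ⧸ b)) := by
  rw [ringKrullDim_quotient, ringKrullDim_quotient, ringKrullDim_quotient]
  unfold Order.krullDim
  apply iSup_le
  intro l
  have hmem : ∀ i, ((a ⊓ b : Ideal R) : Set R) ⊆ (l i).1.asIdeal := fun i => (l i).2
  have hhead : a ≤ l.head.1.asIdeal ∨ b ≤ l.head.1.asIdeal :=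
    l.head.1.isPrime.inf_le.mp (hmem 0)
  have hle : ∀ i, l.head.1.asIdeal ≤ (l i).1.asIdeal := by
    intro i
    have h1 : l.head ≤ l i := LTSeries.head_le l i
    exact h1
  rcases hhead with h | h
  · let l' : LTSeries (PrimeSpectrum.zeroLocus (R := R) (a : Set R)) :=
      { length := l.length
        toFun := fun i => ⟨(l i).1, fun x hx => hle i (h hx)⟩
        step := fun i => l.step i }
    exact le_max_of_le_left (le_iSup_of_le l' le_rfl)
  · let l' : LTSeries (PrimeSpectrum.zeroLocus (R := R) (b : Set R)) :=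
      { length := l.length
        toFun := fun i => ⟨(l i).1, fun x hx => hle i (h hx)⟩
        step := fun i => l.step i }
    exact le_max_of_le_right (le_iSup_of_le l' le_rfl)

end dim

section glue

variable {R : Type u} [CommRing R] [IsNoetherianRing R] [IsLocalRing R]

open IsLocalRing

theorem isLocalRing_quotient (a : Ideal R) (ha : a ≠ ⊤) : IsLocalRing (R ⧸ a) := by
  have : Nontrivial (R ⧸ a) := Ideal.Quotient.nontrivial_iff.mpr ha
  exact IsLocalRing.of_surjective' (Ideal.Quotient.mk a) Ideal.Quotient.mk_surjective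

/-- the canonical linear maps between quotients. -/
noncomputable def fac {a b : Ideal R} (h : a ≤ b) : (R ⧸ a) →ₗ[R] (R ⧸ b) :=
  (Ideal.Quotient.factorₐ R h).toLinearMap

theorem fac_mk {a b : Ideal R} (h : a ≤ b) (r : R) :
    fac h (Ideal.Quotient.mk a r) = Ideal.Quotient.mk b r := rfl

theorem fac_surjective {a b : Ideal R} (h : a ≤ b) : Function.Surjective (fac h) :=
  Ideal.Quotient.factor_surjective h

theorem mk_mem_ker_fac {a b : Ideal R} (h : a ≤ b) (r : R) :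
    Ideal.Quotient.mk a r ∈ LinearMap.ker (fac h) ↔ r ∈ b := by
  rw [LinearMap.mem_ker, fac_mk, Ideal.Quotient.eq_zero_iff_mem]

/-- the second isomorphism theorem, for kernels of the canonical maps. -/
noncomputable def kerEquiv (a b : Ideal R) :
    LinearMap.ker (fac (inf_le_left : a ⊓ b ≤ a)) ≃ₗ[R]
      LinearMap.ker (fac (le_sup_right : b ≤ a ⊔ b)) := by
  refine LinearEquiv.ofBijective
    ((fac (inf_le_right : a ⊓ b ≤ b)).restrict (p := LinearMap.ker (fac (inf_le_left : a ⊓ b ≤ a)))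
      (q := LinearMap.ker (fac (le_sup_right : b ≤ a ⊔ b))) ?_) ⟨?_, ?_⟩
  · intro x hx
    obtain ⟨r, rfl⟩ := Ideal.Quotient.mk_surjective x
    rw [mk_mem_ker_fac] at hx
    rw [fac_mk, mk_mem_ker_fac]
    exact Ideal.mem_sup_left hx
  · rintro ⟨x, hx⟩ ⟨y, hy⟩ hxy
    obtain ⟨r, rfl⟩ := Ideal.Quotient.mk_surjective x
    obtain ⟨s, rfl⟩ := Ideal.Quotient.mk_surjective y
    rw [mk_mem_ker_fac] at hx hy
    have h1 : fac (inf_le_right : a ⊓ b ≤ b) (Ideal.Quotient.mk _ r)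
        = fac (inf_le_right : a ⊓ b ≤ b) (Ideal.Quotient.mk _ s) := congrArg Subtype.val hxy
    rw [fac_mk, fac_mk, Ideal.Quotient.eq] at h1
    apply Subtype.ext
    show Ideal.Quotient.mk (a ⊓ b) r = Ideal.Quotient.mk (a ⊓ b) s
    rw [Ideal.Quotient.eq]
    exact ⟨Ideal.sub_mem _ hx hy, h1⟩
  · rintro ⟨y, hy⟩
    obtain ⟨r, rfl⟩ := Ideal.Quotient.mk_surjective y
    rw [mk_mem_ker_fac] at hy
    obtain ⟨ra, hra, rb, hrb, rfl⟩ := Submodule.mem_sup.mp hy
    refine ⟨⟨Ideal.Quotient.mk _ ra, (mk_mem_ker_fac _ _).mpr hra⟩, ?_⟩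
    apply Subtype.ext
    show fac (inf_le_right : a ⊓ b ≤ b) (Ideal.Quotient.mk _ ra) = Ideal.Quotient.mk b (ra + rb)
    rw [fac_mk, Ideal.Quotient.eq]
    have : ra - (ra + rb) = -rb := by ring
    rw [this]
    exact neg_mem hrb

/-- the depth inequality for the intersection. -/
theorem le_depth_quotient_inf (a b : Ideal R) (e : ℕ)
    (ha : ((e + 1 : ℕ) : ℕ∞) ≤ LocCoh.depth R (R ⧸ a))
    (hb : ((e + 1 : ℕ) : ℕ∞) ≤ LocCoh.depth R (R ⧸ b))
    (hab : ((e : ℕ) : ℕ∞) ≤ LocCoh.depth R (R ⧸ (a ⊔ b))) :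
    ((e + 1 : ℕ) : ℕ∞) ≤ LocCoh.depth R (R ⧸ (a ⊓ b)) := by
  unfold LocCoh.depth at *
  set m := maximalIdeal R
  -- second sequence
  have h2 := (Groth.Agent.H2.DepthSES.depth_lemma m
    (LinearMap.ker (fac (le_sup_right : b ≤ a ⊔ b))).subtype (fac (le_sup_right : b ≤ a ⊔ b))
    (Submodule.injective_subtype _) (fac_surjective _)
    (LinearMap.exact_subtype_ker_map _)).2.2
  have hK2 : ((e + 1 : ℕ) : ℕ∞)
      ≤ LocCoh.idealDepth m (LinearMap.ker (fac (le_sup_right : b ≤ a ⊔ b))) := by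
    refine le_trans (le_min hb ?_) h2
    push_cast
    gcongr
  have hK1 : ((e + 1 : ℕ) : ℕ∞)
      ≤ LocCoh.idealDepth m (LinearMap.ker (fac (inf_le_left : a ⊓ b ≤ a))) := by
    rw [Groth.Agent.H15.idealDepth_congr (kerEquiv a b) m]
    exact hK2
  have h1 := (Groth.Agent.H2.DepthSES.depth_lemma m
    (LinearMap.ker (fac (inf_le_left : a ⊓ b ≤ a))).subtype (fac (inf_le_left : a ⊓ b ≤ a))
    (Submodule.injective_subtype _) (fac_surjective _)
    (LinearMap.exact_subtype_ker_map _)).1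
  exact le_trans (le_min hK1 ha) h1

/-- gluing two Cohen–Macaulay quotients along a Cohen–Macaulay quotient of dimension one less. -/
theorem isCM_quotient_inf (a b : Ideal R) (ha : a ≠ ⊤) (hb : b ≠ ⊤) (e : ℕ)
    (hcma : LocCoh.IsCohenMacaulayLocalRing (R ⧸ a))
    (hcmb : LocCoh.IsCohenMacaulayLocalRing (R ⧸ b))
    (hcmab : LocCoh.IsCohenMacaulayLocalRing (R ⧸ (a ⊔ b)))
    (hda : ringKrullDim (R ⧸ a) = ((e + 1 : ℕ) : WithBot ℕ∞))
    (hdb : ringKrullDim (R ⧸ b) = ((e + 1 : ℕ) : WithBot ℕ∞))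
    (hdab : ringKrullDim (R ⧸ (a ⊔ b)) = ((e : ℕ) : WithBot ℕ∞)) :
    LocCoh.IsCohenMacaulayLocalRing (R ⧸ (a ⊓ b)) ∧
      ringKrullDim (R ⧸ (a ⊓ b)) = ((e + 1 : ℕ) : WithBot ℕ∞) := by
  have hla : IsLocalRing (R ⧸ a) := hcma.toIsLocalRing
  have hlb : IsLocalRing (R ⧸ b) := hcmb.toIsLocalRing
  have hlab : IsLocalRing (R ⧸ (a ⊔ b)) := hcmab.toIsLocalRing
  have hab : a ⊔ b ≠ ⊤ := by
    intro h
    have : Nontrivial (R ⧸ (a ⊔ b)) := inferInstance
    exact (Ideal.Quotient.nontrivial_iff.mp this) h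
  have hinf : a ⊓ b ≠ ⊤ := fun h => ha (top_le_iff.mp (h ▸ inf_le_left))
  have hlinf : IsLocalRing (R ⧸ (a ⊓ b)) := isLocalRing_quotient _ hinf
  have key : ∀ (c : Ideal R) (hc : c ≠ ⊤) [IsLocalRing (R ⧸ c)] (k : ℕ),
      LocCoh.IsCohenMacaulayLocalRing (R ⧸ c) → ringKrullDim (R ⧸ c) = ((k : ℕ) : WithBot ℕ∞) →
      ((k : ℕ) : ℕ∞) ≤ LocCoh.depth R (R ⧸ c) := by
    intro c hc _ k hcm hdim
    rw [Groth.Agent.H72.FlatCM.depth_quotient_eq c hc]
    rw [Groth.Agent.H72.FlatCM.isCohenMacaulayLocalRing_iff, hdim] at hcm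
    have h1 : ((k : ℕ∞) : WithBot ℕ∞) = ((LocCoh.depth (R ⧸ c) (R ⧸ c) : ℕ∞) : WithBot ℕ∞) := hcm
    exact le_of_eq (WithBot.coe_injective h1)
  have h1 := le_depth_quotient_inf a b e (key a ha (e + 1) hcma hda) (key b hb (e + 1) hcmb hdb)
    (key (a ⊔ b) hab e hcmab hdab)
  rw [Groth.Agent.H72.FlatCM.depth_quotient_eq (a ⊓ b) hinf] at h1
  have h2 := Groth.Agent.H72.FlatCM.depth_le_ringKrullDim (R ⧸ (a ⊓ b))
  have h3 : ringKrullDim (R ⧸ (a ⊓ b)) ≤ ((e + 1 : ℕ) : WithBot ℕ∞) := by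
    refine le_trans (ringKrullDim_quotient_inf_le a b) ?_
    rw [hda, hdb, max_self]
  have h4 : (((e + 1 : ℕ) : ℕ∞) : WithBot ℕ∞)
      ≤ ((LocCoh.depth (R ⧸ (a ⊓ b)) (R ⧸ (a ⊓ b)) : ℕ∞) : WithBot ℕ∞) := WithBot.coe_le_coe.mpr h1
  have h5 : ringKrullDim (R ⧸ (a ⊓ b)) = ((e + 1 : ℕ) : WithBot ℕ∞) :=
    le_antisymm h3 (le_trans h4 h2)
  refine ⟨?_, h5⟩
  rw [Groth.Agent.H72.FlatCM.isCohenMacaulayLocalRing_iff]
  exact le_antisymm (h5 ▸ h4) h2

end glue

end Groth.Agent.H59.CMGlue
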