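import Mathlib
import Groth.Prelude.Def_CAlg
import Groth.Agent.H59.CMGlue
import Groth.Agent.H29.ComplCat
import Groth.Agent.H49.CMLocalize
import Groth.Agent.H81.LiaisonCM

/-!
# Cohen–Macaulayness of a quotient `S/I` at a prime `P` of `S`

The local ring of `S/I` at `P ⊇ I` is `S_P / I S_P`; all quotients of `S` are studied inside the single
local ring `S_P`.
-/

set_option autoImplicit false
set_option linter.unusedSectionVars false

universe u

namespace Groth.Agent.H59.CMAt

open Groth.Agent.H59.CMGlue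

section basic

variable {S : Type u} [CommRing S] [IsNoetherianRing S]

/-- the local ring of `S/I` at `P`, as a quotient of `S_P`. -/
abbrev LQ (I P : Ideal S) [P.IsPrime] : Type u :=
  Localization.AtPrime P ⧸ I.map (algebraMap S (Localization.AtPrime P))

/-- `S/I` is Cohen–Macaulay at `P`. -/
def CMat (I P : Ideal S) [P.IsPrime] : Prop := LocCoh.IsCohenMacaulayLocalRing (LQ I P)

/-- the local dimension of `S/I` at `P`. -/
noncomputable def dimAt (I P : Ideal S) [P.IsPrime] : WithBot ℕ∞ := ringKrullDim (LQ I P)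

theorem map_ne_top_iff (I P : Ideal S) [P.IsPrime] :
    I.map (algebraMap S (Localization.AtPrime P)) ≠ ⊤ ↔ I ≤ P := by
  rw [IsLocalization.map_algebraMap_ne_top_iff_disjoint P.primeCompl]
  constructor
  · intro h x hx
    by_contra hxP
    exact Set.disjoint_left.mp h hxP hx
  · intro h
    rw [Set.disjoint_left]
    intro x hx hxI
    exact hx (h hxI)

theorem map_eq_top_of_not_le (I P : Ideal S) [P.IsPrime] (h : ¬ I ≤ P) :
    I.map (algebraMap S (Localization.AtPrime P)) = ⊤ := by
  by_contra hne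
  exact h ((map_ne_top_iff I P).mp hne)

theorem isLocalRing_LQ (I P : Ideal S) [P.IsPrime] (h : I ≤ P) : IsLocalRing (LQ I P) :=
  isLocalRing_quotient _ ((map_ne_top_iff I P).mpr h)

theorem le_of_CMat (I P : Ideal S) [P.IsPrime] (h : CMat I P) : I ≤ P := by
  rw [← map_ne_top_iff]
  intro htop
  have h1 : IsLocalRing (LQ I P) := h.toIsLocalRing
  have h2 : Nontrivial (LQ I P) := inferInstance
  exact (Ideal.Quotient.nontrivial_iff.mp h2) htop

/-- from the local statements to the global one. -/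
theorem isCohenMacaulayRing_quotient (I : Ideal S)
    (h : ∀ (P : Ideal S) [P.IsPrime], I ≤ P → CMat I P) : LocCoh.IsCohenMacaulayRing (S ⧸ I) := by
  refine { isCohenMacaulayLocalRing_localization := ?_ }
  intro Q hQ
  have hP : (Q.comap (Ideal.Quotient.mk I)).IsPrime := Ideal.comap_isPrime _ Q
  obtain ⟨e⟩ := Groth.Agent.H81.LiaisonCM.nonempty_ringEquiv_localization_quotient S I
    (Q.comap (Ideal.Quotient.mk I)) Q rfl
  have hle : I ≤ Q.comap (Ideal.Quotient.mk I) := by
    intro x hx
    rw [Ideal.mem_comap, Ideal.Quotient.eq_zero_iff_mem.mpr hx]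
    exact zero_mem _
  exact Groth.Agent.H49.isCohenMacaulayLocalRing_of_ringEquiv e.symm (h _ hle)

/-- from the global statement to the local ones. -/
theorem cmAt_of_isCohenMacaulayRing (I : Ideal S) (h : LocCoh.IsCohenMacaulayRing (S ⧸ I))
    (P : Ideal S) [hP : P.IsPrime] (hIP : I ≤ P) : CMat I P := by
  have hker : RingHom.ker (Ideal.Quotient.mk I) ≤ P := by rw [Ideal.mk_ker]; exact hIP
  have hQ : (P.map (Ideal.Quotient.mk I)).IsPrime :=
    Ideal.map_isPrime_of_surjective Ideal.Quotient.mk_surjective hker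
  have hcomap : (P.map (Ideal.Quotient.mk I)).comap (Ideal.Quotient.mk I) = P := by
    rw [Ideal.comap_map_of_surjective _ Ideal.Quotient.mk_surjective, ← RingHom.ker_eq_comap_bot,
      sup_eq_left.mpr hker]
  obtain ⟨e⟩ := Groth.Agent.H81.LiaisonCM.nonempty_ringEquiv_localization_quotient S I P
    (P.map (Ideal.Quotient.mk I)) hcomap
  exact Groth.Agent.H49.isCohenMacaulayLocalRing_of_ringEquiv e
    (h.isCohenMacaulayLocalRing_localization _)

theorem map_inf_eq (I J P : Ideal S) [P.IsPrime] :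
    (I ⊓ J).map (algebraMap S (Localization.AtPrime P))
      = I.map (algebraMap S (Localization.AtPrime P)) ⊓ J.map (algebraMap S (Localization.AtPrime P)) :=
  IsLocalization.map_inf P.primeCompl (Localization.AtPrime P) I J

/-- if `J ⊄ P` then `S/(I ∩ J)` and `S/I` agree at `P`. -/
theorem map_inf_of_not_le (I J P : Ideal S) [P.IsPrime] (h : ¬ J ≤ P) :
    (I ⊓ J).map (algebraMap S (Localization.AtPrime P))
      = I.map (algebraMap S (Localization.AtPrime P)) := by
  rw [map_inf_eq, map_eq_top_of_not_le J P h, inf_top_eq]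

theorem cmAt_inf_of_not_le (I J P : Ideal S) [P.IsPrime] (h : ¬ J ≤ P) :
    CMat (I ⊓ J) P ↔ CMat I P := by
  unfold CMat LQ
  rw [map_inf_of_not_le I J P h]

theorem dimAt_inf_of_not_le (I J P : Ideal S) [P.IsPrime] (h : ¬ J ≤ P) :
    dimAt (I ⊓ J) P = dimAt I P := by
  unfold dimAt LQ
  rw [map_inf_of_not_le I J P h]

/-- gluing at a prime. -/
theorem glue_at (I J P : Ideal S) [P.IsPrime]
    (hI : CMat I P) (hJ : CMat J P) (hIJ : CMat (I ⊔ J) P)
    (hd1 : dimAt I P = dimAt J P) (hd2 : dimAt I P = dimAt (I ⊔ J) P + 1) :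
    CMat (I ⊓ J) P ∧ dimAt (I ⊓ J) P = dimAt I P := by
  have hIP := le_of_CMat I P hI
  have hJP := le_of_CMat J P hJ
  have hIJP := le_of_CMat (I ⊔ J) P hIJ
  have hl : IsLocalRing (LQ (I ⊔ J) P) := hIJ.toIsLocalRing
  obtain ⟨e, he⟩ := Groth.Agent.H72.FlatCM.exists_ringKrullDim_eq_natCast (LQ (I ⊔ J) P)
  unfold CMat dimAt LQ at *
  rw [Ideal.map_sup] at hIJ he hd2
  rw [map_inf_eq]
  rw [he] at hd2
  have hda : ringKrullDim (Localization.AtPrime P ⧸ I.map (algebraMap S (Localization.AtPrime P)))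
      = ((e + 1 : ℕ) : WithBot ℕ∞) := by
    rw [hd2]
    rfl
  have hdb : ringKrullDim (Localization.AtPrime P ⧸ J.map (algebraMap S (Localization.AtPrime P)))
      = ((e + 1 : ℕ) : WithBot ℕ∞) := by
    rw [← hd1, hda]
  have := isCM_quotient_inf _ _ ((map_ne_top_iff I P).mpr hIP) ((map_ne_top_iff J P).mpr hJP) e
    hI hJ hIJ hda hdb he
  exact ⟨this.1, by rw [this.2, hda]⟩

/-- regularity passes to the localised quotient. -/
theorem isSMulRegular_LQ (I P : Ideal S) [P.IsPrime] (x : S)
    (hreg : ∀ s : S, x * s ∈ I → s ∈ I) :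
    IsSMulRegular (LQ I P) (Ideal.Quotient.mk (I.map (algebraMap S (Localization.AtPrime P)))
      (algebraMap S (Localization.AtPrime P) x)) := by
  set R := Localization.AtPrime P
  set f := algebraMap S R
  rw [isSMulRegular_iff_right_eq_zero_of_smul]
  intro y hy
  obtain ⟨r, rfl⟩ := Ideal.Quotient.mk_surjective y
  rw [smul_eq_mul, ← map_mul, Ideal.Quotient.eq_zero_iff_mem,
    IsLocalization.mem_map_algebraMap_iff P.primeCompl] at hy
  obtain ⟨⟨⟨i, hi⟩, u⟩, hiu⟩ := hy
  simp only at hiu
  obtain ⟨⟨s, t⟩, hst⟩ := IsLocalization.surj P.primeCompl r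
  simp only at hst
  -- f (x * s * u) = f (i * t)
  have h1 : f (x * s * u) = f (i * t) := by
    rw [map_mul, map_mul, map_mul, ← hst, ← hiu]
    ring
  obtain ⟨v, hv⟩ := (IsLocalization.eq_iff_exists P.primeCompl R).mp h1
  have h2 : x * (v * u * s) ∈ I := by
    have e : x * (v * u * s) = v * (i * t) := by
      rw [← hv]
      ring
    rw [e]
    exact I.mul_mem_left _ (I.mul_mem_right _ hi)
  have h3 := hreg _ h2
  rw [Ideal.Quotient.eq_zero_iff_mem, IsLocalization.mem_map_algebraMap_iff P.primeCompl]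
  refine ⟨(⟨(v : S) * u * s, h3⟩, t * (v * u)), ?_⟩
  simp only [Submonoid.coe_mul, map_mul]
  rw [← hst]
  ring

/-- the hyperplane section principle at a prime. -/
theorem hyperplane_at (I P : Ideal S) [P.IsPrime] (x : S) (hIP : I ≤ P) (hxP : x ∈ P)
    (hreg : ∀ s : S, x * s ∈ I → s ∈ I)
    (h : CMat (I ⊔ Ideal.span {x}) P) :
    CMat I P ∧ dimAt I P = dimAt (I ⊔ Ideal.span {x}) P + 1 := by
  set R := Localization.AtPrime P with hR
  set f := algebraMap S R with hf
  set Ie := I.map f with hIe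
  have hlA : IsLocalRing (LQ I P) := isLocalRing_LQ I P hIP
  set x' : LQ I P := Ideal.Quotient.mk Ie (f x) with hx'def
  have hx' : x' ∈ IsLocalRing.maximalIdeal (LQ I P) := by
    rw [← Groth.Agent.H72.FlatCM.map_mk_maximalIdeal Ie ((map_ne_top_iff I P).mpr hIP)]
    apply Ideal.mem_map_of_mem
    exact (IsLocalization.AtPrime.to_map_mem_maximal_iff R P x).mpr hxP
  have hreg' : IsSMulRegular (LQ I P) x' := isSMulRegular_LQ I P x hreg
  have hmap : (I ⊔ Ideal.span {x}).map f = Ie ⊔ Ideal.span {f x} := by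
    rw [Ideal.map_sup, Ideal.map_span, Set.image_singleton]
  have hspan : (Ideal.span {f x}).map (Ideal.Quotient.mk Ie) = Ideal.span {x'} := by
    rw [Ideal.map_span, Set.image_singleton]
  let e1 : (LQ I P ⧸ Ideal.span {x'}) ≃+* (R ⧸ (Ie ⊔ Ideal.span {f x})) :=
    (Ideal.quotEquivOfEq hspan.symm).trans (DoubleQuot.quotQuotEquivQuotSup Ie (Ideal.span {f x}))
  let e2 : (R ⧸ (Ie ⊔ Ideal.span {f x})) ≃+* LQ (I ⊔ Ideal.span {x}) P :=
    Ideal.quotEquivOfEq hmap.symm
  have hcm : LocCoh.IsCohenMacaulayLocalRing (LQ I P ⧸ Ideal.span {x'}) :=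
    Groth.Agent.H49.isCohenMacaulayLocalRing_of_ringEquiv (e1.trans e2).symm h
  refine ⟨Groth.Agent.H29.ComplCat.isCM_of_quotient_regular (LQ I P) x' hx' hreg' hcm, ?_⟩
  have hdim := ringKrullDim_quotient_span_singleton_succ_eq_ringKrullDim hreg' hx'
  unfold dimAt
  rw [← hdim, ringKrullDim_eq_of_ringEquiv (e1.trans e2)]

end basic

section localization

/-- a localisation of a Cohen–Macaulay ring is Cohen–Macaulay. -/
theorem isCohenMacaulayRing_of_isLocalization {R : Type u} [CommRing R] (M : Submonoid R)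
    (T : Type u) [CommRing T] [Algebra R T] [IsLocalization M T]
    (hR : LocCoh.IsCohenMacaulayRing R) : LocCoh.IsCohenMacaulayRing T := by
  have hN : IsNoetherianRing R := hR.toIsNoetherian
  have hNT : IsNoetherianRing T := IsLocalization.isNoetherianRing M T hN
  refine { isCohenMacaulayLocalRing_localization := ?_ }
  intro q hq
  have hp : (q.comap (algebraMap R T)).IsPrime := Ideal.comap_isPrime _ q
  have hloc : IsLocalization.AtPrime (Localization.AtPrime q) (q.comap (algebraMap R T)) :=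
    IsLocalization.isLocalization_isLocalization_atPrime_isLocalization M (Localization.AtPrime q) q
  let e := IsLocalization.algEquiv (q.comap (algebraMap R T)).primeCompl
    (Localization.AtPrime (q.comap (algebraMap R T))) (Localization.AtPrime q)
  exact Groth.Agent.H49.isCohenMacaulayLocalRing_of_ringEquiv e.toRingEquiv
    (hR.isCohenMacaulayLocalRing_localization _)

variable {S : Type u} [CommRing S] [IsNoetherianRing S]

/-- if `(S/I)[1/x]` is Cohen–Macaulay then `S/I` is Cohen–Macaulay at the primes not containing `x`. -/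
theorem cmAt_of_away (I : Ideal S) (x : S) (T : Type u) [CommRing T] [Algebra (S ⧸ I) T]
    [IsLocalization.Away (Ideal.Quotient.mk I x) T] (hT : LocCoh.IsCohenMacaulayRing T)
    (P : Ideal S) [hP : P.IsPrime] (hIP : I ≤ P) (hxP : x ∉ P) : CMat I P := by
  have hker : RingHom.ker (Ideal.Quotient.mk I) ≤ P := by rw [Ideal.mk_ker]; exact hIP
  set p := P.map (Ideal.Quotient.mk I) with hp
  have hpprime : p.IsPrime := Ideal.map_isPrime_of_surjective Ideal.Quotient.mk_surjective hker
  have hcomap : p.comap (Ideal.Quotient.mk I) = P := by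
    rw [hp, Ideal.comap_map_of_surjective _ Ideal.Quotient.mk_surjective, ← RingHom.ker_eq_comap_bot,
      sup_eq_left.mpr hker]
  have hxp : Ideal.Quotient.mk I x ∉ p := by
    intro h
    have : x ∈ p.comap (Ideal.Quotient.mk I) := h
    rw [hcomap] at this
    exact hxP this
  have hdisj : Disjoint (Submonoid.powers (Ideal.Quotient.mk I x) : Set (S ⧸ I)) (p : Set (S ⧸ I)) := by
    rw [Set.disjoint_left]
    rintro _ ⟨k, rfl⟩ hk
    exact hxp (hpprime.mem_of_pow_mem k hk)
  set q := p.map (algebraMap (S ⧸ I) T) with hq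
  have hqprime : q.IsPrime :=
    IsLocalization.isPrime_of_isPrime_disjoint (Submonoid.powers (Ideal.Quotient.mk I x)) T p
      hpprime hdisj
  have hqcomap : q.comap (algebraMap (S ⧸ I) T) = p :=
    IsLocalization.under_map_of_isPrime_disjoint (Submonoid.powers (Ideal.Quotient.mk I x)) T
      hpprime hdisj
  have hp' : (q.comap (algebraMap (S ⧸ I) T)).IsPrime := Ideal.comap_isPrime _ q
  have hloc : IsLocalization.AtPrime (Localization.AtPrime q) (q.comap (algebraMap (S ⧸ I) T)) :=
    IsLocalization.isLocalization_isLocalization_atPrime_isLocalization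
      (Submonoid.powers (Ideal.Quotient.mk I x)) (Localization.AtPrime q) q
  let e1 := IsLocalization.algEquiv (q.comap (algebraMap (S ⧸ I) T)).primeCompl
    (Localization.AtPrime (q.comap (algebraMap (S ⧸ I) T))) (Localization.AtPrime q)
  have hcm1 : LocCoh.IsCohenMacaulayLocalRing
      (Localization.AtPrime (q.comap (algebraMap (S ⧸ I) T))) :=
    Groth.Agent.H49.isCohenMacaulayLocalRing_of_ringEquiv e1.toRingEquiv.symm
      (hT.isCohenMacaulayLocalRing_localization q)
  obtain ⟨e2⟩ := Groth.Agent.H81.LiaisonCM.nonempty_ringEquiv_localization_quotient S I P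
    (q.comap (algebraMap (S ⧸ I) T)) (by rw [hqcomap, hcomap])
  exact Groth.Agent.H49.isCohenMacaulayLocalRing_of_ringEquiv e2 hcm1

/-- a zero-dimensional quotient is Cohen–Macaulay at every prime. -/
theorem cmAt_of_ringKrullDim_le_zero (I : Ideal S) (P : Ideal S) [hP : P.IsPrime] (hIP : I ≤ P)
    (h0 : ringKrullDim (S ⧸ I) ≤ 0) : CMat I P := by
  have hker : RingHom.ker (Ideal.Quotient.mk I) ≤ P := by rw [Ideal.mk_ker]; exact hIP
  have hQ : (P.map (Ideal.Quotient.mk I)).IsPrime :=
    Ideal.map_isPrime_of_surjective Ideal.Quotient.mk_surjective hker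
  have hcomap : (P.map (Ideal.Quotient.mk I)).comap (Ideal.Quotient.mk I) = P := by
    rw [Ideal.comap_map_of_surjective _ Ideal.Quotient.mk_surjective, ← RingHom.ker_eq_comap_bot,
      sup_eq_left.mpr hker]
  obtain ⟨e⟩ := Groth.Agent.H81.LiaisonCM.nonempty_ringEquiv_localization_quotient S I P
    (P.map (Ideal.Quotient.mk I)) hcomap
  have hl : IsLocalRing (LQ I P) := isLocalRing_LQ I P hIP
  have h1 : ringKrullDim (LQ I P) ≤ 0 := by
    rw [← ringKrullDim_eq_of_ringEquiv e,
      IsLocalization.AtPrime.ringKrullDim_eq_height (P.map (Ideal.Quotient.mk I))]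
    exact le_trans Ideal.height_le_ringKrullDim_of_isPrime h0
  have h2 : (0 : WithBot ℕ∞) ≤ ringKrullDim (LQ I P) := ringKrullDim_nonneg_of_nontrivial
  exact Groth.Agent.H72.FlatCM.isCohenMacaulayLocalRing_of_ringKrullDim_eq_zero (LQ I P)
    (le_antisymm h1 h2)

end localization

end Groth.Agent.H59.CMAt
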