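import Mathlib
import Groth.Agent.H59.CMAt
import Groth.Agent.H72.DepthFlat

/-!
# Quotients of Cohen–Macaulay rings by regular elements are Cohen–Macaulay
-/

set_option autoImplicit false
set_option linter.unusedSectionVars false

universe u

namespace Groth.Agent.H59.CMHyperFwd

open Groth.Agent.H59.CMGlue Groth.Agent.H59.CMAt IsLocalRing Pointwise

/-- If `x` is a regular element of the maximal ideal of a Cohen–Macaulay local ring `A`, then
`A/(x)` is Cohen–Macaulay. -/
theorem isCM_quotient_regular (A : Type u) [CommRing A] [IsNoetherianRing A] [IsLocalRing A]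
    (x : A) (hx : x ∈ maximalIdeal A) (hreg : IsSMulRegular A x)
    (h : LocCoh.IsCohenMacaulayLocalRing A) :
    LocCoh.IsCohenMacaulayLocalRing (A ⧸ Ideal.span {x}) := by
  have hne : Ideal.span {x} ≠ ⊤ := by
    intro htop
    have : Ideal.span {x} ≤ maximalIdeal A := (Ideal.span_singleton_le_iff_mem _).mpr hx
    rw [htop] at this
    exact (maximalIdeal.isMaximal A).ne_top (top_le_iff.mp this)
  have hloc : IsLocalRing (A ⧸ Ideal.span {x}) := isLocalRing_quotient _ hne
  rw [Groth.Agent.H72.FlatCM.isCohenMacaulayLocalRing_iff] at h ⊢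
  have hdim := ringKrullDim_quotient_span_singleton_succ_eq_ringKrullDim hreg hx
  have hdep := Groth.Agent.H72.DepthFlat.idealDepth_quotSMulTop_add_one (maximalIdeal A) A x hx hreg
  have hspan : x • (⊤ : Submodule A A) = Ideal.span {x} := by
    simp [← Submodule.ideal_span_singleton_smul]
  have e : QuotSMulTop x A ≃ₗ[A] (A ⧸ Ideal.span {x}) := Submodule.quotEquivOfEq _ _ hspan
  have h1 : LocCoh.idealDepth (maximalIdeal A) (QuotSMulTop x A) =
      LocCoh.depth (A ⧸ Ideal.span {x}) (A ⧸ Ideal.span {x}) := by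
    rw [Groth.Agent.H15.idealDepth_congr e (maximalIdeal A)]
    exact Groth.Agent.H72.FlatCM.depth_quotient_eq (Ideal.span {x}) hne
  rw [h1] at hdep
  have h2 : ringKrullDim A = ((LocCoh.depth (A ⧸ Ideal.span {x}) (A ⧸ Ideal.span {x}) : ℕ∞) : WithBot ℕ∞) + 1 := by
    rw [h]
    show ((LocCoh.idealDepth (maximalIdeal A) A : ℕ∞) : WithBot ℕ∞) = _
    rw [← hdep]
    push_cast
    rfl
  rw [← hdim] at h2
  obtain ⟨e', he'⟩ := Groth.Agent.H72.FlatCM.exists_ringKrullDim_eq_natCast (A ⧸ Ideal.span {x})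
  rw [he'] at h2 ⊢
  have h3 : ((e' : ℕ∞) : WithBot ℕ∞) + 1 = ((LocCoh.depth (A ⧸ Ideal.span {x}) (A ⧸ Ideal.span {x}) : ℕ∞) : WithBot ℕ∞) + 1 := by
    exact_mod_cast h2
  have h4 : ((e' : ℕ∞) + 1 : ℕ∞) = LocCoh.depth (A ⧸ Ideal.span {x}) (A ⧸ Ideal.span {x}) + 1 := by
    exact_mod_cast h3
  have h5 : (e' : ℕ∞) = LocCoh.depth (A ⧸ Ideal.span {x}) (A ⧸ Ideal.span {x}) :=
    ENat.add_left_injective_of_ne_top ENat.one_ne_top h4
  exact_mod_cast congrArg (fun z : ℕ∞ => (z : WithBot ℕ∞)) h5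

section atPrime

variable {S : Type u} [CommRing S] [IsNoetherianRing S]

/-- the forward hyperplane section principle at a prime. -/
theorem cmAt_sup_span (I P : Ideal S) [P.IsPrime] (x : S) (hIP : I ≤ P) (hxP : x ∈ P)
    (hreg : ∀ s : S, x * s ∈ I → s ∈ I) (h : CMat I P) :
    CMat (I ⊔ Ideal.span {x}) P := by
  set R := Localization.AtPrime P with hR
  set f := algebraMap S R with hf
  set Ie := I.map f with hIe
  have hlA : IsLocalRing (LQ I P) := isLocalRing_LQ I P hIP
  set x' : LQ I P := Ideal.Quotient.mk Ie (f x) with hx'def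
  have hx' : x' ∈ IsLocalRing.maximalIdeal (LQ I P) := by
    rw [← Groth.Agent.H72.FlatCM.map_mk_maximalIdeal Ie ((map_ne_top_iff I P).mpr hIP)]
    apply Ideal.mem_map_of_mem
    exact (IsLocalization.AtPrime.to_map_mem_maximal_iff R P x).mpr hxP
  have hreg' : IsSMulRegular (LQ I P) x' := isSMulRegular_LQ I P x hreg
  have hmap : (I ⊔ Ideal.span {x}).map f = Ie ⊔ Ideal.span {f x} := by
    rw [Ideal.map_sup, Ideal.map_span, Set.image_singleton]
  have hspan : (Ideal.span {f x}).map (Ideal.Quotient.mk Ie) = Ideal.span {x'} := by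
    rw [Ideal.map_span, Set.image_singleton]
  let e1 : (LQ I P ⧸ Ideal.span {x'}) ≃+* (R ⧸ (Ie ⊔ Ideal.span {f x})) :=
    (Ideal.quotEquivOfEq hspan.symm).trans (DoubleQuot.quotQuotEquivQuotSup Ie (Ideal.span {f x}))
  let e2 : (R ⧸ (Ie ⊔ Ideal.span {f x})) ≃+* LQ (I ⊔ Ideal.span {x}) P :=
    Ideal.quotEquivOfEq hmap.symm
  have hcm : LocCoh.IsCohenMacaulayLocalRing (LQ I P ⧸ Ideal.span {x'}) :=
    isCM_quotient_regular (LQ I P) x' hx' hreg' h
  exact Groth.Agent.H49.isCohenMacaulayLocalRing_of_ringEquiv (e1.trans e2) hcm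

/-- a Cohen–Macaulay quotient modulo a regular element is Cohen–Macaulay. -/
theorem isCohenMacaulayRing_quotient_sup_span (I : Ideal S) (x : S)
    (hreg : ∀ s : S, x * s ∈ I → s ∈ I) (h : LocCoh.IsCohenMacaulayRing (S ⧸ I)) :
    LocCoh.IsCohenMacaulayRing (S ⧸ (I ⊔ Ideal.span {x})) := by
  apply isCohenMacaulayRing_quotient
  intro P hP hle
  have hIP : I ≤ P := le_trans le_sup_left hle
  have hxP : x ∈ P := hle (Ideal.mem_sup_right (Ideal.subset_span rfl))
  exact cmAt_sup_span I P x hIP hxP hreg (cmAt_of_isCohenMacaulayRing I h P hIP)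

end atPrime

/-- Cohen–Macaulayness of a ring is invariant under ring isomorphisms. -/
theorem isCohenMacaulayRing_of_ringEquiv {R S : Type u} [CommRing R] [CommRing S] (e : R ≃+* S)
    (h : LocCoh.IsCohenMacaulayRing R) : LocCoh.IsCohenMacaulayRing S := by
  haveI : IsNoetherianRing R := h.toIsNoetherian
  haveI : IsNoetherianRing S := isNoetherianRing_of_ringEquiv R e
  refine ⟨fun q hq => ?_⟩
  let e' : Localization.AtPrime (q.comap e) ≃+* Localization.AtPrime q :=
    IsLocalization.ringEquivOfRingEquiv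
      (Localization.AtPrime (q.comap e)) (Localization.AtPrime q) e (e.map_primeCompl_comap_eq q)
  exact Groth.Agent.H49.isCohenMacaulayLocalRing_of_ringEquiv e'
    (h.isCohenMacaulayLocalRing_localization (q.comap e))

end Groth.Agent.H59.CMHyperFwd
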