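import Mathlib

/-!
# Straightening in a Hibi ring

For a partially ordered set `L` with two binary operations `sp`, `ip` such that
`b ≤ sp a b`, `sp a b` is below every common upper bound and `ip a b ≤ b`, and an ideal `I` of the
polynomial ring on `L` containing all `X a X b - X (sp a b) X (ip a b)`: every monomial is congruent
modulo `I` to the monomial of a chain.
-/

set_option autoImplicit false

namespace Groth.Agent.H59.Hibi

open MvPolynomial

variable {L : Type*} [PartialOrder L] (sp ip : L → L → L)
  (hsp2 : ∀ a b, b ≤ sp a b)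
  (hsp3 : ∀ a b u, a ≤ u → b ≤ u → sp a b ≤ u) (hip2 : ∀ a b, ip a b ≤ b)
  (K : Type*) [CommRing K] (I : Ideal (MvPolynomial L K))
  (hI : ∀ a b, X a * X b - X (sp a b) * X (ip a b) ∈ I)

/-- the monomial of a tuple. -/
noncomputable def mon {m : ℕ} (c : Fin m → L) : MvPolynomial L K := ∏ k, X (c k)

omit [PartialOrder L] in
theorem mon_cons {m : ℕ} (τ : L) (c : Fin m → L) :
    mon K (Fin.cons τ c : Fin (m + 1) → L) = X τ * mon K c := by
  unfold mon
  rw [Fin.prod_univ_succ]
  simp

theorem antitone_cons {m : ℕ} (τ : L) (c : Fin m → L) (hc : Antitone c) (h : ∀ k, c k ≤ τ) :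
    Antitone (Fin.cons τ c : Fin (m + 1) → L) := by
  intro a b hab
  induction a using Fin.cases with
  | zero =>
    induction b using Fin.cases with
    | zero => exact le_refl _
    | succ b =>
      rw [Fin.cons_zero, Fin.cons_succ]
      exact h b
  | succ a =>
    induction b using Fin.cases with
    | zero => exact absurd hab (by simp)
    | succ b =>
      rw [Fin.cons_succ, Fin.cons_succ]
      exact hc (Fin.succ_le_succ_iff.mp hab)

include hsp2 hsp3 hip2 hI in
theorem insert_chain (m : ℕ) : ∀ (τ : L) (c : Fin m → L), Antitone c →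
    ∃ c' : Fin (m + 1) → L, Antitone c' ∧
      Ideal.Quotient.mk I (X τ * mon K c) = Ideal.Quotient.mk I (mon K c') ∧
      ∀ u, τ ≤ u → (∀ k, c k ≤ u) → ∀ k, c' k ≤ u := by
  induction m with
  | zero =>
    intro τ c hc
    refine ⟨Fin.cons τ c, antitone_cons τ c hc (fun k => k.elim0), by rw [mon_cons], ?_⟩
    intro u hu _ k
    induction k using Fin.cases with
    | zero => rw [Fin.cons_zero]; exact hu
    | succ k => exact k.elim0
  | succ m ih =>
    intro τ c hc
    have hsplit : mon K c = X (c 0) * mon K (Fin.tail c) := by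
      unfold mon
      rw [Fin.prod_univ_succ]
      rfl
    have htail : Antitone (Fin.tail c) := fun a b hab => hc (Fin.succ_le_succ_iff.mpr hab)
    obtain ⟨c'', hc'', heq, hbound⟩ := ih (ip τ (c 0)) (Fin.tail c) htail
    have hle0 : ∀ k, c'' k ≤ c 0 := by
      apply hbound (c 0) (hip2 τ (c 0))
      intro k
      exact hc (Fin.zero_le _)
    refine ⟨Fin.cons (sp τ (c 0)) c'', ?_, ?_, ?_⟩
    · apply antitone_cons _ _ hc''
      intro k
      exact le_trans (hle0 k) (hsp2 τ (c 0))
    · rw [mon_cons, hsplit, ← mul_assoc, map_mul, map_mul (Ideal.Quotient.mk I) (X (sp τ (c 0))),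
        ← heq, ← map_mul, ← map_mul, ← mul_assoc]
      rw [Ideal.Quotient.eq, ← sub_mul]
      exact Ideal.mul_mem_right _ _ (hI τ (c 0))
    · intro u hu hcu k
      induction k using Fin.cases with
      | zero =>
        rw [Fin.cons_zero]
        exact hsp3 τ (c 0) u hu (hcu 0)
      | succ k =>
        rw [Fin.cons_succ]
        exact le_trans (hle0 k) (hcu 0)

include hsp2 hsp3 hip2 hI in
theorem monomial_chain (m : ℕ) : ∀ g : Fin m → L, ∃ c : Fin m → L, Antitone c ∧
    Ideal.Quotient.mk I (mon K g) = Ideal.Quotient.mk I (mon K c) := by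
  induction m with
  | zero =>
    intro g
    exact ⟨g, fun a => a.elim0, rfl⟩
  | succ m ih =>
    intro g
    obtain ⟨c, hc, heq⟩ := ih (Fin.tail g)
    obtain ⟨c', hc', heq', -⟩ := insert_chain sp ip hsp2 hsp3 hip2 K I hI m (g 0) c hc
    refine ⟨c', hc', ?_⟩
    have hsplit : mon K g = X (g 0) * mon K (Fin.tail g) := by
      unfold mon
      rw [Fin.prod_univ_succ]
      rfl
    rw [hsplit, map_mul, heq, ← map_mul, heq']

include hsp2 hsp3 hip2 hI in
/-- the monomials of chains span the quotient. -/
theorem span_chains :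
    Submodule.span K (Set.range fun c : (Σ m : ℕ, {c : Fin m → L // Antitone c}) =>
      Ideal.Quotient.mk I (mon K c.2.1)) = ⊤ := by
  rw [eq_top_iff]
  rintro x -
  obtain ⟨f, rfl⟩ := Ideal.Quotient.mk_surjective x
  have key : ∀ (m : ℕ) (g : Fin m → L),
      Ideal.Quotient.mk I (f * mon K g) ∈
      Submodule.span K (Set.range fun c : (Σ m : ℕ, {c : Fin m → L // Antitone c}) =>
        Ideal.Quotient.mk I (mon K c.2.1)) := by
    induction f using MvPolynomial.induction_on with
    | C a =>
      intro m g
      have h2 : Ideal.Quotient.mk I (C a * mon K g) = a • Ideal.Quotient.mk I (mon K g) := by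
        rw [← smul_eq_C_mul]
        exact map_smul (Ideal.Quotient.mkₐ K I) _ _
      rw [h2]
      obtain ⟨c, hc, heq⟩ := monomial_chain sp ip hsp2 hsp3 hip2 K I hI m g
      rw [heq]
      exact Submodule.smul_mem _ _ (Submodule.subset_span ⟨⟨m, c, hc⟩, rfl⟩)
    | add p q hp hq =>
      intro m g
      rw [add_mul, map_add]
      exact Submodule.add_mem _ (hp m g) (hq m g)
    | mul_X p θ hp =>
      intro m g
      rw [mul_assoc, ← mon_cons]
      exact hp (m + 1) _
  have := key 0 (fun a => a.elim0)
  have h1 : mon K (fun a : Fin 0 => a.elim0 : Fin 0 → L) = 1 := by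
    unfold mon
    simp
  rwa [h1, mul_one] at this

end Groth.Agent.H59.Hibi
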