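import Mathlib

/-!
# The Rees algebra of a filtration given by a weighted basis

`A` a commutative `K`-algebra with a `K`-basis `b` and weights `ω` on the index set such that
`F i = span {b c | ω c ≤ i}` is a multiplicative filtration.  The Rees algebra
`R = {p ∈ A[X] | coeff p i ∈ F i}` is free over `K[X]`, its fibre at `c ≠ 0` is `A`, and the
classes of `b c X ^ ω c` form a `K`-basis of the fibre at `0`.
-/

set_option autoImplicit false

namespace Groth.Agent.H59.Rees

open Polynomial

section machine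

variable {K : Type*} [Field K] {A : Type*} [CommRing A] [Algebra K A] {C : Type*}
  (b : Module.Basis C K A) (ω : C → ℕ)

/-- the filtration attached to a weighted basis. -/
def F (i : ℕ) : Submodule K A := Submodule.span K (b '' {c | ω c ≤ i})

theorem mem_F_iff (i : ℕ) (a : A) : a ∈ F b ω i ↔ ∀ c, b.repr a c ≠ 0 → ω c ≤ i := by
  unfold F
  rw [Module.Basis.mem_span_image]
  constructor
  · intro h c hc
    exact h (Finsupp.mem_support_iff.mpr hc)
  · intro h c hc
    exact h c (Finsupp.mem_support_iff.mp hc)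

theorem F_mono {i j : ℕ} (h : i ≤ j) : F b ω i ≤ F b ω j := by
  apply Submodule.span_mono
  apply Set.image_mono
  intro c hc
  exact le_trans hc h

theorem basis_mem_F (c : C) : b c ∈ F b ω (ω c) :=
  Submodule.subset_span ⟨c, (le_refl (ω c) : ω c ≤ ω c), rfl⟩

/-- the hypotheses making `F` a multiplicative filtration. -/
structure Adapted : Prop where
  one_mem : (1 : A) ∈ F b ω 0
  mul_mem : ∀ c c', b c * b c' ∈ F b ω (ω c + ω c')

variable {b ω}

theorem Adapted.mul_mem_F (h : Adapted b ω) {i j : ℕ} {a a' : A} (ha : a ∈ F b ω i)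
    (ha' : a' ∈ F b ω j) : a * a' ∈ F b ω (i + j) := by
  have hle : F b ω i * F b ω j ≤ F b ω (i + j) := by
    unfold F
    rw [Submodule.span_mul_span, Submodule.span_le]
    rintro x ⟨y, ⟨c, hc, rfl⟩, z, ⟨c', hc', rfl⟩, rfl⟩
    exact F_mono b ω (Nat.add_le_add hc hc') (h.mul_mem c c')
  exact hle (Submodule.mul_mem_mul ha ha')

/-- the Rees algebra. -/
def rees (h : Adapted b ω) : Subalgebra K A[X] where
  carrier := {p | ∀ i, p.coeff i ∈ F b ω i}
  mul_mem' := by
    intro p q hp hq i
    rw [coeff_mul]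
    apply Submodule.sum_mem
    rintro ⟨k, l⟩ hkl
    have hkl' : k + l = i := Finset.HasAntidiagonal.mem_antidiagonal.mp hkl
    rw [← hkl']
    exact h.mul_mem_F (hp k) (hq l)
  add_mem' := by
    intro p q hp hq i
    rw [coeff_add]
    exact Submodule.add_mem _ (hp i) (hq i)
  algebraMap_mem' := by
    intro r i
    rw [Polynomial.algebraMap_apply, coeff_C]
    by_cases hi : i = 0
    · rw [if_pos hi, Algebra.algebraMap_eq_smul_one]
      exact Submodule.smul_mem _ _ (F_mono b ω (Nat.zero_le _) h.one_mem)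
    · rw [if_neg hi]
      exact zero_mem _

theorem mem_rees (h : Adapted b ω) (p : A[X]) : p ∈ rees h ↔ ∀ i, p.coeff i ∈ F b ω i := Iff.rfl

/-- the element `a X ^ i` of the Rees algebra, for `a ∈ F i`. -/
noncomputable def elt (h : Adapted b ω) (i : ℕ) (a : A) (ha : a ∈ F b ω i) : rees h :=
  ⟨monomial i a, by
    intro j
    rw [coeff_monomial]
    by_cases hij : i = j
    · rw [if_pos hij, ← hij]
      exact ha
    · rw [if_neg hij]
      exact zero_mem _⟩

@[simp] theorem elt_val (h : Adapted b ω) (i : ℕ) (a : A) (ha : a ∈ F b ω i) :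
    ((elt h i a ha : rees h) : A[X]) = monomial i a := rfl

/-- the variable as an element of the Rees algebra. -/
noncomputable def Xel (h : Adapted b ω) : rees h := elt h 1 1 (F_mono b ω (Nat.zero_le _) h.one_mem)

theorem Xel_val (h : Adapted b ω) : ((Xel h : rees h) : A[X]) = X := by
  show monomial 1 (1 : A) = X
  rw [monomial_one_one_eq_X]

/-- the structure of `K[X]`-algebra. -/
noncomputable instance instAlgebra (h : Adapted b ω) : Algebra K[X] (rees h) :=
  (Polynomial.aeval (Xel h) : K[X] →ₐ[K] rees h).toRingHom.toAlgebra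

theorem algebraMap_eq (h : Adapted b ω) (p : K[X]) :
    algebraMap K[X] (rees h) p = Polynomial.aeval (Xel h) p := rfl

theorem algebraMap_val (h : Adapted b ω) (p : K[X]) :
    ((algebraMap K[X] (rees h) p : rees h) : A[X]) = p.map (algebraMap K A) := by
  rw [algebraMap_eq]
  have h1 : ((Polynomial.aeval (Xel h) p : rees h) : A[X])
      = Polynomial.aeval ((Xel h : rees h) : A[X]) p := by
    have := Polynomial.aeval_algHom_apply (rees h).val (Xel h) p
    exact this.symm
  rw [h1, Xel_val]
  exact Polynomial.mapAlg_eq_map (R := K) A p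

instance instTower (h : Adapted b ω) : IsScalarTower K K[X] (rees h) :=
  IsScalarTower.of_algebraMap_eq fun r => by
    rw [algebraMap_eq, Polynomial.algebraMap_apply, Algebra.algebraMap_self, RingHom.id_apply,
      Polynomial.aeval_C]

/-- the basis elements `b c X ^ ω c`. -/
noncomputable def β (h : Adapted b ω) (c : C) : rees h :=
  elt h (ω c) (b c) (basis_mem_F b ω c)

/-- the comparison map from the free module. -/
noncomputable def Φ (h : Adapted b ω) : (C →₀ K[X]) →ₗ[K[X]] rees h :=
  Finsupp.linearCombination K[X] (β h)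

theorem smul_val (h : Adapted b ω) (p : K[X]) (r : rees h) :
    ((p • r : rees h) : A[X]) = p.map (algebraMap K A) * (r : A[X]) := by
  rw [Algebra.smul_def, MulMemClass.coe_mul, algebraMap_val]

theorem coeff_map_mul_monomial (q : K[X]) (n : ℕ) (a : A) (i : ℕ) :
    (q.map (algebraMap K A) * monomial n a).coeff i
      = if n ≤ i then q.coeff (i - n) • a else 0 := by
  rw [← C_mul_X_pow_eq_monomial, ← mul_assoc, coeff_mul_X_pow']
  by_cases hni : n ≤ i
  · rw [if_pos hni, if_pos hni, coeff_mul_C, coeff_map, Algebra.smul_def]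
  · rw [if_neg hni, if_neg hni]

theorem repr_coeff_Φ (h : Adapted b ω) (l : C →₀ K[X]) (c : C) (j : ℕ) :
    b.repr (((Φ h l : rees h) : A[X]).coeff (j + ω c)) c = (l c).coeff j := by
  classical
  induction l using Finsupp.induction_linear with
  | zero => simp
  | add l₁ l₂ h₁ h₂ =>
    rw [map_add, AddMemClass.coe_add, coeff_add, map_add, Finsupp.add_apply, h₁, h₂,
      Finsupp.add_apply, coeff_add]
  | single c' q =>
    have e : Φ h (Finsupp.single c' q) = q • β h c' := by
      unfold Φ
      rw [Finsupp.linearCombination_single]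
    rw [e, smul_val]
    show b.repr ((q.map (algebraMap K A) * monomial (ω c') (b c')).coeff (j + ω c)) c = _
    rw [coeff_map_mul_monomial]
    by_cases hcc : c' = c
    · subst hcc
      rw [if_pos (Nat.le_add_left _ _), Nat.add_sub_cancel, map_smul, Module.Basis.repr_self,
        Finsupp.smul_apply, Finsupp.single_eq_same, Finsupp.single_eq_same, smul_eq_mul, mul_one]
    · rw [Finsupp.single_eq_of_ne (Ne.symm hcc), coeff_zero]
      by_cases hle : ω c' ≤ j + ω c
      · rw [if_pos hle, map_smul, Module.Basis.repr_self, Finsupp.smul_apply,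
          Finsupp.single_eq_of_ne (Ne.symm hcc), smul_zero]
      · rw [if_neg hle, map_zero, Finsupp.zero_apply]

theorem Φ_injective (h : Adapted b ω) : Function.Injective (Φ h) := by
  rw [← LinearMap.ker_eq_bot, LinearMap.ker_eq_bot']
  intro l hl
  ext c j
  rw [← repr_coeff_Φ h l c j, hl]
  simp

theorem monomial_mem_range (h : Adapted b ω) (i : ℕ) (a : A) (ha : a ∈ F b ω i) :
    ∃ l, ((Φ h l : rees h) : A[X]) = monomial i a := by
  unfold F at ha
  induction ha using Submodule.span_induction with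
  | mem x hx =>
    obtain ⟨c, hc, rfl⟩ := hx
    refine ⟨Finsupp.single c (X ^ (i - ω c)), ?_⟩
    have e : Φ h (Finsupp.single c (X ^ (i - ω c))) = (X ^ (i - ω c) : K[X]) • β h c := by
      unfold Φ
      rw [Finsupp.linearCombination_single]
    rw [e, smul_val]
    show (X ^ (i - ω c) : K[X]).map (algebraMap K A) * monomial (ω c) (b c) = _
    have hc' : ω c ≤ i := hc
    rw [Polynomial.map_pow, map_X, X_pow_mul_monomial, Nat.add_sub_cancel' hc']
  | zero => exact ⟨0, by simp⟩
  | add x y _ _ hx hy =>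
    obtain ⟨l₁, h₁⟩ := hx
    obtain ⟨l₂, h₂⟩ := hy
    refine ⟨l₁ + l₂, ?_⟩
    rw [map_add, AddMemClass.coe_add, h₁, h₂, map_add]
  | smul k x _ hx =>
    obtain ⟨l₁, h₁⟩ := hx
    refine ⟨(Polynomial.C k : K[X]) • l₁, ?_⟩
    rw [map_smul, smul_val, h₁, map_C, C_mul_monomial, Algebra.smul_def]

theorem Φ_surjective (h : Adapted b ω) : Function.Surjective (Φ h) := by
  rintro ⟨p, hp⟩
  suffices hs : ∃ l, ((Φ h l : rees h) : A[X]) = p by
    obtain ⟨l, hl⟩ := hs
    exact ⟨l, Subtype.ext hl⟩
  have key : ∀ (s : Finset ℕ), ∃ l, ((Φ h l : rees h) : A[X])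
      = ∑ i ∈ s, monomial i (p.coeff i) := by
    intro s
    classical
    induction s using Finset.induction_on with
    | empty => exact ⟨0, by simp⟩
    | insert i s hi ih =>
      obtain ⟨l₁, h₁⟩ := ih
      obtain ⟨l₂, h₂⟩ := monomial_mem_range h i (p.coeff i) (hp i)
      refine ⟨l₂ + l₁, ?_⟩
      rw [map_add, AddMemClass.coe_add, h₁, h₂, Finset.sum_insert hi]
  obtain ⟨l, hl⟩ := key p.support
  refine ⟨l, ?_⟩
  rw [hl]
  exact (Polynomial.as_sum_support p).symm

/-- the Rees algebra is free over `K[X]`. -/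
theorem free (h : Adapted b ω) : Module.Free K[X] (rees h) :=
  Module.Free.of_equiv (LinearEquiv.ofBijective (Φ h) ⟨Φ_injective h, Φ_surjective h⟩)

/-! ### the fibre at `c ≠ 0` -/

/-- evaluation at `c`. -/
noncomputable def ev (h : Adapted b ω) (c : K) : rees h →ₐ[K] A :=
  ((Polynomial.aeval (algebraMap K A c) : A[X] →ₐ[A] A).restrictScalars K).comp (rees h).val

theorem ev_apply (h : Adapted b ω) (c : K) (r : rees h) :
    ev h c r = ((r : rees h) : A[X]).eval (algebraMap K A c) := rfl

theorem ev_smul (h : Adapted b ω) (c : K) (p : K[X]) (r : rees h) :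
    ev h c (p • r) = p.eval c • ev h c r := by
  rw [ev_apply, ev_apply, smul_val, eval_mul, eval_map_algebraMap, aeval_algebraMap_apply,
    coe_aeval_eq_eval, Algebra.smul_def]

theorem ev_β (h : Adapted b ω) (c : K) (e : C) : ev h c (β h e) = c ^ ω e • b e := by
  rw [ev_apply]
  show (monomial (ω e) (b e)).eval (algebraMap K A c) = _
  rw [eval_monomial, ← map_pow, Algebra.smul_def, mul_comm]

theorem repr_ev_Φ (h : Adapted b ω) (c : K) (l : C →₀ K[X]) (e : C) :
    b.repr (ev h c (Φ h l)) e = (l e).eval c * c ^ ω e := by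
  classical
  induction l using Finsupp.induction_linear with
  | zero => simp
  | add l₁ l₂ h₁ h₂ =>
    rw [map_add, map_add, map_add, Finsupp.add_apply, h₁, h₂, Finsupp.add_apply, eval_add,
      add_mul]
  | single e' q =>
    have e1 : Φ h (Finsupp.single e' q) = q • β h e' := by
      unfold Φ
      rw [Finsupp.linearCombination_single]
    rw [e1, ev_smul, ev_β, map_smul, map_smul, Module.Basis.repr_self, Finsupp.smul_apply,
      Finsupp.smul_apply, smul_eq_mul, smul_eq_mul]
    by_cases hee : e' = e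
    · subst hee
      rw [Finsupp.single_eq_same, Finsupp.single_eq_same, mul_one]
    · rw [Finsupp.single_eq_of_ne (Ne.symm hee), Finsupp.single_eq_of_ne (Ne.symm hee), eval_zero,
        mul_zero, mul_zero, zero_mul]

theorem ev_surjective (h : Adapted b ω) (c : K) (hc : c ≠ 0) : Function.Surjective (ev h c) := by
  intro a
  have hle : (⊤ : Submodule K A) ≤ LinearMap.range (ev h c).toLinearMap := by
    rw [← b.span_eq, Submodule.span_le]
    rintro x ⟨e, rfl⟩
    refine ⟨(c⁻¹ ^ ω e) • β h e, ?_⟩
    show ev h c ((c⁻¹ ^ ω e) • β h e) = b e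
    rw [map_smul, ev_β, smul_smul, ← mul_pow, inv_mul_cancel₀ hc, one_pow, one_smul]
  obtain ⟨r, hr⟩ := hle (Submodule.mem_top (x := a))
  exact ⟨r, hr⟩

theorem ker_ev (h : Adapted b ω) (c : K) (hc : c ≠ 0) :
    RingHom.ker (ev h c) = Ideal.span {algebraMap K[X] (rees h) (X - Polynomial.C c)} := by
  apply le_antisymm
  · intro r hr
    obtain ⟨l, rfl⟩ := Φ_surjective h r
    rw [RingHom.mem_ker] at hr
    have h2 : ∀ e, (l e).IsRoot c := by
      intro e
      have h3 := repr_ev_Φ h c l e
      rw [hr, map_zero, Finsupp.zero_apply] at h3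
      rcases mul_eq_zero.mp h3.symm with h4 | h4
      · exact h4
      · exact absurd h4 (pow_ne_zero _ hc)
    set q : C →₀ K[X] := l.mapRange (fun p => p /ₘ (X - Polynomial.C c)) (zero_divByMonic _)
      with hq
    have hlq : l = (X - Polynomial.C c) • q := by
      ext1 e
      rw [Finsupp.smul_apply, hq, Finsupp.mapRange_apply, smul_eq_mul,
        mul_divByMonic_eq_iff_isRoot.mpr (h2 e)]
    rw [hlq, map_smul, Algebra.smul_def]
    exact Ideal.mul_mem_right _ _ (Ideal.subset_span rfl)
  · rw [Ideal.span_le]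
    rintro x hx
    rw [Set.mem_singleton_iff] at hx
    subst hx
    rw [SetLike.mem_coe, RingHom.mem_ker]
    show ev h c _ = 0
    rw [ev_apply, algebraMap_val]
    simp

/-- the fibre at `c ≠ 0` is `A`. -/
noncomputable def fibreEquiv (h : Adapted b ω) (c : K) (hc : c ≠ 0) :
    (rees h ⧸ Ideal.span {algebraMap K[X] (rees h) (X - Polynomial.C c)}) ≃ₐ[K] A :=
  (Ideal.quotientEquivAlgOfEq K (ker_ev h c hc).symm).trans
    (Ideal.quotientKerAlgEquivOfSurjective (ev_surjective h c hc))

/-! ### the fibre at `0` -/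

/-- the ideal of the fibre at `0`. -/
noncomputable def I₀ (h : Adapted b ω) : Ideal (rees h) :=
  Ideal.span {algebraMap K[X] (rees h) X}

theorem algebraMap_X (h : Adapted b ω) : algebraMap K[X] (rees h) X = Xel h := by
  rw [algebraMap_eq, aeval_X]

theorem elt_succ_mem (h : Adapted b ω) (i : ℕ) (a : A) (ha : a ∈ F b ω i) :
    elt h (i + 1) a (F_mono b ω (Nat.le_succ i) ha) ∈ I₀ h := by
  have e : elt h (i + 1) a (F_mono b ω (Nat.le_succ i) ha) = Xel h * elt h i a ha := by
    apply Subtype.ext
    rw [MulMemClass.coe_mul, Xel_val, elt_val, elt_val, X_mul_monomial]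
  rw [e, ← algebraMap_X]
  exact Ideal.mul_mem_right _ _ (Ideal.subset_span rfl)

theorem mk_smul (h : Adapted b ω) (p : K[X]) (r : rees h) :
    Ideal.Quotient.mk (I₀ h) (p • r) = p.coeff 0 • Ideal.Quotient.mk (I₀ h) r := by
  have hp : p = Polynomial.C (p.coeff 0) + X * p.divX := by
    conv_lhs => rw [← Polynomial.divX_mul_X_add p]
    ring
  have h1 : p • r = (p.coeff 0) • r + algebraMap K[X] (rees h) X * (p.divX • r) := by
    conv_lhs => rw [hp]
    rw [add_smul, mul_smul, ← Algebra.smul_def, Polynomial.C_eq_algebraMap, algebraMap_smul]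
  have h0 : Ideal.Quotient.mk (I₀ h) (algebraMap K[X] (rees h) X) = 0 :=
    Ideal.Quotient.eq_zero_iff_mem.mpr (Ideal.subset_span rfl)
  rw [h1, map_add, map_mul, h0, zero_mul, add_zero]
  exact map_smul (Ideal.Quotient.mkₐ K (I₀ h)) _ _

/-- the classes of the basis elements in the fibre at `0`. -/
noncomputable def β₀ (h : Adapted b ω) (c : C) : rees h ⧸ I₀ h := Ideal.Quotient.mk (I₀ h) (β h c)

theorem span_β₀ (h : Adapted b ω) : Submodule.span K (Set.range (β₀ h)) = ⊤ := by
  classical
  rw [eq_top_iff]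
  rintro x -
  obtain ⟨r, rfl⟩ := Ideal.Quotient.mk_surjective x
  obtain ⟨l, rfl⟩ := Φ_surjective h r
  unfold Φ
  rw [Finsupp.linearCombination_apply, Finsupp.sum, map_sum]
  apply Submodule.sum_mem
  intro c _
  rw [mk_smul]
  exact Submodule.smul_mem _ _ (Submodule.subset_span ⟨c, rfl⟩)

theorem linearIndependent_β₀ (h : Adapted b ω) : LinearIndependent K (β₀ h) := by
  classical
  rw [linearIndependent_iff']
  intro s g hsum e₀ he₀
  have hmem : ∑ e ∈ s, g e • β h e ∈ I₀ h := by
    rw [← Ideal.Quotient.eq_zero_iff_mem, map_sum, ← hsum]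
    refine Finset.sum_congr rfl fun e _ => ?_
    exact map_smul (Ideal.Quotient.mkₐ K (I₀ h)) _ _
  unfold I₀ at hmem
  rw [Ideal.mem_span_singleton'] at hmem
  obtain ⟨r', hr'⟩ := hmem
  have hval : ((∑ e ∈ s, g e • β h e : rees h) : A[X]) = ((r' : rees h) : A[X]) * X := by
    rw [← hr', MulMemClass.coe_mul, algebraMap_X, Xel_val]
  have hcoef : b.repr ((((∑ e ∈ s, g e • β h e : rees h) : A[X])).coeff (ω e₀)) e₀ = g e₀ := by
    have e1 : ((∑ e ∈ s, g e • β h e : rees h) : A[X])
        = ∑ e ∈ s, g e • monomial (ω e) (b e) := by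
      rw [AddSubmonoidClass.coe_finsetSum]
      rfl
    rw [e1, finsetSum_coeff, map_sum, Finsupp.finsetSum_apply, Finset.sum_eq_single e₀]
    · rw [coeff_smul, coeff_monomial, if_pos rfl, map_smul, Module.Basis.repr_self,
        Finsupp.smul_apply, Finsupp.single_eq_same, smul_eq_mul, mul_one]
    · intro e _ hne
      rw [coeff_smul, coeff_monomial]
      by_cases hω : ω e = ω e₀
      · rw [if_pos hω, map_smul, Module.Basis.repr_self, Finsupp.smul_apply,
          Finsupp.single_eq_of_ne (Ne.symm hne), smul_zero]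
      · rw [if_neg hω, smul_zero, map_zero, Finsupp.zero_apply]
    · intro hn
      exact absurd he₀ hn
  rw [hval] at hcoef
  rw [← hcoef]
  cases hω : ω e₀ with
  | zero => rw [coeff_mul_X_zero, map_zero, Finsupp.zero_apply]
  | succ j =>
    rw [coeff_mul_X]
    by_contra hne
    have := (mem_F_iff b ω j _).mp (r'.2 j) e₀ hne
    omega

/-! ### computing with the elements `elt` -/

theorem elt_mul (h : Adapted b ω) (i j : ℕ) (a a' : A) (ha : a ∈ F b ω i) (ha' : a' ∈ F b ω j) :
    elt h i a ha * elt h j a' ha' = elt h (i + j) (a * a') (h.mul_mem_F ha ha') := by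
  apply Subtype.ext
  rw [MulMemClass.coe_mul, elt_val, elt_val, elt_val, monomial_mul_monomial]

theorem elt_sub (h : Adapted b ω) (i : ℕ) (a a' : A) (ha : a ∈ F b ω i) (ha' : a' ∈ F b ω i) :
    elt h i a ha - elt h i a' ha' = elt h i (a - a') (Submodule.sub_mem _ ha ha') := by
  apply Subtype.ext
  rw [AddSubgroupClass.coe_sub, elt_val, elt_val, elt_val, map_sub]

theorem elt_congr (h : Adapted b ω) {i j : ℕ} {a a' : A} (hij : i = j) (haa : a = a')
    (ha : a ∈ F b ω i) (ha' : a' ∈ F b ω j) : elt h i a ha = elt h j a' ha' := by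
  subst hij
  subst haa
  rfl

theorem mk_elt_eq_zero_of_lt (h : Adapted b ω) {i j : ℕ} (hij : j < i) (a : A)
    (ha : a ∈ F b ω j) :
    Ideal.Quotient.mk (I₀ h) (elt h i a (F_mono b ω (le_of_lt hij) ha)) = 0 := by
  rw [Ideal.Quotient.eq_zero_iff_mem]
  obtain ⟨k, rfl⟩ : ∃ k, i = k + 1 := ⟨i - 1, by omega⟩
  exact elt_succ_mem h k a (F_mono b ω (by omega) ha)

theorem monomial_prod {ι : Type*} (s : Finset ι) (i : ι → ℕ) (a : ι → A) :
    ∏ k ∈ s, monomial (i k) (a k) = monomial (∑ k ∈ s, i k) (∏ k ∈ s, a k) := by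
  classical
  induction s using Finset.induction_on with
  | empty => simp
  | insert k s hk ih =>
    rw [Finset.prod_insert hk, Finset.sum_insert hk, Finset.prod_insert hk, ih,
      monomial_mul_monomial]

theorem prod_elt_val (h : Adapted b ω) {ι : Type*} (s : Finset ι) (i : ι → ℕ) (a : ι → A)
    (ha : ∀ k, a k ∈ F b ω (i k)) :
    ((∏ k ∈ s, elt h (i k) (a k) (ha k) : rees h) : A[X])
      = monomial (∑ k ∈ s, i k) (∏ k ∈ s, a k) := by
  rw [SubmonoidClass.coe_finsetProd]
  simp only [elt_val]
  exact monomial_prod s i a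

end machine

end Groth.Agent.H59.Rees
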