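import Mathlib
import Groth.Prelude.Def_W4bk4grassmannianPl

/-!
# Plücker coordinates: the sign of sorting, minors satisfy the quadrics
-/

set_option autoImplicit false

namespace Groth.Agent.H59.Pluecker

open W4bk4grassmannian MvPolynomial

variable {K : Type*} [CommRing K]

/-- evaluation of the signed coordinate of an arbitrary tuple. -/
noncomputable def ev {d n : ℕ} (p : Idx d n → K) (a : Fin d → Fin n) : K :=
  eval p (coord K d n a)

theorem ev_of_card {d n : ℕ} (p : Idx d n → K) (a : Fin d → Fin n)
    (h : (Finset.univ.image a).card = d) :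
    ev p a = (-1) ^ invCount d n a * p (sortIdx d n a h) := by
  unfold ev coord
  rw [dif_pos h]
  simp

theorem ev_of_not_card {d n : ℕ} (p : Idx d n → K) (a : Fin d → Fin n)
    (h : ¬ (Finset.univ.image a).card = d) : ev p a = 0 := by
  unfold ev coord
  rw [dif_neg h]
  simp

theorem card_image_iff_injective {d n : ℕ} (a : Fin d → Fin n) :
    (Finset.univ.image a).card = d ↔ Function.Injective a := by
  constructor
  · intro h
    have h' : (Finset.univ.image a).card = (Finset.univ : Finset (Fin d)).card := by
      rw [h, Finset.card_univ, Fintype.card_fin]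
    have := Finset.card_image_iff.mp h'
    intro x y hxy
    exact this (Finset.mem_coe.mpr (Finset.mem_univ x)) (Finset.mem_coe.mpr (Finset.mem_univ y)) hxy
  · intro h
    rw [Finset.card_image_of_injective _ h, Finset.card_univ, Fintype.card_fin]

/-- the sorting permutation. -/
theorem exists_perm {d n : ℕ} (a : Fin d → Fin n) (h : (Finset.univ.image a).card = d) :
    ∃ σ : Equiv.Perm (Fin d), ∀ t, (sortIdx d n a h).1 (σ t) = a t := by
  have hinj := (card_image_iff_injective a).mp h
  set S := Finset.univ.image a with hS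
  let f : Fin d → Fin d := fun t =>
    (Finset.orderIsoOfFin S h).symm ⟨a t, Finset.mem_image_of_mem _ (Finset.mem_univ _)⟩
  have hf : Function.Injective f := by
    intro x y hxy
    have := (Finset.orderIsoOfFin S h).symm.injective hxy
    exact hinj (Subtype.ext_iff.mp this)
  have hb : Function.Bijective f := Finite.injective_iff_bijective.mp hf
  refine ⟨Equiv.ofBijective f hb, fun t => ?_⟩
  show Finset.orderEmbOfFin S h (f t) = a t
  rw [← Finset.coe_orderIsoOfFin_apply]
  simp [f]

theorem sign_eq {d n : ℕ} (a : Fin d → Fin n) (s : Fin d → Fin n) (hs : StrictMono s)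
    (σ : Equiv.Perm (Fin d)) (hσ : ∀ t, s (σ t) = a t) :
    ((Equiv.Perm.sign σ : ℤˣ) : ℤ) = (-1) ^ invCount d n a := by
  rw [Equiv.Perm.sign_eq_prod_prod_Ioi]
  have h1 : ∀ i j : Fin d, (σ i < σ j ↔ a i < a j) := by
    intro i j
    rw [← hσ i, ← hσ j, hs.lt_iff_lt]
  have h2 : ∀ i : Fin d, ∀ j ∈ Finset.Ioi i,
      ((if σ i < σ j then (1 : ℤˣ) else -1 : ℤˣ) : ℤ) = if a j < a i then -1 else 1 := by
    intro i j hj
    have hij : i < j := Finset.mem_Ioi.mp hj
    have hne : σ i ≠ σ j := fun h => hij.ne (σ.injective h)
    by_cases hlt : σ i < σ j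
    · have : ¬ a j < a i := by
        rw [← h1]; exact not_lt.mpr hlt.le
      simp [hlt, this]
    · have : a j < a i := by
        rw [← h1]; exact lt_of_le_of_ne (not_lt.mp hlt) (Ne.symm hne)
      simp [hlt, this]
  push_cast
  rw [Finset.prod_congr rfl fun i _ => Finset.prod_congr rfl (h2 i)]
  unfold invCount
  have h3 : ∀ i : Fin d, ∏ j ∈ Finset.Ioi i, (if a j < a i then (-1 : ℤ) else 1)
      = ∏ j : Fin d, (if i < j ∧ a j < a i then (-1 : ℤ) else 1) := by
    intro i
    rw [← Finset.filter_lt_eq_Ioi, Finset.prod_filter]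
    refine Finset.prod_congr rfl fun j _ => ?_
    by_cases h : i < j <;> simp [h]
  rw [Finset.prod_congr rfl fun i _ => h3 i, ← Fintype.prod_prod_type'
    (f := fun i j : Fin d => (if i < j ∧ a j < a i then (-1 : ℤ) else 1))]
  rw [Finset.prod_ite]
  simp


theorem det_submatrix_eq {d n : ℕ} (M : Matrix (Fin n) (Fin d) K) (a : Fin d → Fin n)
    (h : (Finset.univ.image a).card = d) :
    (M.submatrix a id).det
      = (-1) ^ invCount d n a * (M.submatrix (sortIdx d n a h).1 id).det := by
  obtain ⟨σ, hσ⟩ := exists_perm a h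
  have h1 : M.submatrix a id = (M.submatrix (sortIdx d n a h).1 id).submatrix σ id := by
    ext i j
    simp [Matrix.submatrix_apply, hσ]
  rw [h1, Matrix.det_permute, sign_eq a _ (sortIdx d n a h).2 σ hσ]
  push_cast
  rfl

/-- The signed coordinate of any tuple evaluates, at the vector of minors, to the minor on
that tuple of rows. -/
theorem ev_minors {d n : ℕ} (M : Matrix (Fin n) (Fin d) K) (a : Fin d → Fin n) :
    ev (fun θ : Idx d n => (M.submatrix θ.1 id).det) a = (M.submatrix a id).det := by
  by_cases h : (Finset.univ.image a).card = d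
  · rw [ev_of_card _ _ h, det_submatrix_eq M a h]
  · rw [ev_of_not_card _ _ h]
    have hninj : ¬ Function.Injective a := fun hi => h ((card_image_iff_injective a).mpr hi)
    rw [Function.Injective] at hninj
    push Not at hninj
    obtain ⟨x, y, hxy, hne⟩ := hninj
    symm
    apply Matrix.det_zero_of_row_eq hne
    ext j
    simp [Matrix.submatrix_apply, hxy]

theorem minors_quadric {e n : ℕ} (M : Matrix (Fin n) (Fin (e + 1)) K) (i' : Fin e → Fin n)
    (j' : Fin (e + 2) → Fin n) :
    ∑ h : Fin (e + 2), (-1 : K) ^ (h.val + 1)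
      * (M.submatrix (Fin.snoc i' (j' h) : Fin (e + 1) → Fin n) id).det
      * (M.submatrix (j' ∘ h.succAbove) id).det = 0 := by
  have h1 : ∀ h : Fin (e + 2),
      (M.submatrix (Fin.snoc i' (j' h) : Fin (e + 1) → Fin n) id).det
      = ∑ c : Fin (e + 1), (-1 : K) ^ (e + c.val) * M (j' h) c
          * (M.submatrix i' c.succAbove).det := by
    intro h
    rw [Matrix.det_succ_row _ (Fin.last e)]
    refine Finset.sum_congr rfl fun c _ => ?_
    have e1 : (M.submatrix (Fin.snoc i' (j' h) : Fin (e + 1) → Fin n) id) (Fin.last e) c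
        = M (j' h) c := by
      simp [Matrix.submatrix_apply]
    have e2 : (M.submatrix (Fin.snoc i' (j' h) : Fin (e + 1) → Fin n) id).submatrix
        (Fin.last e).succAbove c.succAbove = M.submatrix i' c.succAbove := by
      ext x y
      simp [Matrix.submatrix_apply, Fin.succAbove_last]
    rw [e1, e2]
    simp
  have h2 : ∀ c : Fin (e + 1), ∑ h : Fin (e + 2), (-1 : K) ^ (h.val) * M (j' h) c
      * (M.submatrix (j' ∘ h.succAbove) id).det = 0 := by
    intro c
    set N : Matrix (Fin (e + 2)) (Fin (e + 2)) K :=
      Matrix.of fun h k => (Fin.cons (M (j' h) c) (M (j' h)) : Fin (e + 2) → K) k with hN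
    have hdet : N.det = 0 := by
      apply Matrix.det_zero_of_column_eq (Fin.succ_ne_zero c).symm
      intro k
      simp [hN]
    rw [Matrix.det_succ_column_zero] at hdet
    rw [← hdet]
    refine Finset.sum_congr rfl fun h _ => ?_
    have e1 : N h 0 = M (j' h) c := by simp [hN]
    have e2 : N.submatrix h.succAbove Fin.succ = M.submatrix (j' ∘ h.succAbove) id := by
      ext x y
      simp [hN, Matrix.submatrix_apply]
    rw [e1, e2]
  simp_rw [h1, Finset.mul_sum, Finset.sum_mul]
  rw [Finset.sum_comm]
  refine Finset.sum_eq_zero fun c _ => ?_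
  calc ∑ h : Fin (e + 2), (-1 : K) ^ (h.val + 1)
        * ((-1 : K) ^ (e + c.val) * M (j' h) c * (M.submatrix i' c.succAbove).det)
        * (M.submatrix (j' ∘ h.succAbove) id).det
      = -((-1 : K) ^ (e + c.val) * (M.submatrix i' c.succAbove).det)
        * ∑ h : Fin (e + 2), (-1 : K) ^ (h.val) * M (j' h) c
          * (M.submatrix (j' ∘ h.succAbove) id).det := by
        rw [Finset.mul_sum]
        refine Finset.sum_congr rfl fun h _ => ?_
        ring
    _ = 0 := by rw [h2 c, mul_zero]

/-- the vector of minors satisfies every quadric. -/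
theorem eval_minors_quadric {e n : ℕ} (M : Matrix (Fin n) (Fin (e + 1)) K) (i' : Idx e n)
    (j' : Idx (e + 2) n) :
    eval (fun θ : Idx (e + 1) n => (M.submatrix θ.1 id).det) (quadric K i' j') = 0 := by
  unfold quadric
  rw [map_sum]
  simp only [map_mul, map_pow, map_neg, map_one]
  rw [← minors_quadric M i'.1 j'.1]
  refine Finset.sum_congr rfl fun h _ => ?_
  rw [← ev_minors M (Fin.snoc i'.1 (j'.1 h) : Fin (e + 1) → Fin n),
    ← ev_minors M (j'.1 ∘ h.succAbove)]
  rfl


theorem image_sortIdx {d n : ℕ} (a : Fin d → Fin n) (h : (Finset.univ.image a).card = d) :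
    Finset.univ.image (sortIdx d n a h).1 = Finset.univ.image a := by
  unfold sortIdx
  exact Finset.image_orderEmbOfFin_univ _ h

theorem card_image_idx {d n : ℕ} (θ : Idx d n) : (Finset.univ.image θ.1).card = d :=
  (card_image_iff_injective _).mpr θ.2.injective

theorem idx_eq_of_image {d n : ℕ} (θ θ' : Idx d n)
    (h : Finset.univ.image θ.1 ⊆ Finset.univ.image θ'.1) : θ = θ' := by
  have hc' : (Finset.univ.image θ'.1).card = d := card_image_idx θ'
  have e1 := Finset.orderEmbOfFin_unique hc' (f := θ.1)
    (fun x => h (Finset.mem_image_of_mem _ (Finset.mem_univ x))) θ.2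
  have e2 := Finset.orderEmbOfFin_unique hc' (f := θ'.1)
    (fun x => Finset.mem_image_of_mem _ (Finset.mem_univ x)) θ'.2
  exact Subtype.ext (e1.trans e2.symm)

theorem sortIdx_eq {d n : ℕ} (a : Fin d → Fin n) (h : (Finset.univ.image a).card = d)
    (θ : Idx d n) (hθ : Finset.univ.image a ⊆ Finset.univ.image θ.1) : sortIdx d n a h = θ := by
  apply idx_eq_of_image
  rw [image_sortIdx]
  exact hθ

theorem invCount_idx {d n : ℕ} (θ : Idx d n) : invCount d n θ.1 = 0 := by
  unfold invCount
  rw [Finset.card_eq_zero, Finset.filter_eq_empty_iff]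
  rintro ⟨x, y⟩ _ ⟨h1, h2⟩
  exact absurd (θ.2 h1) (not_lt.mpr h2.le)

theorem ev_idx {d n : ℕ} (p : Idx d n → K) (θ : Idx d n) : ev p θ.1 = p θ := by
  rw [ev_of_card p θ.1 (card_image_idx θ), invCount_idx, pow_zero, one_mul,
    sortIdx_eq θ.1 _ θ (Finset.Subset.refl _)]

/-- two coordinate vectors agreeing on all indices close to a reference set agree on all
tuples close to it. -/
theorem ev_agree {d n : ℕ} (p q : Idx d n → K) (T : Finset (Fin n)) (k : ℕ)
    (hk : ∀ θ : Idx d n, ((Finset.univ.image θ.1) \ T).card < k → p θ = q θ)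
    (a : Fin d → Fin n) (ha : ((Finset.univ.image a) \ T).card < k) : ev p a = ev q a := by
  by_cases h : (Finset.univ.image a).card = d
  · rw [ev_of_card p a h, ev_of_card q a h, hk]
    rw [image_sortIdx]
    exact ha
  · rw [ev_of_not_card p a h, ev_of_not_card q a h]

theorem ev_eq_of_image {d n : ℕ} (p q : Idx d n → K) (a : Fin d → Fin n)
    (h : (Finset.univ.image a).card = d) (θ : Idx d n)
    (hθ : Finset.univ.image a ⊆ Finset.univ.image θ.1) (hpq : ev p a = ev q a) : p θ = q θ := by
  rw [ev_of_card p a h, ev_of_card q a h, sortIdx_eq a h θ hθ] at hpq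
  have hu : IsUnit ((-1 : K) ^ invCount d n a) := (isUnit_one.neg).pow _
  exact hu.mul_left_cancel hpq


theorem eval_quadric {e n : ℕ} (p : Idx (e + 1) n → K) (i' : Idx e n) (j' : Idx (e + 2) n) :
    eval p (quadric K i' j') = ∑ h : Fin (e + 2), (-1 : K) ^ (h.val + 1)
      * ev p (Fin.snoc i'.1 (j'.1 h) : Fin (e + 1) → Fin n) * ev p (j'.1 ∘ h.succAbove) := by
  unfold quadric ev
  rw [map_sum]
  simp only [map_mul, map_pow, map_neg, map_one]

section recon

variable {F : Type*} [Field F]

theorem det_one_updateRow {m : Type*} [Fintype m] [DecidableEq m] (s : m) (v : m → F) :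
    ((1 : Matrix m m F).updateRow s v).det = v s := by
  rw [← Matrix.det_transpose, ← Matrix.updateCol_transpose, Matrix.transpose_one,
    ← Matrix.cramer_apply, Matrix.cramer_one]
  rfl

theorem exists_matrix {e n : ℕ} (q : Idx (e + 1) n → F) (hq : q ≠ 0)
    (hquad : ∀ (i' : Idx e n) (j' : Idx (e + 2) n), eval q (quadric F i' j') = 0) :
    ∃ A : Matrix (Fin n) (Fin (e + 1)) F,
      ∀ θ : Idx (e + 1) n, q θ = (A.submatrix θ.1 id).det := by
  obtain ⟨θ₀, hθ₀⟩ : ∃ θ₀, q θ₀ ≠ 0 := by
    by_contra hcon
    push Not at hcon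
    exact hq (funext hcon)
  set c := q θ₀ with hc
  set T := Finset.univ.image θ₀.1 with hT
  set B : Matrix (Fin n) (Fin (e + 1)) F :=
    Matrix.of fun r s => ev q (Function.update θ₀.1 s r) / c with hB
  set δ : Fin (e + 1) → F := fun s => if s = 0 then c else 1 with hδ
  set A : Matrix (Fin n) (Fin (e + 1)) F := Matrix.of fun r s => B r s * δ s with hA
  have hprod : ∏ s, δ s = c := by
    rw [Fin.prod_univ_succ]
    simp [hδ, Fin.succ_ne_zero]
  have hAdet : ∀ a : Fin (e + 1) → Fin n,
      (A.submatrix a id).det = c * (B.submatrix a id).det := by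
    intro a
    have : A.submatrix a id = B.submatrix a id * Matrix.diagonal δ := by
      ext i j
      rw [Matrix.mul_diagonal]
      simp [hA]
    rw [this, Matrix.det_mul, Matrix.det_diagonal, hprod, mul_comm]
  have hB0 : ∀ t s, B (θ₀.1 t) s = if t = s then 1 else 0 := by
    intro t s
    by_cases hts : t = s
    · subst hts
      rw [if_pos rfl]
      simp only [hB, Matrix.of_apply]
      rw [Function.update_eq_self, ev_idx]
      exact div_self hθ₀
    · rw [if_neg hts]
      simp only [hB, Matrix.of_apply]
      rw [ev_of_not_card, zero_div]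
      rw [card_image_iff_injective]
      intro hinj
      apply hts
      apply hinj
      rw [Function.update_of_ne hts, Function.update_self]
  have hB1 : ∀ s r, (B.submatrix (Function.update θ₀.1 s r) id).det = B r s := by
    intro s r
    have : B.submatrix (Function.update θ₀.1 s r) id
        = (1 : Matrix _ _ F).updateRow s (B r) := by
      ext t j
      rw [Matrix.submatrix_apply, Matrix.updateRow_apply]
      by_cases hts : t = s
      · subst hts
        simp
      · rw [if_neg hts, Function.update_of_ne hts, hB0, Matrix.one_apply]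
        rfl
    rw [this, det_one_updateRow]
  set p : Idx (e + 1) n → F := fun θ => (A.submatrix θ.1 id).det with hp
  have hpquad : ∀ i' j', eval p (quadric F i' j') = 0 :=
    fun i' j' => eval_minors_quadric A i' j'
  have hpev : ∀ a, ev p a = (A.submatrix a id).det := ev_minors A
  have hone : ∀ (θ : Idx (e + 1) n) (s : Fin (e + 1)) (r : Fin n),
      Function.Injective (Function.update θ₀.1 s r) →
      Finset.univ.image (Function.update θ₀.1 s r) ⊆ Finset.univ.image θ.1 → p θ = q θ := by
    intro θ s r hinj himg
    apply ev_eq_of_image p q _ ((card_image_iff_injective _).mpr hinj) θ himg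
    rw [hpev, hAdet, hB1]
    simp only [hB, Matrix.of_apply]
    field_simp
  refine ⟨A, fun θ => ?_⟩
  symm
  show p θ = q θ
  generalize hk : ((Finset.univ.image θ.1) \ T).card = k
  induction k using Nat.strong_induction_on generalizing θ with
  | _ k ih =>
  rcases Nat.lt_or_ge k 2 with hk2 | hk2
  · rcases Nat.lt_or_ge k 1 with hk1 | hk1
    · -- k = 0
      have hk0 : k = 0 := by omega
      rw [hk0, Finset.card_eq_zero, Finset.sdiff_eq_empty_iff_subset] at hk
      have : θ = θ₀ := idx_eq_of_image θ θ₀ hk
      subst this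
      apply hone θ 0 (θ.1 0)
      · rw [Function.update_eq_self]
        exact θ.2.injective
      · rw [Function.update_eq_self]
    · -- k = 1
      have hk1' : k = 1 := by omega
      rw [hk1'] at hk
      have hk' : (T \ Finset.univ.image θ.1).card = 1 := by
        refine (Finset.card_sdiff_comm ?_).trans hk
        rw [hT, card_image_idx, card_image_idx]
      obtain ⟨x, hx⟩ := Finset.card_eq_one.mp hk
      obtain ⟨y, hy⟩ := Finset.card_eq_one.mp hk'
      have hxm : x ∈ Finset.univ.image θ.1 \ T := by rw [hx]; exact Finset.mem_singleton_self _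
      have hym : y ∈ T \ Finset.univ.image θ.1 := by rw [hy]; exact Finset.mem_singleton_self _
      rw [Finset.mem_sdiff] at hxm hym
      obtain ⟨s, -, hs⟩ := Finset.mem_image.mp hym.1
      apply hone θ s x
      · intro t₁ t₂ h12
        by_cases h1 : t₁ = s
        · by_cases h2 : t₂ = s
          · rw [h1, h2]
          · exfalso
            rw [h1, Function.update_self, Function.update_of_ne h2] at h12
            exact hxm.2 (h12 ▸ Finset.mem_image_of_mem _ (Finset.mem_univ _))
        · by_cases h2 : t₂ = s
          · exfalso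
            rw [h2, Function.update_self, Function.update_of_ne h1] at h12
            exact hxm.2 (h12 ▸ Finset.mem_image_of_mem _ (Finset.mem_univ _))
          · rw [Function.update_of_ne h1, Function.update_of_ne h2] at h12
            exact θ₀.2.injective h12
      · intro z hz
        obtain ⟨t, -, ht⟩ := Finset.mem_image.mp hz
        by_cases h1 : t = s
        · rw [h1, Function.update_self] at ht
          rw [← ht]
          exact hxm.1
        · rw [Function.update_of_ne h1] at ht
          by_contra hzθ
          have hzm : z ∈ T \ Finset.univ.image θ.1 := by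
            rw [Finset.mem_sdiff]
            exact ⟨ht ▸ Finset.mem_image_of_mem _ (Finset.mem_univ _), hzθ⟩
          rw [hy, Finset.mem_singleton] at hzm
          apply h1
          apply θ₀.2.injective
          rw [ht, hs, hzm]
  · -- k ≥ 2
    have hne : ((Finset.univ.image θ.1) \ T).Nonempty := Finset.card_pos.mp (by omega)
    obtain ⟨x, hx⟩ := hne
    have hx' := hx
    rw [Finset.mem_sdiff] at hx
    obtain ⟨hxθ, hxT⟩ := hx
    set S' := (Finset.univ.image θ.1).erase x with hS'
    have hS'card : S'.card = e := by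
      rw [Finset.card_erase_of_mem hxθ, card_image_idx]
      rfl
    set J := insert x T with hJ
    have hJcard : J.card = e + 2 := by
      rw [Finset.card_insert_of_notMem hxT, hT, card_image_idx]
    let i' : Idx e n := ⟨S'.orderEmbOfFin hS'card, (S'.orderEmbOfFin hS'card).strictMono⟩
    let j' : Idx (e + 2) n := ⟨J.orderEmbOfFin hJcard, (J.orderEmbOfFin hJcard).strictMono⟩
    have hi'mem : ∀ t, i'.1 t ∈ S' := fun t => Finset.orderEmbOfFin_mem _ _ t
    have hj'mem : ∀ t, j'.1 t ∈ J := fun t => Finset.orderEmbOfFin_mem _ _ t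
    obtain ⟨h₀, hh₀⟩ : ∃ h₀, j'.1 h₀ = x := by
      have : x ∈ Set.range (J.orderEmbOfFin hJcard) := by
        rw [Finset.range_orderEmbOfFin]
        exact Finset.mem_coe.mpr (Finset.mem_insert_self _ _)
      exact this
    have hj'T : ∀ h, h ≠ h₀ → j'.1 h ∈ T := by
      intro h hh
      have := hj'mem h
      rw [hJ, Finset.mem_insert] at this
      rcases this with h1 | h1
      · exact absurd (j'.2.injective (h1.trans hh₀.symm)) hh
      · exact h1
    have r1 := hpquad i' j'
    have r2 := hquad i' j'
    rw [eval_quadric] at r1 r2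
    have hIH : ∀ a : Fin (e + 1) → Fin n,
        ((Finset.univ.image a) \ T).card < k → ev p a = ev q a :=
      fun a ha => ev_agree p q T k (fun θ' hθ' => ih _ hθ' θ' rfl) a ha
    have hS : ∀ h, h ≠ h₀ → ev p (Fin.snoc i'.1 (j'.1 h) : Fin (e + 1) → Fin n)
        = ev q (Fin.snoc i'.1 (j'.1 h) : Fin (e + 1) → Fin n) := by
      intro h hh
      apply hIH
      have hsub : (Finset.univ.image (Fin.snoc i'.1 (j'.1 h) : Fin (e + 1) → Fin n)) \ T
          ⊆ ((Finset.univ.image θ.1) \ T).erase x := by
        intro z hz
        rw [Finset.mem_sdiff, Finset.mem_image] at hz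
        obtain ⟨⟨t, -, ht⟩, hzT⟩ := hz
        induction t using Fin.lastCases with
        | last =>
          rw [Fin.snoc_last] at ht
          exact absurd (ht ▸ hj'T h hh) hzT
        | cast t' =>
          rw [Fin.snoc_castSucc] at ht
          have := hi'mem t'
          rw [ht, hS', Finset.mem_erase] at this
          rw [Finset.mem_erase, Finset.mem_sdiff]
          exact ⟨this.1, this.2, hzT⟩
      calc _ ≤ (((Finset.univ.image θ.1) \ T).erase x).card := Finset.card_le_card hsub
        _ < k := by
          rw [Finset.card_erase_of_mem hx', hk]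
          omega
    have hJ' : ∀ h : Fin (e + 2), ev p (j'.1 ∘ h.succAbove) = ev q (j'.1 ∘ h.succAbove) := by
      intro h
      apply hIH
      have hsub : (Finset.univ.image (j'.1 ∘ h.succAbove)) \ T ⊆ {x} := by
        intro z hz
        rw [Finset.mem_sdiff, Finset.mem_image] at hz
        obtain ⟨⟨t, -, ht⟩, hzT⟩ := hz
        have := hj'mem (h.succAbove t)
        rw [hJ, Finset.mem_insert] at this
        rcases this with h1 | h1
        · rw [Finset.mem_singleton, ← ht]
          exact h1
        · exact absurd (ht ▸ h1) hzT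
      calc _ ≤ ({x} : Finset (Fin n)).card := Finset.card_le_card hsub
        _ < k := by
          rw [Finset.card_singleton]
          omega
    have hJ0 : ev q (j'.1 ∘ h₀.succAbove) = c := by
      let θ' : Idx (e + 1) n := ⟨j'.1 ∘ h₀.succAbove, j'.2.comp (Fin.strictMono_succAbove h₀)⟩
      have hθ' : θ' = θ₀ := by
        apply idx_eq_of_image
        intro z hz
        rw [Finset.mem_image] at hz
        obtain ⟨t, -, ht⟩ := hz
        rw [← ht]
        exact hj'T _ (Fin.succAbove_ne h₀ t)
      calc ev q (j'.1 ∘ h₀.succAbove) = ev q θ'.1 := rfl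
        _ = q θ' := ev_idx q θ'
        _ = c := by rw [hθ']
    have hdiff : ∑ h : Fin (e + 2), ((-1 : F) ^ (h.val + 1)
        * ev p (Fin.snoc i'.1 (j'.1 h) : Fin (e + 1) → Fin n) * ev p (j'.1 ∘ h.succAbove)
        - (-1 : F) ^ (h.val + 1)
        * ev q (Fin.snoc i'.1 (j'.1 h) : Fin (e + 1) → Fin n) * ev q (j'.1 ∘ h.succAbove)) = 0 := by
      rw [Finset.sum_sub_distrib, r1, r2, sub_zero]
    rw [Finset.sum_eq_single h₀ (fun h _ hh => by rw [hS h hh, hJ' h, sub_self])
      (fun h => absurd (Finset.mem_univ _) h)] at hdiff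
    rw [hJ' h₀, hJ0, hh₀] at hdiff
    have hfin : ev p (Fin.snoc i'.1 x : Fin (e + 1) → Fin n)
        = ev q (Fin.snoc i'.1 x : Fin (e + 1) → Fin n) := by
      have hu : IsUnit ((-1 : F) ^ (h₀.val + 1)) := (isUnit_one.neg).pow _
      have h3 : (-1 : F) ^ (h₀.val + 1) * ((ev p (Fin.snoc i'.1 x : Fin (e + 1) → Fin n)
          - ev q (Fin.snoc i'.1 x : Fin (e + 1) → Fin n)) * c) = 0 := by
        linear_combination hdiff
      have h4 := (hu.mul_right_eq_zero).mp h3
      rcases mul_eq_zero.mp h4 with h5 | h5
      · exact sub_eq_zero.mp h5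
      · exact absurd h5 hθ₀
    have hinj : Function.Injective (Fin.snoc i'.1 x : Fin (e + 1) → Fin n) := by
      intro t₁ t₂ h12
      induction t₁ using Fin.lastCases with
      | last =>
        induction t₂ using Fin.lastCases with
        | last => rfl
        | cast t₂' =>
          exfalso
          rw [Fin.snoc_last, Fin.snoc_castSucc] at h12
          have := hi'mem t₂'
          rw [← h12, hS'] at this
          exact (Finset.notMem_erase _ _) this
      | cast t₁' =>
        induction t₂ using Fin.lastCases with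
        | last =>
          exfalso
          rw [Fin.snoc_last, Fin.snoc_castSucc] at h12
          have := hi'mem t₁'
          rw [h12, hS'] at this
          exact (Finset.notMem_erase _ _) this
        | cast t₂' =>
          rw [Fin.snoc_castSucc, Fin.snoc_castSucc] at h12
          rw [i'.2.injective h12]
    apply ev_eq_of_image p q (Fin.snoc i'.1 x : Fin (e + 1) → Fin n)
      ((card_image_iff_injective _).mpr hinj) θ ?_ hfin
    intro z hz
    obtain ⟨t, -, ht⟩ := Finset.mem_image.mp hz
    induction t using Fin.lastCases with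
    | last =>
      rw [Fin.snoc_last] at ht
      rw [← ht]
      exact hxθ
    | cast t' =>
      rw [Fin.snoc_castSucc] at ht
      have := hi'mem t'
      rw [ht, hS'] at this
      exact Finset.mem_of_mem_erase this

end recon

end Groth.Agent.H59.Pluecker
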