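import Mathlib
import Groth.Agent.H59.Pluecker

/-!
# Straightening: standard monomials span modulo the shuffle relations
-/

set_option autoImplicit false

namespace Groth.Agent.H59.Straighten

open W4bk4grassmannian MvPolynomial

variable {d n : ℕ}

/-- the sum of the entries of an index. -/
def esum (τ : Idx d n) : ℕ := ∑ t, (τ.1 t).val

theorem esum_le (τ : Idx d n) : esum τ ≤ d * n := by
  calc esum τ ≤ ∑ _t : Fin d, n := Finset.sum_le_sum fun t _ => (τ.1 t).isLt.le
    _ = d * n := by simp

theorem esum_sortIdx (a : Fin d → Fin n) (h : (Finset.univ.image a).card = d) :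
    esum (sortIdx d n a h) = ∑ t, (a t).val := by
  have hinj := (Pluecker.card_image_iff_injective a).mp h
  have h1 : ∑ t, ((sortIdx d n a h).1 t).val
      = ∑ x ∈ Finset.univ.image (sortIdx d n a h).1, x.val := by
    rw [Finset.sum_image]
    intro x _ y _ hxy
    exact (sortIdx d n a h).2.injective hxy
  have h2 : ∑ t, (a t).val = ∑ x ∈ Finset.univ.image a, x.val := by
    rw [Finset.sum_image]
    intro x _ y _ hxy
    exact hinj hxy
  unfold esum
  rw [h1, h2, Pluecker.image_sortIdx]

theorem movingRows_strictMono (i j : Idx d n) (r : Fin d) (hp : i.1 r < j.1 r) :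
    StrictMono (movingRows i j r) := by
  intro k l hkl
  have hkl' : k.val < l.val := Fin.lt_def.mp hkl
  unfold movingRows
  by_cases hk : k.val ≤ r.val
  · by_cases hl : l.val ≤ r.val
    · rw [dif_pos hk, dif_pos hl]
      exact i.2 (Fin.lt_def.mpr hkl')
    · rw [dif_pos hk, dif_neg hl]
      have h1 : i.1 ⟨k.val, lt_of_le_of_lt hk r.isLt⟩ ≤ i.1 r := i.2.monotone (Fin.le_def.mpr hk)
      have h2 : j.1 r ≤ j.1 ⟨l.val - 1, by have := l.isLt; omega⟩ :=
        j.2.monotone (Fin.le_def.mpr (by simp only; omega))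
      exact lt_of_le_of_lt h1 (lt_of_lt_of_le hp h2)
  · have hl : ¬ l.val ≤ r.val := by omega
    rw [dif_neg hk, dif_neg hl]
    exact j.2 (Fin.lt_def.mpr (by simp only; omega))

theorem strictMono_val_le {a b : ℕ} (f : Fin a → Fin b) (hf : StrictMono f) (t : Fin a) :
    t.val ≤ (f t).val := by
  obtain ⟨t, ht⟩ := t
  induction t with
  | zero => exact Nat.zero_le _
  | succ t ih =>
    have h1 := ih (by omega)
    have h2 : f ⟨t, by omega⟩ < f ⟨t + 1, ht⟩ := hf (Fin.lt_def.mpr (by simp))
    have h3 := Fin.lt_def.mp h2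
    simp only at h1 ⊢
    omega

/-- the initial segment of positions. -/
def A0 (r : Fin d) : Finset (Fin (d + 1)) := Finset.Iic r.castSucc

theorem mem_A0 (r : Fin d) (k : Fin (d + 1)) : k ∈ A0 r ↔ k.val ≤ r.val := by
  unfold A0
  rw [Finset.mem_Iic, Fin.le_def]
  rfl

theorem card_A0 (r : Fin d) : (A0 r).card = r.val + 1 := by
  unfold A0
  rw [Fin.card_Iic]
  rfl

theorem oe_A0 (r : Fin d) (h : (A0 r).card = r.val + 1) (t : Fin (r.val + 1)) :
    ((A0 r).orderEmbOfFin h t).val = t.val := by
  have hle : r.val + 1 ≤ d + 1 := by have := r.isLt; omega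
  have := Finset.orderEmbOfFin_unique h (f := Fin.castLE hle)
    (fun x => by rw [mem_A0]; simp only [Fin.val_castLE]; have := x.isLt; omega)
    (Fin.strictMono_castLE hle)
  rw [← this]
  rfl

theorem oe_A0_compl (r : Fin d) (h : (A0 r)ᶜ.card = d - r.val) (t : Fin (d - r.val)) :
    ((A0 r)ᶜ.orderEmbOfFin h t).val = r.val + 1 + t.val := by
  let f : Fin (d - r.val) → Fin (d + 1) := fun s => ⟨r.val + 1 + s.val, by
    have := s.isLt; have := r.isLt; omega⟩
  have hf : StrictMono f := by
    intro x y hxy
    have := Fin.lt_def.mp hxy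
    exact Fin.lt_def.mpr (by simp only [f]; omega)
  have := Finset.orderEmbOfFin_unique h (f := f)
    (fun x => by
      rw [Finset.mem_compl, mem_A0]
      simp only [f]
      omega) hf
  rw [← this]


variable (K : Type*) [CommRing K]

theorem coord_idx (θ : Idx d n) : coord K d n θ.1 = X θ := by
  unfold coord
  rw [dif_pos (Pluecker.card_image_idx θ), Pluecker.invCount_idx, pow_zero, one_mul,
    Pluecker.sortIdx_eq θ.1 _ θ (Finset.Subset.refl _)]

theorem shuffleI_A0 (i j : Idx d n) (r : Fin d) (h : (A0 r).card = r.val + 1) :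
    shuffleI i j r (A0 r) h = i.1 := by
  funext t
  unfold shuffleI
  by_cases ht : t.val ≤ r.val
  · rw [dif_pos ht]
    unfold movingRows
    have hoe := oe_A0 r h ⟨t.val, by omega⟩
    simp only at hoe
    rw [dif_pos (by rw [hoe]; exact ht)]
    exact congrArg i.1 (Fin.ext hoe)
  · rw [dif_neg ht]

theorem shuffleJ_A0 (i j : Idx d n) (r : Fin d) (h : (A0 r).card = r.val + 1) :
    shuffleJ i j r (A0 r) h = j.1 := by
  funext t
  unfold shuffleJ
  by_cases ht : t.val < r.val
  · rw [dif_pos ht]
  · rw [dif_neg ht]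
    unfold movingRows
    have hC : (A0 r)ᶜ.card = d - r.val := by
      rw [Finset.card_compl, h, Fintype.card_fin]; omega
    have hoe := oe_A0_compl r hC ⟨t.val - r.val, by have := t.isLt; omega⟩
    rw [dif_neg (by rw [hoe]; simp only; omega)]
    refine congrArg j.1 (Fin.ext ?_)
    simp only
    rw [hoe]
    simp only
    omega

theorem shuffleSign_A0 (r : Fin d) : shuffleSign r (A0 r) = 0 := by
  unfold shuffleSign
  have h := card_A0 r
  have h1 : ∑ a ∈ A0 r, a.val = ∑ t : Fin (r.val + 1), t.val := by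
    rw [← Finset.image_orderEmbOfFin_univ (A0 r) h, Finset.sum_image]
    · exact Finset.sum_congr rfl fun t _ => oe_A0 r h t
    · intro x _ y _ hxy
      exact ((A0 r).orderEmbOfFin h).injective hxy
  rw [h1, Fin.sum_univ_eq_sum_range (fun t => t) (r.val + 1), Finset.sum_range_id,
    Nat.add_sub_cancel, mul_comm]
  exact Nat.sub_self _

theorem shuffleTerm_A0 (i j : Idx d n) (r : Fin d) :
    shuffleTerm K i j r (A0 r) = X i * X j := by
  unfold shuffleTerm
  rw [dif_pos (card_A0 r), shuffleI_A0, shuffleJ_A0, shuffleSign_A0, pow_zero, one_mul,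
    coord_idx, coord_idx]

theorem exists_oe_lt (r : Fin d) (A : Finset (Fin (d + 1))) (hA : A.card = r.val + 1)
    (hne : A ≠ A0 r) : ∃ t : Fin (r.val + 1), t.val < (A.orderEmbOfFin hA t).val := by
  by_contra hcon
  push Not at hcon
  apply hne
  have heq : ∀ t : Fin (r.val + 1), (A.orderEmbOfFin hA t).val = t.val := fun t =>
    le_antisymm (hcon t) (strictMono_val_le _ (A.orderEmbOfFin hA).strictMono t)
  apply Finset.eq_of_subset_of_card_le
  · intro x hx
    rw [← Finset.image_orderEmbOfFin_univ A hA, Finset.mem_image] at hx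
    obtain ⟨t, -, ht⟩ := hx
    rw [mem_A0, ← ht, heq]
    have := t.isLt
    omega
  · rw [card_A0, hA]

theorem esum_lt_shuffleI (i j : Idx d n) (r : Fin d) (hp : i.1 r < j.1 r)
    (A : Finset (Fin (d + 1))) (hA : A.card = r.val + 1) (hne : A ≠ A0 r) :
    esum i < ∑ t, (shuffleI i j r A hA t).val := by
  have hmono := movingRows_strictMono i j r hp
  have hmr : ∀ t : Fin d, ∀ ht : t.val ≤ r.val, movingRows i j r ⟨t.val, by omega⟩ = i.1 t := by
    intro t ht
    unfold movingRows
    rw [dif_pos ht]
  have hge : ∀ t : Fin d, (i.1 t).val ≤ (shuffleI i j r A hA t).val := by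
    intro t
    unfold shuffleI
    by_cases ht : t.val ≤ r.val
    · rw [dif_pos ht, ← hmr t ht]
      apply Fin.le_def.mp
      apply hmono.monotone
      apply Fin.le_def.mpr
      exact strictMono_val_le _ (A.orderEmbOfFin hA).strictMono ⟨t.val, by omega⟩
    · rw [dif_neg ht]
  obtain ⟨t₀, ht₀⟩ := exists_oe_lt r A hA hne
  unfold esum
  apply Finset.sum_lt_sum (fun t _ => hge t)
  refine ⟨⟨t₀.val, by have := t₀.isLt; have := r.isLt; omega⟩, Finset.mem_univ _, ?_⟩
  have ht : t₀.val ≤ r.val := by have := t₀.isLt; omega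
  unfold shuffleI
  rw [dif_pos ht, ← hmr ⟨t₀.val, by have := r.isLt; omega⟩ ht]
  apply Fin.lt_def.mp
  apply hmono
  apply Fin.lt_def.mpr
  exact ht₀

theorem shuffleTerm_cases (i j : Idx d n) (r : Fin d) (hp : i.1 r < j.1 r)
    (A : Finset (Fin (d + 1))) (hne : A ≠ A0 r) :
    shuffleTerm K i j r A = 0 ∨ ∃ (i' j' : Idx d n) (u : ℕ), esum i < esum i' ∧
      shuffleTerm K i j r A = (-1) ^ u * (X i' * X j') := by
  unfold shuffleTerm
  by_cases hA : A.card = r.val + 1
  · rw [dif_pos hA]
    unfold coord
    by_cases h1 : (Finset.univ.image (shuffleI i j r A hA)).card = d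
    · by_cases h2 : (Finset.univ.image (shuffleJ i j r A hA)).card = d
      · right
        rw [dif_pos h1, dif_pos h2]
        refine ⟨sortIdx d n _ h1, sortIdx d n _ h2,
          shuffleSign r A + invCount d n (shuffleI i j r A hA) + invCount d n (shuffleJ i j r A hA),
          ?_, ?_⟩
        · rw [esum_sortIdx]
          exact esum_lt_shuffleI i j r hp A hA hne
        · rw [pow_add, pow_add]
          ring
      · left
        rw [dif_neg h2, mul_zero]
    · left
      rw [dif_neg h1, mul_zero, zero_mul]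
  · left
    rw [dif_neg hA]

/-- the shuffle relation, solved for the product `X i * X j`. -/
theorem mul_eq_shuffleRel_sub (i j : Idx d n) (r : Fin d) :
    X i * X j = shuffleRel K i j r
      - ∑ A ∈ (Finset.univ.erase (A0 r) : Finset (Finset (Fin (d + 1)))), shuffleTerm K i j r A := by
  unfold shuffleRel
  rw [← Finset.add_sum_erase _ _ (Finset.mem_univ (A0 r)), shuffleTerm_A0]
  ring


section main

variable (d n)

/-- the span of the standard monomials of degree `m` in the quotient. -/
noncomputable def StdM (m : ℕ) : Submodule K (PlRing K d n ⧸ plIdealTop (d := d) (n := n) K) :=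
  Submodule.span K (Set.range fun c : {c : Fin m → Idx d n // Antitone c} =>
    Ideal.Quotient.mk (plIdealTop (d := d) (n := n) K) (chainMon K c.1))

variable {d n}

theorem exists_pivot (τ j : Idx d n) (h : ¬ j ≤ τ) : ∃ r, IsPivot τ j r := by
  have h' : ∃ t, τ.1 t < j.1 t := by
    by_contra hcon
    push Not at hcon
    exact h (fun t => hcon t)
  set S := Finset.univ.filter (fun t : Fin d => τ.1 t < j.1 t) with hS
  have hne : S.Nonempty := by
    obtain ⟨t, ht⟩ := h'
    exact ⟨t, Finset.mem_filter.mpr ⟨Finset.mem_univ _, ht⟩⟩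
  refine ⟨S.min' hne, ?_, ?_⟩
  · intro t ht
    by_contra hcon
    have : t ∈ S := Finset.mem_filter.mpr ⟨Finset.mem_univ _, not_le.mp hcon⟩
    exact absurd (Finset.min'_le S t this) (not_le.mpr ht)
  · exact (Finset.mem_filter.mp (Finset.min'_mem S hne)).2

theorem chainMon_cons {m : ℕ} (τ : Idx d n) (c : Fin m → Idx d n) :
    chainMon K (Fin.cons τ c : Fin (m + 1) → Idx d n) = X τ * chainMon K c := by
  unfold chainMon
  rw [Fin.prod_univ_succ]
  simp

theorem cons_mem {m : ℕ} (τ : Idx d n) (c : Fin m → Idx d n) (hc : Antitone c)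
    (h : ∀ hm : 0 < m, c ⟨0, hm⟩ ≤ τ) :
    Ideal.Quotient.mk (plIdealTop (d := d) (n := n) K) (X τ * chainMon K c) ∈ StdM d n K (m + 1) := by
  have hanti : Antitone (Fin.cons τ c : Fin (m + 1) → Idx d n) := by
    intro a b hab
    induction a using Fin.cases with
    | zero =>
      induction b using Fin.cases with
      | zero => exact le_refl _
      | succ b =>
        rw [Fin.cons_zero, Fin.cons_succ]
        have hm : 0 < m := Nat.pos_of_ne_zero (by rintro rfl; exact b.elim0)
        exact le_trans (hc (Fin.le_def.mpr (Nat.zero_le _))) (h hm)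
    | succ a =>
      induction b using Fin.cases with
      | zero => exact absurd hab (by simp)
      | succ b =>
        rw [Fin.cons_succ, Fin.cons_succ]
        exact hc (Fin.succ_le_succ_iff.mp hab)
  rw [← chainMon_cons]
  exact Submodule.subset_span ⟨⟨_, hanti⟩, rfl⟩

theorem neg_one_pow_mul_mem {m : ℕ} (u : ℕ) (x : PlRing K d n)
    (hx : Ideal.Quotient.mk (plIdealTop (d := d) (n := n) K) x ∈ StdM d n K m) :
    Ideal.Quotient.mk (plIdealTop (d := d) (n := n) K) ((-1) ^ u * x) ∈ StdM d n K m := by
  have h1 : ((-1 : PlRing K d n) ^ u * x) = ((-1 : K) ^ u) • x := by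
    rw [smul_eq_C_mul, map_pow, map_neg, map_one]
  rw [h1]
  have h2 : Ideal.Quotient.mk (plIdealTop (d := d) (n := n) K) (((-1 : K) ^ u) • x)
      = ((-1 : K) ^ u) • Ideal.Quotient.mk (plIdealTop (d := d) (n := n) K) x :=
    map_smul (Ideal.Quotient.mkₐ K (plIdealTop (d := d) (n := n) K)) _ _
  rw [h2]
  exact Submodule.smul_mem _ _ hx

theorem X_mul_std {m : ℕ} (τ : Idx d n)
    (hμ : ∀ h : Fin (m + 1) → Idx d n, (∃ k, esum τ < esum (h k)) →
      Ideal.Quotient.mk (plIdealTop (d := d) (n := n) K) (chainMon K h) ∈ StdM d n K (m + 1))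
    (c : Fin m → Idx d n) (hc : Antitone c) :
    Ideal.Quotient.mk (plIdealTop (d := d) (n := n) K) (X τ * chainMon K c)
      ∈ StdM d n K (m + 1) := by
  cases m with
  | zero => exact cons_mem K τ c hc (fun hm => absurd hm (lt_irrefl 0))
  | succ m' =>
    by_cases hle : c 0 ≤ τ
    · exact cons_mem K τ c hc (fun _ => hle)
    · obtain ⟨r, hr⟩ := exists_pivot τ (c 0) hle
      have hrest : chainMon K c = X (c 0) * chainMon K (Fin.tail c) := by
        unfold chainMon
        rw [Fin.prod_univ_succ]
        rfl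
      have hrel : shuffleRel K τ (c 0) r ∈ plIdealTop (d := d) (n := n) K :=
        Ideal.subset_span ⟨τ, c 0, r, hr, rfl⟩
      have hexp : X τ * chainMon K c
          = shuffleRel K τ (c 0) r * chainMon K (Fin.tail c)
            - ∑ A ∈ (Finset.univ.erase (A0 r) : Finset (Finset (Fin (d + 1)))),
              shuffleTerm K τ (c 0) r A * chainMon K (Fin.tail c) := by
        rw [hrest, ← mul_assoc, mul_eq_shuffleRel_sub K τ (c 0) r, sub_mul, Finset.sum_mul]
      rw [hexp, map_sub, map_sum]
      have h0 : Ideal.Quotient.mk (plIdealTop (d := d) (n := n) K)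
          (shuffleRel K τ (c 0) r * chainMon K (Fin.tail c)) = 0 :=
        Ideal.Quotient.eq_zero_iff_mem.mpr (Ideal.mul_mem_right _ _ hrel)
      rw [h0, zero_sub]
      apply Submodule.neg_mem
      apply Submodule.sum_mem
      intro A hA
      have hAne : A ≠ A0 r := (Finset.mem_erase.mp hA).1
      rcases shuffleTerm_cases K τ (c 0) r hr.2 A hAne with h1 | ⟨i', j', u, hlt, h1⟩
      · rw [h1, zero_mul, map_zero]
        exact Submodule.zero_mem _
      · rw [h1, mul_assoc]
        apply neg_one_pow_mul_mem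
        have : X i' * X j' * chainMon K (Fin.tail c)
            = chainMon K (Fin.cons i' (Fin.cons j' (Fin.tail c)) : Fin (m' + 1 + 1) → Idx d n) := by
          rw [chainMon_cons, chainMon_cons, mul_assoc]
        rw [this]
        apply hμ
        exact ⟨0, by rw [Fin.cons_zero]; exact hlt⟩

theorem chainMon_mem (m : ℕ) (f : Fin m → Idx d n) :
    Ideal.Quotient.mk (plIdealTop (d := d) (n := n) K) (chainMon K f) ∈ StdM d n K m := by
  induction m with
  | zero =>
    exact Submodule.subset_span ⟨⟨f, fun a => a.elim0⟩, rfl⟩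
  | succ m ih =>
    generalize hN : d * n - Finset.univ.sup (fun k => esum (f k)) = N
    induction N using Nat.strong_induction_on generalizing f with
    | _ N IH =>
    obtain ⟨k₀, -, hk₀⟩ := Finset.exists_mem_eq_sup Finset.univ Finset.univ_nonempty
      (fun k => esum (f k))
    have hsplit : chainMon K f = X (f k₀) * chainMon K (f ∘ k₀.succAbove) := by
      unfold chainMon
      rw [Fin.prod_univ_succAbove _ k₀]
      rfl
    rw [hsplit, map_mul]
    have hy := ih (f ∘ k₀.succAbove)
    have hμ : ∀ h : Fin (m + 1) → Idx d n, (∃ k, esum (f k₀) < esum (h k)) →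
        Ideal.Quotient.mk (plIdealTop (d := d) (n := n) K) (chainMon K h)
          ∈ StdM d n K (m + 1) := by
      rintro h ⟨k, hk⟩
      refine IH (d * n - Finset.univ.sup (fun k => esum (h k))) ?_ h rfl
      have h1 : esum (h k) ≤ Finset.univ.sup (fun k => esum (h k)) :=
        Finset.le_sup (f := fun k => esum (h k)) (Finset.mem_univ k)
      have h2 : Finset.univ.sup (fun k => esum (h k)) ≤ d * n :=
        Finset.sup_le fun k _ => esum_le (h k)
      rw [← hN, hk₀]
      omega
    refine Submodule.span_induction (p := fun y _ =>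
      Ideal.Quotient.mk (plIdealTop (d := d) (n := n) K) (X (f k₀)) * y ∈ StdM d n K (m + 1))
      ?_ ?_ ?_ ?_ hy
    · rintro y ⟨c, rfl⟩
      simp only
      rw [← map_mul]
      exact X_mul_std K (f k₀) hμ c.1 c.2
    · rw [mul_zero]
      exact Submodule.zero_mem _
    · intro x y _ _ hx hy
      rw [mul_add]
      exact Submodule.add_mem _ hx hy
    · intro a x _ hx
      rw [mul_smul_comm]
      exact Submodule.smul_mem _ _ hx

theorem StdM_le (m : ℕ) : StdM d n K m ≤
    Submodule.span K (Set.range fun c : (Σ m : ℕ, {c : Fin m → Idx d n // Antitone c}) =>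
        Ideal.Quotient.mk (plIdealTop (d := d) (n := n) K) (chainMon K c.2.1)) := by
  apply Submodule.span_mono
  rintro y ⟨c, rfl⟩
  exact ⟨⟨m, c⟩, rfl⟩

theorem span_eq_top :
    Submodule.span K (Set.range fun c : (Σ m : ℕ, {c : Fin m → Idx d n // Antitone c}) =>
        Ideal.Quotient.mk (plIdealTop (d := d) (n := n) K) (chainMon K c.2.1)) = ⊤ := by
  rw [eq_top_iff]
  rintro x -
  obtain ⟨f, rfl⟩ := Ideal.Quotient.mk_surjective x
  have key : ∀ (m : ℕ) (g : Fin m → Idx d n),
      Ideal.Quotient.mk (plIdealTop (d := d) (n := n) K) (f * chainMon K g) ∈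
      Submodule.span K (Set.range fun c : (Σ m : ℕ, {c : Fin m → Idx d n // Antitone c}) =>
        Ideal.Quotient.mk (plIdealTop (d := d) (n := n) K) (chainMon K c.2.1)) := by
    induction f using MvPolynomial.induction_on with
    | C a =>
      intro m g
      have h2 : Ideal.Quotient.mk (plIdealTop (d := d) (n := n) K) (C a * chainMon K g)
          = a • Ideal.Quotient.mk (plIdealTop (d := d) (n := n) K) (chainMon K g) := by
        rw [← smul_eq_C_mul]
        exact map_smul (Ideal.Quotient.mkₐ K (plIdealTop (d := d) (n := n) K)) _ _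
      rw [h2]
      exact Submodule.smul_mem _ _ (StdM_le K m (chainMon_mem K m g))
    | add p q hp hq =>
      intro m g
      rw [add_mul, map_add]
      exact Submodule.add_mem _ (hp m g) (hq m g)
    | mul_X p θ hp =>
      intro m g
      rw [mul_assoc, ← chainMon_cons]
      exact hp (m + 1) _
  have := key 0 (fun a => a.elim0)
  have h1 : chainMon K (fun a : Fin 0 => a.elim0 : Fin 0 → Idx d n) = 1 := by
    unfold chainMon
    simp
  rwa [h1, mul_one] at this

end main

end Groth.Agent.H59.Straighten
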