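import Mathlib
import Groth.Agent.H59.Straighten

/-!
# The shuffle relations vanish on the vector of minors of any matrix
-/

set_option autoImplicit false

namespace Groth.Agent.H59.ShuffleMinors

open W4bk4grassmannian MvPolynomial

section generic

variable {K : Type*} [CommRing K] {V N : Type*} [AddCommGroup V] [Module K V]
  [AddCommGroup N] [Module K N]

theorem map_swap_adjacent {n : ℕ} (Φ : MultilinearMap K (fun _ : Fin (n + 1) => V) N)
    (h : ∀ (v : Fin (n + 1) → V) (a : Fin n), v a.castSucc = v a.succ → Φ v = 0)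
    (v : Fin (n + 1) → V) (a : Fin n) :
    Φ (v ∘ Equiv.swap a.castSucc a.succ) = - Φ v := by
  set p := a.castSucc with hp
  set q := a.succ with hq
  have hpq : p ≠ q := by
    intro h'
    have := congrArg Fin.val h'
    simp [hp, hq] at this
  set x := v p with hx
  set y := v q with hy
  have h0 : Φ (Function.update (Function.update v p (x + y)) q (x + y)) = 0 := by
    apply h _ a
    rw [← hp, ← hq, Function.update_self, Function.update_of_ne hpq, Function.update_self]
  have e1 : ∀ z : V, Function.update (Function.update v p (x + y)) q z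
      = Function.update (Function.update v q z) p (x + y) := fun z =>
    Function.update_comm hpq _ _ _
  have hxx : Φ (Function.update (Function.update v q x) p x) = 0 := by
    apply h _ a
    rw [← hp, ← hq, Function.update_self, Function.update_of_ne hpq.symm, Function.update_self]
  have hyy : Φ (Function.update (Function.update v q y) p y) = 0 := by
    apply h _ a
    rw [← hp, ← hq, Function.update_self, Function.update_of_ne hpq.symm, Function.update_self]
  have hyx : Function.update (Function.update v q y) p x = v := by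
    rw [hy, Function.update_eq_self, hx, Function.update_eq_self]
  have hxy : Function.update (Function.update v q x) p y = v ∘ Equiv.swap p q := by
    funext k
    by_cases hkp : k = p
    · subst hkp
      simp [hy]
    · by_cases hkq : k = q
      · subst hkq
        simp [hx, hkp]
      · simp [Function.update_of_ne hkp, Function.update_of_ne hkq,
          Equiv.swap_apply_of_ne_of_ne hkp hkq]
  rw [Φ.map_update_add, e1, e1, Φ.map_update_add, Φ.map_update_add, hxx, hyy, hyx, hxy] at h0
  rw [zero_add, add_zero] at h0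
  exact eq_neg_of_add_eq_zero_left h0


theorem map_eq_zero_of_adjacent {n : ℕ} (Φ : MultilinearMap K (fun _ : Fin (n + 1) => V) N)
    (h : ∀ (v : Fin (n + 1) → V) (a : Fin n), v a.castSucc = v a.succ → Φ v = 0) :
    ∀ (v : Fin (n + 1) → V) (i j : Fin (n + 1)), v i = v j → i ≠ j → Φ v = 0 := by
  -- first the case i < j, by induction on the distance
  have key : ∀ (k : ℕ) (v : Fin (n + 1) → V) (i j : Fin (n + 1)), j.val = i.val + k + 1 →
      v i = v j → Φ v = 0 := by
    intro k
    induction k with
    | zero =>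
      intro v i j hij hv
      have hi : i.val < n := by have := j.isLt; omega
      have h1 : i = (⟨i.val, hi⟩ : Fin n).castSucc := Fin.ext rfl
      have h2 : j = (⟨i.val, hi⟩ : Fin n).succ := Fin.ext (by simp [hij])
      apply h v ⟨i.val, hi⟩
      rw [← h1, ← h2]
      exact hv
    | succ k ih =>
      intro v i j hij hv
      have hj : j.val - 1 < n := by have := j.isLt; omega
      set a : Fin n := ⟨j.val - 1, hj⟩ with ha
      have h2 : j = a.succ := Fin.ext (by simp [ha]; omega)
      have hne1 : i ≠ a.castSucc := by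
        intro h'
        have := congrArg Fin.val h'
        simp [ha] at this
        omega
      have hne2 : i ≠ a.succ := by
        intro h'
        have := congrArg Fin.val h'
        simp [ha] at this
        omega
      have hsw := map_swap_adjacent Φ h v a
      have h0 : Φ (v ∘ Equiv.swap a.castSucc a.succ) = 0 := by
        apply ih (v ∘ Equiv.swap a.castSucc a.succ) i a.castSucc
        · simp [ha]
          omega
        · simp only [Function.comp_apply]
          rw [Equiv.swap_apply_of_ne_of_ne hne1 hne2, Equiv.swap_apply_left, ← h2]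
          exact hv
      rw [h0] at hsw
      exact neg_eq_zero.mp hsw.symm
  intro v i j hv hij
  rcases lt_or_gt_of_ne hij with hlt | hlt
  · have := Fin.lt_def.mp hlt
    exact key (j.val - i.val - 1) v i j (by omega) hv
  · have := Fin.lt_def.mp hlt
    exact key (i.val - j.val - 1) v j i (by omega) hv.symm

end generic


section shuffle

variable {K : Type*} [CommRing K] {d : ℕ}

/-- rows for the first determinant: the first `r + 1` rows vary. -/
def rowsTop (r : Fin d) (Wr : Fin d → Fin d → K) (w : Fin (r.val + 1) → Fin d → K) :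
    Matrix (Fin d) (Fin d) K :=
  Matrix.of fun t : Fin d => if h : t.val ≤ r.val then w ⟨t.val, Nat.lt_succ_of_le h⟩ else Wr t

/-- rows for the second determinant: the last `d - r` rows vary. -/
def rowsBot (r : Fin d) (Ur : Fin d → Fin d → K) (w : Fin (d - r.val) → Fin d → K) :
    Matrix (Fin d) (Fin d) K :=
  Matrix.of fun t : Fin d => if h : t.val < r.val then Ur t
    else w ⟨t.val - r.val, by have := t.isLt; omega⟩

theorem rowsTop_update (r : Fin d) (Wr : Fin d → Fin d → K) (w : Fin (r.val + 1) → Fin d → K)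
    (t₀ : Fin (r.val + 1)) (x : Fin d → K) :
    rowsTop r Wr (Function.update w t₀ x)
      = (rowsTop r Wr w).updateRow ⟨t₀.val, by have := t₀.isLt; have := r.isLt; omega⟩ x := by
  ext t c
  rw [Matrix.updateRow_apply]
  by_cases ht : t = ⟨t₀.val, by have := t₀.isLt; have := r.isLt; omega⟩
  · rw [if_pos ht]
    subst ht
    have h : t₀.val ≤ r.val := by have := t₀.isLt; omega
    simp only [rowsTop, Matrix.of_apply]
    rw [dif_pos h]
    simp
  · rw [if_neg ht]
    simp only [rowsTop, Matrix.of_apply]
    by_cases h : t.val ≤ r.val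
    · rw [dif_pos h, dif_pos h, Function.update_of_ne]
      intro h'
      apply ht
      apply Fin.ext
      have := congrArg Fin.val h'
      simpa using this
    · rw [dif_neg h, dif_neg h]

theorem rowsBot_update (r : Fin d) (Ur : Fin d → Fin d → K) (w : Fin (d - r.val) → Fin d → K)
    (t₀ : Fin (d - r.val)) (x : Fin d → K) :
    rowsBot r Ur (Function.update w t₀ x)
      = (rowsBot r Ur w).updateRow ⟨r.val + t₀.val, by have := t₀.isLt; omega⟩ x := by
  ext t c
  rw [Matrix.updateRow_apply]
  by_cases ht : t = ⟨r.val + t₀.val, by have := t₀.isLt; omega⟩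
  · rw [if_pos ht]
    subst ht
    simp only [rowsBot, Matrix.of_apply]
    rw [dif_neg (by simp)]
    have : (⟨r.val + t₀.val - r.val, by have := t₀.isLt; omega⟩ : Fin (d - r.val)) = t₀ :=
      Fin.ext (by simp)
    rw [this]
    simp
  · rw [if_neg ht]
    simp only [rowsBot, Matrix.of_apply]
    by_cases h : t.val < r.val
    · rw [dif_pos h, dif_pos h]
    · rw [dif_neg h, dif_neg h, Function.update_of_ne]
      intro h'
      apply ht
      apply Fin.ext
      have := congrArg Fin.val h'
      simp only at this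
      simp only
      omega

theorem det_rowsTop_add (r : Fin d) (Wr : Fin d → Fin d → K) (w : Fin (r.val + 1) → Fin d → K)
    (t₀ : Fin (r.val + 1)) (x y : Fin d → K) :
    (rowsTop r Wr (Function.update w t₀ (x + y))).det
      = (rowsTop r Wr (Function.update w t₀ x)).det
        + (rowsTop r Wr (Function.update w t₀ y)).det := by
  rw [rowsTop_update, rowsTop_update, rowsTop_update, Matrix.det_updateRow_add]

theorem det_rowsTop_smul (r : Fin d) (Wr : Fin d → Fin d → K) (w : Fin (r.val + 1) → Fin d → K)
    (t₀ : Fin (r.val + 1)) (c : K) (x : Fin d → K) :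
    (rowsTop r Wr (Function.update w t₀ (c • x))).det
      = c * (rowsTop r Wr (Function.update w t₀ x)).det := by
  rw [rowsTop_update, rowsTop_update, Matrix.det_updateRow_smul]

theorem det_rowsBot_add (r : Fin d) (Ur : Fin d → Fin d → K) (w : Fin (d - r.val) → Fin d → K)
    (t₀ : Fin (d - r.val)) (x y : Fin d → K) :
    (rowsBot r Ur (Function.update w t₀ (x + y))).det
      = (rowsBot r Ur (Function.update w t₀ x)).det
        + (rowsBot r Ur (Function.update w t₀ y)).det := by
  rw [rowsBot_update, rowsBot_update, rowsBot_update, Matrix.det_updateRow_add]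

theorem det_rowsBot_smul (r : Fin d) (Ur : Fin d → Fin d → K) (w : Fin (d - r.val) → Fin d → K)
    (t₀ : Fin (d - r.val)) (c : K) (x : Fin d → K) :
    (rowsBot r Ur (Function.update w t₀ (c • x))).det
      = c * (rowsBot r Ur (Function.update w t₀ x)).det := by
  rw [rowsBot_update, rowsBot_update, Matrix.det_updateRow_smul]

theorem det_rowsTop_eq_zero (r : Fin d) (Wr : Fin d → Fin d → K)
    (w : Fin (r.val + 1) → Fin d → K) (t₁ t₂ : Fin (r.val + 1)) (hne : t₁ ≠ t₂)
    (h : w t₁ = w t₂) : (rowsTop r Wr w).det = 0 := by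
  have h1 : t₁.val ≤ r.val := by have := t₁.isLt; omega
  have h2 : t₂.val ≤ r.val := by have := t₂.isLt; omega
  apply Matrix.det_zero_of_row_eq
    (i := (⟨t₁.val, by have := r.isLt; omega⟩ : Fin d))
    (j := (⟨t₂.val, by have := r.isLt; omega⟩ : Fin d))
  · intro h'
    apply hne
    apply Fin.ext
    simpa using congrArg Fin.val h'
  · funext c
    simp only [rowsTop, Matrix.of_apply]
    rw [dif_pos h1, dif_pos h2]
    exact congrFun h c

theorem det_rowsBot_eq_zero (r : Fin d) (Ur : Fin d → Fin d → K)
    (w : Fin (d - r.val) → Fin d → K) (t₁ t₂ : Fin (d - r.val)) (hne : t₁ ≠ t₂)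
    (h : w t₁ = w t₂) : (rowsBot r Ur w).det = 0 := by
  apply Matrix.det_zero_of_row_eq
    (i := (⟨r.val + t₁.val, by have := t₁.isLt; omega⟩ : Fin d))
    (j := (⟨r.val + t₂.val, by have := t₂.isLt; omega⟩ : Fin d))
  · intro h'
    apply hne
    apply Fin.ext
    have := congrArg Fin.val h'
    simp only at this
    omega
  · funext c
    simp only [rowsBot, Matrix.of_apply]
    rw [dif_neg (by simp), dif_neg (by simp)]
    have e1 : (⟨r.val + t₁.val - r.val, by have := t₁.isLt; omega⟩ : Fin (d - r.val)) = t₁ :=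
      Fin.ext (by simp)
    have e2 : (⟨r.val + t₂.val - r.val, by have := t₂.isLt; omega⟩ : Fin (d - r.val)) = t₂ :=
      Fin.ext (by simp)
    rw [e1, e2]
    exact congrFun h c

end shuffle


section combin

variable {d : ℕ}

theorem cardC (r : Fin d) (A : Finset (Fin (d + 1))) (hA : A.card = r.val + 1) :
    Aᶜ.card = d - r.val := by
  rw [Finset.card_compl, hA, Fintype.card_fin]
  omega

theorem swap_val (a : Fin d) (x : Fin (d + 1)) :
    (Equiv.swap a.castSucc a.succ x).val
      = if x.val = a.val then a.val + 1 else if x.val = a.val + 1 then a.val else x.val := by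
  rw [Equiv.swap_apply_def]
  by_cases h1 : x = a.castSucc
  · rw [if_pos h1, if_pos (by rw [h1]; rfl)]
    rfl
  · have h1' : ¬ x.val = a.val := fun h => h1 (Fin.ext h)
    rw [if_neg h1, if_neg h1']
    by_cases h2 : x = a.succ
    · rw [if_pos h2, if_pos (by rw [h2]; rfl)]
      rfl
    · have h2' : ¬ x.val = a.val + 1 := fun h => h2 (Fin.ext h)
      rw [if_neg h2, if_neg h2']

theorem mem_image_swap (a : Fin d) (S : Finset (Fin (d + 1))) (x : Fin (d + 1)) :
    x ∈ S.image (Equiv.swap a.castSucc a.succ) ↔ Equiv.swap a.castSucc a.succ x ∈ S := by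
  rw [Finset.mem_image]
  constructor
  · rintro ⟨y, hy, rfl⟩
    rwa [Equiv.swap_apply_self]
  · intro h
    exact ⟨_, h, Equiv.swap_apply_self _ _ _⟩

theorem compl_image_swap (a : Fin d) (S : Finset (Fin (d + 1))) :
    (S.image (Equiv.swap a.castSucc a.succ))ᶜ = Sᶜ.image (Equiv.swap a.castSucc a.succ) := by
  ext x
  rw [Finset.mem_compl, mem_image_swap, mem_image_swap, Finset.mem_compl]

theorem strictMono_swap_comp (S : Finset (Fin (d + 1))) (k : ℕ) (hS : S.card = k) (a : Fin d)
    (hx : ¬ (a.castSucc ∈ S ↔ a.succ ∈ S)) :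
    StrictMono (Equiv.swap a.castSucc a.succ ∘ S.orderEmbOfFin hS) := by
  intro t₁ t₂ hlt
  have hxy : S.orderEmbOfFin hS t₁ < S.orderEmbOfFin hS t₂ := (S.orderEmbOfFin hS).strictMono hlt
  have hx1 := Finset.orderEmbOfFin_mem S hS t₁
  have hx2 := Finset.orderEmbOfFin_mem S hS t₂
  set x := S.orderEmbOfFin hS t₁
  set y := S.orderEmbOfFin hS t₂
  have hxy' := Fin.lt_def.mp hxy
  simp only [Function.comp_apply]
  apply Fin.lt_def.mpr
  rw [swap_val, swap_val]
  -- exclude x = p, y = q
  have hex : ¬ (x.val = a.val ∧ y.val = a.val + 1) := by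
    rintro ⟨h1, h2⟩
    apply hx
    have e1 : x = a.castSucc := Fin.ext h1
    have e2 : y = a.succ := Fin.ext h2
    rw [← e1, ← e2]
    exact ⟨fun _ => hx2, fun _ => hx1⟩
  split_ifs <;> omega

theorem sum_image_swap (a : Fin d) (S : Finset (Fin (d + 1))) :
    (a.castSucc ∈ S → a.succ ∉ S →
      ∑ x ∈ S.image (Equiv.swap a.castSucc a.succ), x.val = ∑ x ∈ S, x.val + 1) ∧
    (a.castSucc ∉ S → a.succ ∈ S →
      ∑ x ∈ S.image (Equiv.swap a.castSucc a.succ), x.val + 1 = ∑ x ∈ S, x.val) := by
  have h0 : ∑ x ∈ S.image (Equiv.swap a.castSucc a.succ), x.val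
      = ∑ x ∈ S, (Equiv.swap a.castSucc a.succ x).val := by
    rw [Finset.sum_image]
    intro x _ y _ hxy
    exact (Equiv.swap a.castSucc a.succ).injective hxy
  constructor
  · intro hp hq
    rw [h0]
    have h1 : ∀ x ∈ S, (Equiv.swap a.castSucc a.succ x).val
        = x.val + (if x = a.castSucc then 1 else 0) := by
      intro x hxS
      rw [swap_val]
      by_cases h : x = a.castSucc
      · rw [if_pos h, if_pos (by rw [h]; rfl)]
        rw [h]
        rfl
      · have h' : ¬ x.val = a.val := fun e => h (Fin.ext e)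
        have h2 : ¬ x.val = a.val + 1 := fun e => hq (by
          have : x = a.succ := Fin.ext e
          rwa [← this])
        rw [if_neg h, if_neg h', if_neg h2, add_zero]
    rw [Finset.sum_congr rfl h1, Finset.sum_add_distrib, Finset.sum_ite_eq' S a.castSucc,
      if_pos hp]
  · intro hp hq
    rw [h0]
    have h1 : ∀ x ∈ S, (Equiv.swap a.castSucc a.succ x).val + (if x = a.succ then 1 else 0)
        = x.val := by
      intro x hxS
      rw [swap_val]
      by_cases h : x = a.succ
      · have e : x.val = a.val + 1 := by rw [h]; rfl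
        rw [if_pos h, if_neg (by omega), if_pos e]
        omega
      · have h' : ¬ x.val = a.val + 1 := fun e => h (Fin.ext e)
        have h2 : ¬ x.val = a.val := fun e => hp (by
          have : x = a.castSucc := Fin.ext e
          rwa [← this])
        rw [if_neg h, if_neg h2, if_neg h', add_zero]
    rw [← Finset.sum_congr rfl h1, Finset.sum_add_distrib, Finset.sum_ite_eq' S a.succ,
      if_pos hq]

theorem sum_ge (r : Fin d) (S : Finset (Fin (d + 1))) (hS : S.card = r.val + 1) :
    r.val * (r.val + 1) / 2 ≤ ∑ x ∈ S, x.val := by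
  have h1 : ∑ x ∈ S, x.val = ∑ t : Fin (r.val + 1), (S.orderEmbOfFin hS t).val := by
    have h3 : ∑ x ∈ Finset.image (S.orderEmbOfFin hS) Finset.univ, x.val
        = ∑ t : Fin (r.val + 1), (S.orderEmbOfFin hS t).val := by
      rw [Finset.sum_image]
      intro x _ y _ hxy
      exact (S.orderEmbOfFin hS).injective hxy
    rw [← h3, Finset.image_orderEmbOfFin_univ S hS]
  have h2 : ∑ t : Fin (r.val + 1), t.val = r.val * (r.val + 1) / 2 := by
    rw [Fin.sum_univ_eq_sum_range (fun t => t) (r.val + 1), Finset.sum_range_id,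
      Nat.add_sub_cancel, mul_comm]
  rw [h1, ← h2]
  exact Finset.sum_le_sum fun t _ =>
    Straighten.strictMono_val_le _ (S.orderEmbOfFin hS).strictMono t

end combin


section phi

variable {K : Type*} [CommRing K] {d : ℕ}

/-- one term of the shuffle sum, as a function of the `d + 1` moving rows. -/
noncomputable def shufTerm (r : Fin d) (Wr Ur : Fin d → Fin d → K)
    (v : Fin (d + 1) → Fin d → K) (A : Finset (Fin (d + 1))) : K :=
  if hA : A.card = r.val + 1 then
    (-1 : K) ^ (shuffleSign r A) * (rowsTop r Wr (v ∘ A.orderEmbOfFin hA)).det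
      * (rowsBot r Ur (v ∘ Aᶜ.orderEmbOfFin (cardC r A hA))).det
  else 0

theorem exists_oe_eq {k : ℕ} (S : Finset (Fin (d + 1))) (hS : S.card = k) (x : Fin (d + 1))
    (hx : x ∈ S) : ∃ t, S.orderEmbOfFin hS t = x := by
  have : x ∈ Set.range (S.orderEmbOfFin hS) := by
    rw [Finset.range_orderEmbOfFin]
    exact hx
  exact this

theorem update_comp_oe_mem {k : ℕ} (S : Finset (Fin (d + 1))) (hS : S.card = k)
    (v : Fin (d + 1) → Fin d → K) (t : Fin k) (z : Fin d → K) :
    Function.update v (S.orderEmbOfFin hS t) z ∘ S.orderEmbOfFin hS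
      = Function.update (v ∘ S.orderEmbOfFin hS) t z :=
  Function.update_comp_eq_of_injective v (S.orderEmbOfFin hS).injective t z

theorem update_comp_oe_notMem {k : ℕ} (S : Finset (Fin (d + 1))) (hS : S.card = k)
    (v : Fin (d + 1) → Fin d → K) (x : Fin (d + 1)) (hx : x ∉ S) (z : Fin d → K) :
    Function.update v x z ∘ S.orderEmbOfFin hS = v ∘ S.orderEmbOfFin hS := by
  apply Function.update_comp_eq_of_forall_ne
  intro t h
  exact hx (h ▸ Finset.orderEmbOfFin_mem S hS t)

theorem shufTerm_update_add (r : Fin d) (Wr Ur : Fin d → Fin d → K)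
    (v : Fin (d + 1) → Fin d → K) (A : Finset (Fin (d + 1))) (k : Fin (d + 1))
    (x y : Fin d → K) :
    shufTerm r Wr Ur (Function.update v k (x + y)) A
      = shufTerm r Wr Ur (Function.update v k x) A
        + shufTerm r Wr Ur (Function.update v k y) A := by
  unfold shufTerm
  by_cases hA : A.card = r.val + 1
  · rw [dif_pos hA, dif_pos hA, dif_pos hA]
    by_cases hk : k ∈ A
    · obtain ⟨t, rfl⟩ := exists_oe_eq A hA k hk
      have hnc : A.orderEmbOfFin hA t ∉ Aᶜ := by
        rw [Finset.mem_compl, not_not]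
        exact hk
      rw [update_comp_oe_mem, update_comp_oe_mem, update_comp_oe_mem,
        update_comp_oe_notMem Aᶜ _ v _ hnc, update_comp_oe_notMem Aᶜ _ v _ hnc,
        update_comp_oe_notMem Aᶜ _ v _ hnc, det_rowsTop_add]
      ring
    · have hkc : k ∈ Aᶜ := Finset.mem_compl.mpr hk
      obtain ⟨t, rfl⟩ := exists_oe_eq Aᶜ (cardC r A hA) k hkc
      rw [update_comp_oe_mem, update_comp_oe_mem, update_comp_oe_mem,
        update_comp_oe_notMem A _ v _ hk, update_comp_oe_notMem A _ v _ hk,
        update_comp_oe_notMem A _ v _ hk, det_rowsBot_add]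
      ring
  · rw [dif_neg hA, dif_neg hA, dif_neg hA, add_zero]

theorem shufTerm_update_smul (r : Fin d) (Wr Ur : Fin d → Fin d → K)
    (v : Fin (d + 1) → Fin d → K) (A : Finset (Fin (d + 1))) (k : Fin (d + 1))
    (c : K) (x : Fin d → K) :
    shufTerm r Wr Ur (Function.update v k (c • x)) A
      = c * shufTerm r Wr Ur (Function.update v k x) A := by
  unfold shufTerm
  by_cases hA : A.card = r.val + 1
  · rw [dif_pos hA, dif_pos hA]
    by_cases hk : k ∈ A
    · obtain ⟨t, rfl⟩ := exists_oe_eq A hA k hk
      have hnc : A.orderEmbOfFin hA t ∉ Aᶜ := by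
        rw [Finset.mem_compl, not_not]
        exact hk
      rw [update_comp_oe_mem, update_comp_oe_mem,
        update_comp_oe_notMem Aᶜ _ v _ hnc, update_comp_oe_notMem Aᶜ _ v _ hnc,
        det_rowsTop_smul]
      ring
    · have hkc : k ∈ Aᶜ := Finset.mem_compl.mpr hk
      obtain ⟨t, rfl⟩ := exists_oe_eq Aᶜ (cardC r A hA) k hkc
      rw [update_comp_oe_mem, update_comp_oe_mem,
        update_comp_oe_notMem A _ v _ hk, update_comp_oe_notMem A _ v _ hk, det_rowsBot_smul]
      ring
  · rw [dif_neg hA, dif_neg hA, mul_zero]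

/-- the shuffle sum as a multilinear map of the moving rows. -/
noncomputable def Phi (r : Fin d) (Wr Ur : Fin d → Fin d → K) :
    MultilinearMap K (fun _ : Fin (d + 1) => (Fin d → K)) K where
  toFun v := ∑ A : Finset (Fin (d + 1)), shufTerm r Wr Ur v A
  map_update_add' := by
    intro inst v k x y
    have : inst = instDecidableEqFin (d + 1) := Subsingleton.elim _ _
    subst this
    rw [← Finset.sum_add_distrib]
    exact Finset.sum_congr rfl fun A _ => shufTerm_update_add r Wr Ur v A k x y
  map_update_smul' := by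
    intro inst v k c x
    have : inst = instDecidableEqFin (d + 1) := Subsingleton.elim _ _
    subst this
    rw [smul_eq_mul, Finset.mul_sum]
    exact Finset.sum_congr rfl fun A _ => shufTerm_update_smul r Wr Ur v A k c x

theorem Phi_apply (r : Fin d) (Wr Ur : Fin d → Fin d → K) (v : Fin (d + 1) → Fin d → K) :
    Phi r Wr Ur v = ∑ A : Finset (Fin (d + 1)), shufTerm r Wr Ur v A := rfl

end phi


section adjacent

variable {K : Type*} [CommRing K] {d : ℕ}

theorem comp_swap_eq (v : Fin (d + 1) → Fin d → K) (a : Fin d)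
    (hv : v a.castSucc = v a.succ) : v ∘ Equiv.swap a.castSucc a.succ = v := by
  funext x
  simp only [Function.comp_apply]
  rw [Equiv.swap_apply_def]
  split_ifs with h1 h2
  · rw [h1]; exact hv.symm
  · rw [h2]; exact hv
  · rfl

theorem shufTerm_eq_zero_of_iff (r : Fin d) (Wr Ur : Fin d → Fin d → K)
    (v : Fin (d + 1) → Fin d → K) (a : Fin d) (hv : v a.castSucc = v a.succ)
    (A : Finset (Fin (d + 1))) (hx : a.castSucc ∈ A ↔ a.succ ∈ A) :
    shufTerm r Wr Ur v A = 0 := by
  have hpq : a.castSucc ≠ a.succ := by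
    intro h'
    have := congrArg Fin.val h'
    simp at this
  unfold shufTerm
  by_cases hA : A.card = r.val + 1
  · rw [dif_pos hA]
    by_cases hp : a.castSucc ∈ A
    · have hq := hx.mp hp
      obtain ⟨t₁, ht₁⟩ := exists_oe_eq A hA _ hp
      obtain ⟨t₂, ht₂⟩ := exists_oe_eq A hA _ hq
      have hne : t₁ ≠ t₂ := by
        intro h'
        apply hpq
        rw [← ht₁, ← ht₂, h']
      rw [det_rowsTop_eq_zero r Wr _ t₁ t₂ hne (by
        simp only [Function.comp_apply]
        rw [ht₁, ht₂]
        exact hv), mul_zero, zero_mul]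
    · have hq : a.succ ∉ A := fun h => hp (hx.mpr h)
      obtain ⟨t₁, ht₁⟩ := exists_oe_eq Aᶜ (cardC r A hA) _ (Finset.mem_compl.mpr hp)
      obtain ⟨t₂, ht₂⟩ := exists_oe_eq Aᶜ (cardC r A hA) _ (Finset.mem_compl.mpr hq)
      have hne : t₁ ≠ t₂ := by
        intro h'
        apply hpq
        rw [← ht₁, ← ht₂, h']
      rw [det_rowsBot_eq_zero r Ur _ t₁ t₂ hne (by
        simp only [Function.comp_apply]
        rw [ht₁, ht₂]
        exact hv), mul_zero]
  · rw [dif_neg hA]

theorem shufTerm_swap (r : Fin d) (Wr Ur : Fin d → Fin d → K)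
    (v : Fin (d + 1) → Fin d → K) (a : Fin d) (hv : v a.castSucc = v a.succ)
    (A : Finset (Fin (d + 1))) (hx : ¬ (a.castSucc ∈ A ↔ a.succ ∈ A)) :
    shufTerm r Wr Ur v (A.image (Equiv.swap a.castSucc a.succ)) = - shufTerm r Wr Ur v A := by
  set s := Equiv.swap a.castSucc a.succ with hs
  have hcard : (A.image s).card = A.card := Finset.card_image_of_injective _ s.injective
  unfold shufTerm
  by_cases hA : A.card = r.val + 1
  · have hA' : (A.image s).card = r.val + 1 := hcard.trans hA
    rw [dif_pos hA', dif_pos hA]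
    have hvs := comp_swap_eq v a hv
    have hxc : ¬ (a.castSucc ∈ Aᶜ ↔ a.succ ∈ Aᶜ) := by
      rw [Finset.mem_compl, Finset.mem_compl, not_iff_not]
      exact hx
    have e1 : ((A.image s).orderEmbOfFin hA' : Fin (r.val + 1) → Fin (d + 1))
        = s ∘ A.orderEmbOfFin hA :=
      (Finset.orderEmbOfFin_unique hA' (f := s ∘ A.orderEmbOfFin hA)
        (fun t => Finset.mem_image_of_mem s (Finset.orderEmbOfFin_mem A hA t))
        (strictMono_swap_comp A _ hA a hx)).symm
    have e2 : (((A.image s)ᶜ).orderEmbOfFin (cardC r _ hA') : Fin (d - r.val) → Fin (d + 1))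
        = s ∘ Aᶜ.orderEmbOfFin (cardC r A hA) :=
      (Finset.orderEmbOfFin_unique (cardC r _ hA') (f := s ∘ Aᶜ.orderEmbOfFin (cardC r A hA))
        (fun t => by
          rw [compl_image_swap]
          exact Finset.mem_image_of_mem s (Finset.orderEmbOfFin_mem Aᶜ _ t))
        (strictMono_swap_comp Aᶜ _ (cardC r A hA) a hxc)).symm
    have e1' : v ∘ ((A.image s).orderEmbOfFin hA' : Fin (r.val + 1) → Fin (d + 1))
        = v ∘ A.orderEmbOfFin hA := by
      rw [e1, ← Function.comp_assoc, hvs]
    have e2' : v ∘ (((A.image s)ᶜ).orderEmbOfFin (cardC r _ hA') : Fin (d - r.val) → Fin (d + 1))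
        = v ∘ Aᶜ.orderEmbOfFin (cardC r A hA) := by
      rw [e2, ← Function.comp_assoc, hvs]
    rw [e1', e2']
    have hsign : (-1 : K) ^ shuffleSign r (A.image s) = - (-1 : K) ^ shuffleSign r A := by
      unfold shuffleSign
      have hge : r.val * (r.val + 1) / 2 ≤ ∑ x ∈ A, x.val := sum_ge r A hA
      have hge' : r.val * (r.val + 1) / 2 ≤ ∑ x ∈ A.image s, x.val := sum_ge r (A.image s) hA'
      by_cases hp : a.castSucc ∈ A
      · have hq : a.succ ∉ A := fun h => hx ⟨fun _ => h, fun _ => hp⟩
        have h4 : ∑ x ∈ A.image s, x.val = ∑ x ∈ A, x.val + 1 := (sum_image_swap a A).1 hp hq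
        generalize (∑ x ∈ A.image s, x.val) = SA' at h4 hge' ⊢
        generalize (∑ x ∈ A, x.val) = SA at h4 hge ⊢
        have h3 : SA' - r.val * (r.val + 1) / 2 = (SA - r.val * (r.val + 1) / 2) + 1 := by
          omega
        rw [h3, pow_succ]
        ring
      · have hq : a.succ ∈ A := by
          by_contra hq
          exact hx ⟨fun h => absurd h hp, fun h => absurd h hq⟩
        have h4 : ∑ x ∈ A.image s, x.val + 1 = ∑ x ∈ A, x.val := (sum_image_swap a A).2 hp hq
        generalize (∑ x ∈ A.image s, x.val) = SA' at h4 hge' ⊢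
        generalize (∑ x ∈ A, x.val) = SA at h4 hge ⊢
        have h3 : SA - r.val * (r.val + 1) / 2 = (SA' - r.val * (r.val + 1) / 2) + 1 := by
          omega
        rw [h3, pow_succ]
        ring
    rw [hsign]
    ring
  · have hA' : ¬ (A.image s).card = r.val + 1 := by rw [hcard]; exact hA
    rw [dif_neg hA', dif_neg hA, neg_zero]

theorem Phi_adjacent (r : Fin d) (Wr Ur : Fin d → Fin d → K)
    (v : Fin (d + 1) → Fin d → K) (a : Fin d) (hv : v a.castSucc = v a.succ) :
    Phi r Wr Ur v = 0 := by
  classical
  rw [Phi_apply]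
  set s := Equiv.swap a.castSucc a.succ with hs
  have hpq : a.castSucc ≠ a.succ := by
    intro h'
    have := congrArg Fin.val h'
    simp at this
  refine Finset.sum_involution
    (fun A _ => if (a.castSucc ∈ A ↔ a.succ ∈ A) then A else A.image s) ?_ ?_ ?_ ?_
  · intro A _
    by_cases hx : (a.castSucc ∈ A ↔ a.succ ∈ A)
    · simp only [if_pos hx]
      rw [shufTerm_eq_zero_of_iff r Wr Ur v a hv A hx, add_zero]
    · simp only [if_neg hx]
      rw [shufTerm_swap r Wr Ur v a hv A hx, add_neg_cancel]
  · intro A _ hne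
    by_cases hx : (a.castSucc ∈ A ↔ a.succ ∈ A)
    · exact absurd (shufTerm_eq_zero_of_iff r Wr Ur v a hv A hx) hne
    · simp only [if_neg hx]
      intro heq
      apply hx
      constructor
      · intro hp
        have : s a.castSucc ∈ A.image s := Finset.mem_image_of_mem s hp
        rw [heq, hs, Equiv.swap_apply_left] at this
        exact this
      · intro hq
        have : s a.succ ∈ A.image s := Finset.mem_image_of_mem s hq
        rw [heq, hs, Equiv.swap_apply_right] at this
        exact this
  · intro A _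
    exact Finset.mem_univ _
  · intro A _
    by_cases hx : (a.castSucc ∈ A ↔ a.succ ∈ A)
    · simp only [if_pos hx]
    · simp only [if_neg hx]
      have hx' : ¬ (a.castSucc ∈ A.image s ↔ a.succ ∈ A.image s) := by
        rw [mem_image_swap, mem_image_swap, Equiv.swap_apply_left, Equiv.swap_apply_right]
        intro h
        exact hx h.symm
      rw [if_neg hx', Finset.image_image]
      have : (s ∘ s : Fin (d + 1) → Fin (d + 1)) = id := by
        funext x
        simp [hs]
      rw [this, Finset.image_id]

end adjacent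


section zero

variable {K : Type*} [CommRing K] {d : ℕ}

/-- the shuffle sum vanishes identically. -/
theorem Phi_eq_zero (r : Fin d) (Wr Ur : Fin d → Fin d → K)
    (v : Fin (d + 1) → Fin d → K) : Phi r Wr Ur v = 0 := by
  let Ψ : (Fin d → K) [⋀^Fin (d + 1)]→ₗ[K] K :=
    { Phi r Wr Ur with
      map_eq_zero_of_eq' := fun v i j hv hij =>
        map_eq_zero_of_adjacent (Phi r Wr Ur)
          (fun v a hv => Phi_adjacent r Wr Ur v a hv) v i j hv hij }
  have hΨ : Ψ = 0 := by
    apply Module.Basis.ext_alternating (Pi.basisFun K (Fin d))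
    intro f hf
    exfalso
    have := Fintype.card_le_of_injective f hf
    simp at this
  have : Ψ v = 0 := by rw [hΨ]; rfl
  exact this

variable {n : ℕ}

theorem submatrix_shuffleI (M : Matrix (Fin n) (Fin d) K) (i j : Idx d n) (r : Fin d)
    (A : Finset (Fin (d + 1))) (hA : A.card = r.val + 1) :
    M.submatrix (shuffleI i j r A hA) id
      = rowsTop r (fun t => M (i.1 t))
          ((fun k => M (movingRows i j r k)) ∘ A.orderEmbOfFin hA) := by
  ext t c
  simp only [rowsTop, Matrix.of_apply, Matrix.submatrix_apply, id, shuffleI]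
  by_cases h : t.val ≤ r.val
  · rw [dif_pos h, dif_pos h]
    rfl
  · rw [dif_neg h, dif_neg h]

theorem submatrix_shuffleJ (M : Matrix (Fin n) (Fin d) K) (i j : Idx d n) (r : Fin d)
    (A : Finset (Fin (d + 1))) (hA : A.card = r.val + 1) :
    M.submatrix (shuffleJ i j r A hA) id
      = rowsBot r (fun t => M (j.1 t))
          ((fun k => M (movingRows i j r k)) ∘ Aᶜ.orderEmbOfFin (cardC r A hA)) := by
  ext t c
  simp only [rowsBot, Matrix.of_apply, Matrix.submatrix_apply, id, shuffleJ]
  by_cases h : t.val < r.val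
  · rw [dif_pos h, dif_pos h]
  · rw [dif_neg h, dif_neg h]
    rfl

/-- every shuffle relation vanishes at the vector of minors of any matrix. -/
theorem eval_minors_shuffleRel (M : Matrix (Fin n) (Fin d) K) (i j : Idx d n) (r : Fin d) :
    eval (fun θ : Idx d n => (M.submatrix θ.1 id).det) (shuffleRel K i j r) = 0 := by
  rw [← Phi_eq_zero r (fun t => M (i.1 t)) (fun t => M (j.1 t))
    (fun k => M (movingRows i j r k)), Phi_apply]
  unfold shuffleRel
  rw [map_sum]
  refine Finset.sum_congr rfl fun A _ => ?_
  unfold shuffleTerm shufTerm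
  by_cases hA : A.card = r.val + 1
  · rw [dif_pos hA, dif_pos hA, map_mul, map_mul, map_pow, map_neg, map_one,
      ← submatrix_shuffleI, ← submatrix_shuffleJ, ← Pluecker.ev_minors, ← Pluecker.ev_minors]
    rfl
  · rw [dif_neg hA, dif_neg hA, map_zero]

end zero

end Groth.Agent.H59.ShuffleMinors
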