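import Mathlib
import Groth.Agent.H59.ShuffleMinors

/-!
# Linear independence of standard monomials on Schubert varieties (leading terms)
-/

set_option autoImplicit false

namespace Groth.Agent.H59.SMTIndep

open W4bk4grassmannian MvPolynomial
open scoped MonomialOrder

section generic

variable {σ : Type*} (m : MonomialOrder σ) {K : Type*} [Field K]

/-- monic polynomials with pairwise distinct leading exponents are linearly independent. -/
theorem linearIndependent_of_monic {ι : Type*} (f : ι → MvPolynomial σ K)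
    (hmonic : ∀ i, m.Monic (f i)) (hinj : Function.Injective fun i => m.degree (f i)) :
    LinearIndependent K f := by
  classical
  rw [linearIndependent_iff']
  intro s g hsum
  by_contra hcon
  push Not at hcon
  obtain ⟨i₁, hi₁, hg₁⟩ := hcon
  set s' := s.filter (fun i => g i ≠ 0) with hs'
  have hne : s'.Nonempty := ⟨i₁, Finset.mem_filter.mpr ⟨hi₁, hg₁⟩⟩
  obtain ⟨i₀, hi₀, hmax⟩ := Finset.exists_max_image s' (fun i => m.toSyn (m.degree (f i))) hne
  have hi₀s : i₀ ∈ s := (Finset.mem_filter.mp hi₀).1
  have hg₀ : g i₀ ≠ 0 := (Finset.mem_filter.mp hi₀).2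
  apply hg₀
  have hc := congrArg (coeff (m.degree (f i₀))) hsum
  rw [coeff_sum, coeff_zero] at hc
  rw [Finset.sum_eq_single i₀] at hc
  · rw [coeff_smul, (hmonic i₀).coeff_degree, smul_eq_mul, mul_one] at hc
    exact hc
  · intro i his hne'
    rw [coeff_smul]
    by_cases hgi : g i = 0
    · rw [hgi, zero_smul]
    · have hi' : i ∈ s' := Finset.mem_filter.mpr ⟨his, hgi⟩
      have hle := hmax i hi'
      have hlt : m.degree (f i) ≺[m] m.degree (f i₀) := by
        apply lt_of_le_of_ne hle
        intro heq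
        exact hne' (hinj (m.toSyn.injective heq))
      rw [m.coeff_eq_zero_of_lt hlt, smul_zero]
  · intro h
    exact absurd hi₀s h

end generic


section det

variable (K : Type*) [Field K] {d n : ℕ}

/-- the variables: (column, row), ordered lexicographically. -/
abbrev Var (d n : ℕ) : Type := Lex (Fin d × Fin n)

/-- the lexicographic monomial order. -/
noncomputable def ord (d n : ℕ) : MonomialOrder (Var d n) := MonomialOrder.lex

/-- exponent attached to an assignment of rows to columns. -/
noncomputable def ex (ρ : Fin d → Fin n) : Var d n →₀ ℕ :=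
  ∑ t : Fin d, Finsupp.single (toLex (t, ρ t)) 1

theorem ex_apply (ρ : Fin d → Fin n) (t₁ : Fin d) (r₁ : Fin n) :
    ex ρ (toLex (t₁, r₁)) = if ρ t₁ = r₁ then 1 else 0 := by
  unfold ex
  rw [Finsupp.finsetSum_apply]
  simp only [Finsupp.single_apply]
  rw [Finset.sum_eq_single t₁]
  · by_cases h : ρ t₁ = r₁
    · rw [if_pos h, if_pos (by rw [h])]
    · rw [if_neg h, if_neg]
      intro h'
      apply h
      have := congrArg (fun p => (ofLex p).2) h'
      simpa using this
  · intro t _ hne
    rw [if_neg]
    intro h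
    apply hne
    have := congrArg (fun p => (ofLex p).1) h
    simpa using this
  · intro h
    exact absurd (Finset.mem_univ _) h

theorem prod_X (ρ : Fin d → Fin n) :
    ∏ t : Fin d, (X (toLex (t, ρ t)) : MvPolynomial (Var d n) K) = monomial (ex ρ) (1 : K) := by
  unfold ex
  rw [monomial_sum_one]
  rfl

/-- a nonidentity permutation strictly lowers the exponent. -/
theorem ex_comp_lt (φ : Idx d n) (π : Equiv.Perm (Fin d)) (hπ : π ≠ 1) :
    ex (φ.1 ∘ π) ≺[ord d n] ex φ.1 := by
  -- the first moved point
  have hex : ∃ t, π t ≠ t := by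
    by_contra hcon
    push Not at hcon
    exact hπ (Equiv.ext hcon)
  set S := Finset.univ.filter (fun t : Fin d => π t ≠ t) with hS
  have hne : S.Nonempty := by
    obtain ⟨t, ht⟩ := hex
    exact ⟨t, Finset.mem_filter.mpr ⟨Finset.mem_univ _, ht⟩⟩
  set t₀ := S.min' hne with ht₀
  have ht₀m : π t₀ ≠ t₀ := (Finset.mem_filter.mp (Finset.min'_mem S hne)).2
  have hfix : ∀ t, t < t₀ → π t = t := by
    intro t ht
    by_contra hcon
    have : t ∈ S := Finset.mem_filter.mpr ⟨Finset.mem_univ _, hcon⟩
    exact absurd (Finset.min'_le S t this) (not_le.mpr ht)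
  have hgt : t₀ < π t₀ := by
    rcases lt_or_gt_of_ne ht₀m with h | h
    · exfalso
      have := hfix (π t₀) h
      exact ht₀m (π.injective this)
    · exact h
  show toLex (ex (φ.1 ∘ π)) < toLex (ex φ.1)
  rw [Finsupp.Lex.lt_iff]
  refine ⟨toLex (t₀, φ.1 t₀), ?_, ?_⟩
  · intro j hj
    obtain ⟨t, r⟩ := j
    have hj' : t < t₀ ∨ t = t₀ ∧ r < φ.1 t₀ := Prod.Lex.toLex_lt_toLex.mp hj
    show ex (φ.1 ∘ π) (toLex (t, r)) = ex φ.1 (toLex (t, r))
    rw [ex_apply, ex_apply]
    rcases hj' with h | ⟨h1, h2⟩
    · simp only [Function.comp_apply, hfix t h]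
    · subst h1
      have e1 : ¬ φ.1 t₀ = r := ne_of_gt h2
      have e2 : ¬ (φ.1 ∘ π) t₀ = r := by
        simp only [Function.comp_apply]
        have := φ.2 hgt
        exact ne_of_gt (lt_trans h2 this)
      rw [if_neg e1, if_neg e2]
  · show ex (φ.1 ∘ π) (toLex (t₀, φ.1 t₀)) < ex φ.1 (toLex (t₀, φ.1 t₀))
    rw [ex_apply, ex_apply, if_pos rfl, if_neg]
    · exact Nat.zero_lt_one
    · simp only [Function.comp_apply]
      exact fun h => ht₀m (φ.2.injective h)

/-- the τ-truncated generic matrix. -/
noncomputable def G (τ : Idx d n) : Matrix (Fin n) (Fin d) (MvPolynomial (Var d n) K) :=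
  Matrix.of fun r t => if r ≤ τ.1 t then X (toLex (t, r)) else 0

/-- the minor of the truncated generic matrix on the rows `φ`. -/
noncomputable def D (τ φ : Idx d n) : MvPolynomial (Var d n) K :=
  ((G K τ).submatrix φ.1 id).det

theorem term_eq (τ φ : Idx d n) (π : Equiv.Perm (Fin d)) :
    (∏ t : Fin d, ((G K τ).submatrix φ.1 id) (π t) t = 0) ∨
    (∏ t : Fin d, ((G K τ).submatrix φ.1 id) (π t) t = monomial (ex (φ.1 ∘ π)) (1 : K)) := by
  by_cases h : ∀ t, φ.1 (π t) ≤ τ.1 t
  · right
    rw [← prod_X]
    refine Finset.prod_congr rfl fun t _ => ?_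
    simp only [G, Matrix.submatrix_apply, Matrix.of_apply, id, Function.comp_apply]
    rw [if_pos (h t)]
  · left
    push Not at h
    obtain ⟨t, ht⟩ := h
    apply Finset.prod_eq_zero (Finset.mem_univ t)
    simp only [G, Matrix.submatrix_apply, Matrix.of_apply, id]
    rw [if_neg (not_le.mpr ht)]

theorem D_monic_degree (τ φ : Idx d n) (hφ : φ ≤ τ) :
    (ord d n).Monic (D K τ φ) ∧ (ord d n).degree (D K τ φ) = ex φ.1 := by
  classical
  have hD : D K τ φ = monomial (ex φ.1) (1 : K)
      + ∑ π ∈ (Finset.univ.erase (1 : Equiv.Perm (Fin d))),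
        Equiv.Perm.sign π • ∏ t : Fin d, ((G K τ).submatrix φ.1 id) (π t) t := by
    unfold D
    rw [Matrix.det_apply, ← Finset.add_sum_erase _ _ (Finset.mem_univ (1 : Equiv.Perm (Fin d)))]
    congr 1
    rw [Equiv.Perm.sign_one, one_smul]
    rcases term_eq K τ φ 1 with h | h
    · exfalso
      -- the identity term is nonzero since φ ≤ τ
      have h2 : ∏ t : Fin d, ((G K τ).submatrix φ.1 id) ((1 : Equiv.Perm (Fin d)) t) t
          = monomial (ex φ.1) (1 : K) := by
        rw [← prod_X]
        refine Finset.prod_congr rfl fun t _ => ?_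
        simp only [G, Matrix.submatrix_apply, Matrix.of_apply, id, Equiv.Perm.coe_one]
        rw [if_pos (hφ t)]
      rw [h2] at h
      exact one_ne_zero ((monomial_eq_zero).mp h)
    · rw [h]
      rfl
  set rest := ∑ π ∈ (Finset.univ.erase (1 : Equiv.Perm (Fin d))),
        Equiv.Perm.sign π • ∏ t : Fin d, ((G K τ).submatrix φ.1 id) (π t) t with hrest
  have hsupp : ∀ c ∈ rest.support, c ≺[ord d n] ex φ.1 := by
    intro c hc
    have := MvPolynomial.support_sum hc
    rw [Finset.mem_biUnion] at this
    obtain ⟨π, hπ, hcπ⟩ := this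
    have hπ1 : π ≠ 1 := (Finset.mem_erase.mp hπ).1
    rcases term_eq K τ φ π with h | h
    · rw [h, smul_zero] at hcπ
      simp at hcπ
    · rw [h] at hcπ
      have hsub : (Equiv.Perm.sign π • (monomial (ex (φ.1 ∘ π)) (1 : K))).support
          ⊆ {ex (φ.1 ∘ π)} := by
        intro e he
        rw [mem_support_iff] at he
        rw [Finset.mem_singleton]
        by_contra hne
        apply he
        rcases Int.units_eq_one_or (Equiv.Perm.sign π) with h1 | h1
        · rw [h1, one_smul, coeff_monomial, if_neg (Ne.symm hne)]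
        · rw [h1, Units.neg_smul, one_smul, coeff_neg, coeff_monomial, if_neg (Ne.symm hne),
            neg_zero]
      have := Finset.mem_singleton.mp (hsub hcπ)
      rw [this]
      exact ex_comp_lt φ π hπ1
  by_cases h0 : rest = 0
  · rw [hD, h0, add_zero]
    exact ⟨MonomialOrder.monic_monomial_one, by
      rw [MonomialOrder.degree_monomial, if_neg one_ne_zero]⟩
  · have hlt : (ord d n).degree rest ≺[ord d n] (ord d n).degree (monomial (ex φ.1) (1 : K)) := by
      rw [MonomialOrder.degree_monomial, if_neg one_ne_zero]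
      exact hsupp _ ((ord d n).degree_mem_support h0)
    rw [hD]
    refine ⟨MonomialOrder.Monic.add_of_lt MonomialOrder.monic_monomial_one hlt, ?_⟩
    rw [MonomialOrder.degree_add_of_lt hlt, MonomialOrder.degree_monomial, if_neg one_ne_zero]

end det

end Groth.Agent.H59.SMTIndep
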