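import Mathlib
import Groth.Agent.H59.SMTIndep

/-!
# Standard monomials: exponents of chains, the staircase matrix, and independence
-/

set_option autoImplicit false

namespace Groth.Agent.H59.SMTIndep

open W4bk4grassmannian MvPolynomial
open scoped MonomialOrder

section generic

variable {σ : Type*} (m : MonomialOrder σ) {K : Type*} [Field K]

/-- a family which is monic with distinct leading exponents on a set `S` and zero off `S`:
the coefficients on `S` of a vanishing combination vanish. -/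
theorem eq_zero_of_monic_or_zero {ι : Type*} (f : ι → MvPolynomial σ K) (S : Set ι)
    (hmonic : ∀ i ∈ S, m.Monic (f i)) (hzero : ∀ i, i ∉ S → f i = 0)
    (hinj : Set.InjOn (fun i => m.degree (f i)) S)
    (s : Finset ι) (g : ι → K) (hsum : ∑ i ∈ s, g i • f i = 0) :
    ∀ i ∈ s, i ∈ S → g i = 0 := by
  classical
  by_contra hcon
  push Not at hcon
  obtain ⟨i₁, hi₁, hi₁S, hg₁⟩ := hcon
  set s' := s.filter (fun i => i ∈ S ∧ g i ≠ 0) with hs'
  have hne : s'.Nonempty := ⟨i₁, Finset.mem_filter.mpr ⟨hi₁, hi₁S, hg₁⟩⟩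
  obtain ⟨i₀, hi₀, hmax⟩ := Finset.exists_max_image s' (fun i => m.toSyn (m.degree (f i))) hne
  have hi₀s : i₀ ∈ s := (Finset.mem_filter.mp hi₀).1
  have hi₀S : i₀ ∈ S := (Finset.mem_filter.mp hi₀).2.1
  have hg₀ : g i₀ ≠ 0 := (Finset.mem_filter.mp hi₀).2.2
  apply hg₀
  have hc := congrArg (coeff (m.degree (f i₀))) hsum
  rw [coeff_sum, coeff_zero] at hc
  rw [Finset.sum_eq_single i₀] at hc
  · rw [coeff_smul, (hmonic i₀ hi₀S).coeff_degree, smul_eq_mul, mul_one] at hc
    exact hc
  · intro i his hne'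
    rw [coeff_smul]
    by_cases hiS : i ∈ S
    · by_cases hgi : g i = 0
      · rw [hgi, zero_smul]
      · have hi' : i ∈ s' := Finset.mem_filter.mpr ⟨his, hiS, hgi⟩
        have hle := hmax i hi'
        have hlt : m.degree (f i) ≺[m] m.degree (f i₀) := by
          apply lt_of_le_of_ne hle
          intro heq
          exact hne' (hinj hiS hi₀S (m.toSyn.injective heq))
        rw [m.coeff_eq_zero_of_lt hlt, smul_zero]
    · rw [hzero i hiS, coeff_zero, smul_zero]
  · intro h
    exact absurd hi₀s h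

end generic

section chains

variable {d n : ℕ}

/-- exponent of a tuple of indices. -/
noncomputable def E {m : ℕ} (c : Fin m → Idx d n) : Var d n →₀ ℕ := ∑ k, ex (c k).1

theorem E_apply {m : ℕ} (c : Fin m → Idx d n) (t : Fin d) (r : Fin n) :
    E c (toLex (t, r)) = ∑ k, if (c k).1 t = r then 1 else 0 := by
  unfold E
  rw [Finsupp.finsetSum_apply]
  simp only [ex_apply]

theorem sum_E {m : ℕ} (c : Fin m → Idx d n) (t : Fin d) :
    ∑ r, E c (toLex (t, r)) = m := by
  simp only [E_apply]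
  rw [Finset.sum_comm]
  simp only [Finset.sum_ite_eq, Finset.mem_univ, if_true]
  simp

theorem length_eq_of_E_eq (hd : 0 < d) {m m' : ℕ} (c : Fin m → Idx d n) (c' : Fin m' → Idx d n)
    (h : E c = E c') : m = m' := by
  rw [← sum_E c ⟨0, hd⟩, ← sum_E c' ⟨0, hd⟩, h]

theorem card_ge_eq {m : ℕ} (c : Fin m → Idx d n) (t : Fin d) (a : Fin n) :
    (Finset.univ.filter fun k => a ≤ (c k).1 t).card
      = ∑ r ∈ Finset.univ.filter (fun r => a ≤ r), E c (toLex (t, r)) := by
  simp only [E_apply]
  rw [Finset.sum_comm, Finset.card_filter]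
  refine Finset.sum_congr rfl fun k _ => ?_
  rw [Finset.sum_ite_eq]
  simp

theorem eq_of_E_eq {m : ℕ} (c c' : Fin m → Idx d n) (hc : Antitone c) (hc' : Antitone c')
    (h : E c = E c') : c = c' := by
  funext j
  apply Subtype.ext
  funext t
  have hf : Antitone fun k => (c k).1 t := fun k k' hk => hc hk t
  have hf' : Antitone fun k => (c' k).1 t := fun k k' hk => hc' hk t
  have key : ∀ a : Fin n, a ≤ (c j).1 t ↔ a ≤ (c' j).1 t := by
    intro a
    have h1 := Tuple.lt_card_ge_iff_apply_ge_of_antitone (j := j) (a := a) hf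
    have h2 := Tuple.lt_card_ge_iff_apply_ge_of_antitone (j := j) (a := a) hf'
    rw [card_ge_eq] at h1 h2
    rw [h] at h1
    exact h1.symm.trans h2
  exact le_antisymm ((key _).mp le_rfl) ((key _).mpr le_rfl)

/-- the type of all chains. -/
abbrev Ch (d n : ℕ) : Type := Σ m : ℕ, {c : Fin m → Idx d n // Antitone c}

theorem E_inj (hd : 0 < d) (c c' : Ch d n) (h : E c.2.1 = E c'.2.1) : c = c' := by
  obtain ⟨m, c, hc⟩ := c
  obtain ⟨m', c', hc'⟩ := c'
  have hm := length_eq_of_E_eq hd c c' h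
  subst hm
  have hcc := eq_of_E_eq c c' hc hc' h
  subst hcc
  rfl

end chains

section staircase

variable {d n : ℕ}

theorem det_eq_zero_of_staircase {R : Type*} [CommRing R] (A : Matrix (Fin n) (Fin d) R)
    (τ φ : Idx d n) (hA : ∀ r t, τ.1 t < r → A r t = 0) (hφ : ¬ φ ≤ τ) :
    (A.submatrix φ.1 id).det = 0 := by
  classical
  have hex0 : ∃ t₀, τ.1 t₀ < φ.1 t₀ := by
    by_contra hcon
    push Not at hcon
    exact hφ hcon
  obtain ⟨t₀, ht₀⟩ := hex0
  rw [Matrix.det_apply]
  apply Finset.sum_eq_zero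
  intro π _
  have hex : ∃ t, t ≤ t₀ ∧ t₀ ≤ π t := by
    by_contra hcon
    push Not at hcon
    have hcard : (Finset.Iic t₀).card ≤ (Finset.Iio t₀).card := by
      apply Finset.card_le_card_of_injOn π
      · intro t ht
        have ht' : t ≤ t₀ := Finset.mem_Iic.mp (Finset.mem_coe.mp ht)
        exact Finset.mem_coe.mpr (Finset.mem_Iio.mpr (hcon t ht'))
      · exact π.injective.injOn
    rw [Fin.card_Iic, Fin.card_Iio] at hcard
    omega
  obtain ⟨t, ht, hπt⟩ := hex
  rw [Finset.prod_eq_zero (Finset.mem_univ t), smul_zero]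
  simp only [Matrix.submatrix_apply, id]
  apply hA
  calc τ.1 t ≤ τ.1 t₀ := τ.2.monotone ht
    _ < φ.1 t₀ := ht₀
    _ ≤ φ.1 (π t) := φ.2.monotone hπt

end staircase

section psi

variable (K : Type*) [Field K] {d n : ℕ}

/-- the comorphism of the parametrisation of the Schubert cell closure. -/
noncomputable def psi (τ : Idx d n) : PlRing K d n →ₐ[K] MvPolynomial (Var d n) K :=
  MvPolynomial.aeval fun θ : Idx d n => D K τ θ

theorem psi_X (τ θ : Idx d n) : psi K τ (X θ) = D K τ θ := aeval_X _ _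

theorem G_apply_eq_zero (τ : Idx d n) (r : Fin n) (t : Fin d) (h : τ.1 t < r) :
    G K τ r t = 0 := by
  simp only [G, Matrix.of_apply]
  rw [if_neg (not_le.mpr h)]

theorem D_eq_zero (τ φ : Idx d n) (h : ¬ φ ≤ τ) : D K τ φ = 0 :=
  det_eq_zero_of_staircase (G K τ) τ φ (G_apply_eq_zero K τ) h

theorem psi_chainMon {m : ℕ} (τ : Idx d n) (c : Fin m → Idx d n) :
    psi K τ (chainMon K c) = ∏ k, D K τ (c k) := by
  unfold chainMon
  rw [map_prod]
  simp only [psi_X]

theorem psi_chainMon_eq_zero {m : ℕ} (τ : Idx d n) (c : Fin m → Idx d n)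
    (h : ¬ ∀ k, c k ≤ τ) : psi K τ (chainMon K c) = 0 := by
  push Not at h
  obtain ⟨k, hk⟩ := h
  rw [psi_chainMon]
  exact Finset.prod_eq_zero (Finset.mem_univ k) (D_eq_zero K τ (c k) hk)

theorem psi_chainMon_monic {m : ℕ} (τ : Idx d n) (c : Fin m → Idx d n) (h : ∀ k, c k ≤ τ) :
    (ord d n).Monic (psi K τ (chainMon K c)) ∧
      (ord d n).degree (psi K τ (chainMon K c)) = E c := by
  rw [psi_chainMon]
  refine ⟨MonomialOrder.Monic.prod fun k _ => (D_monic_degree K τ (c k) (h k)).1, ?_⟩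
  rw [MonomialOrder.degree_prod_of_regular]
  · unfold E
    refine Finset.sum_congr rfl fun k _ => ?_
    exact (D_monic_degree K τ (c k) (h k)).2
  · intro k _
    rw [(D_monic_degree K τ (c k) (h k)).1.leadingCoeff_eq_one]
    exact isRegular_one

theorem eval_psi (τ : Idx d n) (x : Var d n → K) (f : PlRing K d n) :
    eval x (psi K τ f) = evalMinors K d n ((G K τ).map (eval x)) f := by
  have hcomp : (MvPolynomial.aeval x : MvPolynomial (Var d n) K →ₐ[K] K).comp (psi K τ)
      = evalMinors K d n ((G K τ).map (eval x)) := by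
    apply MvPolynomial.algHom_ext
    intro θ
    rw [AlgHom.comp_apply, psi_X]
    unfold evalMinors D
    rw [aeval_X, AlgHom.map_det, AlgHom.mapMatrix_apply, Matrix.submatrix_map]
    rfl
  have := congrArg (fun F => F f) hcomp
  simpa using this

theorem schubertVanishing_le_ker_psi [Infinite K] (τ : Idx d n) :
    schubertVanishing K d n τ ≤ RingHom.ker (psi K τ).toRingHom := by
  intro f hf
  rw [RingHom.mem_ker]
  apply MvPolynomial.funext
  intro x
  rw [map_zero]
  show eval x (psi K τ f) = 0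
  rw [eval_psi]
  unfold schubertVanishing at hf
  rw [Ideal.mem_iInf] at hf
  have h1 := hf ((G K τ).map (eval x))
  rw [Ideal.mem_iInf] at h1
  have h2 := h1 (by
    intro φ hφ
    apply det_eq_zero_of_staircase _ τ φ _ hφ
    intro r t hrt
    rw [Matrix.map_apply, G_apply_eq_zero K τ r t hrt, map_zero])
  exact h2

/-- the core independence statement. -/
theorem coeff_eq_zero_of_mem [Infinite K] (hd : 0 < d) (τ : Idx d n) {ι : Type*}
    (ch : ι → Ch d n) (hinj : Function.Injective ch) (s : Finset ι) (g : ι → K)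
    (hmem : ∑ i ∈ s, g i • chainMon K (ch i).2.1 ∈ schubertVanishing K d n τ) :
    ∀ i ∈ s, (∀ k, (ch i).2.1 k ≤ τ) → g i = 0 := by
  have h0 := schubertVanishing_le_ker_psi K τ hmem
  rw [RingHom.mem_ker] at h0
  have h1 : ∑ i ∈ s, g i • psi K τ (chainMon K (ch i).2.1) = 0 := by
    rw [← h0]
    show _ = psi K τ _
    rw [map_sum]
    refine Finset.sum_congr rfl fun i _ => ?_
    rw [map_smul]
  intro i hi hiτ
  refine eq_zero_of_monic_or_zero (ord d n) (fun i => psi K τ (chainMon K (ch i).2.1))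
    {i | ∀ k, (ch i).2.1 k ≤ τ} ?_ ?_ ?_ s g h1 i hi hiτ
  · intro i hi
    exact (psi_chainMon_monic K τ _ hi).1
  · intro i hi
    exact psi_chainMon_eq_zero K τ _ hi
  · intro i hi i' hi' heq
    simp only at heq
    rw [(psi_chainMon_monic K τ _ hi).2, (psi_chainMon_monic K τ _ hi').2] at heq
    exact hinj (E_inj hd _ _ heq)

end psi

end Groth.Agent.H59.SMTIndep
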