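import Mathlib
import Groth.Agent.H59.SMTChains

/-!
# Standard monomial theory for Schubert varieties: the ideal-theoretic statements
-/

set_option autoImplicit false

namespace Groth.Agent.H59.SMT

open W4bk4grassmannian MvPolynomial Groth.Agent.H59.SMTIndep

section ring

variable (K : Type*) [CommRing K] {d n : ℕ}

theorem plIdealTop_le_plIdeal (τ : Idx d n) : plIdealTop K ≤ plIdeal K τ :=
  Ideal.span_mono Set.subset_union_left

theorem evalMinors_X (A : Matrix (Fin n) (Fin d) K) (θ : Idx d n) :
    evalMinors K d n A (X θ) = (A.submatrix θ.1 id).det := aeval_X _ _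

theorem evalMinors_shuffleRel (A : Matrix (Fin n) (Fin d) K) (i j : Idx d n) (r : Fin d) :
    evalMinors K d n A (shuffleRel K i j r) = 0 :=
  ShuffleMinors.eval_minors_shuffleRel A i j r

theorem mem_schubertVanishing_iff (τ : Idx d n) (f : PlRing K d n) :
    f ∈ schubertVanishing K d n τ ↔
      ∀ A : Matrix (Fin n) (Fin d) K,
        (∀ φ : Idx d n, ¬ φ ≤ τ → (A.submatrix φ.1 id).det = 0) → evalMinors K d n A f = 0 := by
  unfold schubertVanishing
  rw [Ideal.mem_iInf]
  refine forall_congr' fun A => ?_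
  rw [Ideal.mem_iInf]
  rfl

theorem X_mem_schubertVanishing (τ φ : Idx d n) (h : ¬ φ ≤ τ) :
    X φ ∈ schubertVanishing K d n τ := by
  rw [mem_schubertVanishing_iff]
  intro A hA
  rw [evalMinors_X]
  exact hA φ h

theorem plIdeal_le_schubertVanishing (τ : Idx d n) :
    plIdeal K τ ≤ schubertVanishing K d n τ := by
  unfold plIdeal
  rw [Ideal.span_le]
  rintro f (⟨i, j, r, -, rfl⟩ | ⟨φ, hφ, rfl⟩)
  · rw [SetLike.mem_coe, mem_schubertVanishing_iff]
    intro A _
    exact evalMinors_shuffleRel K A i j r
  · exact X_mem_schubertVanishing K τ φ hφ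

theorem schubertVanishing_anti {φ τ : Idx d n} (h : φ ≤ τ) :
    schubertVanishing K d n τ ≤ schubertVanishing K d n φ := by
  intro f hf
  rw [mem_schubertVanishing_iff] at hf ⊢
  intro A hA
  apply hf A
  intro ψ hψ
  exact hA ψ (fun hψφ => hψ (le_trans hψφ h))

theorem chainMon_mem_span_X {m : ℕ} (c : Fin m → Idx d n) (k : Fin m) :
    chainMon K c ∈ Ideal.span {(X (c k) : PlRing K d n)} := by
  unfold chainMon
  rw [Ideal.mem_span_singleton]
  exact Finset.dvd_prod_of_mem _ (Finset.mem_univ k)

theorem chainMon_mem_plIdeal {m : ℕ} (τ : Idx d n) (c : Fin m → Idx d n)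
    (h : ¬ ∀ k, c k ≤ τ) : chainMon K c ∈ plIdeal K τ := by
  push Not at h
  obtain ⟨k, hk⟩ := h
  refine (Ideal.span_mono ?_) (chainMon_mem_span_X K c k)
  rintro f hf
  rw [Set.mem_singleton_iff] at hf
  exact Or.inr ⟨c k, hk, hf⟩

/-- straightening: every polynomial is a combination of standard monomials modulo the
shuffle relations. -/
theorem exists_repr (f : PlRing K d n) :
    ∃ l : Ch d n →₀ K,
      f - ∑ c ∈ l.support, l c • chainMon K c.2.1 ∈ plIdealTop (d := d) (n := n) K := by
  have h := Straighten.span_eq_top (d := d) (n := n) K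
  have hf : Ideal.Quotient.mk (plIdealTop (d := d) (n := n) K) f ∈
      Submodule.span K (Set.range fun c : Ch d n =>
        Ideal.Quotient.mk (plIdealTop (d := d) (n := n) K) (chainMon K c.2.1)) := by
    rw [h]
    exact Submodule.mem_top
  rw [Finsupp.mem_span_range_iff_exists_finsupp] at hf
  obtain ⟨l, hl⟩ := hf
  refine ⟨l, ?_⟩
  rw [← Ideal.Quotient.eq, ← hl, Finsupp.sum, map_sum]
  refine Finset.sum_congr rfl fun c _ => ?_
  exact (map_smul (Ideal.Quotient.mkₐ K (plIdealTop (d := d) (n := n) K)) _ _).symm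

end ring

section field

variable (K : Type*) [Field K] [Infinite K] {d n : ℕ}

/-- the shuffle relations and the vanishing coordinates generate the ideal of a Schubert variety. -/
theorem plIdeal_eq_schubertVanishing (hd : 0 < d) (τ : Idx d n) :
    plIdeal K τ = schubertVanishing K d n τ := by
  apply le_antisymm (plIdeal_le_schubertVanishing K τ)
  intro f hf
  obtain ⟨l, hl⟩ := exists_repr K f
  set h := ∑ c ∈ l.support, l c • chainMon K c.2.1 with hh
  have hfh : f - h ∈ plIdeal K τ := plIdealTop_le_plIdeal K τ hl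
  have hmem : h ∈ schubertVanishing K d n τ := by
    have e : h = f - (f - h) := by ring
    rw [e]
    exact Ideal.sub_mem _ hf (plIdeal_le_schubertVanishing K τ hfh)
  have hz := coeff_eq_zero_of_mem K hd τ (fun c : Ch d n => c) Function.injective_id
    l.support (fun c => l c) hmem
  have hh' : h ∈ plIdeal K τ := by
    apply Ideal.sum_mem
    intro c hc
    by_cases hcτ : ∀ k, c.2.1 k ≤ τ
    · rw [hz c hc hcτ, zero_smul]
      exact zero_mem _
    · exact Submodule.smul_of_tower_mem _ _ (chainMon_mem_plIdeal K τ c.2.1 hcτ)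
  have e : f = (f - h) + h := by ring
  rw [e]
  exact Ideal.add_mem _ hfh hh'

end field

end Groth.Agent.H59.SMT
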