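import Mathlib
import Groth.Agent.H59.SMTMain

/-!
# Standard monomial theory for unions and intersections of Schubert varieties
-/

set_option autoImplicit false

namespace Groth.Agent.H59.SMT

open W4bk4grassmannian MvPolynomial Groth.Agent.H59.SMTIndep

section ring

variable (K : Type*) [CommRing K] {d n : ℕ}

theorem mem_biInf (T : Set (Idx d n)) (f : PlRing K d n) :
    f ∈ (⨅ φ ∈ T, schubertVanishing K d n φ) ↔ ∀ φ ∈ T, f ∈ schubertVanishing K d n φ := by
  simp only [Ideal.mem_iInf]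

theorem plIdealTop_le_biInf (T : Set (Idx d n)) :
    plIdealTop (d := d) (n := n) K ≤ ⨅ φ ∈ T, schubertVanishing K d n φ := by
  intro f hf
  rw [mem_biInf]
  intro φ _
  exact plIdeal_le_schubertVanishing K φ (plIdealTop_le_plIdeal K φ hf)

theorem chainMon_mem_biInf (T : Set (Idx d n)) {m : ℕ} (c : Fin m → Idx d n)
    (h : ¬ ∃ φ ∈ T, ∀ k, c k ≤ φ) :
    chainMon K c ∈ ⨅ φ ∈ T, schubertVanishing K d n φ := by
  rw [mem_biInf]
  intro φ hφ
  apply plIdeal_le_schubertVanishing K φ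
  apply chainMon_mem_plIdeal
  intro hcon
  exact h ⟨φ, hφ, hcon⟩

theorem plIdeal_sup (w₁ w₂ : Idx d n) :
    plIdeal K w₁ ⊔ plIdeal K w₂ = plIdeal K (W4bk4grassmannian.inf w₁ w₂) := by
  unfold plIdeal
  rw [← Ideal.span_union]
  congr 1
  ext f
  constructor
  · rintro ((h | ⟨φ, hφ, rfl⟩) | (h | ⟨φ, hφ, rfl⟩))
    · exact Or.inl h
    · refine Or.inr ⟨φ, fun hcon => hφ fun t => le_trans (hcon t) (min_le_left _ _), rfl⟩
    · exact Or.inl h
    · refine Or.inr ⟨φ, fun hcon => hφ fun t => le_trans (hcon t) (min_le_right _ _), rfl⟩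
  · rintro (h | ⟨φ, hφ, rfl⟩)
    · exact Or.inl (Or.inl h)
    · by_cases h1 : φ ≤ w₁
      · by_cases h2 : φ ≤ w₂
        · exact absurd (fun t => le_min (h1 t) (h2 t)) hφ
        · exact Or.inr (Or.inr ⟨φ, h2, rfl⟩)
      · exact Or.inl (Or.inr ⟨φ, h1, rfl⟩)

end ring

section field

variable (K : Type*) [Field K] {d n : ℕ}

theorem schubertVanishing_isRadical (τ : Idx d n) : (schubertVanishing K d n τ).IsRadical := by
  unfold schubertVanishing
  apply Ideal.isRadical_iInf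
  intro A
  apply Ideal.isRadical_iInf
  intro _
  exact (RingHom.ker_isPrime _).isRadical

variable [Infinite K]

theorem isRadical_sup (hd : 0 < d) (w₁ w₂ : Idx d n) :
    (schubertVanishing K d n w₁ ⊔ schubertVanishing K d n w₂).IsRadical := by
  rw [← plIdeal_eq_schubertVanishing K hd, ← plIdeal_eq_schubertVanishing K hd, plIdeal_sup,
    plIdeal_eq_schubertVanishing K hd]
  exact schubertVanishing_isRadical K _

/-- independence core for unions. -/
theorem coeff_eq_zero_of_mem_biInf (hd : 0 < d) (T : Set (Idx d n)) {ι : Type*}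
    (ch : ι → Ch d n) (hinj : Function.Injective ch) (s : Finset ι) (g : ι → K)
    (hmem : ∑ i ∈ s, g i • chainMon K (ch i).2.1 ∈ ⨅ φ ∈ T, schubertVanishing K d n φ) :
    ∀ i ∈ s, (∃ φ ∈ T, ∀ k, (ch i).2.1 k ≤ φ) → g i = 0 := by
  intro i hi ⟨φ, hφ, hle⟩
  rw [mem_biInf] at hmem
  exact coeff_eq_zero_of_mem K hd φ ch hinj s g (hmem φ hφ) i hi hle

/-- the chains satisfying a predicate. -/
abbrev CP (P : ∀ m : ℕ, (Fin m → Idx d n) → Prop) : Type :=
  Σ m : ℕ, {c : Fin m → Idx d n // Antitone c ∧ P m c}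

/-- forgetting the predicate. -/
def CP.toCh {P : ∀ m : ℕ, (Fin m → Idx d n) → Prop} (c : CP P) : Ch d n :=
  ⟨c.1, c.2.1, c.2.2.1⟩

theorem CP.toCh_injective {P : ∀ m : ℕ, (Fin m → Idx d n) → Prop} :
    Function.Injective (CP.toCh (P := P)) := by
  rintro ⟨m, c, hc⟩ ⟨m', c', hc'⟩ h
  simp only [CP.toCh, Sigma.mk.injEq] at h
  obtain ⟨h1, h2⟩ := h
  subst h1
  have h3 := eq_of_heq h2
  have h4 : c = c' := congrArg Subtype.val h3
  subst h4
  rfl

theorem linearIndependent_general (hd : 0 < d) (J : Ideal (PlRing K d n))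
    (P : ∀ m : ℕ, (Fin m → Idx d n) → Prop)
    (hJ : ∀ (m : ℕ) (c : Fin m → Idx d n), P m c →
      ∃ φ, J ≤ schubertVanishing K d n φ ∧ ∀ k, c k ≤ φ) :
    LinearIndependent K (fun c : CP P => Ideal.Quotient.mk J (chainMon K c.2.1)) := by
  classical
  rw [linearIndependent_iff']
  intro s g hsum c hc
  have hmem : ∑ c ∈ s, g c • chainMon K (CP.toCh c).2.1 ∈ J := by
    rw [← Ideal.Quotient.eq_zero_iff_mem, map_sum, ← hsum]
    refine Finset.sum_congr rfl fun c _ => ?_
    exact map_smul (Ideal.Quotient.mkₐ K J) _ _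
  obtain ⟨φ, hφ, hle⟩ := hJ c.1 c.2.1 c.2.2.2
  exact coeff_eq_zero_of_mem K hd φ CP.toCh CP.toCh_injective s g (hφ hmem) c hc hle

omit [Infinite K] in
theorem span_general (J : Ideal (PlRing K d n))
    (P : ∀ m : ℕ, (Fin m → Idx d n) → Prop)
    (hJ1 : plIdealTop (d := d) (n := n) K ≤ J)
    (hJ2 : ∀ (m : ℕ) (c : Fin m → Idx d n), ¬ P m c → chainMon K c ∈ J) :
    Submodule.span K (Set.range fun c : CP P => Ideal.Quotient.mk J (chainMon K c.2.1)) = ⊤ := by
  classical
  rw [eq_top_iff]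
  rintro x -
  obtain ⟨f, rfl⟩ := Ideal.Quotient.mk_surjective x
  obtain ⟨l, hl⟩ := exists_repr K f
  have h1 := hJ1 hl
  rw [← Ideal.Quotient.eq] at h1
  rw [h1, map_sum]
  apply Submodule.sum_mem
  intro c _
  have e : Ideal.Quotient.mk J (l c • chainMon K c.2.1)
      = l c • Ideal.Quotient.mk J (chainMon K c.2.1) :=
    map_smul (Ideal.Quotient.mkₐ K J) _ _
  rw [e]
  apply Submodule.smul_mem
  by_cases hc : P c.1 c.2.1
  · exact Submodule.subset_span ⟨⟨c.1, c.2.1, c.2.2, hc⟩, rfl⟩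
  · rw [Ideal.Quotient.eq_zero_iff_mem.mpr (hJ2 c.1 c.2.1 hc)]
    exact zero_mem _

/-- standard monomial basis of a union of Schubert varieties. -/
theorem basis_union (hd : 0 < d) {ι : Type*} (τs : ι → Idx d n) :
    LinearIndependent K (fun c : (Σ m : ℕ, {c : Fin m → Idx d n //
        Antitone c ∧ ∃ i, ∀ k, c k ≤ τs i}) =>
        Ideal.Quotient.mk (⨅ i, schubertVanishing K d n (τs i)) (chainMon K c.2.1)) ∧
      Submodule.span K (Set.range fun c : (Σ m : ℕ, {c : Fin m → Idx d n //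
        Antitone c ∧ ∃ i, ∀ k, c k ≤ τs i}) =>
        Ideal.Quotient.mk (⨅ i, schubertVanishing K d n (τs i)) (chainMon K c.2.1)) = ⊤ := by
  constructor
  · apply linearIndependent_general K hd (⨅ i, schubertVanishing K d n (τs i))
      (fun m c => ∃ i, ∀ k, c k ≤ τs i)
    rintro m c ⟨i, hi⟩
    exact ⟨τs i, iInf_le _ i, hi⟩
  · apply span_general K (⨅ i, schubertVanishing K d n (τs i))
      (fun m c => ∃ i, ∀ k, c k ≤ τs i)
    · intro f hf
      rw [Ideal.mem_iInf]
      intro i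
      exact plIdeal_le_schubertVanishing K _ (plIdealTop_le_plIdeal K _ hf)
    · intro m c hc
      rw [Ideal.mem_iInf]
      intro i
      apply plIdeal_le_schubertVanishing K (τs i)
      apply chainMon_mem_plIdeal
      intro hcon
      exact hc ⟨i, hcon⟩

end field

end Groth.Agent.H59.SMT
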