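import Mathlib
import Groth.Agent.H59.SMTUnion
import Groth.Agent.H59.ReesBasis

/-!
# The weight filtration on the coordinate ring of a Schubert variety

The weight `t * r` on the variable `x_{t,r}` makes the diagonal term of every minor of the
staircase matrix its unique term of top weight.
-/

set_option autoImplicit false

namespace Groth.Agent.H59.HibiW

open W4bk4grassmannian MvPolynomial Groth.Agent.H59.SMTIndep Groth.Agent.H59.SMT

section weights

variable {d n : ℕ}

/-- the weight of a variable. -/
def wv (v : Var d n) : ℕ := (ofLex v).1.val * (ofLex v).2.val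

/-- the weight of an exponent vector. -/
noncomputable def wt : (Var d n →₀ ℕ) →+ ℕ := Finsupp.weight (wv (d := d) (n := n))

/-- the weight of an index. -/
def ωθ (θ : Idx d n) : ℕ := ∑ t : Fin d, t.val * (θ.1 t).val

theorem wt_ex (ρ : Fin d → Fin n) : wt (ex ρ) = ∑ t : Fin d, t.val * (ρ t).val := by
  unfold ex wt
  rw [map_sum]
  refine Finset.sum_congr rfl fun t _ => ?_
  rw [Finsupp.weight_single, smul_eq_mul, one_mul]
  rfl

theorem wt_ex_comp_lt (φ : Idx d n) (π : Equiv.Perm (Fin d)) (hπ : π ≠ 1) :
    wt (ex (φ.1 ∘ π)) < ωθ φ := by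
  rw [wt_ex]
  unfold ωθ
  have hmono : Monovary (fun t : Fin d => t.val) (fun t : Fin d => (φ.1 t).val) := by
    intro i j hij
    have : φ.1 i < φ.1 j := hij
    exact le_of_lt (Fin.lt_def.mp (φ.2.lt_iff_lt.mp this))
  have := (hmono.sum_mul_comp_perm_lt_sum_mul_iff (σ := π)).mpr ?_
  · exact this
  · intro hcon
    apply hπ
    -- π is strictly monotone
    have hsm : StrictMono π := by
      intro i j hij
      by_contra hnot
      have hji : π j < π i := lt_of_le_of_ne (not_lt.mp hnot) (fun h => by
        have := π.injective h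
        exact absurd this (ne_of_gt hij))
      have h1 : (φ.1 (π j)).val < (φ.1 (π i)).val := Fin.lt_def.mp (φ.2 hji)
      have h2 := hcon (i := j) (j := i) h1
      exact absurd (Fin.lt_def.mp hij) (not_lt.mpr h2)
    have hsm' : StrictMono (π.symm : Fin d → Fin d) := by
      intro i j hij
      by_contra hnot
      have h1 : π (π.symm j) ≤ π (π.symm i) := hsm.monotone (not_lt.mp hnot)
      rw [Equiv.apply_symm_apply, Equiv.apply_symm_apply] at h1
      exact absurd hij (not_lt.mpr h1)
    refine Equiv.ext fun t => le_antisymm ?_ (hsm.id_le t)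
    have := hsm'.id_le (π t)
    rwa [Equiv.symm_apply_apply] at this

end weights

section top

variable {K : Type*} [Field K] {d n : ℕ}

/-- all monomials have weight `< i`. -/
def LT (i : ℕ) (f : MvPolynomial (Var d n) K) : Prop := ∀ u ∈ f.support, wt u < i

/-- all monomials have weight `≤ i`. -/
def LE (i : ℕ) (f : MvPolynomial (Var d n) K) : Prop := ∀ u ∈ f.support, wt u ≤ i

theorem LT.add {i : ℕ} {f g : MvPolynomial (Var d n) K} (hf : LT i f) (hg : LT i g) :
    LT i (f + g) := by
  classical
  intro u hu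
  rcases Finset.mem_union.mp (MvPolynomial.support_add hu) with h | h
  · exact hf u h
  · exact hg u h

theorem LT.neg {i : ℕ} {f : MvPolynomial (Var d n) K} (hf : LT i f) : LT i (-f) := by
  intro u hu
  rw [MvPolynomial.support_neg] at hu
  exact hf u hu

theorem LT.sub {i : ℕ} {f g : MvPolynomial (Var d n) K} (hf : LT i f) (hg : LT i g) :
    LT i (f - g) := by
  rw [sub_eq_add_neg]
  exact hf.add hg.neg

theorem LT.le {i : ℕ} {f : MvPolynomial (Var d n) K} (hf : LT i f) : LE i f :=
  fun u hu => le_of_lt (hf u hu)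

theorem LE.lt_succ {i : ℕ} {f : MvPolynomial (Var d n) K} (hf : LE i f) : LT (i + 1) f :=
  fun u hu => Nat.lt_succ_of_le (hf u hu)

theorem LE.add {i : ℕ} {f g : MvPolynomial (Var d n) K} (hf : LE i f) (hg : LE i g) :
    LE i (f + g) := by
  classical
  intro u hu
  rcases Finset.mem_union.mp (MvPolynomial.support_add hu) with h | h
  · exact hf u h
  · exact hg u h

theorem LE.mul_LT {i j : ℕ} {f g : MvPolynomial (Var d n) K} (hf : LE i f) (hg : LT j g) :
    LT (i + j) (f * g) := by
  classical
  intro u hu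
  obtain ⟨u₁, h₁, u₂, h₂, rfl⟩ := Finset.mem_add.mp (MvPolynomial.support_mul f g hu)
  rw [map_add]
  exact add_lt_add_of_le_of_lt (hf u₁ h₁) (hg u₂ h₂)

theorem LT.mul_LE {i j : ℕ} {f g : MvPolynomial (Var d n) K} (hf : LT i f) (hg : LE j g) :
    LT (i + j) (f * g) := by
  rw [mul_comm, add_comm]
  exact hg.mul_LT hf

theorem LE.mul {i j : ℕ} {f g : MvPolynomial (Var d n) K} (hf : LE i f) (hg : LE j g) :
    LE (i + j) (f * g) := by
  classical
  intro u hu
  obtain ⟨u₁, h₁, u₂, h₂, rfl⟩ := Finset.mem_add.mp (MvPolynomial.support_mul f g hu)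
  rw [map_add]
  exact add_le_add (hf u₁ h₁) (hg u₂ h₂)

theorem LE_monomial (s : Var d n →₀ ℕ) (a : K) : LE (wt s) (monomial s a) := by
  classical
  intro u hu
  have := MvPolynomial.support_monomial_subset hu
  rw [Finset.mem_singleton] at this
  rw [this]

/-- `f` is the monomial `s` of weight `i` plus terms of lower weight. -/
def HasTop (i : ℕ) (s : Var d n →₀ ℕ) (f : MvPolynomial (Var d n) K) : Prop :=
  wt s = i ∧ LT i (f - monomial s 1)

theorem HasTop.LE {i : ℕ} {s : Var d n →₀ ℕ} {f : MvPolynomial (Var d n) K}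
    (h : HasTop i s f) : LE i f := by
  have e : f = monomial s 1 + (f - monomial s 1) := by ring
  rw [e]
  refine LE.add ?_ h.2.le
  have := LE_monomial (K := K) s 1
  rwa [h.1] at this

theorem hasTop_one : HasTop 0 (0 : Var d n →₀ ℕ) (1 : MvPolynomial (Var d n) K) := by
  refine ⟨map_zero _, ?_⟩
  have : (1 : MvPolynomial (Var d n) K) - monomial 0 1 = 0 := by
    rw [sub_eq_zero]
    rfl
  rw [this]
  intro u hu
  simp at hu

theorem HasTop.mul {i j : ℕ} {s s' : Var d n →₀ ℕ} {f g : MvPolynomial (Var d n) K}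
    (hf : HasTop i s f) (hg : HasTop j s' g) : HasTop (i + j) (s + s') (f * g) := by
  refine ⟨by rw [map_add, hf.1, hg.1], ?_⟩
  have e : f * g - monomial (s + s') 1
      = monomial s 1 * (g - monomial s' 1) + (f - monomial s 1) * g := by
    have : (monomial (s + s') (1 : K)) = monomial s 1 * monomial s' 1 := by
      rw [monomial_mul, one_mul]
    rw [this]
    ring
  rw [e]
  refine LT.add ?_ (hf.2.mul_LE hg.LE)
  have h1 := LE_monomial (K := K) s 1
  rw [hf.1] at h1
  exact h1.mul_LT hg.2

theorem HasTop.prod {ι : Type*} (S : Finset ι) (i : ι → ℕ) (s : ι → Var d n →₀ ℕ)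
    (f : ι → MvPolynomial (Var d n) K) (h : ∀ k ∈ S, HasTop (i k) (s k) (f k)) :
    HasTop (∑ k ∈ S, i k) (∑ k ∈ S, s k) (∏ k ∈ S, f k) := by
  classical
  induction S using Finset.induction_on with
  | empty =>
    simp only [Finset.sum_empty, Finset.prod_empty]
    exact hasTop_one
  | insert k S hk ih =>
    rw [Finset.sum_insert hk, Finset.sum_insert hk, Finset.prod_insert hk]
    exact (h k (Finset.mem_insert_self k S)).mul
      (ih fun k' hk' => h k' (Finset.mem_insert_of_mem hk'))

/-- the coefficient at an exponent of weight `≥ i`. -/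
theorem HasTop.coeff {i : ℕ} {s u : Var d n →₀ ℕ} {f : MvPolynomial (Var d n) K}
    (h : HasTop i s f) (hu : i ≤ wt u) : MvPolynomial.coeff u f = if s = u then 1 else 0 := by
  have e : f = monomial s 1 + (f - monomial s 1) := by ring
  rw [e, coeff_add, coeff_monomial]
  have : MvPolynomial.coeff u (f - monomial s 1) = 0 := by
    by_contra hne
    have := h.2 u (mem_support_iff.mpr hne)
    omega
  rw [this, add_zero]

end top

section minors

variable (K : Type*) [Field K] {d n : ℕ}

theorem hasTop_D (τ φ : Idx d n) (hφ : φ ≤ τ) : HasTop (ωθ φ) (ex φ.1) (D K τ φ) := by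
  classical
  refine ⟨wt_ex φ.1, ?_⟩
  have hD : D K τ φ = monomial (ex φ.1) (1 : K)
      + ∑ π ∈ (Finset.univ.erase (1 : Equiv.Perm (Fin d))),
        Equiv.Perm.sign π • ∏ t : Fin d, ((G K τ).submatrix φ.1 id) (π t) t := by
    unfold D
    rw [Matrix.det_apply, ← Finset.add_sum_erase _ _ (Finset.mem_univ (1 : Equiv.Perm (Fin d)))]
    congr 1
    rw [Equiv.Perm.sign_one, one_smul]
    have h2 : ∏ t : Fin d, ((G K τ).submatrix φ.1 id) ((1 : Equiv.Perm (Fin d)) t) t
        = monomial (ex φ.1) (1 : K) := by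
      rw [← prod_X]
      refine Finset.prod_congr rfl fun t _ => ?_
      simp only [G, Matrix.submatrix_apply, Matrix.of_apply, id, Equiv.Perm.coe_one]
      rw [if_pos (hφ t)]
    exact h2
  have e : D K τ φ - monomial (ex φ.1) (1 : K)
      = ∑ π ∈ (Finset.univ.erase (1 : Equiv.Perm (Fin d))),
        Equiv.Perm.sign π • ∏ t : Fin d, ((G K τ).submatrix φ.1 id) (π t) t := by
    rw [hD]
    ring
  rw [e]
  intro c hc
  have := MvPolynomial.support_sum hc
  rw [Finset.mem_biUnion] at this
  obtain ⟨π, hπ, hcπ⟩ := this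
  have hπ1 : π ≠ 1 := (Finset.mem_erase.mp hπ).1
  rcases term_eq K τ φ π with h | h
  · rw [h, smul_zero] at hcπ
    simp at hcπ
  · rw [h] at hcπ
    have hsub : (Equiv.Perm.sign π • (monomial (ex (φ.1 ∘ π)) (1 : K))).support
        ⊆ {ex (φ.1 ∘ π)} := by
      intro e he
      rw [mem_support_iff] at he
      rw [Finset.mem_singleton]
      by_contra hne
      apply he
      rcases Int.units_eq_one_or (Equiv.Perm.sign π) with h1 | h1
      · rw [h1, one_smul, coeff_monomial, if_neg (Ne.symm hne)]
      · rw [h1, Units.neg_smul, one_smul, coeff_neg, coeff_monomial, if_neg (Ne.symm hne),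
          neg_zero]
    have := Finset.mem_singleton.mp (hsub hcπ)
    rw [this]
    exact wt_ex_comp_lt φ π hπ1

/-- the weight of a chain. -/
def ωc {m : ℕ} (c : Fin m → Idx d n) : ℕ := ∑ k, ωθ (c k)

theorem hasTop_psi_chainMon {m : ℕ} (τ : Idx d n) (c : Fin m → Idx d n) (h : ∀ k, c k ≤ τ) :
    HasTop (ωc c) (E c) (psi K τ (chainMon K c)) := by
  rw [psi_chainMon]
  exact HasTop.prod Finset.univ (fun k => ωθ (c k)) (fun k => ex (c k).1)
    (fun k => D K τ (c k)) (fun k _ => hasTop_D K τ (c k) (h k))

end minors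

section coordinateRing

variable (K : Type*) [Field K] [Infinite K] {d n : ℕ} (w : Idx d n)

/-- the coordinate ring of the cone over the Schubert variety. -/
abbrev AA : Type _ := PlRing K d n ⧸ schubertVanishing K d n w

/-- the standard chains on `X(w)`. -/
abbrev StdC : Type := CP (fun (m : ℕ) (c : Fin m → Idx d n) => ∀ k, c k ≤ w)

/-- the parametrisation, on the coordinate ring. -/
noncomputable def psiBar : AA K w →ₐ[K] MvPolynomial (Var d n) K :=
  Ideal.Quotient.liftₐ (schubertVanishing K d n w) (psi K w)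
    (fun _ ha => schubertVanishing_le_ker_psi K w ha)

theorem psiBar_mk (f : PlRing K d n) :
    psiBar K w (Ideal.Quotient.mk (schubertVanishing K d n w) f) = psi K w f := rfl

variable (hd : 0 < d)

/-- the standard monomial basis. -/
noncomputable def stdBasis : Module.Basis (StdC w) K (AA K w) :=
  Module.Basis.mk
    (linearIndependent_general K hd (schubertVanishing K d n w)
      (fun (m : ℕ) (c : Fin m → Idx d n) => ∀ k, c k ≤ w)
      (fun _ _ hc => ⟨w, le_refl _, hc⟩))
    (le_of_eq (span_general K (schubertVanishing K d n w)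
      (fun (m : ℕ) (c : Fin m → Idx d n) => ∀ k, c k ≤ w)
      (fun _ hf => plIdeal_le_schubertVanishing K w (plIdealTop_le_plIdeal K w hf))
      (fun _ c hc => plIdeal_le_schubertVanishing K w (chainMon_mem_plIdeal K w c hc))).symm)

theorem stdBasis_apply (e : StdC w) :
    stdBasis K w hd e = Ideal.Quotient.mk (schubertVanishing K d n w) (chainMon K e.2.1) := by
  unfold stdBasis
  rw [Module.Basis.mk_apply]

/-- the weight of a standard chain. -/
def ωe (e : StdC w) : ℕ := ωc e.2.1

theorem hasTop_psiBar_basis (e : StdC w) :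
    HasTop (ωe w e) (E e.2.1) (psiBar K w (stdBasis K w hd e)) := by
  rw [stdBasis_apply, psiBar_mk]
  exact hasTop_psi_chainMon K w e.2.1 e.2.2.2

include hd in
theorem E_inj_std (e e' : StdC w) (h : E e.2.1 = E e'.2.1) : e = e' :=
  CP.toCh_injective (E_inj hd (CP.toCh e) (CP.toCh e') h)

/-- the key lemma: the weights of the standard monomials occurring in `a` are bounded by the
weights of the monomials of its image. -/
theorem repr_ne_zero_lt (a : AA K w) (i : ℕ) (ha : LT i (psiBar K w a)) (e : StdC w)
    (he : (stdBasis K w hd).repr a e ≠ 0) : ωe w e < i := by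
  classical
  set l := (stdBasis K w hd).repr a with hl
  have hmem : e ∈ l.support := Finsupp.mem_support_iff.mpr he
  obtain ⟨e₀, he₀, hmax⟩ := Finset.exists_max_image l.support (ωe w) ⟨e, hmem⟩
  refine lt_of_le_of_lt (hmax e hmem) ?_
  have hsum : a = ∑ e' ∈ l.support, l e' • stdBasis K w hd e' := by
    conv_lhs => rw [← (stdBasis K w hd).linearCombination_repr a]
    rw [Finsupp.linearCombination_apply, Finsupp.sum]
  have hcoef : MvPolynomial.coeff (E e₀.2.1) (psiBar K w a) = l e₀ := by
    rw [hsum, map_sum, coeff_sum, Finset.sum_eq_single e₀]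
    · rw [map_smul, coeff_smul, (hasTop_psiBar_basis K w hd e₀).coeff (le_of_eq
        (hasTop_psiBar_basis K w hd e₀).1.symm), if_pos rfl, smul_eq_mul, mul_one]
    · intro e' he' hne
      rw [map_smul, coeff_smul, (hasTop_psiBar_basis K w hd e').coeff (u := E e₀.2.1)
        (by rw [(hasTop_psiBar_basis K w hd e₀).1]; exact hmax e' he'),
        if_neg (fun h => hne (E_inj_std w hd e' e₀ h)), smul_zero]
    · intro h
      exact absurd he₀ h
  have hsupp : E e₀.2.1 ∈ (psiBar K w a).support := by
    rw [mem_support_iff, hcoef]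
    exact Finsupp.mem_support_iff.mp he₀
  have := ha _ hsupp
  rwa [(hasTop_psiBar_basis K w hd e₀).1] at this

theorem mem_F_of_LE (a : AA K w) (i : ℕ) (ha : LE i (psiBar K w a)) :
    a ∈ Rees.F (stdBasis K w hd) (ωe w) i := by
  rw [Rees.mem_F_iff]
  intro e he
  exact Nat.lt_succ_iff.mp (repr_ne_zero_lt K w hd a (i + 1) ha.lt_succ e he)

include hd in
theorem eq_zero_of_LT_zero (a : AA K w) (ha : LT 0 (psiBar K w a)) : a = 0 := by
  apply (stdBasis K w hd).repr.injective
  ext e
  rw [map_zero, Finsupp.zero_apply]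
  by_contra hne
  have := repr_ne_zero_lt K w hd a 0 ha e hne
  omega

theorem adapted : Rees.Adapted (stdBasis K w hd) (ωe w) where
  one_mem := by
    apply mem_F_of_LE
    rw [map_one]
    exact hasTop_one.LE
  mul_mem := by
    intro c c'
    apply mem_F_of_LE
    rw [map_mul]
    exact (hasTop_psiBar_basis K w hd c).LE.mul (hasTop_psiBar_basis K w hd c').LE

end coordinateRing

end Groth.Agent.H59.HibiW
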