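import Mathlib
import Groth.Agent.H59.HibiWeights
import Groth.Agent.H59.HibiRing

/-!
# The toric degeneration of the cone over a Schubert variety to the Hibi ring
-/

set_option autoImplicit false

namespace Groth.Agent.H59.HibiW

open W4bk4grassmannian MvPolynomial Groth.Agent.H59.SMTIndep Groth.Agent.H59.SMT

section supinf

variable {d n : ℕ}

theorem ωθ_sup_inf (a b : Idx d n) :
    ωθ (W4bk4grassmannian.sup a b) + ωθ (W4bk4grassmannian.inf a b) = ωθ a + ωθ b := by
  unfold ωθ
  rw [← Finset.sum_add_distrib, ← Finset.sum_add_distrib]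
  refine Finset.sum_congr rfl fun t _ => ?_
  show t.val * (max (a.1 t) (b.1 t)).val + t.val * (min (a.1 t) (b.1 t)).val = _
  rcases le_total (a.1 t) (b.1 t) with h | h
  · rw [max_eq_right h, min_eq_left h, add_comm]
  · rw [max_eq_left h, min_eq_right h]

theorem ex_sup_inf (a b : Idx d n) :
    ex (W4bk4grassmannian.sup a b).1 + ex (W4bk4grassmannian.inf a b).1 = ex a.1 + ex b.1 := by
  unfold ex
  rw [← Finset.sum_add_distrib, ← Finset.sum_add_distrib]
  refine Finset.sum_congr rfl fun t _ => ?_
  show Finsupp.single (toLex (t, max (a.1 t) (b.1 t))) 1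
    + Finsupp.single (toLex (t, min (a.1 t) (b.1 t))) 1 = _
  rcases le_total (a.1 t) (b.1 t) with h | h
  · rw [max_eq_right h, min_eq_left h, add_comm]
  · rw [max_eq_left h, min_eq_right h]

end supinf

section family

variable (K : Type*) [Field K] [Infinite K] {d n : ℕ} (w : Idx d n) (hd : 0 < d)

/-- the class of a variable. -/
noncomputable def xbar (θ : Idx d n) : AA K w :=
  Ideal.Quotient.mk (schubertVanishing K d n w) (X θ)

theorem psiBar_xbar (θ : Idx d n) : psiBar K w (xbar K w θ) = D K w θ := psi_X K w θ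

theorem xbar_mem (θ : Below w) :
    xbar K w θ.1 ∈ Rees.F (stdBasis K w hd) (ωe w) (ωθ θ.1) := by
  apply mem_F_of_LE
  rw [psiBar_xbar]
  exact (hasTop_D K w θ.1 θ.2).LE

/-- the generators of the Rees algebra. -/
noncomputable def xel (θ : Below w) : Rees.rees (adapted K w hd) :=
  Rees.elt (adapted K w hd) (ωθ θ.1) (xbar K w θ.1) (xbar_mem K w hd θ)

/-- the difference of the two sides of a Hibi relation. -/
noncomputable def delta (a b : Below w) : AA K w :=
  xbar K w a.1 * xbar K w b.1 - xbar K w (Below.sup a b).1 * xbar K w (Below.inf a b).1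

theorem delta_LT (a b : Below w) : LT (ωθ a.1 + ωθ b.1) (psiBar K w (delta K w a b)) := by
  unfold delta
  rw [map_sub, map_mul, map_mul, psiBar_xbar, psiBar_xbar, psiBar_xbar, psiBar_xbar]
  have h1 := (hasTop_D K w a.1 a.2).mul (hasTop_D K w b.1 b.2)
  have h2 := (hasTop_D K w (Below.sup a b).1 (Below.sup a b).2).mul
    (hasTop_D K w (Below.inf a b).1 (Below.inf a b).2)
  have e1 : ωθ (Below.sup a b).1 + ωθ (Below.inf a b).1 = ωθ a.1 + ωθ b.1 := ωθ_sup_inf a.1 b.1
  have e2 : ex (Below.sup a b).1.1 + ex (Below.inf a b).1.1 = ex a.1.1 + ex b.1.1 :=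
    ex_sup_inf a.1 b.1
  rw [e1, e2] at h2
  have e : D K w a.1 * D K w b.1 - D K w (Below.sup a b).1 * D K w (Below.inf a b).1
      = (D K w a.1 * D K w b.1 - monomial (ex a.1.1 + ex b.1.1) 1)
        - (D K w (Below.sup a b).1 * D K w (Below.inf a b).1
          - monomial (ex a.1.1 + ex b.1.1) 1) := by ring
  rw [e]
  exact h1.2.sub h2.2

theorem relation_val (a b : Below w) :
    ((xel K w hd a * xel K w hd b - xel K w hd (Below.sup a b) * xel K w hd (Below.inf a b) :
      Rees.rees (adapted K w hd)) : Polynomial (AA K w))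
      = Polynomial.monomial (ωθ a.1 + ωθ b.1) (delta K w a b) := by
  rw [AddSubgroupClass.coe_sub, MulMemClass.coe_mul, MulMemClass.coe_mul]
  unfold xel delta
  rw [Rees.elt_val, Rees.elt_val, Rees.elt_val, Rees.elt_val, Polynomial.monomial_mul_monomial,
    Polynomial.monomial_mul_monomial]
  have e1 : ωθ (Below.sup a b).1 + ωθ (Below.inf a b).1 = ωθ a.1 + ωθ b.1 := ωθ_sup_inf a.1 b.1
  rw [e1, map_sub]

theorem relation_mem (a b : Below w) :
    xel K w hd a * xel K w hd b - xel K w hd (Below.sup a b) * xel K w hd (Below.inf a b)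
      ∈ Rees.I₀ (adapted K w hd) := by
  have hLT := delta_LT K w a b
  rcases Nat.eq_zero_or_pos (ωθ a.1 + ωθ b.1) with h0 | hpos
  · rw [h0] at hLT
    have hz := eq_zero_of_LT_zero K w hd _ hLT
    have : xel K w hd a * xel K w hd b
        - xel K w hd (Below.sup a b) * xel K w hd (Below.inf a b) = 0 := by
      apply Subtype.ext
      rw [relation_val, hz, map_zero]
      rfl
    rw [this]
    exact zero_mem _
  · obtain ⟨j, hj⟩ : ∃ j, ωθ a.1 + ωθ b.1 = j + 1 := ⟨ωθ a.1 + ωθ b.1 - 1, by omega⟩
    rw [hj] at hLT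
    have hmemF : delta K w a b ∈ Rees.F (stdBasis K w hd) (ωe w) j :=
      mem_F_of_LE K w hd _ j (fun u hu => Nat.lt_succ_iff.mp (hLT u hu))
    have h1 := Rees.mk_elt_eq_zero_of_lt (adapted K w hd) (Nat.lt_succ_self j) _ hmemF
    rw [Ideal.Quotient.eq_zero_iff_mem] at h1
    have : xel K w hd a * xel K w hd b
        - xel K w hd (Below.sup a b) * xel K w hd (Below.inf a b)
        = Rees.elt (adapted K w hd) (j + 1) (delta K w a b)
          (Rees.F_mono _ _ (le_of_lt (Nat.lt_succ_self j)) hmemF) := by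
      apply Subtype.ext
      rw [relation_val, hj, Rees.elt_val]
    rw [this]
    exact h1

/-- the map from the polynomial ring on `H(w)` to the fibre at `0`. -/
noncomputable def g₀ : MvPolynomial (Below w) K →ₐ[K]
    (Rees.rees (adapted K w hd) ⧸ Rees.I₀ (adapted K w hd)) :=
  aeval fun θ => Ideal.Quotient.mk (Rees.I₀ (adapted K w hd)) (xel K w hd θ)

theorem g₀_hibi (f : MvPolynomial (Below w) K) (hf : f ∈ hibiIdeal K w) : g₀ K w hd f = 0 := by
  have hle : hibiIdeal K w ≤ RingHom.ker (g₀ K w hd).toRingHom := by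
    unfold hibiIdeal
    rw [Ideal.span_le]
    rintro f ⟨a, b, rfl⟩
    rw [SetLike.mem_coe, RingHom.mem_ker]
    show g₀ K w hd (X a * X b - X (Below.sup a b) * X (Below.inf a b)) = 0
    unfold g₀
    rw [map_sub, map_mul, map_mul, aeval_X, aeval_X, aeval_X, aeval_X, ← map_mul, ← map_mul,
      ← map_sub, Ideal.Quotient.eq_zero_iff_mem]
    exact relation_mem K w hd a b
  exact hle hf

/-- the map from the Hibi ring to the fibre at `0`. -/
noncomputable def g : (MvPolynomial (Below w) K ⧸ hibiIdeal K w) →ₐ[K]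
    (Rees.rees (adapted K w hd) ⧸ Rees.I₀ (adapted K w hd)) :=
  Ideal.Quotient.liftₐ (hibiIdeal K w) (g₀ K w hd) (g₀_hibi K w hd)

/-- chains in `H(w)`. -/
abbrev HC : Type := Σ m : ℕ, {c : Fin m → Below w // Antitone c}

/-- a chain in `H(w)` as a standard chain. -/
def toStd (c : HC w) : StdC w :=
  ⟨c.1, fun k => (c.2.1 k).1, ⟨fun _ _ hab => c.2.2 hab, fun k => (c.2.1 k).2⟩⟩

theorem toStd_injective : Function.Injective (toStd w) := by
  rintro ⟨m, c, hc⟩ ⟨m', c', hc'⟩ h
  simp only [toStd, Sigma.mk.injEq] at h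
  obtain ⟨h1, h2⟩ := h
  subst h1
  have h3 := eq_of_heq h2
  have h4 : (fun k => (c k).1) = (fun k => (c' k).1) := congrArg Subtype.val h3
  have h5 : c = c' := by
    funext k
    exact Subtype.ext (congrFun h4 k)
  subst h5
  rfl

theorem prod_xel (c : HC w) :
    ∏ k, xel K w hd (c.2.1 k) = Rees.β (adapted K w hd) (toStd w c) := by
  apply Subtype.ext
  unfold xel
  rw [Rees.prod_elt_val]
  unfold Rees.β
  rw [Rees.elt_val]
  congr 1
  rw [stdBasis_apply]
  unfold chainMon
  rw [map_prod]
  rfl

theorem g_mon (c : HC w) :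
    g K w hd (Ideal.Quotient.mk (hibiIdeal K w) (Hibi.mon K c.2.1))
      = Rees.β₀ (adapted K w hd) (toStd w c) := by
  show g₀ K w hd (Hibi.mon K c.2.1) = _
  unfold Hibi.mon g₀
  rw [map_prod]
  simp only [aeval_X]
  rw [← map_prod, prod_xel]
  rfl

omit [Infinite K] in
theorem hibi_span :
    Submodule.span K (Set.range fun c : HC w =>
      Ideal.Quotient.mk (hibiIdeal K w) (Hibi.mon K c.2.1)) = ⊤ := by
  apply Hibi.span_chains (fun a b : Below w => Below.sup a b) (fun a b => Below.inf a b)
  · intro a b t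
    exact le_max_right _ _
  · intro a b u hau hbu t
    exact max_le (hau t) (hbu t)
  · intro a b t
    exact min_le_right _ _
  · intro a b
    exact Ideal.subset_span ⟨a, b, rfl⟩

theorem g_bijective : Function.Bijective (g K w hd) := by
  constructor
  · rw [injective_iff_map_eq_zero]
    intro x hx
    have hxs : x ∈ Submodule.span K (Set.range fun c : HC w =>
        Ideal.Quotient.mk (hibiIdeal K w) (Hibi.mon K c.2.1)) := by
      rw [hibi_span]
      exact Submodule.mem_top
    rw [Finsupp.mem_span_range_iff_exists_finsupp] at hxs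
    obtain ⟨l, rfl⟩ := hxs
    have hli : LinearIndependent K (fun c : HC w => Rees.β₀ (adapted K w hd) (toStd w c)) :=
      (Rees.linearIndependent_β₀ (adapted K w hd)).comp _ (toStd_injective w)
    rw [linearIndependent_iff] at hli
    have hl : l = 0 := by
      apply hli
      rw [← hx, Finsupp.linearCombination_apply, Finsupp.sum, Finsupp.sum, map_sum]
      refine Finset.sum_congr rfl fun c _ => ?_
      rw [map_smul, g_mon]
    rw [hl]
    simp
  · intro y
    have hy : y ∈ Submodule.span K (Set.range (Rees.β₀ (adapted K w hd))) := by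
      rw [Rees.span_β₀]
      exact Submodule.mem_top
    have hle : Submodule.span K (Set.range (Rees.β₀ (adapted K w hd)))
        ≤ LinearMap.range (g K w hd).toLinearMap := by
      rw [Submodule.span_le]
      rintro z ⟨e, rfl⟩
      -- e comes from a chain in `H(w)`
      refine ⟨Ideal.Quotient.mk (hibiIdeal K w) (Hibi.mon K
        (fun k => (⟨e.2.1 k, e.2.2.2 k⟩ : Below w))), ?_⟩
      have := g_mon K w hd ⟨e.1, fun k => (⟨e.2.1 k, e.2.2.2 k⟩ : Below w),
        fun _ _ hab => e.2.2.1 hab⟩
      exact this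
    obtain ⟨x, hx⟩ := hle hy
    exact ⟨x, hx⟩

end family

section main

universe u

/-- the toric degeneration to the Hibi ring. -/
theorem exists_family (K : Type u) [Field K] [Infinite K] (d n : ℕ) (hd : 0 < d) (w : Idx d n) :
    ∃ (R : Type u) (_ : CommRing R) (_ : Algebra K R) (_ : Algebra (Polynomial K) R)
      (_ : IsScalarTower K (Polynomial K) R),
      Module.Free (Polynomial K) R ∧
      Nonempty ((R ⧸ Ideal.span {algebraMap (Polynomial K) R Polynomial.X}) ≃ₐ[K]
        (MvPolynomial (Below w) K ⧸ hibiIdeal K w)) ∧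
      ∀ c : K, c ≠ 0 →
        Nonempty ((R ⧸ Ideal.span {algebraMap (Polynomial K) R
          (Polynomial.X - Polynomial.C c)}) ≃ₐ[K]
          (PlRing K d n ⧸ schubertVanishing K d n w)) :=
  ⟨Rees.rees (adapted K w hd), inferInstance, inferInstance, Rees.instAlgebra _,
    Rees.instTower _, Rees.free _,
    ⟨(AlgEquiv.ofBijective (g K w hd) (g_bijective K w hd)).symm⟩,
    fun c hc => ⟨Rees.fibreEquiv _ c hc⟩⟩

end main

end Groth.Agent.H59.HibiW
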