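import Mathlib
import Groth.Agent.H59.SMTUnion

/-!
# The shape of the straightening relations

The top element of `I(d,n)`, the kernel of the parametrisation, bihomogeneity, and the
restriction argument showing that the standard monomials occurring in `X τ X φ` have top member
above `τ` and `φ`.
-/

set_option autoImplicit false

namespace Groth.Agent.H59.Shape

open W4bk4grassmannian MvPolynomial Groth.Agent.H59.SMTIndep Groth.Agent.H59.SMT
open Groth.Agent.H59.Straighten

section top

variable {d n : ℕ}

theorem val_add_le {a b : ℕ} (f : Fin a → Fin b) (hf : StrictMono f) :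
    ∀ (k : ℕ) (t : Fin a), t.val + k + 1 = a → (f t).val + k + 1 ≤ b := by
  intro k
  induction k with
  | zero =>
    intro t _
    have := (f t).isLt
    omega
  | succ k ih =>
    intro t ht
    have ht' : t.val + 1 < a := by omega
    have h1 := ih ⟨t.val + 1, ht'⟩ (by simp only; omega)
    have h2 : f t < f ⟨t.val + 1, ht'⟩ := hf (Fin.lt_def.mpr (by simp))
    have h3 := Fin.lt_def.mp h2
    omega

/-- the largest element of `I(d,n)`. -/
def top (h : d ≤ n) : Idx d n :=
  ⟨fun t => ⟨n - d + t.val, by have := t.isLt; omega⟩, fun a b hab => by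
    rw [Fin.lt_def] at hab ⊢
    simp only
    omega⟩

theorem le_top (h : d ≤ n) (θ : Idx d n) : θ ≤ top h := by
  intro t
  rw [Fin.le_def]
  show (θ.1 t).val ≤ n - d + t.val
  have ht := t.isLt
  have := val_add_le θ.1 θ.2 (d - 1 - t.val) t (by omega)
  omega

variable (K : Type*) [CommRing K]

theorem vanishing_le (w : Idx d n) : vanishing K d n ≤ schubertVanishing K d n w := by
  intro f hf
  rw [mem_schubertVanishing_iff]
  intro A _
  unfold vanishing at hf
  rw [Ideal.mem_iInf] at hf
  exact hf A

theorem schubertVanishing_top (h : d ≤ n) : schubertVanishing K d n (top h) = vanishing K d n := by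
  apply le_antisymm _ (vanishing_le K _)
  intro f hf
  rw [mem_schubertVanishing_iff] at hf
  unfold vanishing
  rw [Ideal.mem_iInf]
  intro A
  exact hf A (fun φ hφ => absurd (le_top h φ) hφ)

end top

section kernel

variable (K : Type*) [Field K] [Infinite K] {d n : ℕ}

theorem ker_psi_eq (hd : 0 < d) (w : Idx d n) :
    RingHom.ker (psi K w).toRingHom = schubertVanishing K d n w := by
  apply le_antisymm _ (schubertVanishing_le_ker_psi K w)
  intro f hf
  rw [RingHom.mem_ker] at hf
  obtain ⟨l, hl⟩ := exists_repr K f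
  set h := ∑ c ∈ l.support, l c • chainMon K c.2.1 with hh
  have hfh : f - h ∈ schubertVanishing K d n w :=
    plIdeal_le_schubertVanishing K w (plIdealTop_le_plIdeal K w hl)
  have hψ : psi K w h = 0 := by
    have h1 : psi K w (f - h) = 0 := schubertVanishing_le_ker_psi K w hfh
    have h2 : psi K w f = 0 := hf
    rw [map_sub, h2, zero_sub, neg_eq_zero] at h1
    exact h1
  have h1 : ∑ c ∈ l.support, l c • psi K w (chainMon K c.2.1) = 0 := by
    rw [← hψ, hh, map_sum]
    refine Finset.sum_congr rfl fun i _ => ?_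
    rw [map_smul]
  have hz : ∀ c ∈ l.support, (∀ k, c.2.1 k ≤ w) → l c = 0 := by
    intro c hc hcw
    refine eq_zero_of_monic_or_zero (ord d n) (fun c : Ch d n => psi K w (chainMon K c.2.1))
      {c | ∀ k, c.2.1 k ≤ w} ?_ ?_ ?_ l.support (fun c => l c) h1 c hc hcw
    · intro i hi
      exact (psi_chainMon_monic K w _ hi).1
    · intro i hi
      exact psi_chainMon_eq_zero K w _ hi
    · intro i hi i' hi' heq
      simp only at heq
      rw [(psi_chainMon_monic K w _ hi).2, (psi_chainMon_monic K w _ hi').2] at heq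
      exact E_inj hd _ _ heq
  have hh' : h ∈ schubertVanishing K d n w := by
    apply Ideal.sum_mem
    intro c hc
    by_cases hcw : ∀ k, c.2.1 k ≤ w
    · rw [hz c hc hcw, zero_smul]
      exact zero_mem _
    · exact Submodule.smul_of_tower_mem _ _
        (plIdeal_le_schubertVanishing K w (chainMon_mem_plIdeal K w c.2.1 hcw))
  have e : f = (f - h) + h := by ring
  rw [e]
  exact Ideal.add_mem _ hfh hh'

end kernel

section bihomogeneous

variable {K : Type*} [Field K] {d n : ℕ}

/-- the total degree of an exponent. -/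
noncomputable def dg : (Var d n →₀ ℕ) →+ ℕ := Finsupp.weight (fun _ : Var d n => 1)

/-- the sum of the rows of an exponent. -/
noncomputable def rs : (Var d n →₀ ℕ) →+ ℕ := Finsupp.weight (fun v : Var d n => (ofLex v).2.val)

theorem dg_ex (ρ : Fin d → Fin n) : dg (ex ρ) = d := by
  unfold ex dg
  rw [map_sum]
  simp [Finsupp.weight_single]

theorem rs_ex (ρ : Fin d → Fin n) : rs (ex ρ) = ∑ t : Fin d, (ρ t).val := by
  unfold ex rs
  rw [map_sum]
  refine Finset.sum_congr rfl fun t _ => ?_
  rw [Finsupp.weight_single, smul_eq_mul, one_mul]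
  rfl

/-- all monomials have degree `a` and row sum `b`. -/
def AllType (a b : ℕ) (f : MvPolynomial (Var d n) K) : Prop :=
  ∀ u ∈ f.support, dg u = a ∧ rs u = b

theorem AllType.zero (a b : ℕ) : AllType a b (0 : MvPolynomial (Var d n) K) := by
  intro u hu
  simp at hu

theorem AllType.add {a b : ℕ} {f g : MvPolynomial (Var d n) K} (hf : AllType a b f)
    (hg : AllType a b g) : AllType a b (f + g) := by
  classical
  intro u hu
  rcases Finset.mem_union.mp (MvPolynomial.support_add hu) with h | h
  · exact hf u h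
  · exact hg u h

theorem AllType.smul {a b : ℕ} {f : MvPolynomial (Var d n) K} (hf : AllType a b f) (r : K) :
    AllType a b (r • f) := by
  intro u hu
  exact hf u (MvPolynomial.support_smul hu)

theorem AllType.neg {a b : ℕ} {f : MvPolynomial (Var d n) K} (hf : AllType a b f) :
    AllType a b (-f) := by
  intro u hu
  rw [MvPolynomial.support_neg] at hu
  exact hf u hu

theorem AllType.sub {a b : ℕ} {f g : MvPolynomial (Var d n) K} (hf : AllType a b f)
    (hg : AllType a b g) : AllType a b (f - g) := by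
  rw [sub_eq_add_neg]
  exact hf.add hg.neg

theorem AllType.sum {ι : Type*} (S : Finset ι) {a b : ℕ} (f : ι → MvPolynomial (Var d n) K)
    (h : ∀ i ∈ S, AllType a b (f i)) : AllType a b (∑ i ∈ S, f i) := by
  classical
  induction S using Finset.induction_on with
  | empty => simpa using AllType.zero a b
  | insert i S hi ih =>
    rw [Finset.sum_insert hi]
    exact (h i (Finset.mem_insert_self i S)).add
      (ih fun j hj => h j (Finset.mem_insert_of_mem hj))

theorem AllType.mul {a b a' b' : ℕ} {f g : MvPolynomial (Var d n) K} (hf : AllType a b f)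
    (hg : AllType a' b' g) : AllType (a + a') (b + b') (f * g) := by
  classical
  intro u hu
  obtain ⟨u₁, h₁, u₂, h₂, rfl⟩ := Finset.mem_add.mp (MvPolynomial.support_mul f g hu)
  rw [map_add, map_add, (hf u₁ h₁).1, (hf u₁ h₁).2, (hg u₂ h₂).1, (hg u₂ h₂).2]
  exact ⟨rfl, rfl⟩

theorem AllType.one : AllType 0 0 (1 : MvPolynomial (Var d n) K) := by
  classical
  intro u hu
  have : u = 0 := by
    have h := MvPolynomial.support_monomial_subset (R := K) (s := (0 : Var d n →₀ ℕ)) (a := 1) hu
    exact Finset.mem_singleton.mp h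
  rw [this]
  exact ⟨map_zero _, map_zero _⟩

theorem AllType.prod {ι : Type*} (S : Finset ι) (a b : ι → ℕ)
    (f : ι → MvPolynomial (Var d n) K) (h : ∀ i ∈ S, AllType (a i) (b i) (f i)) :
    AllType (∑ i ∈ S, a i) (∑ i ∈ S, b i) (∏ i ∈ S, f i) := by
  classical
  induction S using Finset.induction_on with
  | empty =>
    simp only [Finset.sum_empty, Finset.prod_empty]
    exact AllType.one
  | insert i S hi ih =>
    rw [Finset.sum_insert hi, Finset.sum_insert hi, Finset.prod_insert hi]
    exact (h i (Finset.mem_insert_self i S)).mul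
      (ih fun j hj => h j (Finset.mem_insert_of_mem hj))

variable (K)

theorem allType_D (τ φ : Idx d n) : AllType d (esum φ) (D K τ φ) := by
  classical
  unfold D
  rw [Matrix.det_apply]
  apply AllType.sum
  intro π _
  rcases term_eq K τ φ π with h | h
  · rw [h, smul_zero]
    exact AllType.zero _ _
  · rw [h]
    have h1 : AllType d (esum φ) (monomial (ex (φ.1 ∘ π)) (1 : K)) := by
      intro u hu
      have := Finset.mem_singleton.mp (MvPolynomial.support_monomial_subset hu)
      rw [this, dg_ex, rs_ex]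
      refine ⟨rfl, ?_⟩
      unfold esum
      exact Equiv.sum_comp π (fun t => (φ.1 t).val)
    rcases Int.units_eq_one_or (Equiv.Perm.sign π) with h2 | h2
    · rw [h2, one_smul]
      exact h1
    · rw [h2, Units.neg_smul, one_smul]
      exact h1.neg

theorem allType_psi_chainMon {m : ℕ} (τ : Idx d n) (c : Fin m → Idx d n) :
    AllType (m * d) (∑ k, esum (c k)) (psi K τ (chainMon K c)) := by
  rw [psi_chainMon]
  have := AllType.prod Finset.univ (fun _ : Fin m => d) (fun k => esum (c k))
    (fun k => D K τ (c k)) (fun k _ => allType_D K τ (c k))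
  simpa using this

end bihomogeneous

section shape

variable (K : Type*) [Field K] [Infinite K] {d n : ℕ}

theorem ker_psi_top (hd : 0 < d) (hdn : d ≤ n) :
    RingHom.ker (psi K (top hdn)).toRingHom = vanishing K d n := by
  rw [ker_psi_eq K hd, schubertVanishing_top]

theorem restrict_type (hd : 0 < d) (hdn : d ≤ n) (f : PlRing K d n) (a b : ℕ)
    (hf : AllType a b (psi K (top hdn) f)) (T : Finset (Ch d n)) (l : Ch d n → K)
    (hmem : f - ∑ c ∈ T, l c • chainMon K c.2.1 ∈ vanishing K d n) :
    f - ∑ c ∈ T.filter (fun c => c.1 * d = a ∧ ∑ k, esum (c.2.1 k) = b),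
      l c • chainMon K c.2.1 ∈ vanishing K d n := by
  classical
  rw [← ker_psi_top K hd hdn] at hmem ⊢
  rw [RingHom.mem_ker] at hmem ⊢
  set ψ := psi K (top hdn) with hψ
  have hmem' : ψ (f - ∑ c ∈ T, l c • chainMon K c.2.1) = 0 := hmem
  show ψ (f - ∑ c ∈ T.filter (fun c => c.1 * d = a ∧ ∑ k, esum (c.2.1 k) = b),
      l c • chainMon K c.2.1) = 0
  set P : Ch d n → Prop := fun c => c.1 * d = a ∧ ∑ k, esum (c.2.1 k) = b with hP
  have hsplit : ∑ c ∈ T, l c • chainMon K c.2.1
      = ∑ c ∈ T.filter P, l c • chainMon K c.2.1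
        + ∑ c ∈ T.filter (fun c => ¬ P c), l c • chainMon K c.2.1 :=
    (Finset.sum_filter_add_sum_filter_not T P _).symm
  rw [hsplit, map_sub, map_add, map_sum, map_sum] at hmem'
  have hR : ψ f - ∑ c ∈ T.filter P, ψ (l c • chainMon K c.2.1)
      = ∑ c ∈ T.filter (fun c => ¬ P c), ψ (l c • chainMon K c.2.1) := by
    rw [sub_eq_iff_eq_add, ← sub_eq_zero, ← hmem']
    ring
  have hR0 : AllType a b (ψ f - ∑ c ∈ T.filter P, ψ (l c • chainMon K c.2.1)) := by
    apply hf.sub
    apply AllType.sum
    intro c hc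
    rw [map_smul]
    have hPc := (Finset.mem_filter.mp hc).2
    have := (allType_psi_chainMon K (top hdn) c.2.1).smul (l c)
    rw [hPc.1, hPc.2] at this
    exact this
  have hzero : ψ f - ∑ c ∈ T.filter P, ψ (l c • chainMon K c.2.1) = 0 := by
    rw [← MvPolynomial.support_eq_empty, Finset.eq_empty_iff_forall_notMem]
    intro u hu
    have h1 := hR0 u hu
    rw [hR] at hu
    have h2 := MvPolynomial.support_sum hu
    rw [Finset.mem_biUnion] at h2
    obtain ⟨c, hc, huc⟩ := h2
    have hPc := (Finset.mem_filter.mp hc).2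
    rw [map_smul] at huc
    have h3 := (allType_psi_chainMon K (top hdn) c.2.1).smul (l c) u huc
    apply hPc
    exact ⟨h3.1.symm.trans h1.1, h3.2.symm.trans h1.2⟩
  rw [map_sub, map_sum]
  exact hzero

theorem le_of_mem (hd : 0 < d) (τ φ : Idx d n) (T : Finset (Ch d n)) (l : Ch d n → K)
    (hmem : X τ * X φ - ∑ c ∈ T, l c • chainMon K c.2.1 ∈ vanishing K d n)
    (c : Ch d n) (hc : c ∈ T) (hl : l c ≠ 0) (α : Idx d n) (hα : ∀ k, c.2.1 k ≤ α) :
    τ ≤ α ∧ φ ≤ α := by
  by_contra hcon
  apply hl
  have hX : X τ * X φ ∈ schubertVanishing K d n α := by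
    by_cases h1 : τ ≤ α
    · have h2 : ¬ φ ≤ α := fun h2 => hcon ⟨h1, h2⟩
      exact Ideal.mul_mem_left _ _ (X_mem_schubertVanishing K α φ h2)
    · exact Ideal.mul_mem_right _ _ (X_mem_schubertVanishing K α τ h1)
  have hsum : ∑ c ∈ T, l c • chainMon K c.2.1 ∈ schubertVanishing K d n α := by
    have e : ∑ c ∈ T, l c • chainMon K c.2.1
        = X τ * X φ - (X τ * X φ - ∑ c ∈ T, l c • chainMon K c.2.1) := by ring
    rw [e]
    exact Ideal.sub_mem _ hX (vanishing_le K α hmem)
  exact coeff_eq_zero_of_mem K hd α (fun c : Ch d n => c) Function.injective_id T l hsum c hc hα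

/-- the shape of the straightening relation of a product of two coordinates. -/
theorem exists_shape (hd : 0 < d) (hdn : d ≤ n) (τ φ : Idx d n) :
    ∃ (T : Finset (Ch d n)) (l : Ch d n → K),
      (∀ c ∈ T, l c ≠ 0) ∧ (∀ c ∈ T, c.1 = 2) ∧
      (∀ c ∈ T, ∑ k, esum (c.2.1 k) = esum τ + esum φ) ∧
      (∀ c ∈ T, ∀ α, (∀ k, c.2.1 k ≤ α) → τ ≤ α ∧ φ ≤ α) ∧
      X τ * X φ - ∑ c ∈ T, l c • chainMon K c.2.1 ∈ vanishing K d n := by
  classical
  obtain ⟨l₀, hl₀⟩ := exists_repr K (X τ * X φ : PlRing K d n)
  have h0 : X τ * X φ - ∑ c ∈ l₀.support, l₀ c • chainMon K c.2.1 ∈ vanishing K d n := by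
    rw [← schubertVanishing_top K hdn]
    exact plIdeal_le_schubertVanishing K _ (plIdealTop_le_plIdeal K _ hl₀)
  have hty : AllType (d + d) (esum τ + esum φ) (psi K (top hdn) (X τ * X φ)) := by
    rw [map_mul, psi_X, psi_X]
    exact (allType_D K _ τ).mul (allType_D K _ φ)
  have h1 := restrict_type K hd hdn _ _ _ hty l₀.support (fun c => l₀ c) h0
  refine ⟨l₀.support.filter (fun c => c.1 * d = d + d ∧ ∑ k, esum (c.2.1 k) = esum τ + esum φ),
    fun c => l₀ c, ?_, ?_, ?_, ?_, h1⟩
  · intro c hc
    exact Finsupp.mem_support_iff.mp (Finset.mem_filter.mp hc).1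
  · intro c hc
    have := (Finset.mem_filter.mp hc).2.1
    have h2 : c.1 * d = 2 * d := by omega
    exact Nat.eq_of_mul_eq_mul_right hd h2
  · intro c hc
    exact (Finset.mem_filter.mp hc).2.2
  · intro c hc α hα
    exact le_of_mem K hd τ φ _ _ h1 c hc
      (Finsupp.mem_support_iff.mp (Finset.mem_filter.mp hc).1) α hα

end shape

end Groth.Agent.H59.Shape
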