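import Mathlib
import Groth.Agent.H59.HibiFamily
import Groth.Agent.H59.ShapeLemma

/-!
# The least Plücker coordinate is a prime element on every Schubert variety
-/

set_option autoImplicit false

namespace Groth.Agent.H59.PrimeIota

open W4bk4grassmannian MvPolynomial Groth.Agent.H59.SMTIndep Groth.Agent.H59.SMT
open Groth.Agent.H59.Straighten Groth.Agent.H59.HibiW Groth.Agent.H59.Shape

section iota

variable {d n : ℕ}

/-- the least element of `I(d,n)`. -/
def iota (h : d ≤ n) : Idx d n :=
  ⟨fun t => ⟨t.val, lt_of_lt_of_le t.isLt h⟩, fun _ _ hab => hab⟩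

theorem iota_le (h : d ≤ n) (θ : Idx d n) : iota h ≤ θ := by
  intro t
  rw [Fin.le_def]
  exact strictMono_val_le θ.1 θ.2 t

theorem eq_iota_of_last (h : d ≤ n) (hd : 0 < d) (θ : Idx d n)
    (hθ : (θ.1 ⟨d - 1, by omega⟩).val = d - 1) : θ = iota h := by
  apply Subtype.ext
  funext t
  apply Fin.ext
  show (θ.1 t).val = t.val
  have h1 := strictMono_val_le θ.1 θ.2 t
  have ht := t.isLt
  -- θ t + (d - 1 - t) ≤ θ (d-1)
  have h2 : ∀ (k : ℕ) (s : Fin d), s.val + k = d - 1 → (θ.1 s).val + k ≤ d - 1 := by
    intro k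
    induction k with
    | zero =>
      intro s hs
      have : s = ⟨d - 1, by omega⟩ := Fin.ext (by simpa using hs)
      rw [this, hθ]
      omega
    | succ k ih =>
      intro s hs
      have hs' : s.val + 1 < d := by omega
      have h3 := ih ⟨s.val + 1, hs'⟩ (by simp only; omega)
      have h4 : θ.1 s < θ.1 ⟨s.val + 1, hs'⟩ := θ.2 (Fin.lt_def.mpr (by simp))
      have h5 := Fin.lt_def.mp h4
      omega
  have := h2 (d - 1 - t.val) t (by omega)
  omega

end iota

section lt

variable {K : Type*} [Field K] {d n : ℕ}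

theorem LT.zero (i : ℕ) : LT i (0 : MvPolynomial (Var d n) K) := by
  intro u hu
  simp at hu

theorem LT.smul {i : ℕ} {f : MvPolynomial (Var d n) K} (hf : LT i f) (r : K) : LT i (r • f) :=
  fun u hu => hf u (MvPolynomial.support_smul hu)

theorem LT.sum {ι : Type*} (S : Finset ι) {i : ℕ} (f : ι → MvPolynomial (Var d n) K)
    (h : ∀ k ∈ S, LT i (f k)) : LT i (∑ k ∈ S, f k) := by
  classical
  induction S using Finset.induction_on with
  | empty => simpa using LT.zero (K := K) (d := d) (n := n) i
  | insert k S hk ih =>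
    rw [Finset.sum_insert hk]
    exact (h k (Finset.mem_insert_self k S)).add
      (ih fun j hj => h j (Finset.mem_insert_of_mem hj))

theorem LT.mono {i j : ℕ} (hij : i ≤ j) {f : MvPolynomial (Var d n) K} (hf : LT i f) : LT j f :=
  fun u hu => lt_of_lt_of_le (hf u hu) hij

end lt

section top

variable (K : Type*) [Field K] [Infinite K] {d n : ℕ} (w : Idx d n) (hd : 0 < d)

omit [Infinite K] in
theorem wt_E (e : StdC w) : wt (E e.2.1) = ωe w e := by
  unfold E ωe ωc
  rw [map_sum]
  refine Finset.sum_congr rfl fun k _ => ?_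
  rw [wt_ex]
  rfl

/-- the top weight component of the image of a nonzero element. -/
theorem exists_top (a : AA K w) (ha : a ≠ 0) :
    ∃ (i : ℕ) (T : MvPolynomial (Var d n) K), T ≠ 0 ∧
      (∀ u ∈ T.support, wt u = i ∧ ∃ e, (stdBasis K w hd).repr a e ≠ 0 ∧ u = E e.2.1) ∧
      LT i (psiBar K w a - T) := by
  classical
  set l := (stdBasis K w hd).repr a with hl
  have hne : l.support.Nonempty := by
    rw [Finsupp.support_nonempty_iff]
    intro h0
    apply ha
    apply (stdBasis K w hd).repr.injective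
    rw [← hl, h0, map_zero]
  obtain ⟨e₀, he₀, hmax⟩ := Finset.exists_max_image l.support (ωe w) hne
  set i := ωe w e₀ with hi
  set S' := l.support.filter (fun e => ωe w e = i) with hS'
  set T : MvPolynomial (Var d n) K := ∑ e ∈ S', l e • monomial (E e.2.1) (1 : K) with hT
  have hsum : a = ∑ e' ∈ l.support, l e' • stdBasis K w hd e' := by
    conv_lhs => rw [← (stdBasis K w hd).linearCombination_repr a]
    rw [Finsupp.linearCombination_apply, Finsupp.sum]
  refine ⟨i, T, ?_, ?_, ?_⟩
  · intro hT0
    have hc := congrArg (MvPolynomial.coeff (E e₀.2.1)) hT0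
    rw [hT, coeff_sum, coeff_zero, Finset.sum_eq_single e₀] at hc
    · rw [coeff_smul, coeff_monomial, if_pos rfl, smul_eq_mul, mul_one] at hc
      exact (Finsupp.mem_support_iff.mp he₀) hc
    · intro e _ hne'
      rw [coeff_smul, coeff_monomial, if_neg (fun h => hne' (E_inj_std w hd e e₀ h)), smul_zero]
    · intro h
      have : e₀ ∈ S' := by
        rw [hS', Finset.mem_filter]
        exact ⟨he₀, rfl⟩
      exact absurd this h
  · intro u hu
    have h1 := MvPolynomial.support_sum hu
    rw [Finset.mem_biUnion] at h1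
    obtain ⟨e, he, hue⟩ := h1
    have h2 := MvPolynomial.support_smul hue
    have h3 := Finset.mem_singleton.mp (MvPolynomial.support_monomial_subset h2)
    have he' := Finset.mem_filter.mp he
    refine ⟨?_, e, Finsupp.mem_support_iff.mp he'.1, h3⟩
    rw [h3, wt_E w e]
    exact he'.2
  · have e1 : psiBar K w a - T
        = ∑ e ∈ S', l e • (psiBar K w (stdBasis K w hd e) - monomial (E e.2.1) (1 : K))
          + ∑ e ∈ l.support.filter (fun e => ¬ ωe w e = i),
            l e • psiBar K w (stdBasis K w hd e) := by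
      conv_lhs => rw [hsum]
      rw [map_sum, ← Finset.sum_filter_add_sum_filter_not l.support (fun e => ωe w e = i), hT]
      simp only [map_smul, smul_sub, Finset.sum_sub_distrib]
      ring
    rw [e1]
    apply LT.add
    · apply LT.sum
      intro e he
      apply LT.smul
      have := (hasTop_psiBar_basis K w hd e).2
      rwa [(Finset.mem_filter.mp he).2] at this
    · apply LT.sum
      intro e he
      apply LT.smul
      have he' := Finset.mem_filter.mp he
      have hlt : ωe w e < i := lt_of_le_of_ne (hmax e he'.1) he'.2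
      exact LT.mono hlt (hasTop_psiBar_basis K w hd e).LE.lt_succ

end top

section divis

variable (K : Type*) [Field K] [Infinite K] {d n : ℕ} (w : Idx d n) (hd : 0 < d) (hdn : d ≤ n)

/-- a standard chain contains `ι`. -/
def hasι (e : StdC w) : Prop := ∃ k, e.2.1 k = iota hdn

/-- appending `ι` to a standard chain. -/
def snocι (e : StdC w) : StdC w :=
  ⟨e.1 + 1, Fin.snoc (α := fun _ => Idx d n) e.2.1 (iota hdn), by
    constructor
    · intro a b hab
      induction b using Fin.lastCases with
      | last =>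
        rw [Fin.snoc_last]
        exact iota_le hdn _
      | cast b' =>
        induction a using Fin.lastCases with
        | last =>
          exfalso
          have h1 := Fin.le_def.mp hab
          have h2 := b'.isLt
          simp at h1
          omega
        | cast a' =>
          rw [Fin.snoc_castSucc, Fin.snoc_castSucc]
          exact e.2.2.1 (Fin.castSucc_le_castSucc_iff.mp hab)
    · intro k
      induction k using Fin.lastCases with
      | last =>
        rw [Fin.snoc_last]
        exact iota_le hdn _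
      | cast k' =>
        rw [Fin.snoc_castSucc]
        exact e.2.2.2 k'⟩

theorem hasι_snocι (e : StdC w) : hasι w hdn (snocι w hdn e) :=
  ⟨Fin.last _, by
    show Fin.snoc (α := fun _ => Idx d n) e.2.1 (iota hdn) (Fin.last _) = iota hdn
    rw [Fin.snoc_last]⟩

theorem exists_snocι (e : StdC w) (he : hasι w hdn e) : ∃ e', e = snocι w hdn e' := by
  obtain ⟨m, c, hanti, hbound⟩ := e
  obtain ⟨k, hk⟩ := he
  simp only at hk
  cases m with
  | zero => exact k.elim0
  | succ m =>
    have hlast : c (Fin.last m) = iota hdn := by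
      apply le_antisymm _ (iota_le hdn _)
      rw [← hk]
      exact hanti (Fin.le_last k)
    refine ⟨⟨m, Fin.init c, fun a b hab => hanti (Fin.castSucc_le_castSucc_iff.mpr hab),
      fun k' => hbound _⟩, ?_⟩
    unfold snocι
    simp only
    congr 1
    apply Subtype.ext
    simp only
    rw [← hlast]
    exact (Fin.snoc_init_self c).symm

/-- the class of `X ι`. -/
noncomputable abbrev xι : AA K w := xbar K w (iota hdn)

theorem basis_snocι (e : StdC w) :
    stdBasis K w hd (snocι w hdn e) = stdBasis K w hd e * xι K w hdn := by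
  rw [stdBasis_apply, stdBasis_apply]
  show Ideal.Quotient.mk (schubertVanishing K d n w) _
    = Ideal.Quotient.mk (schubertVanishing K d n w) _
      * Ideal.Quotient.mk (schubertVanishing K d n w) (X (iota hdn))
  rw [← map_mul]
  congr 1
  unfold chainMon snocι
  simp only
  rw [Fin.prod_univ_castSucc]
  simp only [Fin.snoc_castSucc, Fin.snoc_last]

theorem hasι_of_dvd (a : AA K w) (h : xι K w hdn ∣ a) (e : StdC w)
    (he : (stdBasis K w hd).repr a e ≠ 0) : hasι w hdn e := by
  classical
  obtain ⟨a', rfl⟩ := h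
  have hmem : xι K w hdn * a' ∈ Submodule.span K
      ((stdBasis K w hd) '' {e | hasι w hdn e}) := by
    have hsum : a' = ∑ e' ∈ ((stdBasis K w hd).repr a').support,
        (stdBasis K w hd).repr a' e' • stdBasis K w hd e' := by
      conv_lhs => rw [← (stdBasis K w hd).linearCombination_repr a']
      rw [Finsupp.linearCombination_apply, Finsupp.sum]
    rw [hsum, Finset.mul_sum]
    apply Submodule.sum_mem
    intro e' _
    rw [mul_smul_comm, mul_comm, ← basis_snocι]
    apply Submodule.smul_mem
    exact Submodule.subset_span ⟨snocι w hdn e', hasι_snocι w hdn e', rfl⟩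
  rw [Module.Basis.mem_span_image] at hmem
  exact hmem (Finsupp.mem_support_iff.mpr he)

theorem dvd_of_hasι (a : AA K w)
    (h : ∀ e, (stdBasis K w hd).repr a e ≠ 0 → hasι w hdn e) : xι K w hdn ∣ a := by
  classical
  have hsum : a = ∑ e' ∈ ((stdBasis K w hd).repr a).support,
      (stdBasis K w hd).repr a e' • stdBasis K w hd e' := by
    conv_lhs => rw [← (stdBasis K w hd).linearCombination_repr a]
    rw [Finsupp.linearCombination_apply, Finsupp.sum]
  rw [hsum]
  apply Finset.dvd_sum
  intro e he
  obtain ⟨e', rfl⟩ := exists_snocι w hdn e (h e (Finsupp.mem_support_iff.mp he))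
  rw [basis_snocι, ← smul_mul_assoc]
  exact Dvd.intro_left _ rfl

/-- the variable `x_{d-1,d-1}`. -/
def v₀ : Var d n := toLex (⟨d - 1, by omega⟩, ⟨d - 1, by omega⟩)

include hd in
theorem E_v₀_eq_zero (e : StdC w) (he : ¬ hasι w hdn e) : E e.2.1 (v₀ hd hdn) = 0 := by
  unfold v₀
  rw [E_apply]
  apply Finset.sum_eq_zero
  intro k _
  rw [if_neg]
  intro hk
  apply he
  refine ⟨k, eq_iota_of_last hdn hd _ ?_⟩
  rw [hk]

include hd in
theorem E_v₀_pos (e : StdC w) (he : hasι w hdn e) : 0 < E e.2.1 (v₀ hd hdn) := by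
  unfold v₀
  rw [E_apply]
  obtain ⟨k, hk⟩ := he
  have h1 : (if (e.2.1 k).1 ⟨d - 1, by omega⟩ = (⟨d - 1, by omega⟩ : Fin n) then 1 else 0)
      ≤ ∑ k, if (e.2.1 k).1 ⟨d - 1, by omega⟩ = (⟨d - 1, by omega⟩ : Fin n) then 1 else 0 :=
    Finset.single_le_sum (f := fun k => if (e.2.1 k).1 ⟨d - 1, by omega⟩
      = (⟨d - 1, by omega⟩ : Fin n) then 1 else 0) (fun _ _ => Nat.zero_le _) (Finset.mem_univ k)
  rw [if_pos (by rw [hk]; rfl)] at h1
  exact h1

end divis

section main

open scoped Classical

variable (K : Type*) [Field K] [Infinite K] {d n : ℕ} (w : Idx d n) (hd : 0 < d) (hdn : d ≤ n)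

include hd in
theorem psiBar_injective : Function.Injective (psiBar K w) := by
  rw [injective_iff_map_eq_zero]
  intro a ha
  obtain ⟨f, rfl⟩ := Ideal.Quotient.mk_surjective a
  rw [psiBar_mk] at ha
  rw [Ideal.Quotient.eq_zero_iff_mem, ← ker_psi_eq K hd w]
  exact ha

/-- the part of `a` supported on the standard monomials without `ι`. -/
noncomputable def freePart (a : AA K w) : AA K w :=
  (stdBasis K w hd).repr.symm (((stdBasis K w hd).repr a).filter (fun e => ¬ hasι w hdn e))

theorem repr_freePart (a : AA K w) :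
    (stdBasis K w hd).repr (freePart K w hd hdn a)
      = ((stdBasis K w hd).repr a).filter (fun e => ¬ hasι w hdn e) := by
  unfold freePart
  rw [LinearEquiv.apply_symm_apply]

theorem dvd_sub_freePart (a : AA K w) : xι K w hdn ∣ a - freePart K w hd hdn a := by
  classical
  apply dvd_of_hasι K w hd hdn
  intro e he
  rw [map_sub, repr_freePart, Finsupp.sub_apply, Finsupp.filter_apply] at he
  by_contra hne
  rw [if_pos hne, sub_self] at he
  exact he rfl

theorem freePart_ne_zero (a : AA K w) (ha : ¬ xι K w hdn ∣ a) : freePart K w hd hdn a ≠ 0 := by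
  intro h0
  apply ha
  have := dvd_sub_freePart K w hd hdn a
  rwa [h0, sub_zero] at this

theorem not_hasι_of_repr_freePart (a : AA K w) (e : StdC w)
    (he : (stdBasis K w hd).repr (freePart K w hd hdn a) e ≠ 0) : ¬ hasι w hdn e := by
  classical
  rw [repr_freePart, Finsupp.filter_apply] at he
  by_contra hne
  rw [if_neg (not_not.mpr hne)] at he
  exact he rfl

include hd in
/-- the least Plücker coordinate is a prime element of the coordinate ring. -/
theorem prime_xι : Prime (xι K w hdn) := by
  classical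
  refine ⟨?_, ?_, ?_⟩
  · intro h0
    have := congrArg (psiBar K w) h0
    rw [psiBar_xbar, map_zero] at this
    exact (D_monic_degree K w (iota hdn) (iota_le hdn w)).1.ne_zero this
  · intro hu
    have hdvd : xι K w hdn ∣ 1 := hu.dvd
    let e0 : StdC w := ⟨0, fun k => k.elim0, fun a => a.elim0, fun k => k.elim0⟩
    have h1 : stdBasis K w hd e0 = 1 := by
      rw [stdBasis_apply]
      unfold chainMon
      simp
    have h2 : (stdBasis K w hd).repr 1 e0 ≠ 0 := by
      rw [← h1, Module.Basis.repr_self]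
      simp
    obtain ⟨k, -⟩ := hasι_of_dvd K w hd hdn 1 hdvd e0 h2
    exact k.elim0
  · intro f g hfg
    by_contra hcon
    push Not at hcon
    obtain ⟨hf, hg⟩ := hcon
    set f₁ := freePart K w hd hdn f with hf₁
    set g₁ := freePart K w hd hdn g with hg₁
    have hf₁ne := freePart_ne_zero K w hd hdn f hf
    have hg₁ne := freePart_ne_zero K w hd hdn g hg
    -- `x ∣ f₁ g₁`
    have hdvd : xι K w hdn ∣ f₁ * g₁ := by
      have e : f₁ * g₁ = f * g - (f - f₁) * g - f₁ * (g - g₁) := by ring
      rw [e]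
      exact dvd_sub (dvd_sub hfg (Dvd.dvd.mul_right (dvd_sub_freePart K w hd hdn f) _))
        (Dvd.dvd.mul_left (dvd_sub_freePart K w hd hdn g) _)
    obtain ⟨i, T₁, hT₁ne, hT₁supp, hT₁lt⟩ := exists_top K w hd f₁ hf₁ne
    obtain ⟨j, T₂, hT₂ne, hT₂supp, hT₂lt⟩ := exists_top K w hd g₁ hg₁ne
    have hT₁LE : LE i T₁ := fun u hu => le_of_eq (hT₁supp u hu).1
    have hT₂LE : LE j T₂ := fun u hu => le_of_eq (hT₂supp u hu).1
    have hg₁LE : LE j (psiBar K w g₁) := by
      have e : psiBar K w g₁ = T₂ + (psiBar K w g₁ - T₂) := by ring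
      rw [e]
      exact hT₂LE.add hT₂lt.le
    have hrest : LT (i + j) (psiBar K w (f₁ * g₁) - T₁ * T₂) := by
      have e : psiBar K w (f₁ * g₁) - T₁ * T₂
          = T₁ * (psiBar K w g₁ - T₂) + (psiBar K w f₁ - T₁) * psiBar K w g₁ := by
        rw [map_mul]
        ring
      rw [e]
      exact (hT₁LE.mul_LT hT₂lt).add (hT₁lt.mul_LE hg₁LE)
    have hprod_ne : T₁ * T₂ ≠ 0 := mul_ne_zero hT₁ne hT₂ne
    obtain ⟨u₀, hu₀⟩ : (T₁ * T₂).support.Nonempty := by
      rw [Finset.nonempty_iff_ne_empty, ne_eq, MvPolynomial.support_eq_empty]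
      exact hprod_ne
    obtain ⟨u₁, hu₁, u₂, hu₂, hu₀eq⟩ := Finset.mem_add.mp (MvPolynomial.support_mul T₁ T₂ hu₀)
    have hwt : wt u₀ = i + j := by
      rw [← hu₀eq, map_add, (hT₁supp u₁ hu₁).1, (hT₂supp u₂ hu₂).1]
    have hv₀ : u₀ (v₀ hd hdn) = 0 := by
      obtain ⟨e₁, he₁, hue₁⟩ := (hT₁supp u₁ hu₁).2
      obtain ⟨e₂, he₂, hue₂⟩ := (hT₂supp u₂ hu₂).2
      rw [← hu₀eq, Finsupp.add_apply, hue₁, hue₂,
        E_v₀_eq_zero w hd hdn e₁ (not_hasι_of_repr_freePart K w hd hdn f e₁ he₁),
        E_v₀_eq_zero w hd hdn e₂ (not_hasι_of_repr_freePart K w hd hdn g e₂ he₂)]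
    -- the coefficient of `u₀`, computed in two ways
    have hc1 : MvPolynomial.coeff u₀ (psiBar K w (f₁ * g₁)) ≠ 0 := by
      have e : psiBar K w (f₁ * g₁) = T₁ * T₂ + (psiBar K w (f₁ * g₁) - T₁ * T₂) := by ring
      rw [e, coeff_add]
      have h0 : MvPolynomial.coeff u₀ (psiBar K w (f₁ * g₁) - T₁ * T₂) = 0 := by
        by_contra hne
        have := hrest u₀ (mem_support_iff.mpr hne)
        omega
      rw [h0, add_zero]
      exact mem_support_iff.mp hu₀
    have hLE : LE (i + j) (psiBar K w (f₁ * g₁)) := by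
      have e : psiBar K w (f₁ * g₁) = T₁ * T₂ + (psiBar K w (f₁ * g₁) - T₁ * T₂) := by ring
      rw [e]
      exact (hT₁LE.mul hT₂LE).add hrest.le
    set l := (stdBasis K w hd).repr (f₁ * g₁) with hl
    have hsum : f₁ * g₁ = ∑ e' ∈ l.support, l e' • stdBasis K w hd e' := by
      conv_lhs => rw [← (stdBasis K w hd).linearCombination_repr (f₁ * g₁)]
      rw [Finsupp.linearCombination_apply, Finsupp.sum]
    have hc2 : MvPolynomial.coeff u₀ (psiBar K w (f₁ * g₁))
        = ∑ e ∈ l.support, l e * (if E e.2.1 = u₀ then 1 else 0) := by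
      conv_lhs => rw [hsum]
      rw [map_sum, coeff_sum]
      refine Finset.sum_congr rfl fun e he => ?_
      have hωe : ωe w e ≤ wt u₀ := by
        rw [hwt]
        exact Nat.lt_succ_iff.mp (repr_ne_zero_lt K w hd (f₁ * g₁) (i + j + 1) hLE.lt_succ e
          (Finsupp.mem_support_iff.mp he))
      rw [map_smul, coeff_smul, (hasTop_psiBar_basis K w hd e).coeff hωe, smul_eq_mul]
    rw [hc2] at hc1
    obtain ⟨e, he, hne⟩ := Finset.exists_ne_zero_of_sum_ne_zero hc1
    have hEe : E e.2.1 = u₀ := by
      by_contra hcon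
      rw [if_neg hcon, mul_zero] at hne
      exact hne rfl
    have hι := hasι_of_dvd K w hd hdn (f₁ * g₁) hdvd e (Finsupp.mem_support_iff.mp he)
    have hpos := E_v₀_pos w hd hdn e hι
    rw [hEe, hv₀] at hpos
    exact lt_irrefl 0 hpos

end main

end Groth.Agent.H59.PrimeIota
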