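import Mathlib
import Groth.Agent.H59.PrimeIota

/-!
# Minors of an `m × n` matrix and Plücker coordinates of `[I ; X]`: the combinatorics
-/

set_option autoImplicit false

namespace Groth.Agent.H59.Bitab

open W4bk4grassmannian Groth.Agent.H59.PrimeIota

section cnt

variable {N p p' : ℕ}

/-- number of entries of a tuple below a threshold. -/
def cnt (a : Fin p → Fin N) (x : ℕ) : ℕ :=
  (Finset.univ.filter fun j : Fin p => (a j).val < x).card

theorem lt_cnt_iff (a : Fin p → Fin N) (ha : StrictMono a) (j : Fin p) (x : ℕ) :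
    j.val < cnt a x ↔ (a j).val < x := by
  have hmono : Monotone (fun j : Fin p => (a j).val) :=
    fun i j hij => Fin.le_def.mp (ha.monotone hij)
  exact Tuple.lt_card_lt_iff_apply_lt_of_monotone (f := fun j : Fin p => (a j).val) (a := x) hmono

theorem cnt_le (a : Fin p → Fin N) (x : ℕ) : cnt a x ≤ p := by
  unfold cnt
  calc _ ≤ (Finset.univ : Finset (Fin p)).card := Finset.card_filter_le _ _
    _ = p := by simp

theorem cnt_top (a : Fin p → Fin N) (x : ℕ) (hx : N ≤ x) : cnt a x = p := by
  unfold cnt
  rw [Finset.filter_true_of_mem]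
  · simp
  · intro j _
    exact lt_of_lt_of_le (a j).isLt hx

theorem cnt_mono (a : Fin p → Fin N) {x y : ℕ} (hxy : x ≤ y) : cnt a x ≤ cnt a y := by
  unfold cnt
  apply Finset.card_le_card
  intro j hj
  rw [Finset.mem_filter] at hj ⊢
  exact ⟨hj.1, lt_of_lt_of_le hj.2 hxy⟩

/-- `a` dominates `a'`: it is not longer and its entries dominate the leading entries of `a'`. -/
def Dom (a : Fin p → Fin N) (a' : Fin p' → Fin N) : Prop :=
  p ≤ p' ∧ ∀ (j : Fin p) (j' : Fin p'), j.val = j'.val → a' j' ≤ a j

theorem dom_iff_cnt (a : Fin p → Fin N) (a' : Fin p' → Fin N) (ha : StrictMono a)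
    (ha' : StrictMono a') : Dom a a' ↔ ∀ x : ℕ, cnt a x ≤ cnt a' x := by
  constructor
  · rintro ⟨hpp, h⟩ x
    by_contra hcon
    push Not at hcon
    have hk : cnt a' x < p := lt_of_lt_of_le hcon (cnt_le a x)
    have h1 := (lt_cnt_iff a ha ⟨cnt a' x, hk⟩ x).mp hcon
    have h2 := h ⟨cnt a' x, hk⟩ ⟨cnt a' x, lt_of_lt_of_le hk hpp⟩ rfl
    have h3 : (a' ⟨cnt a' x, lt_of_lt_of_le hk hpp⟩).val < x :=
      lt_of_le_of_lt (Fin.le_def.mp h2) h1
    have h4 := (lt_cnt_iff a' ha' ⟨cnt a' x, lt_of_lt_of_le hk hpp⟩ x).mpr h3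
    exact lt_irrefl _ h4
  · intro h
    refine ⟨?_, ?_⟩
    · have := h N
      rwa [cnt_top a N le_rfl, cnt_top a' N le_rfl] at this
    · intro j j' hjj
      rw [Fin.le_def]
      have h1 : j.val < cnt a ((a j).val + 1) := (lt_cnt_iff a ha j _).mpr (Nat.lt_succ_self _)
      have h2 : j'.val < cnt a' ((a j).val + 1) := by
        rw [← hjj]
        exact lt_of_lt_of_le h1 (h _)
      have h3 := (lt_cnt_iff a' ha' j' _).mp h2
      omega

/-- the count in terms of membership. -/
theorem cnt_eq_card (a : Fin p → Fin N) (ha : Function.Injective a) (x : ℕ) :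
    cnt a x = (Finset.univ.filter fun i : Fin N => i ∈ Set.range a ∧ i.val < x).card := by
  classical
  unfold cnt
  rw [← Finset.card_image_of_injective _ ha]
  congr 1
  ext i
  simp only [Finset.mem_image, Finset.mem_filter, Finset.mem_univ, true_and, Set.mem_range]
  constructor
  · rintro ⟨j, hj, rfl⟩
    exact ⟨⟨j, rfl⟩, hj⟩
  · rintro ⟨⟨j, rfl⟩, hj⟩
    exact ⟨j, hj, rfl⟩

theorem strictMono_add_le (a : Fin p → Fin N) (ha : StrictMono a) (j k : Fin p) (hjk : j ≤ k) :
    (a j).val + (k.val - j.val) ≤ (a k).val := by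
  obtain ⟨k, hk⟩ := k
  induction k with
  | zero =>
    have : j.val = 0 := by
      have := Fin.le_def.mp hjk
      simpa using this
    have hj : j = ⟨0, hk⟩ := Fin.ext this
    rw [hj]
    simp
  | succ k ih =>
    by_cases hj : j = ⟨k + 1, hk⟩
    · rw [hj]
      simp
    · have hjk' : j.val ≤ k := by
        have h1 := Fin.le_def.mp hjk
        have h2 : j.val ≠ k + 1 := fun h => hj (Fin.ext h)
        simp only at h1
        omega
      have h1 := ih (by omega) (Fin.le_def.mpr hjk')
      have h2 : a ⟨k, by omega⟩ < a ⟨k + 1, hk⟩ := ha (Fin.lt_def.mpr (by simp))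
      have h3 := Fin.lt_def.mp h2
      simp only at h1 ⊢
      omega

end cnt

section phi

variable {m n : ℕ}

/-- constructor for minors. -/
def mkMinor (s : ℕ) (A : Idx (s + 1) m) (B : Idx (s + 1) n) : MinorIdx m n := ⟨s, A, B⟩

/-- the column set of a minor. -/
def colSet (M : MinorIdx m n) : Finset (Fin n) := Finset.univ.image M.2.2.1

theorem card_colSet (M : MinorIdx m n) : (colSet M).card = M.1 + 1 := by
  unfold colSet
  rw [Finset.card_image_of_injective _ M.2.2.2.injective]
  simp

theorem mem_colSet (M : MinorIdx m n) (j : Fin n) : j ∈ colSet M ↔ j ∈ Set.range M.2.2.1 := by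
  unfold colSet
  simp

/-- the rows of `[I ; X^rev]` attached to a minor: the rows of `X` and the identity rows off the columns. -/
def rowsFun (M : MinorIdx m n) : Fin (M.1 + 1) ⊕ Fin (colSet M)ᶜ.card → Fin (n + m) :=
  Sum.elim (fun k => Fin.natAdd n (Fin.rev (M.2.1.1 k)))
    (fun l => Fin.castAdd m ((colSet M)ᶜ.orderEmbOfFin rfl l))

theorem rowsFun_injective (M : MinorIdx m n) : Function.Injective (rowsFun M) := by
  rintro (k | l) (k' | l') h
  · simp only [rowsFun, Sum.elim_inl] at h
    have h1 := Fin.natAdd_injective _ _ h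
    have h2 := Fin.rev_injective h1
    rw [M.2.1.2.injective h2]
  · exfalso
    simp only [rowsFun, Sum.elim_inl, Sum.elim_inr] at h
    have := congrArg Fin.val h
    simp only [Fin.val_natAdd, Fin.val_castAdd] at this
    have h2 := ((colSet M)ᶜ.orderEmbOfFin rfl l').isLt
    omega
  · exfalso
    simp only [rowsFun, Sum.elim_inl, Sum.elim_inr] at h
    have := congrArg Fin.val h
    simp only [Fin.val_natAdd, Fin.val_castAdd] at this
    have h2 := ((colSet M)ᶜ.orderEmbOfFin rfl l).isLt
    omega
  · simp only [rowsFun, Sum.elim_inr] at h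
    have h1 := Fin.castAdd_injective _ _ h
    rw [((colSet M)ᶜ.orderEmbOfFin rfl).injective h1]

theorem card_rows (M : MinorIdx m n) : M.1 + 1 + (colSet M)ᶜ.card = n := by
  rw [Finset.card_compl, card_colSet, Fintype.card_fin]
  have : (colSet M).card ≤ Fintype.card (Fin n) := Finset.card_le_univ _
  rw [card_colSet, Fintype.card_fin] at this
  omega

theorem card_image_rowsFun (M : MinorIdx m n) :
    (Finset.univ.image (rowsFun M)).card = n := by
  rw [Finset.card_image_of_injective _ (rowsFun_injective M), Finset.card_univ,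
    Fintype.card_sum, Fintype.card_fin, Fintype.card_fin]
  exact card_rows M

/-- the Plücker index attached to a minor. -/
def Phi (M : MinorIdx m n) : Idx n (n + m) :=
  ⟨fun t => (Finset.univ.image (rowsFun M)).orderEmbOfFin (card_image_rowsFun M) t,
    ((Finset.univ.image (rowsFun M)).orderEmbOfFin (card_image_rowsFun M)).strictMono⟩

theorem range_Phi (M : MinorIdx m n) : Set.range (Phi M).1 = Set.range (rowsFun M) := by
  show Set.range ((Finset.univ.image (rowsFun M)).orderEmbOfFin (card_image_rowsFun M)) = _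
  rw [Finset.range_orderEmbOfFin]
  simp

theorem castAdd_mem_range_Phi (M : MinorIdx m n) (j : Fin n) :
    Fin.castAdd m j ∈ Set.range (Phi M).1 ↔ j ∉ Set.range M.2.2.1 := by
  rw [range_Phi, ← mem_colSet]
  constructor
  · rintro ⟨(k | l), h⟩
    · exfalso
      simp only [rowsFun, Sum.elim_inl] at h
      have := congrArg Fin.val h
      simp only [Fin.val_natAdd, Fin.val_castAdd] at this
      have := j.isLt
      omega
    · simp only [rowsFun, Sum.elim_inr] at h
      have h1 := Fin.castAdd_injective _ _ h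
      rw [← h1, ← Finset.mem_compl]
      exact Finset.orderEmbOfFin_mem _ _ _
  · intro hj
    have hj' : j ∈ (colSet M)ᶜ := Finset.mem_compl.mpr hj
    have : j ∈ Set.range ((colSet M)ᶜ.orderEmbOfFin rfl) := by
      rw [Finset.range_orderEmbOfFin]
      exact hj'
    obtain ⟨l, hl⟩ := this
    refine ⟨Sum.inr l, ?_⟩
    simp only [rowsFun, Sum.elim_inr]
    rw [hl]

theorem natAdd_mem_range_Phi (M : MinorIdx m n) (a : Fin m) :
    Fin.natAdd n a ∈ Set.range (Phi M).1 ↔ Fin.rev a ∈ Set.range M.2.1.1 := by
  rw [range_Phi]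
  constructor
  · rintro ⟨(k | l), h⟩
    · simp only [rowsFun, Sum.elim_inl] at h
      have h1 := Fin.natAdd_injective _ _ h
      refine ⟨k, ?_⟩
      rw [← h1, Fin.rev_rev]
    · exfalso
      simp only [rowsFun, Sum.elim_inr] at h
      have := congrArg Fin.val h
      simp only [Fin.val_natAdd, Fin.val_castAdd] at this
      have h2 := ((colSet M)ᶜ.orderEmbOfFin rfl l).isLt
      omega
  · rintro ⟨k, hk⟩
    refine ⟨Sum.inl k, ?_⟩
    simp only [rowsFun, Sum.elim_inl]
    rw [hk, Fin.rev_rev]

theorem card_filter_fin_add (P : Fin (n + m) → Prop) [DecidablePred P] :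
    (Finset.univ.filter P).card = (Finset.univ.filter fun j : Fin n => P (Fin.castAdd m j)).card
      + (Finset.univ.filter fun a : Fin m => P (Fin.natAdd n a)).card := by
  simp only [Finset.card_filter]
  rw [Fin.sum_univ_add]

theorem card_filter_split {α : Type*} [Fintype α] (P Q : α → Prop) [DecidablePred P]
    [DecidablePred Q] :
    (Finset.univ.filter fun i => P i ∧ Q i).card + (Finset.univ.filter fun i => ¬ P i ∧ Q i).card
      = (Finset.univ.filter Q).card := by
  classical
  rw [← Finset.card_union_of_disjoint]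
  · congr 1
    ext i
    simp only [Finset.mem_union, Finset.mem_filter, Finset.mem_univ, true_and]
    tauto
  · rw [Finset.disjoint_left]
    intro i hi hi'
    rw [Finset.mem_filter] at hi hi'
    exact hi'.2.1 hi.2.1

open Classical in
/-- first counting identity: below `n`, the rows of `Phi M` are the complement of the columns. -/
theorem cnt_Phi_add (M : MinorIdx m n) (x : ℕ) (hx : x ≤ n) :
    cnt (Phi M).1 x + cnt M.2.2.1 x = x := by
  rw [cnt_eq_card _ (Phi M).2.injective, cnt_eq_card _ M.2.2.2.injective, card_filter_fin_add]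
  have h2 : (Finset.univ.filter fun a : Fin m =>
      Fin.natAdd n a ∈ Set.range (Phi M).1 ∧ (Fin.natAdd n a).val < x).card = 0 := by
    rw [Finset.card_eq_zero, Finset.filter_eq_empty_iff]
    intro a _ h
    have := h.2
    simp only [Fin.val_natAdd] at this
    omega
  have h1 : (Finset.univ.filter fun j : Fin n =>
      Fin.castAdd m j ∈ Set.range (Phi M).1 ∧ (Fin.castAdd m j).val < x)
      = Finset.univ.filter fun j : Fin n => ¬ j ∈ Set.range M.2.2.1 ∧ j.val < x := by
    ext j
    simp only [Finset.mem_filter, Finset.mem_univ, true_and, castAdd_mem_range_Phi,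
      Fin.val_castAdd]
  rw [h1, h2, add_zero, add_comm, card_filter_split]
  have := Fin.card_filter_val_lt (n := n) (m := x)
  rw [min_eq_right hx] at this
  convert this using 2

open Classical in
theorem card_range_rows (M : MinorIdx m n) :
    (Finset.univ.filter fun a : Fin m => a ∈ Set.range M.2.1.1).card = M.1 + 1 := by
  have : (Finset.univ.filter fun a : Fin m => a ∈ Set.range M.2.1.1)
      = Finset.univ.image M.2.1.1 := by
    ext a
    simp
  rw [this, Finset.card_image_of_injective _ M.2.1.2.injective]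
  simp

open Classical in
/-- second counting identity: above `n`, the rows of `Phi M` are the reversed rows of the minor. -/
theorem cnt_Phi_add' (M : MinorIdx m n) (y : ℕ) (hy : y ≤ m) :
    cnt (Phi M).1 (n + y) + cnt M.2.1.1 (m - y) = n := by
  rw [cnt_eq_card _ (Phi M).2.injective, cnt_eq_card _ M.2.1.2.injective, card_filter_fin_add]
  have h1 : (Finset.univ.filter fun j : Fin n =>
      Fin.castAdd m j ∈ Set.range (Phi M).1 ∧ (Fin.castAdd m j).val < n + y)
      = (colSet M)ᶜ := by
    ext j
    simp only [Finset.mem_filter, Finset.mem_univ, true_and, castAdd_mem_range_Phi,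
      Fin.val_castAdd, Finset.mem_compl, mem_colSet]
    constructor
    · exact fun h => h.1
    · intro h
      exact ⟨h, by have := j.isLt; omega⟩
  have h2 : (Finset.univ.filter fun a : Fin m =>
      Fin.natAdd n a ∈ Set.range (Phi M).1 ∧ (Fin.natAdd n a).val < n + y).card
      = (Finset.univ.filter fun a : Fin m => ¬ a.val < m - y ∧ a ∈ Set.range M.2.1.1).card := by
    apply Finset.card_bij (fun a _ => Fin.rev a)
    · intro a ha
      rw [Finset.mem_filter] at ha ⊢
      refine ⟨Finset.mem_univ _, ?_, (natAdd_mem_range_Phi M a).mp ha.2.1⟩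
      have := ha.2.2
      simp only [Fin.val_natAdd] at this
      rw [Fin.val_rev]
      omega
    · intro a _ a' _ h
      exact Fin.rev_injective h
    · intro a' ha'
      rw [Finset.mem_filter] at ha'
      refine ⟨Fin.rev a', ?_, Fin.rev_rev a'⟩
      rw [Finset.mem_filter]
      refine ⟨Finset.mem_univ _, ?_, ?_⟩
      · rw [natAdd_mem_range_Phi, Fin.rev_rev]
        exact ha'.2.2
      · simp only [Fin.val_natAdd, Fin.val_rev]
        have := ha'.2.1
        have := a'.isLt
        omega
  rw [h1, h2]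
  have h3 := card_filter_split (fun a : Fin m => a.val < m - y) (fun a => a ∈ Set.range M.2.1.1)
  rw [card_range_rows] at h3
  have h4 : (Finset.univ.filter fun i : Fin m => i ∈ Set.range M.2.1.1 ∧ i.val < m - y)
      = Finset.univ.filter fun i : Fin m => i.val < m - y ∧ i ∈ Set.range M.2.1.1 := by
    ext a
    simp only [Finset.mem_filter, Finset.mem_univ, true_and]
    tauto
  rw [h4]
  have h5 := card_rows M
  omega

theorem le_iff_dom {d N : ℕ} (θ θ' : Idx d N) : θ ≤ θ' ↔ Dom θ'.1 θ.1 := by
  constructor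
  · intro h
    refine ⟨le_rfl, fun j j' hjj => ?_⟩
    have : j = j' := Fin.ext hjj
    rw [this]
    exact h j'
  · intro h t
    exact h.2 t t rfl

theorem minorGE_iff_dom (M M' : MinorIdx m n) :
    MinorGE M M' ↔ Dom M.2.1.1 M'.2.1.1 ∧ Dom M.2.2.1 M'.2.2.1 := by
  unfold MinorGE Dom
  constructor
  · rintro ⟨h1, h2⟩
    exact ⟨⟨by omega, fun j j' hjj => (h2 j j' hjj).1⟩, ⟨by omega, fun j j' hjj => (h2 j j' hjj).2⟩⟩
  · rintro ⟨⟨h1, h2⟩, ⟨_, h3⟩⟩
    exact ⟨by omega, fun j j' hjj => ⟨h2 j j' hjj, h3 j j' hjj⟩⟩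

theorem cnt_cols_top (M : MinorIdx m n) (x : ℕ) (hx : n ≤ x) : cnt M.2.2.1 x = M.1 + 1 :=
  cnt_top _ _ hx

/-- the order on minors is the order on Plücker indices. -/
theorem Phi_le_iff (M M' : MinorIdx m n) : Phi M ≤ Phi M' ↔ MinorGE M M' := by
  rw [le_iff_dom, minorGE_iff_dom, dom_iff_cnt _ _ (Phi M').2 (Phi M).2,
    dom_iff_cnt _ _ M.2.1.2 M'.2.1.2, dom_iff_cnt _ _ M.2.2.2 M'.2.2.2]
  constructor
  · intro h
    constructor
    · intro z
      by_cases hz : z ≤ m
      · have e1 := cnt_Phi_add' M (m - z) (by omega)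
        have e2 := cnt_Phi_add' M' (m - z) (by omega)
        have e3 : m - (m - z) = z := by omega
        rw [e3] at e1 e2
        have := h (n + (m - z))
        omega
      · have e1 := cnt_Phi_add' M 0 (by omega)
        have e2 := cnt_Phi_add' M' 0 (by omega)
        have := h (n + 0)
        rw [cnt_top M.2.1.1 z (by omega), cnt_top M'.2.1.1 z (by omega)]
        rw [Nat.sub_zero, cnt_top M.2.1.1 m le_rfl] at e1
        rw [Nat.sub_zero, cnt_top M'.2.1.1 m le_rfl] at e2
        omega
    · intro x
      by_cases hx : x ≤ n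
      · have e1 := cnt_Phi_add M x hx
        have e2 := cnt_Phi_add M' x hx
        have := h x
        omega
      · have e1 := cnt_Phi_add M n le_rfl
        have e2 := cnt_Phi_add M' n le_rfl
        have := h n
        rw [cnt_top M.2.2.1 x (by omega), cnt_top M'.2.2.1 x (by omega)]
        rw [cnt_top M.2.2.1 n le_rfl] at e1
        rw [cnt_top M'.2.2.1 n le_rfl] at e2
        omega
  · rintro ⟨hA, hB⟩ x
    by_cases hx : x ≤ n
    · have e1 := cnt_Phi_add M x hx
      have e2 := cnt_Phi_add M' x hx
      have := hB x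
      omega
    · by_cases hx2 : x ≤ n + m
      · have e1 := cnt_Phi_add' M (x - n) (by omega)
        have e2 := cnt_Phi_add' M' (x - n) (by omega)
        have e3 : n + (x - n) = x := by omega
        rw [e3] at e1 e2
        have := hA (m - (x - n))
        omega
      · rw [cnt_top (Phi M).1 x (by omega), cnt_top (Phi M').1 x (by omega)]

theorem minorGE_antisymm (M M' : MinorIdx m n) (h : MinorGE M M') (h' : MinorGE M' M) :
    M = M' := by
  obtain ⟨s, A, B⟩ := M
  obtain ⟨s', A', B'⟩ := M'
  have hs : s = s' := le_antisymm h.1 h'.1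
  subst hs
  have hA : A = A' := by
    apply Subtype.ext
    funext j
    exact le_antisymm (h'.2 j j rfl).1 (h.2 j j rfl).1
  have hB : B = B' := by
    apply Subtype.ext
    funext j
    exact le_antisymm (h'.2 j j rfl).2 (h.2 j j rfl).2
  rw [hA, hB]

theorem Phi_injective : Function.Injective (Phi : MinorIdx m n → Idx n (n + m)) := by
  intro M M' h
  apply minorGE_antisymm
  · rw [← Phi_le_iff, h]
  · rw [← Phi_le_iff, h]

theorem cnt_iota (x : ℕ) (hx : n ≤ x) : cnt (iota (Nat.le_add_right n m)).1 x = n := by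
  unfold cnt
  rw [Finset.filter_true_of_mem]
  · simp
  · intro j _
    show j.val < x
    exact lt_of_lt_of_le j.isLt hx

theorem cnt_Phi_n (M : MinorIdx m n) : cnt (Phi M).1 n + (M.1 + 1) = n := by
  have := cnt_Phi_add M n le_rfl
  rwa [cnt_top M.2.2.1 n le_rfl] at this

theorem Phi_ne_iota (M : MinorIdx m n) : Phi M ≠ iota (Nat.le_add_right n m) := by
  intro h
  have h1 := cnt_Phi_n M
  rw [h, cnt_iota n le_rfl] at h1
  omega

open Classical in
/-- every index other than the least one comes from a minor. -/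
theorem exists_Phi_eq (θ : Idx n (n + m)) (hθ : θ ≠ iota (Nat.le_add_right n m)) :
    ∃ M : MinorIdx m n, Phi M = θ := by
  set As : Finset (Fin m) := Finset.univ.filter fun a => Fin.natAdd n (Fin.rev a) ∈ Set.range θ.1
    with hAs
  set Bs : Finset (Fin n) := Finset.univ.filter fun j => Fin.castAdd m j ∉ Set.range θ.1 with hBs
  -- cardinalities
  have hcard : (Finset.univ.filter fun i : Fin (n + m) => i ∈ Set.range θ.1).card = n := by
    have : (Finset.univ.filter fun i : Fin (n + m) => i ∈ Set.range θ.1)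
        = Finset.univ.image θ.1 := by
      ext a
      simp
    rw [this, Finset.card_image_of_injective _ θ.2.injective]
    simp
  rw [card_filter_fin_add] at hcard
  have hB : Bs.card + (Finset.univ.filter fun j : Fin n =>
      Fin.castAdd m j ∈ Set.range θ.1).card = n := by
    have := Finset.card_filter_add_card_filter_not (s := (Finset.univ : Finset (Fin n)))
      (fun j : Fin n => Fin.castAdd m j ∈ Set.range θ.1)
    rw [Finset.card_univ, Fintype.card_fin] at this
    rw [hBs]
    omega
  have hA : As.card = (Finset.univ.filter fun a : Fin m =>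
      Fin.natAdd n a ∈ Set.range θ.1).card := by
    apply Finset.card_bij (fun a _ => Fin.rev a)
    · intro a ha
      rw [hAs, Finset.mem_filter] at ha
      rw [Finset.mem_filter]
      exact ⟨Finset.mem_univ _, ha.2⟩
    · intro a _ a' _ h
      exact Fin.rev_injective h
    · intro a' ha'
      rw [Finset.mem_filter] at ha'
      refine ⟨Fin.rev a', ?_, Fin.rev_rev a'⟩
      rw [hAs, Finset.mem_filter, Fin.rev_rev]
      exact ⟨Finset.mem_univ _, ha'.2⟩
  have hAB : As.card = Bs.card := by omega
  -- positivity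
  have hpos : 0 < As.card := by
    by_contra hcon
    have h0 : As.card = 0 := by omega
    apply hθ
    rcases Nat.eq_zero_or_pos n with hn | hn
    · subst hn
      apply Subtype.ext
      funext t
      exact t.elim0
    · apply eq_iota_of_last (Nat.le_add_right n m) hn
      have h1 : (Finset.univ.filter fun a : Fin m =>
          Fin.natAdd n a ∈ Set.range θ.1).card = 0 := by omega
      rw [Finset.card_eq_zero, Finset.filter_eq_empty_iff] at h1
      have h2 : (θ.1 ⟨n - 1, by omega⟩).val < n := by
        by_contra hge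
        push Not at hge
        have hlt := (θ.1 ⟨n - 1, by omega⟩).isLt
        apply h1 (x := ⟨(θ.1 ⟨n - 1, by omega⟩).val - n, by omega⟩) (Finset.mem_univ _)
        refine ⟨⟨n - 1, by omega⟩, ?_⟩
        apply Fin.ext
        simp only [Fin.val_natAdd]
        omega
      have h3 := Groth.Agent.H59.Straighten.strictMono_val_le θ.1 θ.2 ⟨n - 1, by omega⟩
      simp only at h3
      omega
  obtain ⟨s, hs⟩ : ∃ s, As.card = s + 1 := ⟨As.card - 1, by omega⟩
  have hsB : Bs.card = s + 1 := by omega
  set M : MinorIdx m n := mkMinor s ⟨fun k => As.orderEmbOfFin hs k, (As.orderEmbOfFin hs).strictMono⟩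
    ⟨fun k => Bs.orderEmbOfFin hsB k, (Bs.orderEmbOfFin hsB).strictMono⟩ with hM
  refine ⟨M, ?_⟩
  have key : Set.range (Phi M).1 = Set.range θ.1 := by
    ext i
    refine Fin.addCases (fun j => ?_) (fun a => ?_) i
    · rw [castAdd_mem_range_Phi]
      show ¬ j ∈ Set.range (Bs.orderEmbOfFin hsB) ↔ _
      rw [Finset.range_orderEmbOfFin, Finset.mem_coe, hBs, Finset.mem_filter]
      simp
    · rw [natAdd_mem_range_Phi]
      show Fin.rev a ∈ Set.range (As.orderEmbOfFin hs) ↔ _
      rw [Finset.range_orderEmbOfFin, Finset.mem_coe, hAs, Finset.mem_filter, Fin.rev_rev]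
      simp
  exact Subtype.ext (((Phi M).2.range_inj θ.2).mp key)

/-- the entries of the largest index all of whose minors have size at most `t - 1`. -/
def wtFun (m n t : ℕ) (j : Fin n) : ℕ := if j.val + t ≤ n then t - 1 + j.val else m + j.val

theorem wtFun_lt (m n t : ℕ) (h1 : 1 ≤ t) (j : Fin n) : wtFun m n t j < n + m := by
  unfold wtFun
  have := j.isLt
  split_ifs <;> omega

/-- the largest index all of whose minors have size at most `t - 1`. -/
def wt (m n t : ℕ) (h1 : 1 ≤ t) (hm : t ≤ m + 1) : Idx n (n + m) :=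
  ⟨fun j => ⟨wtFun m n t j, wtFun_lt m n t h1 j⟩, by
    intro i j hij
    have hij' := Fin.lt_def.mp hij
    rw [Fin.lt_def]
    show wtFun m n t i < wtFun m n t j
    unfold wtFun
    split_ifs <;> omega⟩

theorem wt_val (m n t : ℕ) (h1 : 1 ≤ t) (hm : t ≤ m + 1) (j : Fin n) :
    ((wt m n t h1 hm).1 j).val = wtFun m n t j := rfl

theorem le_wt_iff (t : ℕ) (h1 : 1 ≤ t) (hm : t ≤ m + 1) (hn : t ≤ n + 1) (θ : Idx n (n + m)) :
    θ ≤ wt m n t h1 hm ↔ n + 1 ≤ cnt θ.1 n + t := by
  constructor
  · intro h
    by_cases htn : t = n + 1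
    · omega
    · have hj : n - t < n := by omega
      have h2 := Fin.le_def.mp (h ⟨n - t, hj⟩)
      have h3 : ((wt m n t h1 hm).1 ⟨n - t, hj⟩).val = n - 1 := by
        rw [wt_val]
        unfold wtFun
        rw [if_pos (by simp only; omega)]
        simp only
        omega
      rw [h3] at h2
      have h4 := (lt_cnt_iff θ.1 θ.2 ⟨n - t, hj⟩ n).mpr (by omega)
      simp only at h4
      omega
  · intro h j
    rw [Fin.le_def]
    have hjn := j.isLt
    by_cases hj : j.val + t ≤ n
    · have hk : n - t < n := by omega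
      have h1' := (lt_cnt_iff θ.1 θ.2 ⟨n - t, hk⟩ n).mp (by simp only; omega)
      have h2 := strictMono_add_le θ.1 θ.2 j ⟨n - t, hk⟩ (Fin.le_def.mpr (by simp only; omega))
      have h3 : ((wt m n t h1 hm).1 j).val = t - 1 + j.val := by
        rw [wt_val]
        unfold wtFun
        rw [if_pos hj]
      rw [h3]
      simp only at h2
      omega
    · have hk : n - 1 < n := by omega
      have h2 := strictMono_add_le θ.1 θ.2 j ⟨n - 1, hk⟩ (Fin.le_def.mpr (by simp only; omega))
      have h3 : ((wt m n t h1 hm).1 j).val = m + j.val := by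
        rw [wt_val]
        unfold wtFun
        rw [if_neg hj]
      rw [h3]
      have h4 := (θ.1 ⟨n - 1, hk⟩).isLt
      simp only at h2
      omega

theorem Phi_le_wt_iff (t : ℕ) (h1 : 1 ≤ t) (hm : t ≤ m + 1) (hn : t ≤ n + 1) (M : MinorIdx m n) :
    Phi M ≤ wt m n t h1 hm ↔ M.1 + 1 ≤ t - 1 := by
  rw [le_wt_iff t h1 hm hn]
  have := cnt_Phi_n M
  omega

end phi

end Groth.Agent.H59.Bitab
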