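import Mathlib
import Groth.Agent.H59.PrimeIota

/-!
# The first fundamental theorem for `SL_d` acting on `n × d` matrices
-/

set_option autoImplicit false

namespace Groth.Agent.H59.FFT

open W4bk4grassmannian MvPolynomial Groth.Agent.H59.SMTIndep Groth.Agent.H59.SMT
open Groth.Agent.H59.Straighten Groth.Agent.H59.HibiW Groth.Agent.H59.Shape
open Groth.Agent.H59.PrimeIota

section eval

variable (K : Type*) [Field K] {d n : ℕ}

/-- evaluation of a polynomial function at a matrix. -/
noncomputable def evM (A : Matrix (Fin n) (Fin d) K) : MatRing K d n →ₐ[K] K :=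
  aeval fun p : Fin n × Fin d => A p.1 p.2

theorem evM_X (A : Matrix (Fin n) (Fin d) K) (p : Fin n × Fin d) :
    evM K A (X p) = A p.1 p.2 := aeval_X _ _

theorem evM_rightTranslate (g : Matrix.SpecialLinearGroup (Fin d) K)
    (A : Matrix (Fin n) (Fin d) K) (f : MatRing K d n) :
    evM K A (rightTranslate K d n g f) = evM K (A * (g : Matrix (Fin d) (Fin d) K)) f := by
  have hcomp : (evM K A).comp (rightTranslate K d n g)
      = evM K (A * (g : Matrix (Fin d) (Fin d) K)) := by
    apply MvPolynomial.algHom_ext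
    intro p
    rw [AlgHom.comp_apply, evM_X]
    unfold rightTranslate
    rw [aeval_X, map_sum, Matrix.mul_apply]
    refine Finset.sum_congr rfl fun k _ => ?_
    rw [map_mul, evM_X]
    unfold evM
    rw [aeval_C]
    rfl
  exact congrArg (fun F => F f) hcomp

theorem evM_minor (A : Matrix (Fin n) (Fin d) K) (a : Fin d → Fin n) :
    evM K A (minor K d n a) = (A.submatrix a id).det := by
  unfold minor
  rw [AlgHom.map_det]
  congr 1
  ext s t
  rw [AlgHom.mapMatrix_apply, Matrix.map_apply, Matrix.of_apply, evM_X]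
  rfl

theorem evM_pluckerMap (A : Matrix (Fin n) (Fin d) K) (F : PlRing K d n) :
    evM K A (pluckerMap K d n F) = evalMinors K d n A F := by
  have hcomp : (evM K A).comp (pluckerMap K d n) = evalMinors K d n A := by
    apply MvPolynomial.algHom_ext
    intro θ
    rw [AlgHom.comp_apply]
    unfold pluckerMap evalMinors
    rw [aeval_X, aeval_X, evM_minor]
  exact congrArg (fun G => G F) hcomp

theorem evalMinors_coord (A : Matrix (Fin n) (Fin d) K) (a : Fin d → Fin n) :
    evalMinors K d n A (coord K d n a) = (A.submatrix a id).det := by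
  rw [← Pluecker.ev_minors]
  rfl

end eval

section chart

variable (K : Type*) [Field K] {d n : ℕ} (hd : 0 < d)

theorem mul_adjugate_entry (θ₀ : Fin d → Fin n) (A : Matrix (Fin n) (Fin d) K) (r : Fin n)
    (t : Fin d) :
    (A * (A.submatrix θ₀ id).adjugate) r t
      = (A.submatrix (Function.update θ₀ t r) id).det := by
  have h1 : (A.submatrix (Function.update θ₀ t r) id)
      = (A.submatrix θ₀ id).updateRow t (A r) := by
    ext s t'
    rw [Matrix.updateRow_apply, Matrix.submatrix_apply, Function.update_apply]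
    by_cases hs : s = t
    · rw [if_pos hs, if_pos hs]
      rfl
    · rw [if_neg hs, if_neg hs]
      rfl
  rw [h1, ← Matrix.cramer_transpose_apply, Matrix.cramer_eq_adjugate_mulVec,
    ← Matrix.adjugate_transpose, Matrix.mul_apply, Matrix.mulVec, dotProduct]
  refine Finset.sum_congr rfl fun s _ => ?_
  rw [Matrix.transpose_apply, mul_comm]

/-- the normalised matrix attached to `A` in the chart `θ₀`. -/
noncomputable def chartMat (θ₀ : Fin d → Fin n) (A : Matrix (Fin n) (Fin d) K) :
    Matrix (Fin n) (Fin d) K :=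
  Matrix.of fun r t => ((A.submatrix θ₀ id).det)⁻¹ *
    ((A.submatrix (Function.update θ₀ t r) id).det *
      (if t = (⟨0, hd⟩ : Fin d) then (A.submatrix θ₀ id).det else 1))

theorem exists_factor (θ₀ : Fin d → Fin n) (A : Matrix (Fin n) (Fin d) K)
    (hδ : (A.submatrix θ₀ id).det ≠ 0) :
    ∃ g : Matrix.SpecialLinearGroup (Fin d) K,
      A = chartMat K hd θ₀ A * (g : Matrix (Fin d) (Fin d) K) := by
  classical
  set T := A.submatrix θ₀ id with hT
  set δ := T.det with hδdef
  set t₀ : Fin d := ⟨0, hd⟩ with ht₀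
  set D : Matrix (Fin d) (Fin d) K := Matrix.diagonal fun t => if t = t₀ then δ else 1 with hD
  set D' : Matrix (Fin d) (Fin d) K := Matrix.diagonal fun t => if t = t₀ then δ⁻¹ else 1
    with hD'
  have hDD' : D * D' = 1 := by
    rw [hD, hD', Matrix.diagonal_mul_diagonal, ← Matrix.diagonal_one]
    congr 1
    funext t
    by_cases ht : t = t₀
    · rw [if_pos ht, if_pos ht, mul_inv_cancel₀ hδ]
    · rw [if_neg ht, if_neg ht, mul_one]
  have hdetD' : D'.det = δ⁻¹ := by
    rw [hD', Matrix.det_diagonal, Finset.prod_ite_eq' Finset.univ t₀ (fun _ => δ⁻¹)]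
    simp
  have hdet : (D' * T).det = 1 := by
    rw [Matrix.det_mul, hdetD', ← hδdef, inv_mul_cancel₀ hδ]
  refine ⟨⟨D' * T, hdet⟩, ?_⟩
  have hE : chartMat K hd θ₀ A = (δ⁻¹ • (A * T.adjugate)) * D := by
    ext r t
    rw [hD, Matrix.mul_diagonal, Matrix.smul_apply, mul_adjugate_entry, smul_eq_mul]
    unfold chartMat
    rw [Matrix.of_apply, mul_assoc]
  show A = chartMat K hd θ₀ A * (D' * T)
  rw [hE, Matrix.mul_assoc, ← Matrix.mul_assoc D D' T, hDD', Matrix.one_mul, Matrix.smul_mul,
    Matrix.mul_assoc, Matrix.adjugate_mul, Matrix.mul_smul, Matrix.mul_one, smul_smul,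
    ← hδdef, inv_mul_cancel₀ hδ, one_smul]

theorem evM_eq_chart (θ₀ : Fin d → Fin n) (A : Matrix (Fin n) (Fin d) K)
    (hδ : (A.submatrix θ₀ id).det ≠ 0) (f : MatRing K d n)
    (hf : ∀ g : Matrix.SpecialLinearGroup (Fin d) K, rightTranslate K d n g f = f) :
    evM K A f = evM K (chartMat K hd θ₀ A) f := by
  obtain ⟨g, hg⟩ := exists_factor K hd θ₀ A hδ
  conv_lhs => rw [hg]
  rw [← evM_rightTranslate, hf g]

end chart

section homogenize

variable (K : Type*) [Field K] {d n : ℕ} (hd : 0 < d)

/-- the Plücker polynomial of a normalised entry (times the minor of the chart). -/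
noncomputable def Γp (θ₀ : Idx d n) (p : Fin n × Fin d) : PlRing K d n :=
  coord K d n (Function.update θ₀.1 p.2 p.1) * (if p.2 = (⟨0, hd⟩ : Fin d) then X θ₀ else 1)

theorem evalMinors_Γp (θ₀ : Idx d n) (A : Matrix (Fin n) (Fin d) K) (p : Fin n × Fin d) :
    evalMinors K d n A (Γp K hd θ₀ p)
      = (A.submatrix θ₀.1 id).det * chartMat K hd θ₀.1 A p.1 p.2 ∨
      (A.submatrix θ₀.1 id).det = 0 := by
  by_cases hδ : (A.submatrix θ₀.1 id).det = 0
  · exact Or.inr hδ
  · left
    unfold Γp chartMat
    rw [map_mul, evalMinors_coord, Matrix.of_apply, ← mul_assoc, mul_inv_cancel₀ hδ, one_mul]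
    congr 1
    by_cases hp : p.2 = (⟨0, hd⟩ : Fin d)
    · rw [if_pos hp, if_pos hp, evalMinors_X]
    · rw [if_neg hp, if_neg hp, map_one]

/-- the homogenisation of `f` in the chart `θ₀`. -/
noncomputable def Γ (θ₀ : Idx d n) (f : MatRing K d n) (N : ℕ) : PlRing K d n :=
  ∑ m ∈ f.support, C (coeff m f) * X θ₀ ^ (N - m.degree) * m.prod fun p k => Γp K hd θ₀ p ^ k

theorem evalMinors_Γ (θ₀ : Idx d n) (A : Matrix (Fin n) (Fin d) K)
    (hδ : (A.submatrix θ₀.1 id).det ≠ 0) (f : MatRing K d n) :
    evalMinors K d n A (Γ K hd θ₀ f f.totalDegree)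
      = (A.submatrix θ₀.1 id).det ^ f.totalDegree * evM K (chartMat K hd θ₀.1 A) f := by
  set δ := (A.submatrix θ₀.1 id).det with hδdef
  unfold Γ evM
  rw [aeval_def, eval₂_eq, map_sum, Finset.mul_sum]
  refine Finset.sum_congr rfl fun m hm => ?_
  have hdeg : m.degree ≤ f.totalDegree := by
    rw [Finsupp.degree_apply]
    exact MvPolynomial.le_totalDegree hm
  rw [map_mul, map_mul, map_pow, evalMinors_X, ← hδdef]
  have hC : evalMinors K d n A (C (coeff m f)) = coeff m f := by
    unfold evalMinors
    rw [aeval_C]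
    rfl
  rw [hC, Finsupp.prod, map_prod]
  have hprod : ∀ p ∈ m.support, evalMinors K d n A (Γp K hd θ₀ p ^ m p)
      = δ ^ m p * chartMat K hd θ₀.1 A p.1 p.2 ^ m p := by
    intro p _
    rw [map_pow]
    rcases evalMinors_Γp K hd θ₀ A p with h | h
    · rw [h, mul_pow]
    · exact absurd h hδ
  rw [Finset.prod_congr rfl hprod, Finset.prod_mul_distrib, Finset.prod_pow_eq_pow_sum,
    ← Finsupp.degree_apply]
  have hpow : δ ^ (f.totalDegree - m.degree) * δ ^ m.degree = δ ^ f.totalDegree := by
    rw [← pow_add, Nat.sub_add_cancel hdeg]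
  rw [← hpow]
  simp only [Algebra.algebraMap_self, RingHom.id_apply]
  ring

/-- in the chart `θ₀`, a power of the minor times an invariant polynomial is a polynomial in the
minors. -/
theorem chart_identity [Infinite K] (θ₀ : Idx d n) (f : MatRing K d n)
    (hf : ∀ g : Matrix.SpecialLinearGroup (Fin d) K, rightTranslate K d n g f = f) :
    minor K d n θ₀.1 ^ f.totalDegree * f
      = pluckerMap K d n (Γ K hd θ₀ f f.totalDegree) := by
  have hzero : minor K d n θ₀.1 * (minor K d n θ₀.1 ^ f.totalDegree * f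
      - pluckerMap K d n (Γ K hd θ₀ f f.totalDegree)) = 0 := by
    apply MvPolynomial.funext
    intro x
    set A : Matrix (Fin n) (Fin d) K := Matrix.of fun r t => x (r, t) with hA
    have hev : ∀ P : MatRing K d n, eval x P = evM K A P := by
      intro P
      rfl
    rw [hev, hev, map_zero, map_mul, map_sub, map_mul, map_pow, evM_minor, evM_pluckerMap]
    by_cases hδ : (A.submatrix θ₀.1 id).det = 0
    · rw [hδ, zero_mul]
    · rw [evalMinors_Γ K hd θ₀ A hδ f, evM_eq_chart K hd θ₀.1 A hδ f hf, sub_self, mul_zero]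
  rcases mul_eq_zero.mp hzero with h | h
  · -- the minor is not the zero polynomial
    exfalso
    have h1 := congrArg (evM K (Matrix.of fun r t => if r = θ₀.1 t then (1 : K) else 0)) h
    rw [evM_minor, map_zero] at h1
    have h2 : (Matrix.of fun (r : Fin n) (t : Fin d) => if r = θ₀.1 t then (1 : K) else 0).submatrix
        θ₀.1 id = 1 := by
      ext s t
      rw [Matrix.submatrix_apply, Matrix.of_apply, Matrix.one_apply]
      by_cases hst : s = t
      · rw [if_pos hst, if_pos (by rw [hst]; rfl)]
      · rw [if_neg hst, if_neg]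
        intro h3
        exact hst (θ₀.2.injective h3)
    rw [h2, Matrix.det_one] at h1
    exact one_ne_zero h1
  · exact sub_eq_zero.mp h

end homogenize

section main

variable (K : Type*) [Field K] {d n : ℕ}

theorem minor_ne_zero (θ₀ : Idx d n) : minor K d n θ₀.1 ≠ 0 := by
  intro h
  have h1 := congrArg (evM K (Matrix.of fun r t => if r = θ₀.1 t then (1 : K) else 0)) h
  rw [evM_minor, map_zero] at h1
  have h2 : (Matrix.of fun (r : Fin n) (t : Fin d) => if r = θ₀.1 t then (1 : K) else 0).submatrix
      θ₀.1 id = 1 := by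
    ext s t
    rw [Matrix.submatrix_apply, Matrix.of_apply, Matrix.one_apply]
    by_cases hst : s = t
    · rw [if_pos hst, if_pos (by rw [hst]; rfl)]
    · rw [if_neg hst, if_neg]
      intro h3
      exact hst (θ₀.2.injective h3)
  rw [h2, Matrix.det_one] at h1
  exact one_ne_zero h1

theorem pluckerMap_X (θ : Idx d n) : pluckerMap K d n (X θ) = minor K d n θ.1 := by
  unfold pluckerMap
  rw [aeval_X]

theorem pluckerMap_mem (F : PlRing K d n) :
    pluckerMap K d n F ∈ Algebra.adjoin K (Set.range fun θ : Idx d n => minor K d n θ.1) := by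
  rw [Algebra.adjoin_range_eq_range_aeval]
  exact ⟨F, rfl⟩

theorem rightTranslate_minor (g : Matrix.SpecialLinearGroup (Fin d) K) (a : Fin d → Fin n) :
    rightTranslate K d n g (minor K d n a) = minor K d n a := by
  unfold minor
  rw [AlgHom.map_det]
  have h1 : (rightTranslate K d n g).mapMatrix (Matrix.of fun s t => X (a s, t))
      = (Matrix.of fun s t => (X (a s, t) : MatRing K d n))
        * ((g : Matrix (Fin d) (Fin d) K).map (C : K →+* MatRing K d n)) := by
    ext s t
    rw [AlgHom.mapMatrix_apply, Matrix.map_apply, Matrix.of_apply, Matrix.mul_apply]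
    unfold rightTranslate
    rw [aeval_X]
    rfl
  have h2 : ((g : Matrix (Fin d) (Fin d) K).map (C : K →+* MatRing K d n)).det = 1 := by
    rw [← RingHom.mapMatrix_apply, ← RingHom.map_det, g.2, map_one]
  rw [h1, Matrix.det_mul, h2, mul_one]

theorem invariant_of_mem_adjoin (f : MatRing K d n)
    (hf : f ∈ Algebra.adjoin K (Set.range fun θ : Idx d n => minor K d n θ.1))
    (g : Matrix.SpecialLinearGroup (Fin d) K) : rightTranslate K d n g f = f := by
  have hle : Algebra.adjoin K (Set.range fun θ : Idx d n => minor K d n θ.1)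
      ≤ AlgHom.equalizer (rightTranslate K d n g) (AlgHom.id K (MatRing K d n)) := by
    rw [Algebra.adjoin_le_iff]
    rintro _ ⟨θ, rfl⟩
    exact rightTranslate_minor K g θ.1
  exact hle hf

variable [Infinite K]

theorem ker_pluckerMap : RingHom.ker (pluckerMap K d n).toRingHom = vanishing K d n := by
  ext F
  rw [RingHom.mem_ker]
  unfold vanishing
  rw [Ideal.mem_iInf]
  constructor
  · intro h A
    rw [RingHom.mem_ker]
    show evalMinors K d n A F = 0
    rw [← evM_pluckerMap]
    have h' : pluckerMap K d n F = 0 := h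
    rw [h', map_zero]
  · intro h
    show pluckerMap K d n F = 0
    apply MvPolynomial.funext
    intro x
    have h1 := h (Matrix.of fun r t => x (r, t))
    rw [RingHom.mem_ker] at h1
    rw [map_zero]
    show evM K (Matrix.of fun r t => x (r, t)) (pluckerMap K d n F) = 0
    rw [evM_pluckerMap]
    exact h1

theorem mem_adjoin_of_invariant (hd : 0 < d) (hdn : d < n) (f : MatRing K d n)
    (hf : ∀ g : Matrix.SpecialLinearGroup (Fin d) K, rightTranslate K d n g f = f) :
    f ∈ Algebra.adjoin K (Set.range fun θ : Idx d n => minor K d n θ.1) := by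
  classical
  set w := top hdn.le with hw
  set ι := iota hdn.le with hι
  have : IsDomain (AA K w) := (psiBar_injective K w hd).isDomain (psiBar K w).toRingHom
  have hne : w ≠ ι := by
    intro h
    have h1 := congrArg (fun θ : Idx d n => (θ.1 ⟨0, hd⟩).val) h
    simp only [hw, hι, top, iota] at h1
    omega
  set a := f.totalDegree with ha
  have c1 := chart_identity K hd ι f hf
  have c2 := chart_identity K hd w f hf
  set Γ₁ := Γ K hd ι f f.totalDegree with hΓ₁
  set Γ₂ := Γ K hd w f f.totalDegree with hΓ₂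
  -- the relation in the Plücker algebra
  have hrel : X w ^ a * Γ₁ - X ι ^ a * Γ₂ ∈ schubertVanishing K d n w := by
    rw [hw, schubertVanishing_top, ← ker_pluckerMap, RingHom.mem_ker]
    show pluckerMap K d n _ = 0
    rw [map_sub, map_mul, map_mul, map_pow, map_pow, pluckerMap_X, pluckerMap_X, ← c1, ← c2]
    ring
  have hrel' : xbar K w w ^ a * Ideal.Quotient.mk (schubertVanishing K d n w) Γ₁
      = xι K w hdn.le ^ a * Ideal.Quotient.mk (schubertVanishing K d n w) Γ₂ := by
    have := Ideal.Quotient.eq.mpr hrel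
    rw [map_mul, map_mul, map_pow, map_pow] at this
    exact this
  have hp := prime_xι K w hd hdn.le
  have hndvd : ¬ xι K w hdn.le ∣ xbar K w w := by
    intro hdvd
    let e : StdC w := ⟨1, fun _ => w, fun _ _ _ => le_refl _, fun _ => le_refl _⟩
    have he : stdBasis K w hd e = xbar K w w := by
      rw [stdBasis_apply]
      unfold chainMon xbar
      simp [e]
    have h2 : (stdBasis K w hd).repr (xbar K w w) e ≠ 0 := by
      rw [← he, Module.Basis.repr_self]
      simp
    obtain ⟨k, hk⟩ := hasι_of_dvd K w hd hdn.le _ hdvd e h2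
    exact hne hk
  have hndvd' : ¬ xι K w hdn.le ∣ xbar K w w ^ a := fun h => hndvd (hp.dvd_of_dvd_pow h)
  have hdvd : xι K w hdn.le ^ a ∣ Ideal.Quotient.mk (schubertVanishing K d n w) Γ₁ := by
    apply hp.pow_dvd_of_dvd_mul_left a hndvd'
    rw [hrel']
    exact Dvd.intro _ rfl
  obtain ⟨Λbar, hΛbar⟩ := hdvd
  obtain ⟨Λ, rfl⟩ := Ideal.Quotient.mk_surjective Λbar
  have hmem : Γ₁ - X ι ^ a * Λ ∈ schubertVanishing K d n w := by
    rw [← Ideal.Quotient.eq, hΛbar, map_mul, map_pow]
    rfl
  rw [hw, schubertVanishing_top, ← ker_pluckerMap, RingHom.mem_ker] at hmem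
  have hmem' : pluckerMap K d n (Γ₁ - X ι ^ a * Λ) = 0 := hmem
  rw [map_sub, map_mul, map_pow, pluckerMap_X, ← c1, ← mul_sub] at hmem'
  rcases mul_eq_zero.mp hmem' with h | h
  · exact absurd h (pow_ne_zero _ (minor_ne_zero K ι))
  · rw [sub_eq_zero.mp h]
    exact pluckerMap_mem K Λ

end main

end Groth.Agent.H59.FFT
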