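import Mathlib
import Groth.Agent.H59.BitabComb
import Groth.Agent.H59.FFT
import Groth.Prelude.Def_CAlgX

/-!
# Minors of an `m × n` matrix as Plücker coordinates of `[I ; X]`: determinants
-/

set_option autoImplicit false

namespace Groth.Agent.H59.Bitab

open W4bk4grassmannian MvPolynomial Groth.Agent.H59.PrimeIota

section general

variable (K : Type*) [CommRing K] {L : Type*} [CommRing L] [Algebra K L] {d N : ℕ}

/-- evaluation of polynomial functions of matrices at a matrix over an algebra. -/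
noncomputable def evML (A : Matrix (Fin N) (Fin d) L) : MatRing K d N →ₐ[K] L :=
  aeval fun p : Fin N × Fin d => A p.1 p.2

/-- evaluation of Plücker polynomials at the minors of a matrix over an algebra. -/
noncomputable def evA (A : Matrix (Fin N) (Fin d) L) : PlRing K d N →ₐ[K] L :=
  aeval fun θ : Idx d N => (A.submatrix θ.1 id).det

theorem evML_X (A : Matrix (Fin N) (Fin d) L) (p : Fin N × Fin d) :
    evML K A (X p) = A p.1 p.2 := aeval_X _ _

theorem evA_X (A : Matrix (Fin N) (Fin d) L) (θ : Idx d N) :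
    evA K A (X θ) = (A.submatrix θ.1 id).det := aeval_X _ _

theorem evML_minor (A : Matrix (Fin N) (Fin d) L) (a : Fin d → Fin N) :
    evML K A (minor K d N a) = (A.submatrix a id).det := by
  unfold minor
  rw [AlgHom.map_det]
  congr 1
  ext s t
  rw [AlgHom.mapMatrix_apply, Matrix.map_apply, Matrix.of_apply, evML_X]
  rfl

theorem evML_pluckerMap (A : Matrix (Fin N) (Fin d) L) (F : PlRing K d N) :
    evML K A (pluckerMap K d N F) = evA K A F := by
  have hcomp : (evML K A).comp (pluckerMap K d N) = evA K A := by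
    apply MvPolynomial.algHom_ext
    intro θ
    rw [AlgHom.comp_apply]
    unfold pluckerMap evA
    rw [aeval_X, aeval_X, evML_minor]
  exact congrArg (fun G => G F) hcomp

theorem evA_chainMon {k : ℕ} (A : Matrix (Fin N) (Fin d) L) (c : Fin k → Idx d N) :
    evA K A (chainMon K c) = ∏ i, (A.submatrix (c i).1 id).det := by
  unfold chainMon
  rw [map_prod]
  simp only [evA_X]

theorem evA_mul (A : Matrix (Fin N) (Fin d) L) (g : Matrix (Fin d) (Fin d) L) (θ : Idx d N) :
    evA K (A * g) (X θ) = evA K A (X θ) * g.det := by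
  rw [evA_X, evA_X, ← Matrix.det_mul]
  congr 1

theorem evA_comp {L' : Type*} [CommRing L'] [Algebra K L'] (φ : L →ₐ[K] L')
    (A : Matrix (Fin N) (Fin d) L) (F : PlRing K d N) :
    φ (evA K A F) = evA K (A.map φ) F := by
  have hcomp : φ.comp (evA K A) = evA K (A.map φ) := by
    apply MvPolynomial.algHom_ext
    intro θ
    rw [AlgHom.comp_apply, evA_X, evA_X, AlgHom.map_det]
    rfl
  exact congrArg (fun G => G F) hcomp

end general

section permute

variable {L : Type*} [CommRing L] {n : ℕ}

/-- reindexing rows and columns by two equivalences changes the determinant by a sign. -/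
theorem det_submatrix_equiv_equiv {α : Type*} [Fintype α] [DecidableEq α]
    (P : Matrix (Fin n) (Fin n) L) (ρ e : α ≃ Fin n) :
    ∃ ε : ℤˣ, (P.submatrix ρ e).det = ((ε : ℤ) : L) * P.det := by
  refine ⟨Equiv.Perm.sign (e.symm.trans ρ), ?_⟩
  have h : P.submatrix ρ e = ((P.submatrix (e.symm.trans ρ) id).submatrix e e) := by
    ext z z'
    simp
  rw [h, Matrix.det_submatrix_equiv_self, Matrix.det_permute]

end permute

section tm

variable {L : Type*} [CommRing L] {m n : ℕ}

/-- the matrix `[I ; X^rev]` (identity block on top of the row-reversed matrix). -/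
def TmOf (X₀ : Matrix (Fin m) (Fin n) L) : Matrix (Fin (n + m)) (Fin n) L :=
  Matrix.of fun i j => Fin.addCases (fun i' : Fin n => if i' = j then (1 : L) else 0)
    (fun a : Fin m => X₀ (Fin.rev a) j) i

theorem TmOf_castAdd (X₀ : Matrix (Fin m) (Fin n) L) (i : Fin n) (j : Fin n) :
    TmOf X₀ (Fin.castAdd m i) j = if i = j then 1 else 0 := by
  simp [TmOf]

theorem TmOf_natAdd (X₀ : Matrix (Fin m) (Fin n) L) (a : Fin m) (j : Fin n) :
    TmOf X₀ (Fin.natAdd n a) j = X₀ (Fin.rev a) j := by
  simp [TmOf]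

theorem TmOf_map {L' : Type*} [CommRing L'] (φ : L →+* L') (X₀ : Matrix (Fin m) (Fin n) L) :
    (TmOf X₀).map φ = TmOf (X₀.map φ) := by
  ext i j
  refine Fin.addCases (fun i' => ?_) (fun a => ?_) i
  · rw [Matrix.map_apply, TmOf_castAdd, TmOf_castAdd]
    split_ifs <;> simp
  · rw [Matrix.map_apply, TmOf_natAdd, TmOf_natAdd, Matrix.map_apply]

theorem TmOf_iota (X₀ : Matrix (Fin m) (Fin n) L) :
    (TmOf X₀).submatrix (iota (Nat.le_add_right n m)).1 id = 1 := by
  ext s t
  rw [Matrix.submatrix_apply, id]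
  have : (iota (Nat.le_add_right n m)).1 s = Fin.castAdd m s := rfl
  rw [this, TmOf_castAdd, Matrix.one_apply]

/-- the equivalence matching the positions of `Phi M` with the enumeration `rowsFun M`. -/
noncomputable def rowEquiv (M : MinorIdx m n) : Fin (M.1 + 1) ⊕ Fin (colSet M)ᶜ.card ≃ Fin n := by
  classical
  have h : ∀ z, ∃ t, (Phi M).1 t = rowsFun M z := by
    intro z
    have : rowsFun M z ∈ Set.range (Phi M).1 := by
      rw [range_Phi]
      exact ⟨z, rfl⟩
    exact this
  refine Equiv.ofBijective (fun z => Classical.choose (h z)) ?_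
  rw [Fintype.bijective_iff_injective_and_card]
  constructor
  · intro z z' hzz
    apply rowsFun_injective M
    rw [← Classical.choose_spec (h z), ← Classical.choose_spec (h z')]
    exact congrArg _ hzz
  · rw [Fintype.card_sum, Fintype.card_fin, Fintype.card_fin, Fintype.card_fin]
    exact card_rows M

theorem Phi_rowEquiv (M : MinorIdx m n) (z : Fin (M.1 + 1) ⊕ Fin (colSet M)ᶜ.card) :
    (Phi M).1 (rowEquiv M z) = rowsFun M z := by
  classical
  unfold rowEquiv
  simp only [Equiv.ofBijective_apply]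
  exact Classical.choose_spec (p := fun t => (Phi M).1 t = rowsFun M z) _

/-- the enumeration of the columns: first those of the minor, then the others. -/
noncomputable def colEquiv (M : MinorIdx m n) : Fin (M.1 + 1) ⊕ Fin (colSet M)ᶜ.card ≃ Fin n :=
  finSumEquivOfFinset (card_colSet M) rfl

theorem colEquiv_inl (M : MinorIdx m n) (k : Fin (M.1 + 1)) :
    colEquiv M (Sum.inl k) = M.2.2.1 k := by
  unfold colEquiv
  rw [finSumEquivOfFinset_inl]
  have := Finset.orderEmbOfFin_unique (card_colSet M) (f := M.2.2.1)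
    (fun x => by rw [mem_colSet]; exact ⟨x, rfl⟩) M.2.2.2
  exact (congrFun this k).symm

theorem colEquiv_inr (M : MinorIdx m n) (l : Fin (colSet M)ᶜ.card) :
    colEquiv M (Sum.inr l) = (colSet M)ᶜ.orderEmbOfFin rfl l := by
  unfold colEquiv
  rw [finSumEquivOfFinset_inr]

/-- the Plücker coordinate of `[I ; X^rev]` at `Phi M` is, up to sign, the minor `M` of `X`. -/
theorem det_Phi (X₀ : Matrix (Fin m) (Fin n) L) (M : MinorIdx m n) :
    ∃ ε : ℤˣ, (X₀.submatrix M.2.1.1 M.2.2.1).det
      = ((ε : ℤ) : L) * ((TmOf X₀).submatrix (Phi M).1 id).det := by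
  classical
  obtain ⟨ε, hε⟩ := det_submatrix_equiv_equiv ((TmOf X₀).submatrix (Phi M).1 id)
    (rowEquiv M) (colEquiv M)
  refine ⟨ε, ?_⟩
  rw [← hε]
  have hblock : ((TmOf X₀).submatrix (Phi M).1 id).submatrix (rowEquiv M) (colEquiv M)
      = Matrix.fromBlocks (X₀.submatrix M.2.1.1 M.2.2.1)
          (Matrix.of fun k l => X₀ (M.2.1.1 k) ((colSet M)ᶜ.orderEmbOfFin rfl l)) 0 1 := by
    ext z z'
    rw [Matrix.submatrix_apply, Matrix.submatrix_apply, id, Phi_rowEquiv]
    rcases z with k | l <;> rcases z' with k' | l'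
    · rw [Matrix.fromBlocks_apply₁₁, colEquiv_inl]
      simp only [rowsFun, Sum.elim_inl]
      rw [TmOf_natAdd, Fin.rev_rev, Matrix.submatrix_apply]
    · rw [Matrix.fromBlocks_apply₁₂, colEquiv_inr]
      simp only [rowsFun, Sum.elim_inl]
      rw [TmOf_natAdd, Fin.rev_rev, Matrix.of_apply]
    · rw [Matrix.fromBlocks_apply₂₁, colEquiv_inl]
      simp only [rowsFun, Sum.elim_inr]
      rw [TmOf_castAdd, Matrix.zero_apply, if_neg]
      intro h
      have h1 : (colSet M)ᶜ.orderEmbOfFin rfl l ∈ (colSet M)ᶜ := Finset.orderEmbOfFin_mem _ _ _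
      rw [h, Finset.mem_compl, mem_colSet] at h1
      exact h1 ⟨k', rfl⟩
    · rw [Matrix.fromBlocks_apply₂₂, colEquiv_inr]
      simp only [rowsFun, Sum.elim_inr]
      rw [TmOf_castAdd, Matrix.one_apply]
      by_cases hll : l = l'
      · rw [if_pos hll, if_pos (by rw [hll])]
      · rw [if_neg hll, if_neg]
        intro h
        exact hll (((colSet M)ᶜ.orderEmbOfFin rfl).injective h)
  rw [hblock, Matrix.det_fromBlocks_zero₂₁, Matrix.det_one, mul_one]

end tm

section laplace

/-- minors of size at least `t` lie in the ideal of `t`-minors. -/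
theorem det_mem_minorIdeal {R : Type*} [CommRing R] {α β : Type} [Fintype α] [Fintype β]
    (A : Matrix α β R) (t r : ℕ) (h : t ≤ r) (f : Fin r → α) (g : Fin r → β) :
    (A.submatrix f g).det ∈ CAlgX.minorIdeal A t := by
  induction r, h using Nat.le_induction with
  | base => exact Ideal.subset_span ⟨(f, g), rfl⟩
  | succ r _ ih =>
    rw [Matrix.det_succ_row_zero]
    apply Ideal.sum_mem
    intro j _
    apply Ideal.mul_mem_left
    exact ih (f ∘ Fin.succ) (g ∘ j.succAbove)

end laplace

section evT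

variable (K : Type*) [CommRing K] (m n : ℕ)

/-- evaluation of Plücker polynomials at the minors of `[I ; X^rev]`, `X` generic. -/
noncomputable def evT : PlRing K n (n + m) →ₐ[K] MvPolynomial (Fin m × Fin n) K :=
  evA K (TmOf (genMatrix K m n))

theorem evT_X (θ : Idx n (n + m)) :
    evT K m n (X θ) = ((TmOf (genMatrix K m n)).submatrix θ.1 id).det := evA_X K _ θ

theorem evT_iota : evT K m n (X (iota (Nat.le_add_right n m))) = 1 := by
  rw [evT_X, TmOf_iota, Matrix.det_one]

variable {m n}

theorem minorOf_eq (M : MinorIdx m n) :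
    ∃ u : Kˣ, minorOf K M = C (u : K) * evT K m n (X (Phi M)) := by
  obtain ⟨ε, hε⟩ := det_Phi (genMatrix K m n) M
  refine ⟨Units.map (Int.castRingHom K).toMonoidHom ε, ?_⟩
  rw [evT_X]
  unfold minorOf
  rw [hε]
  congr 1

theorem evT_X_Phi (M : MinorIdx m n) :
    ∃ u : Kˣ, evT K m n (X (Phi M)) = C (u : K) * minorOf K M := by
  obtain ⟨u, hu⟩ := minorOf_eq K M
  refine ⟨u⁻¹, ?_⟩
  rw [hu, ← mul_assoc, ← C_mul, Units.inv_mul, C_1, one_mul]

variable (m n)

theorem evT_surjective : Function.Surjective (evT K m n) := by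
  rw [← AlgHom.range_eq_top, eq_top_iff, ← MvPolynomial.adjoin_range_X]
  apply Algebra.adjoin_le
  rintro _ ⟨⟨i, j⟩, rfl⟩
  -- the 1 × 1 minor
  set M : MinorIdx m n := mkMinor 0 ⟨fun _ => i, fun a b hab => by
      have h1 := a.isLt; have h2 := b.isLt; have h3 := Fin.lt_def.mp hab; omega⟩
    ⟨fun _ => j, fun a b hab => by
      have h1 := a.isLt; have h2 := b.isLt; have h3 := Fin.lt_def.mp hab; omega⟩ with hM
  obtain ⟨u, hu⟩ := minorOf_eq K M
  have h1 : minorOf K M = X (i, j) := by
    show ((genMatrix K m n).submatrix (fun _ : Fin (0 + 1) => i) (fun _ : Fin (0 + 1) => j)).det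
      = X (i, j)
    exact Matrix.det_fin_one _
  rw [h1] at hu
  rw [SetLike.mem_coe, hu, ← smul_eq_C_mul]
  exact Subalgebra.smul_mem _ (AlgHom.mem_range_self _ _) _

end evT

section field

variable (K : Type*) [Field K] [Infinite K] {L : Type*} [CommRing L] [Algebra K L] {d N : ℕ}

omit [Infinite K] in
theorem plIdealTop_le_vanishing : plIdealTop (d := d) (n := N) K ≤ vanishing K d N := by
  unfold plIdealTop
  rw [Ideal.span_le]
  rintro f ⟨i, j, r, _, rfl⟩
  unfold vanishing
  rw [SetLike.mem_coe, Ideal.mem_iInf]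
  intro A
  rw [RingHom.mem_ker]
  exact Groth.Agent.H59.SMT.evalMinors_shuffleRel K A i j r

/-- the shuffle relations hold for the minors of any matrix over any algebra. -/
theorem evA_eq_zero_of_mem (A : Matrix (Fin N) (Fin d) L) (f : PlRing K d N)
    (hf : f ∈ plIdealTop (d := d) (n := N) K) : evA K A f = 0 := by
  have h1 := plIdealTop_le_vanishing K hf
  rw [← Groth.Agent.H59.FFT.ker_pluckerMap, RingHom.mem_ker] at h1
  have h2 : pluckerMap K d N f = 0 := h1
  rw [← evML_pluckerMap, h2, map_zero]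

variable {m n : ℕ}

omit [Infinite K] in
/-- the Plücker coordinates off the Schubert variety of `w_t` go to the ideal of `t`-minors. -/
theorem evT_mem_minorIdeal (t : ℕ) (h1 : 1 ≤ t) (hm : t ≤ m + 1) (hn : t ≤ n + 1)
    (θ : Idx n (n + m)) (hθ : ¬ θ ≤ wt m n t h1 hm) :
    evT K m n (X θ) ∈ CAlgX.minorIdeal (genMatrix K m n) t := by
  have hne : θ ≠ iota (Nat.le_add_right n m) := by
    intro h
    apply hθ
    rw [h]
    exact iota_le _ _
  obtain ⟨M, rfl⟩ := exists_Phi_eq θ hne
  rw [Phi_le_wt_iff t h1 hm hn] at hθ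
  obtain ⟨u, hu⟩ := evT_X_Phi K M
  rw [hu]
  apply Ideal.mul_mem_left
  unfold minorOf
  exact det_mem_minorIdeal _ t (M.1 + 1) (by omega) _ _

end field

end Groth.Agent.H59.Bitab
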