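import Mathlib
import Groth.Agent.H59.BitabDet

/-!
# The generic point of a determinantal variety through the Schubert cell of `[I ; X]`
-/

set_option autoImplicit false

namespace Groth.Agent.H59.Bitab

open W4bk4grassmannian MvPolynomial Groth.Agent.H59.SMTIndep Groth.Agent.H59.PrimeIota

section rank

/-- a product through a smaller inner dimension has vanishing determinant. -/
theorem det_mul_eq_zero_of_lt {F : Type*} [Field F] {t r : ℕ} (hr : r < t)
    (A : Matrix (Fin t) (Fin r) F) (B : Matrix (Fin r) (Fin t) F) : (A * B).det = 0 := by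
  by_contra h
  have hu : IsUnit (A * B) := by
    rw [Matrix.isUnit_iff_isUnit_det]
    exact isUnit_iff_ne_zero.mpr h
  have h1 := Matrix.rank_of_isUnit (A * B) hu
  have h2 := Matrix.rank_mul_le_left A B
  have h3 := Matrix.rank_le_width A
  rw [Fintype.card_fin] at h1
  omega

end rank

section generic

variable (K : Type*) [Field K] {m n : ℕ} (w : Idx n (n + m))

/-- the fraction field of the coordinate ring of the Schubert cell. -/
abbrev LL (K : Type*) [Field K] (m n : ℕ) : Type _ := FractionRing (MvPolynomial (Var n (n + m)) K)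

/-- the staircase matrix over the fraction field. -/
noncomputable def Sm : Matrix (Fin (n + m)) (Fin n) (LL K m n) :=
  (G K w).map (algebraMap (MvPolynomial (Var n (n + m)) K) (LL K m n))

/-- its top block. -/
noncomputable def S1 : Matrix (Fin n) (Fin n) (LL K m n) :=
  (Sm K w).submatrix (Fin.castAdd m) id

theorem det_Sm (θ : Idx n (n + m)) :
    ((Sm K w).submatrix θ.1 id).det
      = algebraMap (MvPolynomial (Var n (n + m)) K) (LL K m n) (D K w θ) := by
  unfold Sm D
  rw [RingHom.map_det]
  rfl

theorem det_S1 : (S1 K w).det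
    = algebraMap (MvPolynomial (Var n (n + m)) K) (LL K m n)
      (D K w (iota (Nat.le_add_right n m))) := by
  rw [← det_Sm]
  rfl

theorem D_iota_ne_zero : D K w (iota (Nat.le_add_right n m)) ≠ 0 :=
  (D_monic_degree K w _ (iota_le _ w)).1.ne_zero

theorem det_S1_ne_zero : (S1 K w).det ≠ 0 := by
  rw [det_S1]
  intro h
  apply D_iota_ne_zero K w
  exact (IsFractionRing.injective (MvPolynomial (Var n (n + m)) K) (LL K m n))
    (h.trans (map_zero _).symm)

/-- the inverse of the top block. -/
noncomputable def gm : Matrix (Fin n) (Fin n) (LL K m n) := (S1 K w)⁻¹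

theorem S1_mul_gm : S1 K w * gm K w = 1 :=
  Matrix.mul_nonsing_inv _ (isUnit_iff_ne_zero.mpr (det_S1_ne_zero K w))

theorem det_gm : (gm K w).det = ((S1 K w).det)⁻¹ := by
  unfold gm
  rw [Matrix.det_nonsing_inv, Ring.inverse_eq_inv']

/-- the generic matrix of rank `< t`. -/
noncomputable def X0 : Matrix (Fin m) (Fin n) (LL K m n) :=
  Matrix.of fun i j => (Sm K w * gm K w) (Fin.natAdd n (Fin.rev i)) j

theorem TmOf_X0 : TmOf (X0 K w) = Sm K w * gm K w := by
  ext i j
  refine Fin.addCases (fun i' => ?_) (fun a => ?_) i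
  · rw [TmOf_castAdd]
    have h1 : (Sm K w * gm K w) (Fin.castAdd m i') j = (S1 K w * gm K w) i' j := by
      rw [Matrix.mul_apply, Matrix.mul_apply]
      rfl
    rw [h1, S1_mul_gm, Matrix.one_apply]
  · rw [TmOf_natAdd]
    unfold X0
    rw [Matrix.of_apply, Fin.rev_rev]

/-- evaluation at the generic matrix of rank `< t`. -/
noncomputable def eval0 : MvPolynomial (Fin m × Fin n) K →ₐ[K] LL K m n :=
  aeval fun p : Fin m × Fin n => X0 K w p.1 p.2

theorem genMatrix_map_eval0 : (genMatrix K m n).map (eval0 K w) = X0 K w := by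
  ext i j
  rw [Matrix.map_apply]
  unfold genMatrix eval0
  rw [Matrix.of_apply, aeval_X]

theorem eval0_evT (F : PlRing K n (n + m)) :
    eval0 K w (evT K m n F) = evA K (Sm K w * gm K w) F := by
  unfold evT
  rw [evA_comp, ← TmOf_X0, ← genMatrix_map_eval0]
  have h := TmOf_map (eval0 K w).toRingHom (genMatrix K m n)
  have h' : (TmOf (genMatrix K m n)).map (eval0 K w) = TmOf ((genMatrix K m n).map (eval0 K w)) := h
  rw [h']

theorem eval0_evT_X (θ : Idx n (n + m)) :
    eval0 K w (evT K m n (X θ))
      = algebraMap (MvPolynomial (Var n (n + m)) K) (LL K m n) (D K w θ)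
        * (algebraMap (MvPolynomial (Var n (n + m)) K) (LL K m n)
            (D K w (iota (Nat.le_add_right n m))))⁻¹ := by
  rw [eval0_evT, evA_mul, evA_X, det_Sm, det_gm, det_S1]

theorem eval0_evT_chainMon {k : ℕ} (c : Fin k → Idx n (n + m)) :
    eval0 K w (evT K m n (chainMon K c))
      = algebraMap (MvPolynomial (Var n (n + m)) K) (LL K m n) (psi K w (chainMon K c))
        * ((algebraMap (MvPolynomial (Var n (n + m)) K) (LL K m n)
            (D K w (iota (Nat.le_add_right n m))))⁻¹) ^ k := by
  unfold chainMon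
  rw [map_prod, map_prod, map_prod, map_prod]
  simp only [eval0_evT_X, psi_X]
  rw [Finset.prod_mul_distrib, Finset.prod_const, Finset.card_univ, Fintype.card_fin]

end generic

section indep

variable (K : Type*) [Field K] {m n : ℕ} (w : Idx n (n + m))

/-- the last diagonal position. -/
def v0 (hn : 0 < n) : Var n (n + m) :=
  toLex (⟨n - 1, by omega⟩, ⟨n - 1, by omega⟩)

theorem E_v0_eq_zero (hn : 0 < n) {k : ℕ} (c : Fin k → Idx n (n + m))
    (hc : ∀ i, c i ≠ iota (Nat.le_add_right n m)) : E c (v0 (m := m) hn) = 0 := by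
  unfold v0
  rw [E_apply]
  apply Finset.sum_eq_zero
  intro i _
  rw [if_neg]
  intro h
  apply hc i
  apply eq_iota_of_last (Nat.le_add_right n m) hn
  rw [h]

theorem ex_iota_v0 (hn : 0 < n) :
    ex (iota (Nat.le_add_right n m)).1 (v0 (m := m) hn) = 1 := by
  unfold v0
  rw [ex_apply, if_pos]
  rfl

/-- the independence statement: a combination of standard monomials without the least coordinate
which vanishes at the generic point of the determinantal variety is trivial. -/
theorem coeff_eq_zero_of_eval0 (hn : 0 < n) {ι' : Type*} (ch : ι' → Ch n (n + m))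
    (hinj : Function.Injective ch)
    (hne : ∀ i k, (ch i).2.1 k ≠ iota (Nat.le_add_right n m))
    (hle : ∀ i k, (ch i).2.1 k ≤ w) (s : Finset ι') (b : ι' → K)
    (hsum : eval0 K w (evT K m n (∑ i ∈ s, b i • chainMon K (ch i).2.1)) = 0) :
    ∀ i ∈ s, b i = 0 := by
  classical
  set Dι := D K w (iota (Nat.le_add_right n m)) with hDι
  set u := algebraMap (MvPolynomial (Var n (n + m)) K) (LL K m n) Dι with hu
  have hu0 : u ≠ 0 := by
    rw [hu, hDι, ← det_S1]
    exact det_S1_ne_zero K w
  set E₀ := s.sup fun i => (ch i).1 with hE₀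
  have hkE : ∀ i ∈ s, (ch i).1 ≤ E₀ := fun i hi => Finset.le_sup (f := fun i => (ch i).1) hi
  -- the polynomial identity
  set f : ι' → MvPolynomial (Var n (n + m)) K := fun i =>
    if i ∈ s then psi K w (chainMon K (ch i).2.1) * Dι ^ (E₀ - (ch i).1) else 0 with hf
  have h1 : ∑ i ∈ s, b i • f i = 0 := by
    apply IsFractionRing.injective (MvPolynomial (Var n (n + m)) K) (LL K m n)
    rw [map_zero, map_sum]
    rw [map_sum, map_sum] at hsum
    have h2 : ∑ i ∈ s, eval0 K w (evT K m n (b i • chainMon K (ch i).2.1)) * u ^ E₀ = 0 := by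
      rw [← Finset.sum_mul, hsum, zero_mul]
    rw [← h2]
    refine Finset.sum_congr rfl fun i hi => ?_
    rw [hf]
    simp only [if_pos hi]
    have hL : (algebraMap (MvPolynomial (Var n (n + m)) K) (LL K m n))
        (b i • (psi K w (chainMon K (ch i).2.1) * Dι ^ (E₀ - (ch i).1)))
        = algebraMap K (LL K m n) (b i) * ((algebraMap _ (LL K m n))
          (psi K w (chainMon K (ch i).2.1)) * u ^ (E₀ - (ch i).1)) := by
      rw [Algebra.smul_def, map_mul, map_mul, map_pow,
        ← IsScalarTower.algebraMap_apply K (MvPolynomial (Var n (n + m)) K) (LL K m n)]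
    have hR : eval0 K w (evT K m n (b i • chainMon K (ch i).2.1))
        = algebraMap K (LL K m n) (b i) * ((algebraMap _ (LL K m n))
          (psi K w (chainMon K (ch i).2.1)) * (u⁻¹) ^ (ch i).1) := by
      rw [map_smul, map_smul, eval0_evT_chainMon, Algebra.smul_def]
    rw [hL, hR]
    have h3 : u ^ E₀ = u ^ (E₀ - (ch i).1) * u ^ (ch i).1 := by
      rw [← pow_add]
      congr 1
      have := hkE i hi
      omega
    rw [h3]
    have h4 : (u⁻¹) ^ (ch i).1 * u ^ (ch i).1 = 1 := by
      rw [← mul_pow, inv_mul_cancel₀ hu0, one_pow]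
    calc _ = (algebraMap K (LL K m n)) (b i) * ((algebraMap _ (LL K m n))
          (psi K w (chainMon K (ch i).2.1)) * u ^ (E₀ - (ch i).1))
          * ((u⁻¹) ^ (ch i).1 * u ^ (ch i).1) := by rw [h4, mul_one]
      _ = _ := by ring
  -- monic with distinct leading exponents
  have hmonic : ∀ i ∈ s, (ord n (n + m)).Monic (f i) ∧ (ord n (n + m)).degree (f i)
      = E (ch i).2.1 + (E₀ - (ch i).1) • ex (iota (Nat.le_add_right n m)).1 := by
    intro i hi
    rw [hf]
    simp only [if_pos hi]
    have hm1 := psi_chainMon_monic K w (ch i).2.1 (hle i)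
    have hm2 := D_monic_degree K w (iota (Nat.le_add_right n m)) (iota_le _ w)
    refine ⟨hm1.1.mul hm2.1.pow, ?_⟩
    rw [MonomialOrder.degree_mul hm1.1.ne_zero hm2.1.pow.ne_zero, MonomialOrder.degree_pow,
      hm1.2, hm2.2]
  intro i hi
  refine eq_zero_of_monic_or_zero (ord n (n + m)) f (↑s) (fun i hi => (hmonic i hi).1) ?_ ?_
    s b h1 i hi hi
  · intro i hi
    rw [hf]
    simp only
    rw [if_neg (fun h => hi (Finset.mem_coe.mpr h))]
  · intro i hi i' hi' heq
    simp only at heq
    rw [(hmonic i hi).2, (hmonic i' hi').2] at heq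
    have h5 := congrArg (fun e => e (v0 (m := m) hn)) heq
    simp only [Finsupp.add_apply, Finsupp.smul_apply, E_v0_eq_zero hn _ (hne i),
      E_v0_eq_zero hn _ (hne i'), ex_iota_v0 hn, smul_eq_mul, mul_one, zero_add] at h5
    rw [h5] at heq
    have h9 := add_right_cancel heq
    exact hinj (E_inj hn _ _ h9)

end indep

section lastcols

/-- the last `t - 1` columns. -/
def lastCols (n t : ℕ) (hn : t ≤ n + 1) : Fin (t - 1) → Fin n :=
  fun l => ⟨n - (t - 1) + l.val, by have := l.isLt; omega⟩

theorem lastCols_injective (n t : ℕ) (hn : t ≤ n + 1) : Function.Injective (lastCols n t hn) := by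
  intro l l' h
  have := congrArg Fin.val h
  simp only [lastCols] at this
  exact Fin.ext (by omega)

end lastcols

section factor

variable (K : Type*) [Field K] {m n : ℕ} (t : ℕ) (h1 : 1 ≤ t) (hm : t ≤ m + 1) (hn : t ≤ n + 1)

theorem Sm_natAdd_eq_zero (a : Fin m) (k : Fin n) (hk : k.val + t ≤ n) :
    Sm K (wt m n t h1 hm) (Fin.natAdd n a) k = 0 := by
  unfold Sm
  rw [Matrix.map_apply, G_apply_eq_zero, map_zero]
  rw [Fin.lt_def, wt_val]
  unfold wtFun
  rw [if_pos hk]
  simp only [Fin.val_natAdd]
  omega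

/-- left factor of the generic matrix of rank `< t`. -/
noncomputable def U0 : Matrix (Fin m) (Fin (t - 1)) (LL K m n) :=
  Matrix.of fun i l => Sm K (wt m n t h1 hm) (Fin.natAdd n (Fin.rev i)) (lastCols n t hn l)

/-- right factor of the generic matrix of rank `< t`. -/
noncomputable def W0 : Matrix (Fin (t - 1)) (Fin n) (LL K m n) :=
  Matrix.of fun l j => gm K (wt m n t h1 hm) (lastCols n t hn l) j

theorem X0_eq_mul : X0 K (wt m n t h1 hm) = U0 K t h1 hm hn * W0 K t h1 hm hn := by
  ext i j
  unfold X0
  rw [Matrix.of_apply, Matrix.mul_apply, Matrix.mul_apply]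
  symm
  apply Finset.sum_of_injOn (lastCols n t hn)
  · exact (lastCols_injective n t hn).injOn
  · intro l _
    exact Finset.mem_coe.mpr (Finset.mem_univ _)
  · intro k _ hk
    have hk' : k.val + t ≤ n := by
      by_contra hcon
      apply hk
      have hlt : k.val - (n - (t - 1)) < t - 1 := by have := k.isLt; omega
      refine ⟨⟨k.val - (n - (t - 1)), hlt⟩, Finset.mem_coe.mpr (Finset.mem_univ _), ?_⟩
      apply Fin.ext
      simp only [lastCols]
      omega
    rw [Sm_natAdd_eq_zero K t h1 hm _ k hk', zero_mul]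
  · intro l _
    unfold U0 W0
    rw [Matrix.of_apply, Matrix.of_apply]

include hn in
/-- the generic matrix of rank `< t` kills the `t`-minors. -/
theorem eval0_minorIdeal (f : MvPolynomial (Fin m × Fin n) K)
    (hf : f ∈ CAlgX.minorIdeal (genMatrix K m n) t) : eval0 K (wt m n t h1 hm) f = 0 := by
  have hle : CAlgX.minorIdeal (genMatrix K m n) t
      ≤ RingHom.ker (eval0 K (wt m n t h1 hm)).toRingHom := by
    unfold CAlgX.minorIdeal
    rw [Ideal.span_le]
    rintro _ ⟨⟨f, g⟩, rfl⟩
    rw [SetLike.mem_coe, RingHom.mem_ker]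
    show eval0 K (wt m n t h1 hm) ((genMatrix K m n).submatrix f g).det = 0
    rw [AlgHom.map_det]
    have h2 : (eval0 K (wt m n t h1 hm)).mapMatrix ((genMatrix K m n).submatrix f g)
        = (U0 K t h1 hm hn).submatrix f id * (W0 K t h1 hm hn).submatrix id g := by
      rw [← Matrix.submatrix_mul _ _ _ _ _ Function.bijective_id, ← X0_eq_mul,
        ← genMatrix_map_eval0]
      rfl
    rw [h2]
    exact det_mul_eq_zero_of_lt (by omega) _ _
  exact hle hf

end factor

end Groth.Agent.H59.Bitab
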