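import Mathlib
import Groth.Agent.H59.BitabGeneric

/-!
# Standard bitableaux form a basis of the determinantal rings
-/

set_option autoImplicit false

namespace Groth.Agent.H59.Bitab

open W4bk4grassmannian MvPolynomial Groth.Agent.H59.SMTIndep Groth.Agent.H59.PrimeIota
open Groth.Agent.H59.SMT

section main

variable (K : Type*) [Field K] {m n : ℕ} (t : ℕ)

/-- standard bitableaux with minors of size `< t`. -/
abbrev BT (m n t : ℕ) : Type := Σ k : ℕ, {c : Fin k → MinorIdx m n //
  (∀ i, (c i).1 + 1 ≤ t - 1) ∧ ∀ i j, i < j → MinorGE (c i) (c j)}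

/-- the chain of Plücker indices of a standard bitableau. -/
def toCh (b : BT m n t) : Ch n (n + m) :=
  ⟨b.1, fun j => Phi (b.2.1 (Fin.rev j)), fun a a' h => by
    rcases h.eq_or_lt with h | h
    · rw [h]
    · exact (Phi_le_iff _ _).mpr (b.2.2.2 _ _ (Fin.rev_lt_rev.mpr h))⟩

theorem toCh_injective : Function.Injective (toCh (m := m) (n := n) t) := by
  rintro ⟨k, c, hc⟩ ⟨k', c', hc'⟩ h
  unfold toCh at h
  simp only at h
  have hk : k = k' := (Sigma.mk.inj_iff.mp h).1
  subst hk
  have h2 := eq_of_heq (Sigma.mk.inj_iff.mp h).2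
  have h3 := Subtype.ext_iff.mp h2
  simp only at h3
  have hcc : c = c' := by
    funext i
    have := congrFun h3 (Fin.rev i)
    simp only [Fin.rev_rev] at this
    exact Phi_injective this
  subst hcc
  rfl

theorem prod_minorOf {k : ℕ} (f : Fin k → MinorIdx m n) :
    ∃ u : Kˣ, ∏ i, minorOf K (f i) = C (u : K) * ∏ i, evT K m n (X (Phi (f i))) := by
  choose u hu using fun i => minorOf_eq K (f i)
  refine ⟨∏ i, u i, ?_⟩
  rw [Units.coe_prod, map_prod, ← Finset.prod_mul_distrib]
  exact Finset.prod_congr rfl fun i _ => hu i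

theorem evT_chainMon_toCh (b : BT m n t) :
    evT K m n (chainMon K (toCh t b).2.1) = ∏ i, evT K m n (X (Phi (b.2.1 i))) := by
  unfold chainMon
  rw [map_prod]
  exact Equiv.prod_comp Fin.revPerm (fun i => evT K m n (X (Phi (b.2.1 i))))

theorem prod_minorOf_BT (b : BT m n t) :
    ∃ u : Kˣ, ∏ i, minorOf K (b.2.1 i) = C (u : K) * evT K m n (chainMon K (toCh t b).2.1) := by
  obtain ⟨u, hu⟩ := prod_minorOf K b.2.1
  exact ⟨u, by rw [hu, evT_chainMon_toCh]⟩

variable (h1 : 1 ≤ t) (hm : t ≤ m + 1) (hn : t ≤ n + 1)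

include h1 hm hn in
/-- the standard bitableaux are linearly independent modulo the `t`-minors. -/
theorem linearIndependent_bitableaux (hn0 : 0 < n) :
    LinearIndependent K (fun b : BT m n t =>
      Ideal.Quotient.mk (CAlgX.minorIdeal (genMatrix K m n) t)
        (Finset.univ.prod fun i => minorOf K (b.2.1 i))) := by
  classical
  rw [linearIndependent_iff']
  intro s g hsum
  choose u hu using fun b : BT m n t => prod_minorOf_BT K t b
  have h2 : ∑ b ∈ s, g b • (∏ i, minorOf K (b.2.1 i))
      ∈ CAlgX.minorIdeal (genMatrix K m n) t := by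
    rw [← Ideal.Quotient.eq_zero_iff_mem, map_sum, ← hsum]
    refine Finset.sum_congr rfl fun b _ => ?_
    exact map_smul (Ideal.Quotient.mkₐ K (CAlgX.minorIdeal (genMatrix K m n) t)) _ _
  have h3 : ∑ b ∈ s, g b • (∏ i, minorOf K (b.2.1 i))
      = evT K m n (∑ b ∈ s, (g b * (u b : K)) • chainMon K (toCh t b).2.1) := by
    rw [map_sum]
    refine Finset.sum_congr rfl fun b _ => ?_
    rw [map_smul, hu b, ← smul_eq_C_mul, smul_smul]
  rw [h3] at h2
  have h4 := eval0_minorIdeal K t h1 hm hn _ h2
  have h5 := coeff_eq_zero_of_eval0 K (wt m n t h1 hm) hn0 (toCh t) (toCh_injective t)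
    (fun b k => Phi_ne_iota _)
    (fun b k => (Phi_le_wt_iff t h1 hm hn _).mpr (b.2.2.1 _)) s
    (fun b => g b * (u b : K)) h4
  intro b hb
  have := h5 b hb
  rcases mul_eq_zero.mp this with h | h
  · exact h
  · exact absurd h (u b).ne_zero

include h1 hm hn in
/-- the images of the standard monomials on the Schubert variety of `w_t` are combinations of
standard bitableaux. -/
theorem mk_evT_chainMon_mem (k : ℕ) (c : Fin k → Idx n (n + m)) (hc : Antitone c)
    (hle : ∀ i, c i ≤ wt m n t h1 hm) :
    Ideal.Quotient.mk (CAlgX.minorIdeal (genMatrix K m n) t) (evT K m n (chainMon K c))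
      ∈ Submodule.span K (Set.range fun b : BT m n t =>
        Ideal.Quotient.mk (CAlgX.minorIdeal (genMatrix K m n) t)
          (Finset.univ.prod fun i => minorOf K (b.2.1 i))) := by
  classical
  induction k with
  | zero =>
    have h0 : chainMon K c = 1 := by
      unfold chainMon
      simp
    rw [h0, map_one]
    apply Submodule.subset_span
    refine ⟨⟨0, ⟨fun i => i.elim0, ⟨fun i => i.elim0, fun i => i.elim0⟩⟩⟩, ?_⟩
    simp
  | succ k ih =>
    by_cases hlast : c (Fin.last k) = iota (Nat.le_add_right n m)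
    · have h0 : chainMon K c
          = chainMon K (fun i : Fin k => c i.castSucc) * X (c (Fin.last k)) := by
        unfold chainMon
        rw [Fin.prod_univ_castSucc]
      rw [h0, map_mul, hlast, evT_iota, mul_one]
      exact ih _ (fun a b hab => hc (Fin.castSucc_le_castSucc_iff.mpr hab)) (fun i => hle _)
    · have hne : ∀ i, c i ≠ iota (Nat.le_add_right n m) := by
        intro i hi
        apply hlast
        apply le_antisymm _ (iota_le _ _)
        rw [← hi]
        exact hc (Fin.le_last i)
      choose M hM using fun i => exists_Phi_eq (c i) (hne i)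
      have hb1 : ∀ i : Fin (k + 1), (M (Fin.rev i)).1 + 1 ≤ t - 1 := by
        intro i
        rw [← Phi_le_wt_iff t h1 hm hn, hM]
        exact hle _
      have hb2 : ∀ i j : Fin (k + 1), i < j → MinorGE (M (Fin.rev i)) (M (Fin.rev j)) := by
        intro i j hij
        rw [← Phi_le_iff, hM, hM]
        exact hc (le_of_lt (Fin.rev_lt_rev.mpr hij))
      set b : BT m n t := ⟨k + 1, fun i => M (Fin.rev i), hb1, hb2⟩ with hb
      obtain ⟨u, hu⟩ := prod_minorOf_BT K t b
      have hcb : (toCh t b).2.1 = c := by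
        funext (j : Fin (k + 1))
        show Phi (M (Fin.rev (Fin.rev j))) = c j
        rw [Fin.rev_rev, hM]
      rw [hcb] at hu
      have h2 : evT K m n (chainMon K c)
          = ((u⁻¹ : Kˣ) : K) • ∏ i, minorOf K (b.2.1 i) := by
        rw [hu, smul_eq_C_mul, ← mul_assoc, ← C_mul, Units.inv_mul, C_1, one_mul]
        rfl
      rw [h2]
      have h3 : Ideal.Quotient.mk (CAlgX.minorIdeal (genMatrix K m n) t)
          (((u⁻¹ : Kˣ) : K) • ∏ i, minorOf K (b.2.1 i))
          = ((u⁻¹ : Kˣ) : K) • Ideal.Quotient.mk (CAlgX.minorIdeal (genMatrix K m n) t)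
            (∏ i, minorOf K (b.2.1 i)) :=
        map_smul (Ideal.Quotient.mkₐ K (CAlgX.minorIdeal (genMatrix K m n) t)) _ _
      rw [h3]
      exact Submodule.smul_mem _ _ (Submodule.subset_span ⟨b, rfl⟩)

include h1 hm hn in
/-- the standard bitableaux span the determinantal ring. -/
theorem span_bitableaux [Infinite K] :
    Submodule.span K (Set.range fun b : BT m n t =>
      Ideal.Quotient.mk (CAlgX.minorIdeal (genMatrix K m n) t)
        (Finset.univ.prod fun i => minorOf K (b.2.1 i))) = ⊤ := by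
  classical
  rw [eq_top_iff]
  intro x _
  obtain ⟨r, rfl⟩ := Ideal.Quotient.mk_surjective x
  obtain ⟨F, rfl⟩ := evT_surjective K m n r
  obtain ⟨l, hl⟩ := exists_repr K F
  have h0 : evT K m n F = ∑ c ∈ l.support, l c • evT K m n (chainMon K c.2.1) := by
    have := evA_eq_zero_of_mem K (TmOf (genMatrix K m n)) _ hl
    have h2 : evT K m n (F - ∑ c ∈ l.support, l c • chainMon K c.2.1) = 0 := this
    rw [map_sub, sub_eq_zero] at h2
    rw [h2, map_sum]
    refine Finset.sum_congr rfl fun c _ => ?_
    rw [map_smul]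
  rw [h0, map_sum]
  apply Submodule.sum_mem
  intro c _
  have h3 : Ideal.Quotient.mk (CAlgX.minorIdeal (genMatrix K m n) t)
      (l c • evT K m n (chainMon K c.2.1))
      = l c • Ideal.Quotient.mk (CAlgX.minorIdeal (genMatrix K m n) t)
        (evT K m n (chainMon K c.2.1)) :=
    map_smul (Ideal.Quotient.mkₐ K (CAlgX.minorIdeal (genMatrix K m n) t)) _ _
  rw [h3]
  apply Submodule.smul_mem
  by_cases hle : ∀ i, c.2.1 i ≤ wt m n t h1 hm
  · exact mk_evT_chainMon_mem K t h1 hm hn c.1 c.2.1 c.2.2 hle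
  · push Not at hle
    obtain ⟨i₀, hi₀⟩ := hle
    have h4 : evT K m n (chainMon K c.2.1) ∈ CAlgX.minorIdeal (genMatrix K m n) t := by
      unfold chainMon
      rw [map_prod]
      exact Ideal.mem_of_dvd _ (Finset.dvd_prod_of_mem _ (Finset.mem_univ i₀))
        (evT_mem_minorIdeal K t h1 hm hn _ hi₀)
    rw [Ideal.Quotient.eq_zero_iff_mem.mpr h4]
    exact zero_mem _

end main

end Groth.Agent.H59.Bitab
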