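import Mathlib
import Groth.Agent.H59.BitabMain

/-!
# The determinantal ideals are the kernels of the generic points; the second fundamental theorem
-/

set_option autoImplicit false

namespace Groth.Agent.H59.Bitab

open W4bk4grassmannian MvPolynomial Groth.Agent.H59.SMTIndep Groth.Agent.H59.PrimeIota
open Groth.Agent.H59.SMT

section kernel

variable (K : Type*) [Field K] [Infinite K] {m n : ℕ} (t : ℕ)
  (h1 : 1 ≤ t) (hm : t ≤ m + 1) (hn : t ≤ n + 1)

include hn in
/-- a polynomial vanishing at the generic matrix of rank `< t` lies in the ideal of `t`-minors. -/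
theorem mem_minorIdeal_of_eval0 (hn0 : 0 < n) (f : MvPolynomial (Fin m × Fin n) K)
    (hf : eval0 K (wt m n t h1 hm) f = 0) : f ∈ CAlgX.minorIdeal (genMatrix K m n) t := by
  classical
  have hspan : Ideal.Quotient.mk (CAlgX.minorIdeal (genMatrix K m n) t) f ∈
      Submodule.span K (Set.range fun b : BT m n t =>
        Ideal.Quotient.mk (CAlgX.minorIdeal (genMatrix K m n) t)
          (Finset.univ.prod fun i => minorOf K (b.2.1 i))) := by
    rw [span_bitableaux K t h1 hm hn]
    exact Submodule.mem_top
  rw [Finsupp.mem_span_range_iff_exists_finsupp] at hspan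
  obtain ⟨l, hl⟩ := hspan
  choose u hu using fun b : BT m n t => prod_minorOf_BT K t b
  set g := ∑ b ∈ l.support, l b • (∏ i, minorOf K (b.2.1 i)) with hg
  have hfg : f - g ∈ CAlgX.minorIdeal (genMatrix K m n) t := by
    rw [← Ideal.Quotient.eq, ← hl, Finsupp.sum, hg, map_sum]
    refine Finset.sum_congr rfl fun b _ => ?_
    exact (map_smul (Ideal.Quotient.mkₐ K (CAlgX.minorIdeal (genMatrix K m n) t)) _ _).symm
  have h3 : g = evT K m n (∑ b ∈ l.support, (l b * (u b : K)) • chainMon K (toCh t b).2.1) := by
    rw [map_sum, hg]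
    refine Finset.sum_congr rfl fun b _ => ?_
    rw [map_smul, hu b, ← smul_eq_C_mul, smul_smul]
  have h4 : eval0 K (wt m n t h1 hm) g = 0 := by
    have := eval0_minorIdeal K t h1 hm hn _ hfg
    rw [map_sub, hf, zero_sub, neg_eq_zero] at this
    exact this
  rw [h3] at h4
  have h5 := coeff_eq_zero_of_eval0 K (wt m n t h1 hm) hn0 (toCh t) (toCh_injective t)
    (fun b k => Phi_ne_iota _)
    (fun b k => (Phi_le_wt_iff t h1 hm hn _).mpr (b.2.2.1 _)) l.support
    (fun b => l b * (u b : K)) h4
  have hg0 : g = 0 := by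
    rw [hg]
    apply Finset.sum_eq_zero
    intro b hb
    have := h5 b hb
    rcases mul_eq_zero.mp this with h | h
    · rw [h, zero_smul]
    · exact absurd h (u b).ne_zero
  rw [hg0, sub_zero] at hfg
  exact hfg

include hn in
/-- the ideal of `t`-minors is the kernel of the evaluation at the generic matrix of rank `< t`. -/
theorem ker_eval0 (hn0 : 0 < n) :
    RingHom.ker (eval0 K (wt m n t h1 hm)).toRingHom = CAlgX.minorIdeal (genMatrix K m n) t := by
  apply le_antisymm
  · intro f hf
    exact mem_minorIdeal_of_eval0 K t h1 hm hn hn0 f hf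
  · intro f hf
    exact eval0_minorIdeal K t h1 hm hn f hf

end kernel

section rank

/-- a product through a smaller inner dimension has vanishing determinant (domains). -/
theorem det_mul_eq_zero_of_lt' {R : Type*} [CommRing R] [IsDomain R] {t r : ℕ} (hr : r < t)
    (A : Matrix (Fin t) (Fin r) R) (B : Matrix (Fin r) (Fin t) R) : (A * B).det = 0 := by
  apply IsFractionRing.injective R (FractionRing R)
  rw [map_zero, RingHom.map_det, RingHom.mapMatrix_apply, Matrix.map_mul]
  exact det_mul_eq_zero_of_lt hr _ _

theorem minorIdeal_eq_bot {R : Type*} [CommRing R] {m q : ℕ} (A : Matrix (Fin m) (Fin q) R)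
    (t : ℕ) (h : m < t ∨ q < t) : CAlgX.minorIdeal A t = ⊥ := by
  unfold CAlgX.minorIdeal
  rw [Ideal.span_eq_bot]
  rintro _ ⟨⟨f, g⟩, rfl⟩
  rcases h with h | h
  · obtain ⟨a, b, hab, hfab⟩ := Fintype.exists_ne_map_eq_of_card_lt f (by simpa using h)
    apply Matrix.det_zero_of_row_eq hab
    funext j
    simp only [Matrix.submatrix_apply]
    rw [hfab]
  · obtain ⟨a, b, hab, hgab⟩ := Fintype.exists_ne_map_eq_of_card_lt g (by simpa using h)
    apply Matrix.det_zero_of_column_eq hab
    intro i
    simp only [Matrix.submatrix_apply]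
    rw [hgab]

end rank

section pad

variable {L : Type*} [CommRing L] {m q p r : ℕ}

/-- padding the left factor with zero columns. -/
def padU (U : Matrix (Fin m) (Fin p) L) (r : ℕ) : Matrix (Fin m) (Fin r) L :=
  Matrix.of fun i k => if h : k.val < p then U i ⟨k.val, h⟩ else 0

/-- padding the right factor with zero rows. -/
def padW (W : Matrix (Fin p) (Fin q) L) (r : ℕ) : Matrix (Fin r) (Fin q) L :=
  Matrix.of fun k j => if h : k.val < p then W ⟨k.val, h⟩ j else 0

theorem padU_mul_padW (U : Matrix (Fin m) (Fin p) L) (W : Matrix (Fin p) (Fin q) L) (hpr : p ≤ r) :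
    padU U r * padW W r = U * W := by
  ext i j
  rw [Matrix.mul_apply, Matrix.mul_apply]
  symm
  apply Finset.sum_of_injOn (Fin.castLE hpr)
  · exact (Fin.castLE_injective hpr).injOn
  · intro l _
    exact Finset.mem_coe.mpr (Finset.mem_univ _)
  · intro k _ hk
    have hk' : ¬ k.val < p := by
      intro hlt
      apply hk
      exact ⟨⟨k.val, hlt⟩, Finset.mem_coe.mpr (Finset.mem_univ _), Fin.ext rfl⟩
    unfold padU
    rw [Matrix.of_apply, dif_neg hk', zero_mul]
  · intro l _
    unfold padU padW
    rw [Matrix.of_apply, Matrix.of_apply]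
    have hl : (Fin.castLE hpr l).val < p := l.isLt
    rw [dif_pos hl, dif_pos hl]
    rfl

end pad

section sft

variable (K : Type*) [Field K] (m q r : ℕ)

/-- the (r+1)-minors of a product through inner dimension `r` vanish. -/
theorem minorIdeal_le_ker_pairingMap :
    CAlgX.minorIdeal (genMatrix K m q) (r + 1) ≤ RingHom.ker (pairingMap K r m q).toRingHom := by
  unfold CAlgX.minorIdeal
  rw [Ideal.span_le]
  rintro _ ⟨⟨f, g⟩, rfl⟩
  rw [SetLike.mem_coe, RingHom.mem_ker]
  show pairingMap K r m q ((genMatrix K m q).submatrix f g).det = 0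
  rw [AlgHom.map_det]
  have h : (pairingMap K r m q).mapMatrix ((genMatrix K m q).submatrix f g)
      = (Matrix.of fun (a : Fin (r + 1)) (k : Fin r) =>
          (X (Sum.inl (f a, k)) : PairRing K r m q))
        * (Matrix.of fun (k : Fin r) (b : Fin (r + 1)) =>
          (X (Sum.inr (k, g b)) : PairRing K r m q)) := by
    ext a b
    rw [Matrix.mul_apply]
    simp only [AlgHom.mapMatrix_apply, Matrix.map_apply, Matrix.submatrix_apply, genMatrix,
      Matrix.of_apply]
    unfold pairingMap
    rw [aeval_X]
  rw [h]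
  exact det_mul_eq_zero_of_lt' (Nat.lt_succ_self r) _ _

variable {m q r} {L : Type*} [CommRing L] [Algebra K L]

/-- evaluation of functions of pairs of matrices. -/
noncomputable def evalUW (U : Matrix (Fin m) (Fin r) L) (W : Matrix (Fin r) (Fin q) L) :
    PairRing K r m q →ₐ[K] L :=
  aeval (Sum.elim (fun p : Fin m × Fin r => U p.1 p.2) (fun p : Fin r × Fin q => W p.1 p.2))

theorem evalUW_pairingMap (U : Matrix (Fin m) (Fin r) L) (W : Matrix (Fin r) (Fin q) L)
    (f : MvPolynomial (Fin m × Fin q) K) :
    evalUW K U W (pairingMap K r m q f)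
      = aeval (fun p : Fin m × Fin q => (U * W) p.1 p.2) f := by
  have hcomp : (evalUW K U W).comp (pairingMap K r m q)
      = aeval (fun p : Fin m × Fin q => (U * W) p.1 p.2) := by
    apply MvPolynomial.algHom_ext
    intro p
    rw [AlgHom.comp_apply, aeval_X]
    unfold pairingMap
    rw [aeval_X, map_sum, Matrix.mul_apply]
    refine Finset.sum_congr rfl fun k _ => ?_
    unfold evalUW
    rw [map_mul, aeval_X, aeval_X]
    rfl
  exact congrArg (fun G => G f) hcomp

end sft

section final

variable (K : Type*) [Field K] [Infinite K] (m q r : ℕ)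

theorem ker_pairingMap_le_of_pos (hq : 0 < q) :
    RingHom.ker (pairingMap K r m q).toRingHom
      ≤ CAlgX.minorIdeal (genMatrix K m q) (min r (min m q) + 1) := by
  intro f hf
  have h1 : 1 ≤ min r (min m q) + 1 := by omega
  have hm : min r (min m q) + 1 ≤ m + 1 := by omega
  have hn : min r (min m q) + 1 ≤ q + 1 := by omega
  have hp : min r (min m q) + 1 - 1 ≤ r := by omega
  apply mem_minorIdeal_of_eval0 K _ h1 hm hn hq f
  have h2 := evalUW_pairingMap K (padU (U0 K _ h1 hm hn) r) (padW (W0 K _ h1 hm hn) r) f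
  rw [padU_mul_padW _ _ hp, ← X0_eq_mul] at h2
  have h0 : pairingMap K r m q f = 0 := hf
  rw [h0, map_zero] at h2
  exact h2.symm

/-- the second fundamental theorem for `GL`. -/
theorem ker_pairingMap_eq :
    RingHom.ker (pairingMap K r m q).toRingHom = CAlgX.minorIdeal (genMatrix K m q) (r + 1) := by
  apply le_antisymm _ (minorIdeal_le_ker_pairingMap K m q r)
  by_cases hq : 0 < q
  · refine le_trans (ker_pairingMap_le_of_pos K m q r hq) ?_
    by_cases ht : min r (min m q) = r
    · rw [ht]
    · have h3 : m < min r (min m q) + 1 ∨ q < min r (min m q) + 1 := by omega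
      rw [minorIdeal_eq_bot _ _ h3]
      exact bot_le
  · have hq0 : q = 0 := by omega
    subst hq0
    intro f hf
    have hC := MvPolynomial.eq_C_of_isEmpty f
    have h0 : pairingMap K r m 0 f = 0 := hf
    rw [hC] at h0
    have h1 : pairingMap K r m 0 (C (coeff 0 f)) = C (coeff 0 f) :=
      (pairingMap K r m 0).commutes _
    rw [h1] at h0
    have h2 : coeff 0 f = 0 := C_injective _ _ (h0.trans C_0.symm)
    rw [hC, h2, C_0]
    exact zero_mem _

end final

end Groth.Agent.H59.Bitab
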