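import Mathlib
import Groth.Agent.H59.BitabSFT

/-!
# Generic points of the Schubert subvarieties of a determinantal variety
-/

set_option autoImplicit false

namespace Groth.Agent.H59.Bitab

open W4bk4grassmannian MvPolynomial Groth.Agent.H59.SMTIndep Groth.Agent.H59.PrimeIota
open Groth.Agent.H59.SMT

section indep

variable (K : Type*) [Field K] {m n : ℕ} (w : Idx n (n + m))

/-- the independence statement at the generic point of the Schubert variety of `w`: the
coefficients of the standard monomials on it (without the least coordinate) vanish. -/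
theorem coeff_eq_zero_of_eval0' (hn : 0 < n) {ι' : Type*} (ch : ι' → Ch n (n + m))
    (hinj : Function.Injective ch)
    (hne : ∀ i k, (ch i).2.1 k ≠ iota (Nat.le_add_right n m))
    (s : Finset ι') (b : ι' → K)
    (hsum : eval0 K w (evT K m n (∑ i ∈ s, b i • chainMon K (ch i).2.1)) = 0) :
    ∀ i ∈ s, (∀ k, (ch i).2.1 k ≤ w) → b i = 0 := by
  classical
  set Dι := D K w (iota (Nat.le_add_right n m)) with hDι
  set u := algebraMap (MvPolynomial (Var n (n + m)) K) (LL K m n) Dι with hu
  have hu0 : u ≠ 0 := by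
    rw [hu, hDι, ← det_S1]
    exact det_S1_ne_zero K w
  set E₀ := s.sup fun i => (ch i).1 with hE₀
  have hkE : ∀ i ∈ s, (ch i).1 ≤ E₀ := fun i hi => Finset.le_sup (f := fun i => (ch i).1) hi
  set T : Set ι' := {i | i ∈ s ∧ ∀ k, (ch i).2.1 k ≤ w} with hT
  set f : ι' → MvPolynomial (Var n (n + m)) K := fun i =>
    if i ∈ T then psi K w (chainMon K (ch i).2.1) * Dι ^ (E₀ - (ch i).1) else 0 with hf
  have hfi : ∀ i ∈ s, f i = psi K w (chainMon K (ch i).2.1) * Dι ^ (E₀ - (ch i).1) := by
    intro i hi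
    rw [hf]
    simp only
    by_cases hle : ∀ k, (ch i).2.1 k ≤ w
    · rw [if_pos ⟨hi, hle⟩]
    · rw [if_neg (fun h => hle h.2), psi_chainMon_eq_zero K w _ hle, zero_mul]
  have h1 : ∑ i ∈ s, b i • f i = 0 := by
    apply IsFractionRing.injective (MvPolynomial (Var n (n + m)) K) (LL K m n)
    rw [map_zero, map_sum]
    rw [map_sum, map_sum] at hsum
    have h2 : ∑ i ∈ s, eval0 K w (evT K m n (b i • chainMon K (ch i).2.1)) * u ^ E₀ = 0 := by
      rw [← Finset.sum_mul, hsum, zero_mul]
    rw [← h2]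
    refine Finset.sum_congr rfl fun i hi => ?_
    rw [hfi i hi]
    have hL : (algebraMap (MvPolynomial (Var n (n + m)) K) (LL K m n))
        (b i • (psi K w (chainMon K (ch i).2.1) * Dι ^ (E₀ - (ch i).1)))
        = algebraMap K (LL K m n) (b i) * ((algebraMap _ (LL K m n))
          (psi K w (chainMon K (ch i).2.1)) * u ^ (E₀ - (ch i).1)) := by
      rw [Algebra.smul_def, map_mul, map_mul, map_pow,
        ← IsScalarTower.algebraMap_apply K (MvPolynomial (Var n (n + m)) K) (LL K m n)]
    have hR : eval0 K w (evT K m n (b i • chainMon K (ch i).2.1))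
        = algebraMap K (LL K m n) (b i) * ((algebraMap _ (LL K m n))
          (psi K w (chainMon K (ch i).2.1)) * (u⁻¹) ^ (ch i).1) := by
      rw [map_smul, map_smul, eval0_evT_chainMon, Algebra.smul_def]
    rw [hL, hR]
    have h3 : u ^ E₀ = u ^ (E₀ - (ch i).1) * u ^ (ch i).1 := by
      rw [← pow_add]
      congr 1
      have := hkE i hi
      omega
    rw [h3]
    have h4 : (u⁻¹) ^ (ch i).1 * u ^ (ch i).1 = 1 := by
      rw [← mul_pow, inv_mul_cancel₀ hu0, one_pow]
    calc _ = (algebraMap K (LL K m n)) (b i) * ((algebraMap _ (LL K m n))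
          (psi K w (chainMon K (ch i).2.1)) * u ^ (E₀ - (ch i).1))
          * ((u⁻¹) ^ (ch i).1 * u ^ (ch i).1) := by rw [h4, mul_one]
      _ = _ := by ring
  have hmonic : ∀ i ∈ T, (ord n (n + m)).Monic (f i) ∧ (ord n (n + m)).degree (f i)
      = E (ch i).2.1 + (E₀ - (ch i).1) • ex (iota (Nat.le_add_right n m)).1 := by
    intro i hi
    rw [hfi i hi.1]
    have hm1 := psi_chainMon_monic K w (ch i).2.1 hi.2
    have hm2 := D_monic_degree K w (iota (Nat.le_add_right n m)) (iota_le _ w)
    refine ⟨hm1.1.mul hm2.1.pow, ?_⟩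
    rw [MonomialOrder.degree_mul hm1.1.ne_zero hm2.1.pow.ne_zero, MonomialOrder.degree_pow,
      hm1.2, hm2.2]
  intro i hi hle
  refine eq_zero_of_monic_or_zero (ord n (n + m)) f T (fun i hi => (hmonic i hi).1) ?_ ?_
    s b h1 i hi ⟨hi, hle⟩
  · intro i hi
    rw [hf]
    simp only
    rw [if_neg hi]
  · intro i hi i' hi' heq
    simp only at heq
    rw [(hmonic i hi).2, (hmonic i' hi').2] at heq
    have h5 := congrArg (fun e => e (v0 (m := m) hn)) heq
    simp only [Finsupp.add_apply, Finsupp.smul_apply, E_v0_eq_zero hn _ (hne i),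
      E_v0_eq_zero hn _ (hne i'), ex_iota_v0 hn, smul_eq_mul, mul_one, zero_add] at h5
    rw [h5] at heq
    have h9 := add_right_cancel heq
    exact hinj (E_inj hn _ _ h9)

end indep

section factor

variable (K : Type*) [Field K] {m n : ℕ} (t : ℕ) (h1 : 1 ≤ t) (hm : t ≤ m + 1) (hn : t ≤ n + 1)
  (φ : Idx n (n + m)) (hφ : φ ≤ wt m n t h1 hm)

include hφ in
theorem Sm_natAdd_eq_zero' (a : Fin m) (k : Fin n) (hk : k.val + t ≤ n) :
    Sm K φ (Fin.natAdd n a) k = 0 := by
  unfold Sm
  rw [Matrix.map_apply, G_apply_eq_zero, map_zero]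
  have h2 := Fin.le_def.mp (hφ k)
  rw [wt_val] at h2
  unfold wtFun at h2
  rw [if_pos hk] at h2
  rw [Fin.lt_def]
  simp only [Fin.val_natAdd]
  omega

/-- left factor of the generic point of a Schubert subvariety. -/
noncomputable def U0' : Matrix (Fin m) (Fin (t - 1)) (LL K m n) :=
  Matrix.of fun i l => Sm K φ (Fin.natAdd n (Fin.rev i)) (lastCols n t hn l)

/-- right factor of the generic point of a Schubert subvariety. -/
noncomputable def W0' : Matrix (Fin (t - 1)) (Fin n) (LL K m n) :=
  Matrix.of fun l j => gm K φ (lastCols n t hn l) j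

include h1 hm hφ in
theorem X0_eq_mul' : X0 K φ = U0' K t hn φ * W0' K t hn φ := by
  ext i j
  unfold X0
  rw [Matrix.of_apply, Matrix.mul_apply, Matrix.mul_apply]
  symm
  apply Finset.sum_of_injOn (lastCols n t hn)
  · exact (lastCols_injective n t hn).injOn
  · intro l _
    exact Finset.mem_coe.mpr (Finset.mem_univ _)
  · intro k _ hk
    have hk' : k.val + t ≤ n := by
      by_contra hcon
      apply hk
      have hlt : k.val - (n - (t - 1)) < t - 1 := by have := k.isLt; omega
      refine ⟨⟨k.val - (n - (t - 1)), hlt⟩, Finset.mem_coe.mpr (Finset.mem_univ _), ?_⟩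
      apply Fin.ext
      simp only [lastCols]
      omega
    rw [Sm_natAdd_eq_zero' K t h1 hm φ hφ _ k hk', zero_mul]
  · intro l _
    unfold U0' W0'
    rw [Matrix.of_apply, Matrix.of_apply]

omit hn in
/-- the minors off the Schubert variety vanish at its generic point. -/
theorem eval0_minorOf_eq_zero (φ : Idx n (n + m)) (M : MinorIdx m n) (hM : ¬ Phi M ≤ φ) :
    eval0 K φ (minorOf K M) = 0 := by
  obtain ⟨u, hu⟩ := minorOf_eq K M
  rw [hu, map_mul, eval0_evT_X, D_eq_zero K φ _ hM, map_zero, zero_mul, mul_zero]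

end factor

end Groth.Agent.H59.Bitab
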