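import Mathlib
import Groth.Agent.H59.NLIso

/-!
# Localization properties of `H¹(L_{S/R})` in both variables (helper59)

* `h1map_comp_apply`: functoriality of `Algebra.H1Cotangent.map` for a composite of squares.
* `extension_h1map_bijective`: a map of extensions of the same ring which is bijective on conormal
  modules and injective on cotangent spaces is bijective on `H¹`.
* `h1map_bijective_of_isLocalization_base`: `H¹(L_{S/R}) → H¹(L_{S/R'})` is bijective for `R'` a
  localization of `R`.
* `isLocalizedModule_h1map`: for a square `R → R'`, `S → S'` with `R'` a localization of `R` and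
  `S'` the localization of `S` at `M`, `H¹(L_{S/R}) → H¹(L_{S'/R'})` is the localization at `M`.
-/

set_option autoImplicit false
set_option linter.style.haveILetI false
universe u

namespace Groth.Agent.H59.H1Loc

open Algebra

section Comp

variable (R R' R'' S S' S'' : Type u) [CommRing R] [CommRing R'] [CommRing R''] [CommRing S]
  [CommRing S'] [CommRing S'']
  [Algebra R S] [Algebra R' S'] [Algebra R'' S'']
  [Algebra R R'] [Algebra R' R''] [Algebra R R''] [IsScalarTower R R' R'']
  [Algebra S S'] [Algebra S' S''] [Algebra S S''] [IsScalarTower S S' S'']
  [Algebra R S'] [IsScalarTower R R' S'] [IsScalarTower R S S']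
  [Algebra R' S''] [IsScalarTower R' R'' S''] [IsScalarTower R' S' S'']
  [Algebra R S''] [IsScalarTower R R'' S''] [IsScalarTower R S S'']

/-- Functoriality of `Algebra.H1Cotangent.map`. -/
theorem h1map_comp_apply (x : H1Cotangent R S) :
    H1Cotangent.map R' R'' S' S'' (H1Cotangent.map R R' S S' x) = H1Cotangent.map R R'' S S'' x := by
  unfold H1Cotangent.map
  rw [← Extension.H1Cotangent.map_comp_apply]
  exact congr($(Extension.H1Cotangent.map_eq _ _) x)

end Comp

section Ext

variable {R S : Type u} [CommRing R] [CommRing S] [Algebra R S]
variable {R' : Type u} [CommRing R'] [Algebra R' S] [Algebra R R'] [IsScalarTower R R' S]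
variable {P : Algebra.Extension.{u} R S} {P' : Algebra.Extension.{u} R' S}

/-- A map of extensions of the same ring, bijective on conormal modules and injective on cotangent
spaces, is bijective on `H¹`. -/
theorem extension_h1map_bijective (f : P.Hom P')
    (h₀ : Function.Bijective (Algebra.Extension.Cotangent.map f))
    (h₁ : Function.Injective (Algebra.Extension.CotangentSpace.map f)) :
    Function.Bijective (Algebra.Extension.H1Cotangent.map f) := by
  constructor
  · intro x y hxy
    apply Subtype.ext
    apply h₀.1
    exact congrArg Subtype.val hxy
  · intro y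
    obtain ⟨x, hx⟩ := h₀.2 y.1
    have hx0 : P.cotangentComplex x = 0 := by
      apply h₁
      rw [Algebra.Extension.CotangentSpace.map_cotangentComplex, hx, map_zero]
      exact y.2
    exact ⟨⟨x, hx0⟩, Subtype.ext hx⟩

end Ext

section Base

variable (R R' S : Type u) [CommRing R] [CommRing R'] [CommRing S]
  [Algebra R R'] [Algebra R' S] [Algebra R S] [IsScalarTower R R' S]

/-- `H¹(L_{S/R}) → H¹(L_{S/R'})` is bijective when `R'` is a localization of `R`. -/
theorem h1map_bijective_of_isLocalization_base (N : Submonoid R) [IsLocalization N R'] :
    Function.Bijective (H1Cotangent.map R R' S S) := by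
  let G : Generators R S S := Generators.self R S
  let G' : Generators R' S S := Generators.self R' S
  have h : ∀ i, G'.val i = algebraMap S S (G.val i) := fun i => rfl
  have heq : H1Cotangent.map R R' S S =
      Extension.H1Cotangent.map (NLCx.sameVarsHom (S' := S) G G' h).toExtensionHom :=
    Extension.H1Cotangent.map_eq _ _
  rw [heq]
  letI alg0 : Algebra (MvPolynomial S R) (MvPolynomial S R') := MvPolynomial.algebraMvPolynomial
  letI alg : Algebra G.toExtension.Ring G'.toExtension.Ring := alg0
  haveI : IsLocalization (N.map (MvPolynomial.C (σ := S)) : Submonoid G.toExtension.Ring)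
      G'.toExtension.Ring :=
    (MvPolynomial.isLocalization N R' : IsLocalization (N.map (MvPolynomial.C (σ := S)))
      (MvPolynomial S R'))
  have halg : algebraMap G.toExtension.Ring G'.toExtension.Ring =
      (NLCx.sameVarsHom (S' := S) G G' h).toExtensionHom.toRingHom := by
    apply MvPolynomial.ringHom_ext
    · intro a
      change MvPolynomial.map (algebraMap R R') (MvPolynomial.C a) =
        (NLCx.sameVarsHom (S' := S) G G' h).toAlgHom (algebraMap R (MvPolynomial S R) a)
      rw [MvPolynomial.map_C, AlgHom.commutes,
        IsScalarTower.algebraMap_apply R R' (MvPolynomial S R')]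
      rfl
    · intro i
      change MvPolynomial.map (algebraMap R R') (MvPolynomial.X i) =
        (NLCx.sameVarsHom (S' := S) G G' h).toAlgHom (MvPolynomial.X i)
      rw [MvPolynomial.map_X, Algebra.Generators.Hom.toAlgHom_X]
      rfl
  exact extension_h1map_bijective _
    (Groth.Agent.H59.NLIso.cotangent_map_bijective_of_isLocalization
      (P := G.toExtension) (P' := G'.toExtension) _ (N.map (MvPolynomial.C (σ := S))) halg)
    (Groth.Agent.H59.NLIso.cotangentSpace_map_bijective_of_sameVars G G' _ (fun _ => rfl)).1

end Base

section Square

variable (R R' S S' : Type u) [CommRing R] [CommRing R'] [CommRing S] [CommRing S']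
  [Algebra R S] [Algebra R' S'] [Algebra R R'] [Algebra S S'] [Algebra R S']
  [IsScalarTower R R' S'] [IsScalarTower R S S']

/-- For a square with `R'` a localization of `R` and `S'` the localization of `S` at `M`, the map
`H¹(L_{S/R}) → H¹(L_{S'/R'})` is the localization at `M`. -/
theorem isLocalizedModule_h1map (M : Submonoid S) [IsLocalization M S'] (N : Submonoid R)
    [IsLocalization N R'] : IsLocalizedModule M (H1Cotangent.map R R' S S') := by
  have h1 : IsLocalizedModule M (H1Cotangent.map R R S S') := inferInstance
  let e : H1Cotangent R S' ≃ₗ[S'] H1Cotangent R' S' :=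
    LinearEquiv.ofBijective (H1Cotangent.map R R' S' S')
      (h1map_bijective_of_isLocalization_base R R' S' N)
  have h2 := IsLocalizedModule.of_linearEquiv M (H1Cotangent.map R R S S') (e.restrictScalars S)
  convert h2 using 1
  ext x
  exact (congrArg Subtype.val (h1map_comp_apply R R R' S S' S' x)).symm

end Square

end Groth.Agent.H59.H1Loc
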