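import Mathlib

set_option autoImplicit false
universe u

open TopologicalSpace AlgebraicGeometry CategoryTheory

namespace Groth.Agent.H59.ModGlue

/-- Gluing for modules: a family of elements of the localizations of `M` at all primes which is locally a
fraction comes from an element of `M`. -/
theorem exists_of_locally_fraction {R M : Type u} [CommRing R] [AddCommGroup M] [Module R M]
    (N : PrimeSpectrum R → Type u) [∀ p, AddCommGroup (N p)] [∀ p, Module R (N p)]
    (ℓ : ∀ p, M →ₗ[R] N p) [∀ p : PrimeSpectrum R, IsLocalizedModule p.asIdeal.primeCompl (ℓ p)]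
    (s : ∀ p, N p)
    (h : ∀ p : PrimeSpectrum R, ∃ (O : Opens (PrimeSpectrum.Top R)) (_ : p ∈ O) (m : M) (a : R),
      ∀ q ∈ O, ∃ _ : a ∉ q.asIdeal, a • s q = ℓ q m) :
    ∃ m : M, ∀ p, ℓ p m = s p := by
  let σ : ∀ x : (⊤ : Opens (PrimeSpectrum.Top R)), StructureSheaf.Localizations M x.1 :=
    fun x => (IsLocalizedModule.iso x.1.asIdeal.primeCompl (ℓ x.1)).symm (s x.1)
  have hσ : (StructureSheaf.isLocallyFraction R M).pred σ := by
    intro x
    obtain ⟨O, hxO, m, a, hO⟩ := h x.1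
    refine ⟨O, hxO, homOfLE le_top, m, a, fun y => ?_⟩
    obtain ⟨ha, hy⟩ := hO y.1 y.2
    refine ⟨ha, ?_⟩
    exact IsLocalizedModule.iso_symm_apply' y.1.asIdeal.primeCompl (ℓ y.1) (s y.1) m ⟨a, ha⟩ hy
  obtain ⟨m, hm⟩ := StructureSheaf.toOpenₗ_top_bijective.2
    (⟨σ, hσ⟩ : (structureSheafInType R M).obj.obj (Opposite.op ⊤))
  refine ⟨m, fun p => ?_⟩
  have h1 : (StructureSheaf.toOpenₗ R M ⊤ m).1 ⟨p, trivial⟩ = σ ⟨p, trivial⟩ := by rw [hm]
  have h2 : (StructureSheaf.toOpenₗ R M ⊤ m).1 ⟨p, trivial⟩ =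
      LocalizedModule.mk m (1 : p.asIdeal.primeCompl) := rfl
  rw [h2] at h1
  have h3 := congrArg (IsLocalizedModule.iso p.asIdeal.primeCompl (ℓ p)) h1
  rw [IsLocalizedModule.iso_mk_one] at h3
  rw [h3]
  exact LinearEquiv.apply_symm_apply _ _

end Groth.Agent.H59.ModGlue
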