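import Mathlib
import Groth.Prelude.Def_SheafNL
import Groth.Prelude.Def_MeroSh
import Groth.Agent.H59.H1Loc
import Groth.Agent.H59.ModGlue

set_option autoImplicit false
set_option linter.style.haveILetI false
universe u

open CategoryTheory CategoryTheory.Limits TensorProduct AlgebraicGeometry Opposite TopologicalSpace

namespace Groth.Agent.H59.H1Sh

variable {X Y : Scheme.{u}} (f : X ⟶ Y)

/-- the algebra structure on the stalk of `X` at `x` over the stalk of `Y` at `f x`. -/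
@[reducible] noncomputable def stalkAlg (x : X) :
    Algebra (Y.presheaf.stalk (f x)) (X.presheaf.stalk x) :=
  (f.stalkMap x).hom.toAlgebra

/-- the stalk of `H^{-1}(NL_{X/Y})` at `x`. -/
noncomputable abbrev T (x : X) : Type u :=
  @Algebra.H1Cotangent (Y.presheaf.stalk (f x)) (X.presheaf.stalk x) _ _ (stalkAlg f x)

theorem appLE_germ {U : X.Opens} {V : Y.Opens} (e : U ≤ f ⁻¹ᵁ V) (x : X) (hx : x ∈ U) :
    f.appLE V U e ≫ X.presheaf.germ U x hx = Y.presheaf.germ V (f x) (e hx) ≫ f.stalkMap x := by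
  rw [Scheme.Hom.germ_stalkMap, Scheme.Hom.appLE, Category.assoc, TopCat.Presheaf.germ_res]

section

variable (U : X.affineOpens) (V : Y.affineOpens) (e : (U : X.Opens) ≤ f ⁻¹ᵁ (V : Y.Opens))
    (x : X) (hx : x ∈ (U : X.Opens))

/-- the germ map from the `H^{-1}` of a chart pair to the stalk, as a linear map. -/
noncomputable def germL :
    letI := (f.appLE (V : Y.Opens) (U : X.Opens) e).hom.toAlgebra
    letI : Algebra Γ(X, (U : X.Opens)) (X.presheaf.stalk x) :=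
      (X.presheaf.germ (U : X.Opens) x hx).hom.toAlgebra
    NLCx.ChartH1 f U V e →ₗ[Γ(X, (U : X.Opens))] T f x :=
  letI := (f.appLE (V : Y.Opens) (U : X.Opens) e).hom.toAlgebra
  letI := stalkAlg f x
  letI : Algebra Γ(Y, (V : Y.Opens)) (Y.presheaf.stalk (f x)) :=
    (Y.presheaf.germ (V : Y.Opens) (f x) (e hx)).hom.toAlgebra
  letI : Algebra Γ(X, (U : X.Opens)) (X.presheaf.stalk x) :=
    (X.presheaf.germ (U : X.Opens) x hx).hom.toAlgebra
  letI : Algebra Γ(Y, (V : Y.Opens)) (X.presheaf.stalk x) :=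
    ((X.presheaf.germ (U : X.Opens) x hx).hom.comp (f.appLE (V : Y.Opens) (U : X.Opens) e).hom).toAlgebra
  haveI : IsScalarTower Γ(Y, (V : Y.Opens)) Γ(X, (U : X.Opens)) (X.presheaf.stalk x) :=
    IsScalarTower.of_algebraMap_eq' rfl
  haveI : IsScalarTower Γ(Y, (V : Y.Opens)) (Y.presheaf.stalk (f x)) (X.presheaf.stalk x) :=
    IsScalarTower.of_algebraMap_eq' (by
      change (X.presheaf.germ (U : X.Opens) x hx).hom.comp (f.appLE (V : Y.Opens) (U : X.Opens) e).hom =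
        (f.stalkMap x).hom.comp (Y.presheaf.germ (V : Y.Opens) (f x) (e hx)).hom
      rw [← CommRingCat.hom_comp, ← CommRingCat.hom_comp, appLE_germ])
  Algebra.H1Cotangent.map Γ(Y, (V : Y.Opens)) (Y.presheaf.stalk (f x)) Γ(X, (U : X.Opens))
    (X.presheaf.stalk x)

/-- the germ map from the `H^{-1}` of a chart pair to the stalk. -/
noncomputable def germ : NLCx.ChartH1 f U V e →+ T f x :=
  letI := (f.appLE (V : Y.Opens) (U : X.Opens) e).hom.toAlgebra
  letI : Algebra Γ(X, (U : X.Opens)) (X.presheaf.stalk x) :=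
    (X.presheaf.germ (U : X.Opens) x hx).hom.toAlgebra
  (germL f U V e x hx).toAddMonoidHom

theorem germ_smul (a : Γ(X, (U : X.Opens))) (t : NLCx.ChartH1 f U V e) :
    germ f U V e x hx (a • t) = X.presheaf.germ (U : X.Opens) x hx a • germ f U V e x hx t := by
  letI := (f.appLE (V : Y.Opens) (U : X.Opens) e).hom.toAlgebra
  letI : Algebra Γ(X, (U : X.Opens)) (X.presheaf.stalk x) :=
    (X.presheaf.germ (U : X.Opens) x hx).hom.toAlgebra
  have h := (germL f U V e x hx).map_smul a t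
  refine h.trans ?_
  exact (algebraMap_smul (X.presheaf.stalk x) a (germL f U V e x hx t)).symm

theorem isLocalizedModule_germL :
    letI := (f.appLE (V : Y.Opens) (U : X.Opens) e).hom.toAlgebra
    letI : Algebra Γ(X, (U : X.Opens)) (X.presheaf.stalk x) :=
      (X.presheaf.germ (U : X.Opens) x hx).hom.toAlgebra
    IsLocalizedModule (U.2.primeIdealOf ⟨x, hx⟩).asIdeal.primeCompl (germL f U V e x hx) := by
  letI := (f.appLE (V : Y.Opens) (U : X.Opens) e).hom.toAlgebra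
  letI := stalkAlg f x
  letI : Algebra Γ(Y, (V : Y.Opens)) (Y.presheaf.stalk (f x)) :=
    (Y.presheaf.germ (V : Y.Opens) (f x) (e hx)).hom.toAlgebra
  letI : Algebra Γ(X, (U : X.Opens)) (X.presheaf.stalk x) :=
    (X.presheaf.germ (U : X.Opens) x hx).hom.toAlgebra
  letI : Algebra Γ(Y, (V : Y.Opens)) (X.presheaf.stalk x) :=
    ((X.presheaf.germ (U : X.Opens) x hx).hom.comp (f.appLE (V : Y.Opens) (U : X.Opens) e).hom).toAlgebra
  haveI : IsScalarTower Γ(Y, (V : Y.Opens)) Γ(X, (U : X.Opens)) (X.presheaf.stalk x) :=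
    IsScalarTower.of_algebraMap_eq' rfl
  haveI : IsScalarTower Γ(Y, (V : Y.Opens)) (Y.presheaf.stalk (f x)) (X.presheaf.stalk x) :=
    IsScalarTower.of_algebraMap_eq' (by
      change (X.presheaf.germ (U : X.Opens) x hx).hom.comp (f.appLE (V : Y.Opens) (U : X.Opens) e).hom =
        (f.stalkMap x).hom.comp (Y.presheaf.germ (V : Y.Opens) (f x) (e hx)).hom
      rw [← CommRingCat.hom_comp, ← CommRingCat.hom_comp, appLE_germ])
  haveI h1 : IsLocalization.AtPrime (X.presheaf.stalk x) (U.2.primeIdealOf ⟨x, hx⟩).asIdeal :=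
    U.2.isLocalization_stalk ⟨x, hx⟩
  haveI h2 : IsLocalization.AtPrime (Y.presheaf.stalk (f x)) (V.2.primeIdealOf ⟨f x, e hx⟩).asIdeal :=
    V.2.isLocalization_stalk ⟨f x, e hx⟩
  exact Groth.Agent.H59.H1Loc.isLocalizedModule_h1map Γ(Y, (V : Y.Opens)) (Y.presheaf.stalk (f x))
    Γ(X, (U : X.Opens)) (X.presheaf.stalk x) (U.2.primeIdealOf ⟨x, hx⟩).asIdeal.primeCompl
    (V.2.primeIdealOf ⟨f x, e hx⟩).asIdeal.primeCompl

end

theorem germ_chartRes {U U' : X.affineOpens} {V V' : Y.affineOpens}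
    (e : (U : X.Opens) ≤ f ⁻¹ᵁ (V : Y.Opens)) (e' : (U' : X.Opens) ≤ f ⁻¹ᵁ (V' : Y.Opens))
    (hU : (U' : X.Opens) ≤ (U : X.Opens)) (hV : (V' : Y.Opens) ≤ (V : Y.Opens))
    (x : X) (hx : x ∈ (U' : X.Opens)) (t : NLCx.ChartH1 f U V e) :
    germ f U' V' e' x hx (NLCx.chartRes e e' hU hV t) = germ f U V e x (hU hx) t := by
  letI := (f.appLE (V : Y.Opens) (U : X.Opens) e).hom.toAlgebra
  letI := (f.appLE (V' : Y.Opens) (U' : X.Opens) e').hom.toAlgebra
  letI := (f.appLE (V : Y.Opens) (U' : X.Opens) (hU.trans e)).hom.toAlgebra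
  letI := (X.presheaf.map (homOfLE hU).op).hom.toAlgebra
  letI := (Y.presheaf.map (homOfLE hV).op).hom.toAlgebra
  haveI : IsScalarTower Γ(Y, (V : Y.Opens)) Γ(Y, (V' : Y.Opens)) Γ(X, (U' : X.Opens)) :=
    IsScalarTower.of_algebraMap_eq' (by
      change (f.appLE _ _ _).hom = (f.appLE _ _ _).hom.comp (Y.presheaf.map _).hom
      rw [← CommRingCat.hom_comp, Scheme.Hom.map_appLE])
  haveI : IsScalarTower Γ(Y, (V : Y.Opens)) Γ(X, (U : X.Opens)) Γ(X, (U' : X.Opens)) :=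
    IsScalarTower.of_algebraMap_eq' (by
      change (f.appLE _ _ _).hom = (X.presheaf.map _).hom.comp (f.appLE _ _ _).hom
      rw [← CommRingCat.hom_comp, Scheme.Hom.appLE_map])
  letI := stalkAlg f x
  letI : Algebra Γ(Y, (V : Y.Opens)) (Y.presheaf.stalk (f x)) :=
    (Y.presheaf.germ (V : Y.Opens) (f x) (e (hU hx))).hom.toAlgebra
  letI : Algebra Γ(Y, (V' : Y.Opens)) (Y.presheaf.stalk (f x)) :=
    (Y.presheaf.germ (V' : Y.Opens) (f x) (e' hx)).hom.toAlgebra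
  letI : Algebra Γ(X, (U : X.Opens)) (X.presheaf.stalk x) :=
    (X.presheaf.germ (U : X.Opens) x (hU hx)).hom.toAlgebra
  letI : Algebra Γ(X, (U' : X.Opens)) (X.presheaf.stalk x) :=
    (X.presheaf.germ (U' : X.Opens) x hx).hom.toAlgebra
  letI : Algebra Γ(Y, (V : Y.Opens)) (X.presheaf.stalk x) :=
    ((X.presheaf.germ (U : X.Opens) x (hU hx)).hom.comp
      (f.appLE (V : Y.Opens) (U : X.Opens) e).hom).toAlgebra
  letI : Algebra Γ(Y, (V' : Y.Opens)) (X.presheaf.stalk x) :=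
    ((X.presheaf.germ (U' : X.Opens) x hx).hom.comp
      (f.appLE (V' : Y.Opens) (U' : X.Opens) e').hom).toAlgebra
  haveI : IsScalarTower Γ(Y, (V : Y.Opens)) Γ(X, (U : X.Opens)) (X.presheaf.stalk x) :=
    IsScalarTower.of_algebraMap_eq' rfl
  haveI : IsScalarTower Γ(Y, (V' : Y.Opens)) Γ(X, (U' : X.Opens)) (X.presheaf.stalk x) :=
    IsScalarTower.of_algebraMap_eq' rfl
  haveI : IsScalarTower Γ(Y, (V : Y.Opens)) (Y.presheaf.stalk (f x)) (X.presheaf.stalk x) :=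
    IsScalarTower.of_algebraMap_eq' (by
      change (X.presheaf.germ (U : X.Opens) x (hU hx)).hom.comp
          (f.appLE (V : Y.Opens) (U : X.Opens) e).hom =
        (f.stalkMap x).hom.comp (Y.presheaf.germ (V : Y.Opens) (f x) (e (hU hx))).hom
      rw [← CommRingCat.hom_comp, ← CommRingCat.hom_comp, appLE_germ])
  haveI : IsScalarTower Γ(Y, (V' : Y.Opens)) (Y.presheaf.stalk (f x)) (X.presheaf.stalk x) :=
    IsScalarTower.of_algebraMap_eq' (by
      change (X.presheaf.germ (U' : X.Opens) x hx).hom.comp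
          (f.appLE (V' : Y.Opens) (U' : X.Opens) e').hom =
        (f.stalkMap x).hom.comp (Y.presheaf.germ (V' : Y.Opens) (f x) (e' hx)).hom
      rw [← CommRingCat.hom_comp, ← CommRingCat.hom_comp, appLE_germ])
  haveI : IsScalarTower Γ(Y, (V : Y.Opens)) Γ(Y, (V' : Y.Opens)) (Y.presheaf.stalk (f x)) :=
    IsScalarTower.of_algebraMap_eq' (by
      change (Y.presheaf.germ (V : Y.Opens) (f x) (e (hU hx))).hom =
        (Y.presheaf.germ (V' : Y.Opens) (f x) (e' hx)).hom.comp (Y.presheaf.map (homOfLE hV).op).hom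
      rw [← CommRingCat.hom_comp, TopCat.Presheaf.germ_res])
  haveI : IsScalarTower Γ(X, (U : X.Opens)) Γ(X, (U' : X.Opens)) (X.presheaf.stalk x) :=
    IsScalarTower.of_algebraMap_eq' (by
      change (X.presheaf.germ (U : X.Opens) x (hU hx)).hom =
        (X.presheaf.germ (U' : X.Opens) x hx).hom.comp (X.presheaf.map (homOfLE hU).op).hom
      rw [← CommRingCat.hom_comp, TopCat.Presheaf.germ_res])
  haveI : IsScalarTower Γ(Y, (V : Y.Opens)) Γ(X, (U' : X.Opens)) (X.presheaf.stalk x) :=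
    IsScalarTower.of_algebraMap_eq' (by
      change (X.presheaf.germ (U : X.Opens) x (hU hx)).hom.comp
          (f.appLE (V : Y.Opens) (U : X.Opens) e).hom =
        (X.presheaf.germ (U' : X.Opens) x hx).hom.comp
          (f.appLE (V : Y.Opens) (U' : X.Opens) (hU.trans e)).hom
      rw [← CommRingCat.hom_comp, ← CommRingCat.hom_comp, ← Scheme.Hom.appLE_map f e (homOfLE hU).op,
        Category.assoc, TopCat.Presheaf.germ_res])
  exact Groth.Agent.H59.H1Loc.h1map_comp_apply Γ(Y, (V : Y.Opens)) Γ(Y, (V' : Y.Opens))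
    (Y.presheaf.stalk (f x)) Γ(X, (U : X.Opens)) Γ(X, (U' : X.Opens)) (X.presheaf.stalk x) t

/-- around every point there are chart pairs inside given neighbourhoods. -/
theorem exists_chart (x : X) (W : X.Opens) (hx : x ∈ W) (V₀ : Y.Opens) (hV₀ : f x ∈ V₀) :
    ∃ (U : X.affineOpens) (V : Y.affineOpens) (_ : (U : X.Opens) ≤ f ⁻¹ᵁ (V : Y.Opens)),
      x ∈ (U : X.Opens) ∧ (U : X.Opens) ≤ W ∧ (V : Y.Opens) ≤ V₀ := by
  obtain ⟨V, hV, hxV, hVle⟩ := Opens.isBasis_iff_nbhd.mp Y.isBasis_affineOpens hV₀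
  obtain ⟨U, hU, hxU, hUle⟩ := Opens.isBasis_iff_nbhd.mp X.isBasis_affineOpens
    (show x ∈ W ⊓ f ⁻¹ᵁ V from ⟨hx, hxV⟩)
  exact ⟨⟨U, hU⟩, ⟨V, hV⟩, hUle.trans inf_le_right, hxU, hUle.trans inf_le_left, hVle⟩

/-- the prelocal predicate: given by one element of the `H^{-1}` of a chart pair. -/
def pre : TopCat.PrelocalPredicate (fun x : X => T f x) where
  pred {W} s := ∃ (U : X.affineOpens) (V : Y.affineOpens)
    (e : (U : X.Opens) ≤ f ⁻¹ᵁ (V : Y.Opens)) (hW : W ≤ (U : X.Opens)) (t : NLCx.ChartH1 f U V e),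
    ∀ x : W, s x = germ f U V e x.1 (hW x.2) t
  res {W' W} i s := by
    rintro ⟨U, V, e, hW, t, h⟩
    exact ⟨U, V, e, i.le.trans hW, t, fun x => h (i x)⟩

/-- the local predicate: locally given by elements of the `H^{-1}` of chart pairs. -/
def loc : TopCat.LocalPredicate (fun x : X => T f x) := (pre f).sheafify

theorem loc_zero (W : X.Opens) : (loc f).pred (0 : ∀ x : W, T f x.1) := fun x => by
  obtain ⟨U, V, e, hxU, hUW, -⟩ := exists_chart f x.1 W x.2 ⊤ trivial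
  refine ⟨U, hxU, homOfLE hUW, U, V, e, le_rfl, 0, fun y => ?_⟩
  change (0 : T f y.1) = _
  rw [map_zero]

theorem loc_add (W : X.Opens) (s₁ s₂ : ∀ x : W, T f x.1) (h₁ : (loc f).pred s₁)
    (h₂ : (loc f).pred s₂) : (loc f).pred (s₁ + s₂) := fun x => by
  obtain ⟨W₁, m₁, i₁, U₁, V₁, e₁, hW₁, t₁, w₁⟩ := h₁ x
  obtain ⟨W₂, m₂, i₂, U₂, V₂, e₂, hW₂, t₂, w₂⟩ := h₂ x
  obtain ⟨U, V, e, hxU, hUW, hVV⟩ := exists_chart f x.1 (W₁ ⊓ W₂) ⟨m₁, m₂⟩
    ((V₁ : Y.Opens) ⊓ (V₂ : Y.Opens)) ⟨e₁ (hW₁ m₁), e₂ (hW₂ m₂)⟩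
  have hU₁ : (U : X.Opens) ≤ (U₁ : X.Opens) := (hUW.trans inf_le_left).trans hW₁
  have hU₂ : (U : X.Opens) ≤ (U₂ : X.Opens) := (hUW.trans inf_le_right).trans hW₂
  refine ⟨U, hxU, homOfLE ((hUW.trans inf_le_left).trans i₁.le), U, V, e, le_rfl,
    NLCx.chartRes e₁ e hU₁ (hVV.trans inf_le_left) t₁ +
      NLCx.chartRes e₂ e hU₂ (hVV.trans inf_le_right) t₂, fun y => ?_⟩
  have w₁' := w₁ ⟨y.1, (hUW y.2).1⟩
  have w₂' := w₂ ⟨y.1, (hUW y.2).2⟩
  dsimp only at w₁' w₂'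
  change s₁ (i₁ ⟨y.1, (hUW y.2).1⟩) + s₂ (i₂ ⟨y.1, (hUW y.2).2⟩) = _
  rw [w₁', w₂', map_add, germ_chartRes, germ_chartRes]

theorem loc_smul (W : X.Opens) (r : Γ(X, W)) (s : ∀ x : W, T f x.1) (h : (loc f).pred s) :
    (loc f).pred fun x => X.presheaf.germ W x.1 x.2 r • s x := fun x => by
  obtain ⟨W₁, m₁, i₁, U₁, V₁, e₁, hW₁, t₁, w₁⟩ := h x
  obtain ⟨U, V, e, hxU, hUW, hVV⟩ := exists_chart f x.1 W₁ m₁ (V₁ : Y.Opens) (e₁ (hW₁ m₁))
  have hU₁ : (U : X.Opens) ≤ (U₁ : X.Opens) := hUW.trans hW₁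
  refine ⟨U, hxU, homOfLE (hUW.trans i₁.le), U, V, e, le_rfl,
    X.presheaf.map (homOfLE (hUW.trans i₁.le)).op r • NLCx.chartRes e₁ e hU₁ hVV t₁, fun y => ?_⟩
  have w₁' := w₁ ⟨y.1, hUW y.2⟩
  dsimp only at w₁'
  change X.presheaf.germ W y.1 _ r • s (i₁ ⟨y.1, hUW y.2⟩) = _
  rw [w₁', germ_smul, germ_chartRes, TopCat.Presheaf.germ_res_apply]

instance isModPred : Mero.IsModPred (loc f) := ⟨loc_zero f, loc_add f, loc_smul f⟩

/-- the sheaf `H^{-1}(NL_{X/Y})`. -/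
noncomputable def F : X.Modules := Mero.modOf (loc f)

/-- the section of `F` over the source of a chart pair given by an element of its `H^{-1}`. -/
noncomputable def θ (U : X.affineOpens) (V : Y.affineOpens)
    (e : (U : X.Opens) ≤ f ⁻¹ᵁ (V : Y.Opens)) :
    NLCx.ChartH1 f U V e →+ Γ(F f, (U : X.Opens)) where
  toFun t := ⟨fun x => germ f U V e x.1 x.2 t,
    fun x => ⟨U, x.2, 𝟙 _, U, V, e, le_rfl, t, fun _ => rfl⟩⟩
  map_zero' := Subtype.ext (funext fun _ => map_zero _)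
  map_add' _ _ := Subtype.ext (funext fun _ => map_add _ _ _)

section Points

variable {U : X.Opens} (hU : IsAffineOpen U)

theorem fromSpec_mem (p : PrimeSpectrum Γ(X, U)) : hU.fromSpec p ∈ U := by
  have : hU.fromSpec p ∈ Set.range hU.fromSpec := ⟨p, rfl⟩
  rw [hU.range_fromSpec] at this
  exact this

theorem primeIdealOf_fromSpec (p : PrimeSpectrum Γ(X, U)) :
    hU.primeIdealOf ⟨hU.fromSpec p, fromSpec_mem hU p⟩ = p := by
  apply hU.fromSpec.isOpenEmbedding.injective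
  exact hU.fromSpec_primeIdealOf ⟨hU.fromSpec p, fromSpec_mem hU p⟩

theorem fromSpec_mem_basicOpen_iff (p : PrimeSpectrum Γ(X, U)) (g : Γ(X, U)) :
    hU.fromSpec p ∈ X.basicOpen g ↔ g ∉ p.asIdeal := by
  have h : p ∈ hU.fromSpec ⁻¹ᵁ X.basicOpen g ↔ p ∈ PrimeSpectrum.basicOpen g := by
    rw [hU.fromSpec_preimage_basicOpen]
    exact Iff.rfl
  exact h

theorem mem_basicOpen_iff_notMem_primeIdealOf (x : X) (hx : x ∈ U) (g : Γ(X, U)) :
    x ∈ X.basicOpen g ↔ g ∉ (hU.primeIdealOf ⟨x, hx⟩).asIdeal := by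
  have h := fromSpec_mem_basicOpen_iff hU (hU.primeIdealOf ⟨x, hx⟩) g
  rw [hU.fromSpec_primeIdealOf ⟨x, hx⟩] at h
  exact h

end Points

theorem germ_eq_zero_iff (U : X.affineOpens) (V : Y.affineOpens)
    (e : (U : X.Opens) ≤ f ⁻¹ᵁ (V : Y.Opens)) (x : X) (hx : x ∈ (U : X.Opens))
    (t : NLCx.ChartH1 f U V e) :
    germ f U V e x hx t = 0 ↔
      ∃ c : Γ(X, (U : X.Opens)), c ∉ (U.2.primeIdealOf ⟨x, hx⟩).asIdeal ∧ c • t = 0 := by
  letI := (f.appLE (V : Y.Opens) (U : X.Opens) e).hom.toAlgebra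
  letI : Algebra Γ(X, (U : X.Opens)) (X.presheaf.stalk x) :=
    (X.presheaf.germ (U : X.Opens) x hx).hom.toAlgebra
  have := isLocalizedModule_germL f U V e x hx
  have h := IsLocalizedModule.eq_zero_iff (U.2.primeIdealOf ⟨x, hx⟩).asIdeal.primeCompl
    (germL f U V e x hx) (m := t)
  constructor
  · intro h0
    obtain ⟨c, hc⟩ := h.1 h0
    exact ⟨c.1, c.2, hc⟩
  · rintro ⟨c, hc, hct⟩
    exact h.2 ⟨⟨c, hc⟩, hct⟩

theorem θ_injective (U : X.affineOpens) (V : Y.affineOpens)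
    (e : (U : X.Opens) ≤ f ⁻¹ᵁ (V : Y.Opens)) : Function.Injective (θ f U V e) := by
  rw [injective_iff_map_eq_zero]
  intro t ht
  letI := (f.appLE (V : Y.Opens) (U : X.Opens) e).hom.toAlgebra
  by_contra hne
  have hgerm : ∀ (x : X) (hx : x ∈ (U : X.Opens)), germ f U V e x hx t = 0 := fun x hx =>
    congrArg (fun s : Γ(F f, (U : X.Opens)) => s.1 ⟨x, hx⟩) ht
  let A : Ideal Γ(X, (U : X.Opens)) := Ideal.torsionOf Γ(X, (U : X.Opens)) _ t
  have hA : A ≠ ⊤ := by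
    intro hA
    apply hne
    have h1 : (1 : Γ(X, (U : X.Opens))) ∈ A := hA ▸ Submodule.mem_top
    rw [Ideal.mem_torsionOf_iff, one_smul] at h1
    exact h1
  obtain ⟨P, hP, hAP⟩ := Ideal.exists_le_maximal A hA
  let p : PrimeSpectrum Γ(X, (U : X.Opens)) := ⟨P, hP.isPrime⟩
  obtain ⟨c, hc, hct⟩ := (germ_eq_zero_iff f U V e _ (fromSpec_mem U.2 p) t).1 (hgerm _ _)
  rw [primeIdealOf_fromSpec U.2 p] at hc
  exact hc (hAP ((Ideal.mem_torsionOf_iff _ _).2 hct))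

theorem θ_surjective (U : X.affineOpens) (V : Y.affineOpens)
    (e : (U : X.Opens) ≤ f ⁻¹ᵁ (V : Y.Opens)) : Function.Surjective (θ f U V e) := by
  intro s
  letI := (f.appLE (V : Y.Opens) (U : X.Opens) e).hom.toAlgebra
  let xp : PrimeSpectrum Γ(X, (U : X.Opens)) → X := fun p => U.2.fromSpec p
  have hxp : ∀ p, xp p ∈ (U : X.Opens) := fromSpec_mem U.2
  letI algp : ∀ p, Algebra Γ(X, (U : X.Opens)) (X.presheaf.stalk (xp p)) := fun p =>
    (X.presheaf.germ (U : X.Opens) (xp p) (hxp p)).hom.toAlgebra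
  have hloc : ∀ p : PrimeSpectrum Γ(X, (U : X.Opens)),
      IsLocalizedModule p.asIdeal.primeCompl (germL f U V e (xp p) (hxp p)) := by
    intro p
    have := isLocalizedModule_germL f U V e (xp p) (hxp p)
    rwa [primeIdealOf_fromSpec U.2 p] at this
  have hs2 : (loc f).pred s.1 := s.2
  have hfrac : ∀ p : PrimeSpectrum Γ(X, (U : X.Opens)),
      ∃ (O : Opens (PrimeSpectrum.Top Γ(X, (U : X.Opens)))) (_ : p ∈ O)
        (m : NLCx.ChartH1 f U V e) (a : Γ(X, (U : X.Opens))),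
        ∀ q ∈ O, ∃ _ : a ∉ q.asIdeal,
          a • s.1 ⟨xp q, hxp q⟩ = germL f U V e (xp q) (hxp q) m := by
    intro p
    obtain ⟨W', mW', i, U₁, V₁, e₁, hW₁, t₁, w₁⟩ := hs2 ⟨xp p, hxp p⟩
    obtain ⟨U₂, V₂, e₂, hxU₂, hU₂W, hV₂⟩ := exists_chart f (xp p) W' mW'
      ((V : Y.Opens) ⊓ (V₁ : Y.Opens)) ⟨e (hxp p), e₁ (hW₁ mW')⟩
    have hU₂U : (U₂ : X.Opens) ≤ (U : X.Opens) := hU₂W.trans i.le
    have hU₂U₁ : (U₂ : X.Opens) ≤ (U₁ : X.Opens) := hU₂W.trans hW₁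
    have hs : ∀ (y : X) (hy : y ∈ (U₂ : X.Opens)), s.1 ⟨y, hU₂U hy⟩ =
        germ f U₂ V₂ e₂ y hy (NLCx.chartRes e₁ e₂ hU₂U₁ (hV₂.trans inf_le_right) t₁) := by
      intro y hy
      rw [germ_chartRes]
      exact w₁ ⟨y, hU₂W hy⟩
    obtain ⟨⟨m₀, a⟩, hma⟩ := IsLocalizedModule.surj p.asIdeal.primeCompl
      (germL f U V e (xp p) (hxp p)) (s.1 ⟨xp p, hxp p⟩)
    have hma' : X.presheaf.germ (U : X.Opens) (xp p) (hxp p) a.1 • s.1 ⟨xp p, hxp p⟩ =
        germ f U V e (xp p) (hxp p) m₀ := by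
      refine Eq.trans ?_ hma
      exact algebraMap_smul (X.presheaf.stalk (xp p)) a.1 (s.1 ⟨xp p, hxp p⟩)
    have hd : germ f U₂ V₂ e₂ (xp p) hxU₂
        (X.presheaf.map (homOfLE hU₂U).op a.1 •
            NLCx.chartRes e₁ e₂ hU₂U₁ (hV₂.trans inf_le_right) t₁ -
          NLCx.chartRes e e₂ hU₂U (hV₂.trans inf_le_left) m₀) = 0 := by
      rw [map_sub, germ_smul, germ_chartRes, germ_chartRes, TopCat.Presheaf.germ_res_apply,
        sub_eq_zero, ← hma', hs (xp p) hxU₂, germ_chartRes]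
    obtain ⟨g, hg, hgd⟩ := (germ_eq_zero_iff f U₂ V₂ e₂ (xp p) hxU₂ _).1 hd
    have hxg : xp p ∈ X.basicOpen g := (mem_basicOpen_iff_notMem_primeIdealOf U₂.2 _ hxU₂ g).2 hg
    refine ⟨U.2.fromSpec ⁻¹ᵁ X.basicOpen g ⊓ PrimeSpectrum.basicOpen a.1, ⟨hxg, a.2⟩, m₀, a.1,
      fun q hq => ⟨hq.2, ?_⟩⟩
    have hy₂ : xp q ∈ X.basicOpen g := hq.1
    have hyU₂ : xp q ∈ (U₂ : X.Opens) := X.basicOpen_le g hy₂
    have hunit : IsUnit (X.presheaf.germ (U₂ : X.Opens) (xp q) hyU₂ g) :=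
      (X.mem_basicOpen g (xp q) hyU₂).1 hy₂
    have h0 := congrArg (germ f U₂ V₂ e₂ (xp q) hyU₂) hgd
    rw [germ_smul, map_zero] at h0
    have h1 := hunit.smul_eq_zero.1 h0
    rw [map_sub, germ_smul, germ_chartRes, germ_chartRes, TopCat.Presheaf.germ_res_apply,
      sub_eq_zero, ← germ_chartRes f e₁ e₂ hU₂U₁ (hV₂.trans inf_le_right) (xp q) hyU₂ t₁,
      ← hs (xp q) hyU₂] at h1
    refine Eq.trans ?_ h1
    exact (algebraMap_smul (X.presheaf.stalk (xp q)) a.1 (s.1 ⟨xp q, hxp q⟩)).symm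
  obtain ⟨m, hm⟩ := @ModGlue.exists_of_locally_fraction Γ(X, (U : X.Opens)) (NLCx.ChartH1 f U V e)
    _ _ _ (fun p => T f (xp p)) (fun p => inferInstance) (fun p => inferInstance)
    (fun p => germL f U V e (xp p) (hxp p)) hloc (fun p => s.1 ⟨xp p, hxp p⟩) hfrac
  refine ⟨m, Subtype.ext (funext fun x => ?_)⟩
  obtain ⟨x, hx⟩ := x
  have key : ∀ (y : X) (hy : y ∈ (U : X.Opens)), y = x →
      germ f U V e y hy m = s.1 ⟨y, hy⟩ → germ f U V e x hx m = s.1 ⟨x, hx⟩ := by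
    intro y hy h
    subst h
    exact id
  exact key _ (hxp (U.2.primeIdealOf ⟨x, hx⟩)) (U.2.fromSpec_primeIdealOf ⟨x, hx⟩)
    (hm (U.2.primeIdealOf ⟨x, hx⟩))

theorem θ_bijective (U : X.affineOpens) (V : Y.affineOpens)
    (e : (U : X.Opens) ≤ f ⁻¹ᵁ (V : Y.Opens)) : Function.Bijective (θ f U V e) :=
  ⟨θ_injective f U V e, θ_surjective f U V e⟩

theorem θ_smul (U : X.affineOpens) (V : Y.affineOpens)
    (e : (U : X.Opens) ≤ f ⁻¹ᵁ (V : Y.Opens)) (a : Γ(X, (U : X.Opens)))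
    (t : NLCx.ChartH1 f U V e) : θ f U V e (a • t) = a • θ f U V e t :=
  Subtype.ext (funext fun x => germ_smul f U V e x.1 x.2 a t)

theorem θ_chartRes {U U' : X.affineOpens} {V V' : Y.affineOpens}
    (e : (U : X.Opens) ≤ f ⁻¹ᵁ (V : Y.Opens)) (e' : (U' : X.Opens) ≤ f ⁻¹ᵁ (V' : Y.Opens))
    (hU : (U' : X.Opens) ≤ (U : X.Opens)) (hV : (V' : Y.Opens) ≤ (V : Y.Opens))
    (t : NLCx.ChartH1 f U V e) :
    θ f U' V' e' (NLCx.chartRes e e' hU hV t) = (F f).val.map (homOfLE hU).op (θ f U V e t) :=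
  Subtype.ext (funext fun x => germ_chartRes f e e' hU hV x.1 x.2 t)

/-- the module `F f` carries the structure of the cohomology sheaf `H^{-1}(NL_{X/Y})`. -/
noncomputable def h1Sheaf : NLCx.H1Sheaf f (F f) where
  iso U V e := (AddEquiv.ofBijective (θ f U V e) (θ_bijective f U V e)).symm
  map_smul U V e a m := by
    obtain ⟨t, rfl⟩ := θ_surjective f U V e m
    have h1 : (AddEquiv.ofBijective (θ f U V e) (θ_bijective f U V e)).symm (θ f U V e t) = t :=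
      (AddEquiv.ofBijective (θ f U V e) (θ_bijective f U V e)).symm_apply_apply t
    have h2 : (AddEquiv.ofBijective (θ f U V e) (θ_bijective f U V e)).symm (θ f U V e (a • t)) =
        a • t :=
      (AddEquiv.ofBijective (θ f U V e) (θ_bijective f U V e)).symm_apply_apply (a • t)
    have h3 := congrArg (AddEquiv.ofBijective (θ f U V e) (θ_bijective f U V e)).symm
      (θ_smul f U V e a t)
    exact (h3.symm.trans h2).trans (congrArg (a • ·) h1.symm)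
  map_res {U U' V V'} e e' hU hV m := by
    obtain ⟨t, rfl⟩ := θ_surjective f U V e m
    have h1 : (AddEquiv.ofBijective (θ f U V e) (θ_bijective f U V e)).symm (θ f U V e t) = t :=
      (AddEquiv.ofBijective (θ f U V e) (θ_bijective f U V e)).symm_apply_apply t
    have h2 : (AddEquiv.ofBijective (θ f U' V' e') (θ_bijective f U' V' e')).symm
        (θ f U' V' e' (NLCx.chartRes e e' hU hV t)) = NLCx.chartRes e e' hU hV t :=
      (AddEquiv.ofBijective (θ f U' V' e') (θ_bijective f U' V' e')).symm_apply_apply _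
    have h3 := congrArg (AddEquiv.ofBijective (θ f U' V' e') (θ_bijective f U' V' e')).symm
      (θ_chartRes f e e' hU hV t)
    exact (h3.symm.trans h2).trans (congrArg (NLCx.chartRes e e' hU hV) h1.symm)

theorem exists_h1Sheaf : ∃ G : X.Modules, Nonempty (NLCx.H1Sheaf f G) := ⟨F f, ⟨h1Sheaf f⟩⟩

end Groth.Agent.H59.H1Sh
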