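import Mathlib

/-!
# The canonical map from the kernel of `A → B` to `H¹(L_{B/A})` (helper59)

For an `A`-algebra `B` and `x ∈ ker (A → B)`, the constant polynomial `x` lies in the kernel of the
canonical presentation `A[B] → B` and its class in the conormal module is killed by the differential:
this gives `κ : ker (A → B) → H¹(L_{B/A})`.  It is additive, semilinear, natural, and induces a
bijection `B ⊗[A] ker → H¹(L_{B/A})` when `A → B` is surjective.
-/

set_option autoImplicit false
set_option linter.style.haveILetI false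
universe u

namespace Groth.Agent.H59.KerToH1

open Algebra TensorProduct

section Def

variable (A B : Type u) [CommRing A] [CommRing B] [Algebra A B]

/-- the canonical presentation. -/
noncomputable abbrev P : Extension.{u} A B := (Generators.self A B).toExtension

theorem const_mem_ker (x : A) (hx : algebraMap A B x = 0) :
    algebraMap A (P A B).Ring x ∈ (P A B).ker := by
  change algebraMap (P A B).Ring B (algebraMap A (P A B).Ring x) = 0
  rw [← IsScalarTower.algebraMap_apply]
  exact hx

/-- the class of a constant in the conormal module of the canonical presentation. -/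
noncomputable def κ₀ (x : RingHom.ker (algebraMap A B)) : (P A B).Cotangent :=
  Extension.Cotangent.mk ⟨algebraMap A (P A B).Ring x.1, const_mem_ker A B x.1 x.2⟩

theorem cotangentComplex_κ₀ (x : RingHom.ker (algebraMap A B)) :
    (P A B).cotangentComplex (κ₀ A B x) = 0 := by
  unfold κ₀
  rw [Extension.cotangentComplex_mk]
  change (1 : B) ⊗ₜ[(P A B).Ring] (KaehlerDifferential.D A (P A B).Ring)
    (algebraMap A (P A B).Ring x.1) = 0
  rw [Derivation.map_algebraMap, tmul_zero]

/-- the canonical map `ker (A → B) → H¹(L_{B/A})`. -/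
noncomputable def κ (x : RingHom.ker (algebraMap A B)) : H1Cotangent A B :=
  ⟨κ₀ A B x, cotangentComplex_κ₀ A B x⟩

theorem κ_val (x : RingHom.ker (algebraMap A B)) : (κ A B x).1 = κ₀ A B x := rfl

theorem κ_add (x y : RingHom.ker (algebraMap A B)) : κ A B (x + y) = κ A B x + κ A B y := by
  apply Subtype.ext
  change κ₀ A B (x + y) = κ₀ A B x + κ₀ A B y
  unfold κ₀
  rw [← map_add]
  congr 1
  apply Subtype.ext
  exact map_add (algebraMap A (P A B).Ring) x.1 y.1

theorem κ_mul (a : A) (x : RingHom.ker (algebraMap A B)) :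
    κ A B ⟨a * x.1, Ideal.mul_mem_left _ a x.2⟩ = algebraMap A B a • κ A B x := by
  apply Subtype.ext
  change κ₀ A B _ = algebraMap A B a • κ₀ A B x
  unfold κ₀
  have h : (⟨algebraMap A (P A B).Ring (a * x.1),
      const_mem_ker A B _ (Ideal.mul_mem_left _ a x.2)⟩ : (P A B).ker) =
      (algebraMap A (P A B).Ring a) •
        (⟨algebraMap A (P A B).Ring x.1, const_mem_ker A B x.1 x.2⟩ : (P A B).ker) := by
    apply Subtype.ext
    exact map_mul (algebraMap A (P A B).Ring) a x.1
  rw [h, map_smul, algebraMap_smul, ← algebraMap_smul B a]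

/-- `κ` as an `A`-linear map. -/
noncomputable def κL : RingHom.ker (algebraMap A B) →ₗ[A] H1Cotangent A B where
  toFun := κ A B
  map_add' := κ_add A B
  map_smul' a x := by
    have h := κ_mul A B a x
    rw [RingHom.id_apply, ← algebraMap_smul B a (κ A B x)]
    exact h

end Def

section Nat

variable (A A' B B' : Type u) [CommRing A] [CommRing A'] [CommRing B] [CommRing B']
  [Algebra A B] [Algebra A' B'] [Algebra A A'] [Algebra B B'] [Algebra A B']
  [IsScalarTower A A' B'] [IsScalarTower A B B']

theorem algebraMap_mem_ker (x : RingHom.ker (algebraMap A B)) :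
    algebraMap A A' x.1 ∈ RingHom.ker (algebraMap A' B') := by
  rw [RingHom.mem_ker, ← IsScalarTower.algebraMap_apply, IsScalarTower.algebraMap_apply A B B',
    (RingHom.mem_ker.1 x.2), map_zero]

/-- naturality of `κ`. -/
theorem h1map_κ (x : RingHom.ker (algebraMap A B)) :
    H1Cotangent.map A A' B B' (κ A B x) =
      κ A' B' ⟨algebraMap A A' x.1, algebraMap_mem_ker A A' B B' x⟩ := by
  apply Subtype.ext
  change Extension.Cotangent.map _ (κ₀ A B x) = κ₀ A' B' _
  unfold κ₀
  rw [Extension.Cotangent.map_mk]
  congr 1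
  apply Subtype.ext
  exact Extension.Hom.toRingHom_algebraMap _ x.1

end Nat


section Surj

variable (A B : Type u) [CommRing A] [CommRing B] [Algebra A B]

/-- the comparison map `B ⊗[A] ker (A → B) → H¹(L_{B/A})`. -/
noncomputable def ψ : B ⊗[A] (RingHom.ker (algebraMap A B)) →ₗ[B] H1Cotangent A B :=
  (κL A B).liftBaseChange B

theorem ψ_tmul (b : B) (x : RingHom.ker (algebraMap A B)) : ψ A B (b ⊗ₜ x) = b • κ A B x := by
  rw [ψ, LinearMap.liftBaseChange_tmul]
  rfl

theorem ψ_one_tmul (x : RingHom.ker (algebraMap A B)) : ψ A B (1 ⊗ₜ x) = κ A B x := by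
  rw [ψ_tmul, one_smul]

variable (h : Function.Surjective (algebraMap A B))

/-- the extension `A → B` itself. -/
noncomputable abbrev Q : Extension.{u} A B := Extension.ofSurjective (Algebra.ofId A B) h

/-- the comparison of the extension `A → B` with the canonical presentation. -/
noncomputable def g : (Q A B h).Hom (P A B) where
  toRingHom := algebraMap A (P A B).Ring
  toRingHom_algebraMap _ := rfl
  algebraMap_toRingHom x := by
    change algebraMap (P A B).Ring B (algebraMap A (P A B).Ring x) = algebraMap A B x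
    rw [← IsScalarTower.algebraMap_apply]

theorem h1map_g_bijective :
    Function.Bijective (Extension.H1Cotangent.map (g A B h)) := by
  haveI : FormallySmooth A (Q A B h).Ring := inferInstanceAs (FormallySmooth A A)
  haveI : FormallySmooth A (P A B).Ring := inferInstanceAs (FormallySmooth A (MvPolynomial B A))
  have := (Extension.H1Cotangent.equivOfFormallySmooth (Q A B h) (P A B)).bijective
  convert this using 1
  ext x
  rw [Extension.H1Cotangent.equivOfFormallySmooth_apply (g A B h)]


theorem cotangentComplex_Q_eq_zero (q : (Q A B h).Cotangent) :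
    (Q A B h).cotangentComplex q = 0 := by
  obtain ⟨x, rfl⟩ := Extension.Cotangent.mk_surjective q
  rw [Extension.cotangentComplex_mk]
  haveI : Subsingleton Ω[(Q A B h).Ring⁄A] :=
    KaehlerDifferential.subsingleton_of_surjective A A Function.surjective_id
  change (1 : B) ⊗ₜ[(Q A B h).Ring] (KaehlerDifferential.D A (Q A B h).Ring) x.1 = 0
  rw [Subsingleton.elim ((KaehlerDifferential.D A (Q A B h).Ring) x.1) 0, tmul_zero]

/-- an element of the kernel, as an element of `H¹` of the extension `A → B`. -/
noncomputable def qOf (x : RingHom.ker (algebraMap A B)) : (Q A B h).H1Cotangent :=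
  ⟨Extension.Cotangent.mk ⟨x.1, x.2⟩, cotangentComplex_Q_eq_zero A B h _⟩

theorem h1map_g_qOf (x : RingHom.ker (algebraMap A B)) :
    Extension.H1Cotangent.map (g A B h) (qOf A B h x) = κ A B x := by
  apply Subtype.ext
  change Extension.Cotangent.map (g A B h) (Extension.Cotangent.mk _) = κ₀ A B x
  rw [Extension.Cotangent.map_mk]
  rfl

include h in
theorem exists_one_tmul_eq (t : B ⊗[A] (RingHom.ker (algebraMap A B))) :
    ∃ x : RingHom.ker (algebraMap A B), t = 1 ⊗ₜ x := by
  induction t using TensorProduct.induction_on with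
  | zero => exact ⟨0, (tmul_zero _ _).symm⟩
  | tmul b x =>
    obtain ⟨a, rfl⟩ := h b
    refine ⟨a • x, ?_⟩
    rw [← smul_tmul, Algebra.algebraMap_eq_smul_one]
  | add x y hx hy =>
    obtain ⟨x', rfl⟩ := hx
    obtain ⟨y', rfl⟩ := hy
    exact ⟨x' + y', (tmul_add _ _ _).symm⟩

include h in
theorem ψ_surjective : Function.Surjective (ψ A B) := by
  intro y
  obtain ⟨q, hq⟩ := (h1map_g_bijective A B h).2 y
  obtain ⟨x, hx⟩ := Extension.Cotangent.mk_surjective q.1
  refine ⟨1 ⊗ₜ ⟨x.1, x.2⟩, ?_⟩
  rw [ψ_one_tmul, ← hq, ← h1map_g_qOf A B h]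
  congr 1
  apply Subtype.ext
  exact hx

include h in
theorem ψ_injective : Function.Injective (ψ A B) := by
  rw [injective_iff_map_eq_zero]
  intro t ht
  obtain ⟨x, rfl⟩ := exists_one_tmul_eq A B h t
  rw [ψ_one_tmul, ← h1map_g_qOf A B h] at ht
  have h0 : qOf A B h x = 0 := (h1map_g_bijective A B h).1 (ht.trans (map_zero _).symm)
  have h1 : Extension.Cotangent.mk (P := Q A B h) ⟨x.1, x.2⟩ = 0 := congrArg Subtype.val h0
  rw [Extension.Cotangent.mk_eq_zero_iff] at h1
  have hx : x ∈ (RingHom.ker (algebraMap A B)) •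
      (⊤ : Submodule A (RingHom.ker (algebraMap A B))) := by
    rw [Submodule.mem_smul_top_iff, smul_eq_mul, ← pow_two]
    exact h1
  refine Submodule.smul_induction_on hx (fun a ha y _ => ?_) (fun y z hy hz => ?_)
  · rw [← smul_tmul, Algebra.smul_def, mul_one, RingHom.mem_ker.1 ha, zero_tmul]
  · rw [tmul_add, hy, hz, add_zero]

include h in
theorem ψ_bijective : Function.Bijective (ψ A B) := ⟨ψ_injective A B h, ψ_surjective A B h⟩

end Surj

end Groth.Agent.H59.KerToH1
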