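import Mathlib
import Groth.Agent.H59.H1Sheaf
import Groth.Agent.H59.KerToH1

/-!
# Sections of `H^{-1}(NL_{Z/X})` defined by functions vanishing on `Z` (helper59)

For `i : Z ⟶ X`, opens `U ⊆ Z`, `V ⊆ X` with `U ⊆ i⁻¹V` and a function `a` on `V` whose pullback to `U`
vanishes, `sec i V U e a ha : Γ(H1Sh.F i, U)` is the section whose value at `z` is the class `κ` of the
germ of `a`.  It is additive, semilinear and compatible with restriction, and on affine chart pairs it
is `θ (κ a)` (`germ_κ`).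
-/

set_option autoImplicit false
set_option linter.style.haveILetI false
universe u

open CategoryTheory CategoryTheory.Limits TensorProduct AlgebraicGeometry Opposite TopologicalSpace

namespace Groth.Agent.H59.CnH1

open Groth.Agent.H59.H1Sh Groth.Agent.H59.KerToH1

variable {Z X : Scheme.{u}} (i : Z ⟶ X)

section KerGerm

variable (V : X.Opens) (U : Z.Opens) (e : U ≤ i ⁻¹ᵁ V) (a : Γ(X, V)) (ha : i.appLE V U e a = 0)

/-- the germ of a function vanishing on `U ⊆ Z`, as an element of the kernel of the stalk map. -/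
noncomputable def kerGerm (z : Z) (hz : z ∈ U) :
    letI := stalkAlg i z
    RingHom.ker (algebraMap (X.presheaf.stalk (i z)) (Z.presheaf.stalk z)) :=
  letI := stalkAlg i z
  ⟨X.presheaf.germ V (i z) (e hz) a, by
    change (i.stalkMap z).hom (X.presheaf.germ V (i z) (e hz) a) = 0
    have h := congr($(appLE_germ i e z hz) a)
    rw [CommRingCat.comp_apply, CommRingCat.comp_apply, ha, map_zero] at h
    exact h.symm⟩

/-- the family of classes in the stalks of `H^{-1}(NL_{Z/X})` of a function vanishing on `U`. -/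
noncomputable def secFun : ∀ z : U, T i z.1 := fun z =>
  letI := stalkAlg i z.1
  κ (X.presheaf.stalk (i z.1)) (Z.presheaf.stalk z.1) (kerGerm i V U e a ha z.1 z.2)

end KerGerm

theorem germ_κ (U : Z.affineOpens) (V : X.affineOpens)
    (e : (U : Z.Opens) ≤ i ⁻¹ᵁ (V : X.Opens)) (a : Γ(X, (V : X.Opens)))
    (ha : i.appLE (V : X.Opens) (U : Z.Opens) e a = 0) (z : Z) (hz : z ∈ (U : Z.Opens)) :
    letI := (i.appLE (V : X.Opens) (U : Z.Opens) e).hom.toAlgebra
    germ i U V e z hz (κ Γ(X, (V : X.Opens)) Γ(Z, (U : Z.Opens)) ⟨a, RingHom.mem_ker.2 ha⟩) =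
      secFun i (V : X.Opens) (U : Z.Opens) e a ha ⟨z, hz⟩ := by
  letI := (i.appLE (V : X.Opens) (U : Z.Opens) e).hom.toAlgebra
  letI := stalkAlg i z
  letI : Algebra Γ(X, (V : X.Opens)) (X.presheaf.stalk (i z)) :=
    (X.presheaf.germ (V : X.Opens) (i z) (e hz)).hom.toAlgebra
  letI : Algebra Γ(Z, (U : Z.Opens)) (Z.presheaf.stalk z) :=
    (Z.presheaf.germ (U : Z.Opens) z hz).hom.toAlgebra
  letI : Algebra Γ(X, (V : X.Opens)) (Z.presheaf.stalk z) :=
    ((Z.presheaf.germ (U : Z.Opens) z hz).hom.comp (i.appLE (V : X.Opens) (U : Z.Opens) e).hom).toAlgebra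
  haveI : IsScalarTower Γ(X, (V : X.Opens)) Γ(Z, (U : Z.Opens)) (Z.presheaf.stalk z) :=
    IsScalarTower.of_algebraMap_eq' rfl
  haveI : IsScalarTower Γ(X, (V : X.Opens)) (X.presheaf.stalk (i z)) (Z.presheaf.stalk z) :=
    IsScalarTower.of_algebraMap_eq' (by
      change (Z.presheaf.germ (U : Z.Opens) z hz).hom.comp (i.appLE (V : X.Opens) (U : Z.Opens) e).hom =
        (i.stalkMap z).hom.comp (X.presheaf.germ (V : X.Opens) (i z) (e hz)).hom
      rw [← CommRingCat.hom_comp, ← CommRingCat.hom_comp, appLE_germ])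
  exact h1map_κ Γ(X, (V : X.Opens)) (X.presheaf.stalk (i z)) Γ(Z, (U : Z.Opens))
    (Z.presheaf.stalk z) ⟨a, RingHom.mem_ker.2 ha⟩


section Sec

variable (V : X.Opens) (U : Z.Opens) (e : U ≤ i ⁻¹ᵁ V) (a : Γ(X, V)) (ha : i.appLE V U e a = 0)

include ha in
theorem appLE_res_eq_zero {V' : X.Opens} {U' : Z.Opens} (e' : U' ≤ i ⁻¹ᵁ V') (hU : U' ≤ U)
    (hV : V' ≤ V) : i.appLE V' U' e' (X.presheaf.map (homOfLE hV).op a) = 0 := by
  have h1 : X.presheaf.map (homOfLE hV).op ≫ i.appLE V' U' e' =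
      i.appLE V U e ≫ Z.presheaf.map (homOfLE hU).op := by
    rw [Scheme.Hom.map_appLE, Scheme.Hom.appLE_map]
  have h2 := congr($h1 a)
  rw [CommRingCat.comp_apply, CommRingCat.comp_apply, ha, map_zero] at h2
  exact h2

theorem secFun_res {V' : X.Opens} {U' : Z.Opens} (e' : U' ≤ i ⁻¹ᵁ V') (hU : U' ≤ U)
    (hV : V' ≤ V) (z : Z) (hz : z ∈ U') :
    secFun i V' U' e' (X.presheaf.map (homOfLE hV).op a)
      (appLE_res_eq_zero i V U e a ha e' hU hV) ⟨z, hz⟩ = secFun i V U e a ha ⟨z, hU hz⟩ := by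
  letI := stalkAlg i z
  unfold secFun
  congr 1
  apply Subtype.ext
  exact TopCat.Presheaf.germ_res_apply X.presheaf (homOfLE hV) (i z) (e' hz) a

theorem secFun_pred : (loc i).pred (secFun i V U e a ha) := fun z => by
  obtain ⟨U₁, V₁, e₁, hzU₁, hU₁U, hV₁V⟩ := exists_chart i z.1 U z.2 V (e z.2)
  letI := (i.appLE (V₁ : X.Opens) (U₁ : Z.Opens) e₁).hom.toAlgebra
  refine ⟨U₁, hzU₁, homOfLE hU₁U, U₁, V₁, e₁, le_rfl,
    κ Γ(X, (V₁ : X.Opens)) Γ(Z, (U₁ : Z.Opens)) ⟨X.presheaf.map (homOfLE hV₁V).op a,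
      RingHom.mem_ker.2 (appLE_res_eq_zero i V U e a ha e₁ hU₁U hV₁V)⟩, fun y => ?_⟩
  rw [germ_κ]
  exact (secFun_res i V U e a ha e₁ hU₁U hV₁V y.1 y.2).symm

/-- the section of `H^{-1}(NL_{Z/X})` over `U` given by a function on `V ⊇ i(U)` vanishing on `U`. -/
noncomputable def sec : Γ(F i, U) := ⟨secFun i V U e a ha, secFun_pred i V U e a ha⟩

theorem sec_apply (z : U) : (sec i V U e a ha).1 z = secFun i V U e a ha z := rfl

end Sec


section SecProps

variable (V : X.Opens) (U : Z.Opens) (e : U ≤ i ⁻¹ᵁ V)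

theorem sec_congr {a b : Γ(X, V)} (hab : a = b) (ha : i.appLE V U e a = 0)
    (hb : i.appLE V U e b = 0) : sec i V U e a ha = sec i V U e b hb := by
  subst hab
  rfl

theorem sec_add (a b : Γ(X, V)) (ha : i.appLE V U e a = 0) (hb : i.appLE V U e b = 0)
    (hab : i.appLE V U e (a + b) = 0) :
    sec i V U e (a + b) hab = sec i V U e a ha + sec i V U e b hb := by
  apply Subtype.ext
  funext z
  letI := stalkAlg i z.1
  change κ _ _ (kerGerm i V U e (a + b) hab z.1 z.2) =
    κ _ _ (kerGerm i V U e a ha z.1 z.2) + κ _ _ (kerGerm i V U e b hb z.1 z.2)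
  rw [← κ_add]
  congr 1
  apply Subtype.ext
  exact map_add (X.presheaf.germ V (i z.1) (e z.2)).hom a b

theorem sec_smul (r a : Γ(X, V)) (ha : i.appLE V U e a = 0) (hra : i.appLE V U e (r * a) = 0) :
    sec i V U e (r * a) hra = (i.appLE V U e r) • sec i V U e a ha := by
  apply Subtype.ext
  funext z
  letI := stalkAlg i z.1
  change κ _ _ (kerGerm i V U e (r * a) hra z.1 z.2) =
    Z.presheaf.germ U z.1 z.2 (i.appLE V U e r) • κ _ _ (kerGerm i V U e a ha z.1 z.2)
  have h1 : Z.presheaf.germ U z.1 z.2 (i.appLE V U e r) =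
      algebraMap (X.presheaf.stalk (i z.1)) (Z.presheaf.stalk z.1)
        (X.presheaf.germ V (i z.1) (e z.2) r) := by
    have h := congr($(appLE_germ i e z.1 z.2) r)
    rw [CommRingCat.comp_apply, CommRingCat.comp_apply] at h
    exact h
  rw [h1, ← κ_mul]
  congr 1
  apply Subtype.ext
  exact map_mul (X.presheaf.germ V (i z.1) (e z.2)).hom r a

theorem sec_res (a : Γ(X, V)) (ha : i.appLE V U e a = 0) {V' : X.Opens} {U' : Z.Opens}
    (e' : U' ≤ i ⁻¹ᵁ V') (hU : U' ≤ U) (hV : V' ≤ V) :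
    (F i).presheaf.map (homOfLE hU).op (sec i V U e a ha) =
      sec i V' U' e' (X.presheaf.map (homOfLE hV).op a)
        (appLE_res_eq_zero i V U e a ha e' hU hV) := by
  apply Subtype.ext
  funext z
  exact (secFun_res i V U e a ha e' hU hV z.1 z.2).symm

end SecProps

end Groth.Agent.H59.CnH1
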