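import Mathlib

/-!
# The quotient of a graded ring (pieces: additive subgroups) by a homogeneous ideal is graded
-/

set_option autoImplicit false
set_option linter.unusedSectionVars false

namespace Groth.Agent.H59.GrQ

open DirectSum

variable {ι : Type*} [DecidableEq ι] [AddMonoid ι] {A : Type*} [CommRing A]
  (𝒜 : ι → AddSubgroup A) (I : Ideal A)

/-- the pieces of the quotient: images of the pieces. -/
def qgr (i : ι) : AddSubgroup (A ⧸ I) := (𝒜 i).map (Ideal.Quotient.mk I).toAddMonoidHom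

theorem mk_mem_qgr {i : ι} {a : A} (ha : a ∈ 𝒜 i) : Ideal.Quotient.mk I a ∈ qgr 𝒜 I i :=
  ⟨a, ha, rfl⟩

theorem exists_of_mem_qgr {i : ι} {b : A ⧸ I} (hb : b ∈ qgr 𝒜 I i) :
    ∃ a ∈ 𝒜 i, Ideal.Quotient.mk I a = b := by
  obtain ⟨a, ha, rfl⟩ := hb
  exact ⟨a, ha, rfl⟩

variable [GradedRing 𝒜]

instance gradedMonoid : SetLike.GradedMonoid (qgr 𝒜 I) where
  one_mem := ⟨1, SetLike.GradedOne.one_mem, map_one (Ideal.Quotient.mk I)⟩
  mul_mem := by
    rintro i j _ _ ⟨a, ha, rfl⟩ ⟨b, hb, rfl⟩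
    exact ⟨a * b, SetLike.GradedMul.mul_mem ha hb, map_mul (Ideal.Quotient.mk I) a b⟩

variable {I} in
theorem isInternal (hI : I.IsHomogeneous 𝒜) : DirectSum.IsInternal (qgr 𝒜 I) := by
  classical
  constructor
  · rw [injective_iff_map_eq_zero]
    intro x hx
    have hch : ∀ n : ι, ∃ a ∈ 𝒜 n, Ideal.Quotient.mk I a = (x n : A ⧸ I) :=
      fun n => exists_of_mem_qgr 𝒜 I (x n).2
    choose a ha hax using hch
    have hsum : (DirectSum.coeAddMonoidHom (qgr 𝒜 I)) x =
        Ideal.Quotient.mk I (∑ n ∈ x.support, a n) := by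
      rw [map_sum]
      conv_lhs => rw [← DirectSum.sum_support_of x]
      rw [map_sum]
      refine Finset.sum_congr rfl fun n _ => ?_
      rw [DirectSum.coeAddMonoidHom_of, hax]
    rw [hsum, Ideal.Quotient.eq_zero_iff_mem] at hx
    ext m
    by_cases hm : m ∈ x.support
    · have h1 := hI m hx
      rw [DirectSum.decompose_sum, DFinsupp.finsetSum_apply, AddSubmonoidClass.coe_finsetSum] at h1
      have h2 : ∀ n ∈ x.support, ((DirectSum.decompose 𝒜 (a n)) m : A) = if n = m then a m else 0 := by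
        intro n _
        split_ifs with h
        · subst h; rw [DirectSum.decompose_of_mem_same 𝒜 (ha n)]
        · rw [DirectSum.decompose_of_mem_ne 𝒜 (ha n) h]
      rw [Finset.sum_congr rfl h2, Finset.sum_ite_eq' x.support m, if_pos hm] at h1
      rw [DirectSum.zero_apply, ZeroMemClass.coe_zero, ← hax, Ideal.Quotient.eq_zero_iff_mem]
      exact h1
    · rw [DFinsupp.notMem_support_iff] at hm
      rw [hm]; rfl
  · intro b
    obtain ⟨a, rfl⟩ := Ideal.Quotient.mk_surjective b
    refine ⟨∑ n ∈ (DirectSum.decompose 𝒜 a).support,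
      DirectSum.of (fun n => qgr 𝒜 I n) n
        ⟨Ideal.Quotient.mk I (DirectSum.decompose 𝒜 a n), mk_mem_qgr 𝒜 I (Subtype.prop _)⟩, ?_⟩
    rw [map_sum]
    conv_rhs => rw [← DirectSum.sum_support_decompose 𝒜 a, map_sum]
    refine Finset.sum_congr rfl fun n _ => ?_
    rw [DirectSum.coeAddMonoidHom_of]

variable {I} in
/-- The quotient of a graded ring by a homogeneous ideal is graded. -/
@[reducible] noncomputable def gradedRing (hI : I.IsHomogeneous 𝒜) : GradedRing (qgr 𝒜 I) :=
  { gradedMonoid 𝒜 I with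
    toDecomposition := (isInternal 𝒜 hI).chooseDecomposition }

end Groth.Agent.H59.GrQ
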