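import Mathlib

/-!
# Regrading an `ℕ`-graded algebra by `ℤ`, with additive subgroups as pieces
-/

set_option autoImplicit false

namespace Groth.Agent.H59.GrZ

open DirectSum

variable {K : Type*} {A : Type*} [CommRing K] [CommRing A] [Algebra K A]
  (𝒜 : ℕ → Submodule K A)

/-- the `ℤ`-indexed pieces: zero in negative degrees. -/
def zgr (n : ℤ) : AddSubgroup A := if 0 ≤ n then (𝒜 n.toNat).toAddSubgroup else ⊥

theorem mem_zgr_of_nonneg {n : ℤ} (hn : 0 ≤ n) {x : A} : x ∈ zgr 𝒜 n ↔ x ∈ 𝒜 n.toNat := by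
  unfold zgr
  rw [if_pos hn]
  rfl

theorem mem_zgr_natCast {n : ℕ} {x : A} : x ∈ zgr 𝒜 (n : ℤ) ↔ x ∈ 𝒜 n := by
  rw [mem_zgr_of_nonneg 𝒜 (Int.natCast_nonneg n), Int.toNat_natCast]

theorem mem_zgr_of_neg {n : ℤ} (hn : n < 0) {x : A} : x ∈ zgr 𝒜 n ↔ x = 0 := by
  unfold zgr
  rw [if_neg (not_le.mpr hn)]
  exact AddSubgroup.mem_bot

theorem zgr_of_neg {n : ℤ} (hn : n < 0) : zgr 𝒜 n = ⊥ := by
  unfold zgr
  rw [if_neg (not_le.mpr hn)]

variable [GradedAlgebra 𝒜]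

instance gradedMonoid : SetLike.GradedMonoid (zgr 𝒜) where
  one_mem := by
    have h : (1 : A) ∈ zgr 𝒜 ((0 : ℕ) : ℤ) := (mem_zgr_natCast 𝒜).mpr SetLike.GradedOne.one_mem
    exact_mod_cast h
  mul_mem := by
    intro i j a b ha hb
    by_cases hi : 0 ≤ i
    · by_cases hj : 0 ≤ j
      · obtain ⟨n, rfl⟩ := Int.eq_ofNat_of_zero_le hi
        obtain ⟨m, rfl⟩ := Int.eq_ofNat_of_zero_le hj
        rw [← Nat.cast_add, mem_zgr_natCast]
        exact SetLike.GradedMul.mul_mem ((mem_zgr_natCast 𝒜).mp ha) ((mem_zgr_natCast 𝒜).mp hb)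
      · rw [(mem_zgr_of_neg 𝒜 (not_le.mp hj)).mp hb, mul_zero]
        exact zero_mem _
    · rw [(mem_zgr_of_neg 𝒜 (not_le.mp hi)).mp ha, zero_mul]
      exact zero_mem _

/-- inclusion of the pieces. -/
def incl (n : ℕ) : 𝒜 n →+ zgr 𝒜 (n : ℤ) where
  toFun x := ⟨x.1, (mem_zgr_natCast 𝒜).mpr x.2⟩
  map_zero' := rfl
  map_add' _ _ := rfl

/-- reindexing the direct sum. -/
noncomputable def toZ : (⨁ n : ℕ, 𝒜 n) →+ ⨁ z : ℤ, zgr 𝒜 z :=
  DirectSum.toAddMonoid fun n => (DirectSum.of (fun z => zgr 𝒜 z) (n : ℤ)).comp (incl 𝒜 n)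

theorem toZ_of (n : ℕ) (x : 𝒜 n) :
    toZ 𝒜 (DirectSum.of (fun n => 𝒜 n) n x) = DirectSum.of (fun z => zgr 𝒜 z) (n : ℤ) (incl 𝒜 n x) := by
  unfold toZ
  rw [DirectSum.toAddMonoid_of]
  rfl

theorem coe_toZ (y : ⨁ n : ℕ, 𝒜 n) :
    DirectSum.coeAddMonoidHom (zgr 𝒜) (toZ 𝒜 y) = DirectSum.coeAddMonoidHom 𝒜 y := by
  have h : (DirectSum.coeAddMonoidHom (zgr 𝒜)).comp (toZ 𝒜) = DirectSum.coeAddMonoidHom 𝒜 := by
    apply DirectSum.addHom_ext
    intro n x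
    rw [AddMonoidHom.comp_apply, toZ_of, DirectSum.coeAddMonoidHom_of, DirectSum.coeAddMonoidHom_of]
    rfl
  exact DFunLike.congr_fun h y

noncomputable instance decomposition : DirectSum.Decomposition (zgr 𝒜) :=
  DirectSum.Decomposition.ofAddHom (zgr 𝒜)
    ((toZ 𝒜).comp (DirectSum.decomposeAddEquiv 𝒜).toAddMonoidHom)
    (by
      ext a
      simp only [AddMonoidHom.comp_apply, AddMonoidHom.id_apply]
      rw [coe_toZ]
      exact DirectSum.Decomposition.left_inv (ℳ := 𝒜) a)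
    (by
      apply DirectSum.addHom_ext
      intro z y
      simp only [AddMonoidHom.comp_apply, AddMonoidHom.id_apply]
      rw [DirectSum.coeAddMonoidHom_of]
      by_cases hz : 0 ≤ z
      · obtain ⟨n, rfl⟩ := Int.eq_ofNat_of_zero_le hz
        have hy : (y : A) ∈ 𝒜 n := (mem_zgr_natCast 𝒜).mp y.2
        have h1 : (DirectSum.decomposeAddEquiv 𝒜).toAddMonoidHom (y : A)
            = DirectSum.of (fun n => 𝒜 n) n ⟨y, hy⟩ := DirectSum.decompose_of_mem 𝒜 hy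
        rw [h1, toZ_of]
        rfl
      · have hy : (y : A) = 0 := (mem_zgr_of_neg 𝒜 (not_le.mp hz)).mp y.2
        have hy' : y = 0 := Subtype.ext hy
        rw [hy']
        simp)

noncomputable instance gradedRing : GradedRing (zgr 𝒜) where

theorem toZ_apply_natCast (y : ⨁ n : ℕ, 𝒜 n) (n : ℕ) :
    ((toZ 𝒜 y (n : ℤ) : zgr 𝒜 (n : ℤ)) : A) = (y n : A) := by
  classical
  induction y using DirectSum.induction_on with
  | zero => simp
  | of m x =>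
    rw [toZ_of]
    by_cases hmn : m = n
    · subst hmn
      rw [DirectSum.of_eq_same, DirectSum.of_eq_same]
      rfl
    · have hmn' : (m : ℤ) ≠ (n : ℤ) := fun h => hmn (by exact_mod_cast h)
      rw [DirectSum.of_eq_of_ne _ _ _ hmn'.symm, DirectSum.of_eq_of_ne _ _ _ (Ne.symm hmn)]
      rfl
  | add y z hy hz =>
    rw [map_add, DirectSum.add_apply, DirectSum.add_apply, AddSubgroup.coe_add, Submodule.coe_add,
      hy, hz]

theorem decompose_zgr_natCast (x : A) (n : ℕ) :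
    ((DirectSum.decompose (zgr 𝒜) x (n : ℤ) : zgr 𝒜 (n : ℤ)) : A)
      = (DirectSum.decompose 𝒜 x n : A) :=
  toZ_apply_natCast 𝒜 (DirectSum.decompose 𝒜 x) n

theorem decompose_zgr_of_neg (x : A) {z : ℤ} (hz : z < 0) :
    ((DirectSum.decompose (zgr 𝒜) x z : zgr 𝒜 z) : A) = 0 :=
  (mem_zgr_of_neg 𝒜 hz).mp (DirectSum.decompose (zgr 𝒜) x z).2

theorem isHomogeneous_zgr {I : Ideal A} (hI : I.IsHomogeneous 𝒜) : I.IsHomogeneous (zgr 𝒜) := by
  intro z r hr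
  by_cases hz : 0 ≤ z
  · obtain ⟨n, rfl⟩ := Int.eq_ofNat_of_zero_le hz
    rw [decompose_zgr_natCast]
    exact hI n hr
  · rw [decompose_zgr_of_neg 𝒜 r (not_le.mp hz)]
    exact zero_mem _

end Groth.Agent.H59.GrZ
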