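import Mathlib
import Groth.Agent.H59.GrZ
import Groth.Agent.H59.GrQ
import Groth.Agent.H85.GrLCBridge
import Groth.Agent.H98.GrHt.StarLocalDim

/-!
# Positively graded rings with a field in degree zero: the irrelevant ideal has height `dim R`
-/

set_option autoImplicit false
set_option linter.unusedSectionVars false

universe u

namespace Groth.Agent.H59.GrStarQ

open DirectSum Groth.Agent.H85.GrLCBridge

section general

variable {R : Type u} [CommRing R] (ℬ : ℤ → AddSubgroup R) [GradedRing ℬ]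
  (hpos : ∀ n : ℤ, n < 0 → ℬ n = ⊥)
  (h0 : ∀ x ∈ ℬ 0, x ≠ 0 → ∃ y ∈ ℬ 0, x * y = 1)

include h0 in
theorem isField_deg0 [Nontrivial R] : IsField (GrLC.deg0 ℬ) := by
  refine ⟨⟨0, 1, ?_⟩, fun a b => mul_comm a b, ?_⟩
  · intro h
    have := congrArg Subtype.val h
    exact zero_ne_one this
  · intro a ha
    have ha' : (a : R) ≠ 0 := fun h => ha (Subtype.ext h)
    obtain ⟨y, hy, hxy⟩ := h0 a.1 a.2 ha'
    exact ⟨⟨y, hy⟩, Subtype.ext hxy⟩

include hpos h0 in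
theorem irrI_isMaximal' [Nontrivial R] : (irrI ℬ).IsMaximal :=
  irrI_isMaximal ℬ hpos (isField_deg0 ℬ h0)

include hpos h0 in
theorem le_irrI' [Nontrivial R] (J : Ideal R) (hJ : J.IsHomogeneous ℬ) (hne : J ≠ ⊤) :
    J ≤ irrI ℬ :=
  le_irrI ℬ hpos (isField_deg0 ℬ h0) J hJ hne

include hpos h0 in
theorem height_irrI [Nontrivial R] [IsNoetherianRing R] :
    ((irrI ℬ).height : WithBot ℕ∞) = ringKrullDim R := by
  have hstar : GrLC.IsStarLocal ℬ (irrH ℬ) := isStarLocal_irrH ℬ hpos (isField_deg0 ℬ h0)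
  have h := Groth.Agent.H98.GrHt.height_eq_ringKrullDim_of_isStarLocal ℬ hpos (m := irrH ℬ) hstar
  rw [irrH_toIdeal] at h
  exact h

end general

section quot

open Groth.Agent.H59.GrZ Groth.Agent.H59.GrQ

variable {K : Type*} [Field K] {A : Type u} [CommRing A] [Algebra K A]
  (𝒜 : ℕ → Submodule K A) [GradedAlgebra 𝒜]
  (h0 : ∀ a ∈ 𝒜 0, ∃ c : K, algebraMap K A c = a)
  (H : Ideal A)

theorem qgr_neg : ∀ n : ℤ, n < 0 → qgr (zgr 𝒜) H n = ⊥ := by
  intro n hn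
  unfold qgr
  rw [zgr_of_neg 𝒜 hn, AddSubgroup.map_bot]

include h0 in
theorem qgr_zero_inv : ∀ x ∈ qgr (zgr 𝒜) H 0, x ≠ 0 → ∃ y ∈ qgr (zgr 𝒜) H 0, x * y = 1 := by
  intro x hx hx0
  obtain ⟨a, ha, rfl⟩ := exists_of_mem_qgr _ _ hx
  have ha' : a ∈ 𝒜 0 := (mem_zgr_natCast 𝒜 (n := 0)).mp (by exact_mod_cast ha)
  obtain ⟨c, rfl⟩ := h0 a ha'
  have hc : c ≠ 0 := by
    intro hc
    apply hx0
    rw [hc, map_zero, map_zero]
  refine ⟨Ideal.Quotient.mk H (algebraMap K A c⁻¹), mk_mem_qgr _ _ ?_, ?_⟩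
  · have h1 : algebraMap K A c⁻¹ ∈ 𝒜 0 := by
      rw [Algebra.algebraMap_eq_smul_one]
      exact Submodule.smul_mem _ _ SetLike.GradedOne.one_mem
    have h2 : algebraMap K A c⁻¹ ∈ zgr 𝒜 ((0 : ℕ) : ℤ) := (mem_zgr_natCast 𝒜).mpr h1
    exact_mod_cast h2
  · rw [← map_mul, ← map_mul, mul_inv_cancel₀ hc, map_one, map_one]

theorem irrI_zgr : irrI (zgr 𝒜) = (HomogeneousIdeal.irrelevant 𝒜).toIdeal := by
  classical
  apply le_antisymm
  · apply irrI_le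
    intro n hn x hx
    obtain ⟨k, rfl⟩ := Int.eq_ofNat_of_zero_le hn.le
    have hk : 0 < k := by exact_mod_cast hn
    exact HomogeneousIdeal.mem_irrelevant_of_mem 𝒜 hk ((mem_zgr_natCast 𝒜).mp hx)
  · intro x hx
    have hx' : x ∈ HomogeneousIdeal.irrelevant 𝒜 := hx
    rw [HomogeneousIdeal.mem_irrelevant_iff, GradedRing.proj_apply] at hx'
    rw [← DirectSum.sum_support_decompose 𝒜 x]
    refine Ideal.sum_mem _ fun n _ => ?_
    rcases Nat.eq_zero_or_pos n with hn | hn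
    · subst hn
      rw [hx']
      exact zero_mem _
    · exact mem_irrI_of_pos (zgr 𝒜) (by exact_mod_cast hn : (0 : ℤ) < (n : ℤ))
        ((mem_zgr_natCast 𝒜).mpr (DirectSum.decompose 𝒜 x n).2)

theorem irrI_qgr (ℬ : ℤ → AddSubgroup A) :
    irrI (qgr ℬ H) = (irrI ℬ).map (Ideal.Quotient.mk H) := by
  unfold irrI
  rw [Ideal.map_span]
  congr 1
  ext y
  simp only [Set.mem_iUnion, Set.mem_Ioi, SetLike.mem_coe, exists_prop, Set.mem_image]
  constructor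
  · rintro ⟨n, hn, hy⟩
    obtain ⟨a, ha, rfl⟩ := exists_of_mem_qgr _ _ hy
    exact ⟨a, ⟨n, hn, ha⟩, rfl⟩
  · rintro ⟨a, ⟨n, hn, ha⟩, rfl⟩
    exact ⟨n, hn, mk_mem_qgr _ _ ha⟩

variable [IsNoetherianRing A]

include h0 in
/-- the image of the irrelevant ideal in a graded quotient has height the dimension. -/
theorem height_irrelevant_map (hH : H.IsHomogeneous 𝒜) (hne : H ≠ ⊤) :
    (((HomogeneousIdeal.irrelevant 𝒜).toIdeal.map (Ideal.Quotient.mk H)).height : WithBot ℕ∞)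
      = ringKrullDim (A ⧸ H) := by
  letI := gradedRing (zgr 𝒜) (isHomogeneous_zgr 𝒜 hH)
  have hnt : Nontrivial (A ⧸ H) := Ideal.Quotient.nontrivial_iff.mpr hne
  have h := height_irrI (qgr (zgr 𝒜) H) (qgr_neg 𝒜 H) (qgr_zero_inv 𝒜 h0 H)
  rw [irrI_qgr, irrI_zgr] at h
  exact h

include h0 in
/-- proper homogeneous ideals lie in the irrelevant ideal. -/
theorem le_irrelevant (hH : H.IsHomogeneous 𝒜) (hne : H ≠ ⊤) :
    H ≤ (HomogeneousIdeal.irrelevant 𝒜).toIdeal := by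
  have hnt : Nontrivial A := ⟨⟨0, 1, fun h => hne ((Ideal.eq_top_iff_one H).mpr (h ▸ H.zero_mem))⟩⟩
  have h0' : ∀ x ∈ zgr 𝒜 0, x ≠ 0 → ∃ y ∈ zgr 𝒜 0, x * y = 1 := by
    intro x hx hx0
    have hx' : x ∈ 𝒜 0 := (mem_zgr_natCast 𝒜 (n := 0)).mp (by exact_mod_cast hx)
    obtain ⟨c, rfl⟩ := h0 x hx'
    have hc : c ≠ 0 := by
      intro hc
      apply hx0
      rw [hc, map_zero]
    refine ⟨algebraMap K A c⁻¹, ?_, ?_⟩
    · have h1 : algebraMap K A c⁻¹ ∈ 𝒜 0 := by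
        rw [Algebra.algebraMap_eq_smul_one]
        exact Submodule.smul_mem _ _ SetLike.GradedOne.one_mem
      have h2 : algebraMap K A c⁻¹ ∈ zgr 𝒜 ((0 : ℕ) : ℤ) := (mem_zgr_natCast 𝒜).mpr h1
      exact_mod_cast h2
    · rw [← map_mul, mul_inv_cancel₀ hc, map_one]
  have h := le_irrI' (zgr 𝒜) (fun n hn => zgr_of_neg 𝒜 hn) h0' H (isHomogeneous_zgr 𝒜 hH) hne
  rw [irrI_zgr] at h
  exact h

end quot

end Groth.Agent.H59.GrStarQ
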