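import Mathlib
import Groth.Agent.H59.GrStarQ
import Groth.Agent.H59.CMAt
import Groth.Agent.S13232
import Groth.Agent.S13234
import Groth.Agent.H72.DepthCM

/-!
# The graded local–global principle for the Cohen–Macaulay property
-/

set_option autoImplicit false
set_option linter.unusedSectionVars false

universe u

namespace Groth.Agent.H59.GrCMLG

/-- a localisation of a Cohen–Macaulay local ring `B_m` at a smaller prime. -/
theorem cm_of_le {B : Type u} [CommRing B] (m : Ideal B) [hm : m.IsPrime]
    (hT : LocCoh.IsCohenMacaulayLocalRing (Localization.AtPrime m)) (q₀ : Ideal B) [hq₀ : q₀.IsPrime]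
    (hle : q₀ ≤ m) : LocCoh.IsCohenMacaulayLocalRing (Localization.AtPrime q₀) := by
  set T := Localization.AtPrime m
  have hdisj : Disjoint (m.primeCompl : Set B) (q₀ : Set B) := by
    rw [Set.disjoint_left]
    intro x hx hxq
    exact hx (hle hxq)
  set q := q₀.map (algebraMap B T) with hq
  have hqprime : q.IsPrime := IsLocalization.isPrime_of_isPrime_disjoint m.primeCompl T q₀ hq₀ hdisj
  have hqcomap : q.comap (algebraMap B T) = q₀ :=
    IsLocalization.under_map_of_isPrime_disjoint m.primeCompl T hq₀ hdisj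
  have hp' : (q.comap (algebraMap B T)).IsPrime := Ideal.comap_isPrime _ q
  have hloc : IsLocalization.AtPrime (Localization.AtPrime q) (q.comap (algebraMap B T)) :=
    IsLocalization.isLocalization_isLocalization_atPrime_isLocalization m.primeCompl
      (Localization.AtPrime q) q
  let e1 := IsLocalization.algEquiv (q.comap (algebraMap B T)).primeCompl
    (Localization.AtPrime (q.comap (algebraMap B T))) (Localization.AtPrime q)
  have hcm1 : LocCoh.IsCohenMacaulayLocalRing (Localization.AtPrime (q.comap (algebraMap B T))) :=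
    Groth.Agent.H49.isCohenMacaulayLocalRing_of_ringEquiv e1.toRingEquiv.symm
      (Groth.Agent.H49.isCohenMacaulayLocalRing_localization T hT q)
  have key : ∀ (q₁ : Ideal B) [q₁.IsPrime], q₁ = q₀ →
      LocCoh.IsCohenMacaulayLocalRing (Localization.AtPrime q₁) →
      LocCoh.IsCohenMacaulayLocalRing (Localization.AtPrime q₀) := by
    intro q₁ _ h hc
    subst h
    exact hc
  exact key _ hqcomap hcm1

section graded

variable {B : Type u} [CommRing B] [IsNoetherianRing B] (ℬ : ℤ → AddSubgroup B) [GradedRing ℬ]

/-- Cohen–Macaulayness passes from the homogeneous core of a prime to the prime. -/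
theorem cm_of_core (q : Ideal B) [hq : q.IsPrime]
    [hqs : (Ideal.homogeneousCore ℬ q).toIdeal.IsPrime]
    (h : LocCoh.IsCohenMacaulayLocalRing
      (Localization.AtPrime (Ideal.homogeneousCore ℬ q).toIdeal)) :
    LocCoh.IsCohenMacaulayLocalRing (Localization.AtPrime q) := by
  set qs := (Ideal.homogeneousCore ℬ q).toIdeal with hqsdef
  have hle : qs ≤ q := Ideal.toIdeal_homogeneousCore_le ℬ q
  have hker : RingHom.ker (Ideal.Quotient.mk qs) ≤ q := by rw [Ideal.mk_ker]; exact hle
  have hmapprime : (q.map (Ideal.Quotient.mk qs)).IsPrime :=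
    Ideal.map_isPrime_of_surjective Ideal.Quotient.mk_surjective hker
  have hfin : (q.map (Ideal.Quotient.mk qs)).height ≠ ⊤ := Ideal.height_ne_top hmapprime.ne_top
  obtain ⟨d, hd⟩ := ENat.ne_top_iff_exists.mp hfin
  have hnt : Nontrivial (LocalizedModule q.primeCompl B) :=
    (Groth.Agent.H72.DepthCM.locSelfEquiv q).toEquiv.nontrivial
  have hdim := Groth.Agent.S13232.result B ℬ B ℬ q d hd.symm hnt
  have hdep := Groth.Agent.S13234.result B ℬ B ℬ q d hd.symm
  rw [Module.supportDim_eq_of_equiv (Groth.Agent.H72.DepthCM.locSelfEquiv q),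
    Module.supportDim_eq_of_equiv (Groth.Agent.H72.DepthCM.locSelfEquiv qs),
    Module.supportDim_self_eq_ringKrullDim, Module.supportDim_self_eq_ringKrullDim] at hdim
  rw [Groth.Agent.H72.DepthCM.depth_localizedModule_self,
    Groth.Agent.H72.DepthCM.depth_localizedModule_self] at hdep
  rw [Groth.Agent.H72.FlatCM.isCohenMacaulayLocalRing_iff] at h ⊢
  rw [hdim, hdep, h]
  push_cast
  rfl

/-- the graded local–global principle: if every proper homogeneous ideal lies in the prime `m` and
`B_m` is Cohen–Macaulay, then `B` is Cohen–Macaulay. -/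
theorem isCohenMacaulayRing_of_irr (m : Ideal B) [hm : m.IsPrime]
    (hle : ∀ J : Ideal B, J.IsHomogeneous ℬ → J ≠ ⊤ → J ≤ m)
    (hT : LocCoh.IsCohenMacaulayLocalRing (Localization.AtPrime m)) :
    LocCoh.IsCohenMacaulayRing B := by
  refine { isCohenMacaulayLocalRing_localization := ?_ }
  intro q hq
  have hqs : (Ideal.homogeneousCore ℬ q).toIdeal.IsPrime := Groth.Agent.H98.GrHt.isPrime_core ℬ q
  have hqsle : (Ideal.homogeneousCore ℬ q).toIdeal ≤ m :=
    hle _ (Ideal.homogeneousCore ℬ q).isHomogeneous hqs.ne_top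
  exact cm_of_core ℬ q (cm_of_le m hT _ hqsle)

end graded

end Groth.Agent.H59.GrCMLG
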