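import Mathlib
import Groth.Agent.H59.GrCMLocalGlobal

/-!
# A cone `K[x_1..x_N]/I` is Cohen–Macaulay iff it is at the vertex
-/

set_option autoImplicit false
set_option linter.unusedSectionVars false

universe u

namespace Groth.Agent.H59.ConeCM

open MvPolynomial Groth.Agent.H59.GrZ Groth.Agent.H59.GrQ Groth.Agent.H59.GrStarQ
open Groth.Agent.H85.GrLCBridge

attribute [local instance] MvPolynomial.gradedAlgebra

variable (K : Type u) [Field K] (N : ℕ)

local notation "𝒜p" => MvPolynomial.homogeneousSubmodule (Fin N) K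

theorem h0 : ∀ a ∈ 𝒜p 0, ∃ c : K, algebraMap K (MvPolynomial (Fin N) K) c = a := by
  intro a ha
  rw [mem_homogeneousSubmodule] at ha
  have h1 : a.totalDegree = 0 := Nat.le_zero.mp ha.totalDegree_le
  exact ⟨coeff 0 a, (totalDegree_eq_zero_iff_eq_C.mp h1).symm⟩

theorem irrelevant_eq :
    (HomogeneousIdeal.irrelevant 𝒜p).toIdeal
      = RingHom.ker (MvPolynomial.constantCoeff : MvPolynomial (Fin N) K →+* K) := by
  ext f
  have hf : f ∈ (HomogeneousIdeal.irrelevant 𝒜p).toIdeal ↔ f ∈ HomogeneousIdeal.irrelevant 𝒜p :=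
    Iff.rfl
  rw [hf, HomogeneousIdeal.mem_irrelevant_iff, GradedRing.proj_apply, RingHom.mem_ker]
  have h2 : ((DirectSum.decompose 𝒜p f 0 : ↥(𝒜p 0)) : MvPolynomial (Fin N) K)
      = MvPolynomial.homogeneousComponent 0 f :=
    MvPolynomial.decomposition.decompose'_apply f 0
  rw [h2, MvPolynomial.homogeneousComponent_zero]
  constructor
  · intro h
    have := congrArg MvPolynomial.constantCoeff h
    rw [constantCoeff_C, map_zero] at this
    rw [constantCoeff_eq]
    exact this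
  · intro h
    rw [constantCoeff_eq] at h
    rw [h, map_zero]

theorem isHomogeneous_of_span (I : Ideal (MvPolynomial (Fin N) K))
    (hI : ∃ T : Set (MvPolynomial (Fin N) K), (∀ f ∈ T, ∃ k : ℕ, f.IsHomogeneous k) ∧ I = Ideal.span T) :
    I.IsHomogeneous 𝒜p := by
  obtain ⟨T, hT, rfl⟩ := hI
  apply Ideal.homogeneous_span
  intro f hf
  obtain ⟨k, hk⟩ := hT f hf
  exact ⟨k, (mem_homogeneousSubmodule _ _).mpr hk⟩

theorem cone (I : Ideal (MvPolynomial (Fin N) K)) (hIhom : I.IsHomogeneous 𝒜p) (hI' : I ≠ ⊤)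
    [hm : ((RingHom.ker (MvPolynomial.constantCoeff : MvPolynomial (Fin N) K →+* K)).map
      (Ideal.Quotient.mk I)).IsPrime]
    (hT : LocCoh.IsCohenMacaulayLocalRing (Localization.AtPrime
        ((RingHom.ker (MvPolynomial.constantCoeff : MvPolynomial (Fin N) K →+* K)).map
          (Ideal.Quotient.mk I)))) :
    LocCoh.IsCohenMacaulayRing (MvPolynomial (Fin N) K ⧸ I) := by
  letI := gradedRing (zgr 𝒜p) (isHomogeneous_zgr 𝒜p hIhom)
  have hnt : Nontrivial (MvPolynomial (Fin N) K ⧸ I) := Ideal.Quotient.nontrivial_iff.mpr hI'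
  apply Groth.Agent.H59.GrCMLG.isCohenMacaulayRing_of_irr (qgr (zgr 𝒜p) I) _ _ hT
  intro J hJ hne
  have h := le_irrI' (qgr (zgr 𝒜p) I) (qgr_neg 𝒜p I) (qgr_zero_inv 𝒜p (h0 K N) I) J hJ hne
  rw [irrI_qgr, irrI_zgr, irrelevant_eq] at h
  exact h

end Groth.Agent.H59.ConeCM
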