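import Mathlib
import Groth.Agent.H59.CnH1Sec
import Groth.Agent.H44.ConormalDiffExists
import Groth.Agent.H44.ConormalChart
import Groth.Agent.H7.ZClosBase

/-!
# The conormal sheaf of a quasi-compact immersion is `H^{-1}(NL_{Z/X})` (helper59)

`adj i : 𝓘 ⟶ i_* H^{-1}(NL_{Z/X})` (a function vanishing on `Z` goes to the family of classes `κ` of its
germs), its transpose `Ψ i : C_{Z/X} ⟶ H^{-1}(NL_{Z/X})`, the chart description `Ψ_chart`
(`Ψ = θ ∘ ψ ∘ conormalEquiv`), `isIso_Ψ` for a quasi-compact immersion, the resulting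
`h1SheafConormal : NLCx.H1Sheaf i (Omega.conormal i)` and the vanishing of differentials on chart
pairs `subsingleton_kaehler_chart`.
-/

set_option autoImplicit false
set_option linter.style.haveILetI false
universe u

open CategoryTheory CategoryTheory.Limits TensorProduct AlgebraicGeometry Opposite TopologicalSpace

namespace Groth.Agent.H59.CnH1

open Groth.Agent.H59.H1Sh Groth.Agent.H59.KerToH1 Groth.Agent.H44

variable {Z X : Scheme.{u}} (i : Z ⟶ X)

section Adj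

theorem appLE_idealSect_eq_zero (O : X.Opens) (σ : Γ(ClSub.idealMod i.ker, O)) :
    i.appLE O (i ⁻¹ᵁ O) le_rfl (OmegaSh.idealSect i.ker O σ) = 0 := by
  rw [Scheme.Hom.appLE_eq_app]
  exact app_idealSect_eq_zero i O σ

/-- `σ ↦ (z ↦ κ (germ σ))` on sections of the ideal of `i`. -/
noncomputable def adjFun (O : X.Opens) (σ : Γ(ClSub.idealMod i.ker, O)) : Γ(F i, i ⁻¹ᵁ O) :=
  sec i O (i ⁻¹ᵁ O) le_rfl (OmegaSh.idealSect i.ker O σ) (appLE_idealSect_eq_zero i O σ)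

theorem adjFun_add (O : X.Opens) (σ τ : Γ(ClSub.idealMod i.ker, O)) :
    adjFun i O (σ + τ) = adjFun i O σ + adjFun i O τ := by
  unfold adjFun
  rw [← sec_add i O (i ⁻¹ᵁ O) le_rfl _ _ _ _
    (by rw [← map_add]; exact appLE_idealSect_eq_zero i O (σ + τ))]
  exact sec_congr i O (i ⁻¹ᵁ O) le_rfl (map_add _ σ τ) _ _

theorem adjFun_map {O O' : X.Opens} (h : O' ≤ O) (σ : Γ(ClSub.idealMod i.ker, O)) :
    adjFun i O' ((ClSub.idealMod i.ker).presheaf.map (homOfLE h).op σ) =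
      (F i).presheaf.map (homOfLE (i.preimage_mono h)).op (adjFun i O σ) := by
  unfold adjFun
  rw [sec_res i O (i ⁻¹ᵁ O) le_rfl _ _ (le_refl (i ⁻¹ᵁ O')) (i.preimage_mono h) h]
  exact sec_congr i O' (i ⁻¹ᵁ O') le_rfl (idealSect_map i.ker h σ) _ _

theorem adjFun_smul (O : X.Opens) (r : Γ(X, O)) (σ : Γ(ClSub.idealMod i.ker, O)) :
    adjFun i O (r • σ) = i.app O r • adjFun i O σ := by
  unfold adjFun
  have h := sec_smul i O (i ⁻¹ᵁ O) le_rfl r (OmegaSh.idealSect i.ker O σ)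
    (appLE_idealSect_eq_zero i O σ)
    (by rw [← idealSect_smul]; exact appLE_idealSect_eq_zero i O (r • σ))
  have hr : i.appLE O (i ⁻¹ᵁ O) le_rfl r = i.app O r := by rw [Scheme.Hom.appLE_eq_app]
  rw [← hr, ← h]
  exact sec_congr i O (i ⁻¹ᵁ O) le_rfl (idealSect_smul i.ker O r σ) _ _

/-- The morphism `𝓘 ⟶ i_* H^{-1}(NL_{Z/X})`. -/
noncomputable def adj :
    ClSub.idealMod i.ker ⟶ (Scheme.Modules.pushforward i).obj (F i) :=
  ⟨PresheafOfModules.homMk
    { app := fun U => AddCommGrpCat.ofHom (AddMonoidHom.mk'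
        (fun s : Γ(ClSub.idealMod i.ker, U.unop) => (adjFun i U.unop s : Γ(F i, i ⁻¹ᵁ U.unop)))
        (adjFun_add i U.unop))
      naturality := fun U V g => by
        ext s
        exact adjFun_map i (leOfHom g.unop) s }
    (fun U r s => adjFun_smul i U.unop r s)⟩

theorem adj_app (O : X.Opens) (σ : Γ(ClSub.idealMod i.ker, O)) :
    (adj i).app O σ = adjFun i O σ := rfl

/-- The canonical morphism from the conormal sheaf to `H^{-1}(NL_{Z/X})`. -/
noncomputable def Ψ : Omega.conormal i ⟶ F i :=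
  ((Scheme.Modules.pullbackPushforwardAdjunction i).homEquiv (ClSub.idealMod i.ker) _).symm (adj i)

theorem Ψ_pullSect (O : X.Opens) (σ : Γ(ClSub.idealMod i.ker, O)) :
    (Ψ i).app (i ⁻¹ᵁ O) (OmegaSh.pullSect i (ClSub.idealMod i.ker) O σ) = adjFun i O σ := by
  have h : (Scheme.Modules.pullbackPushforwardAdjunction i).homEquiv (ClSub.idealMod i.ker) _ (Ψ i) =
      adj i := Equiv.apply_symm_apply _ _
  have h2 := congr(($h).app O σ)
  rw [homEquiv_app, adj_app] at h2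
  exact h2

end Adj


section Chart

variable [QuasiCompact i] {U : X.Opens} (hU : IsAffineOpen U) (hU' : IsAffineOpen (i ⁻¹ᵁ U))

theorem Ψ_chart (x : Γ(Omega.conormal i, i ⁻¹ᵁ U)) :
    letI := (i.appLE U (i ⁻¹ᵁ U) le_rfl).hom.toAlgebra
    (Ψ i).app (i ⁻¹ᵁ U) x =
      θ i ⟨i ⁻¹ᵁ U, hU'⟩ ⟨U, hU⟩ le_rfl
        (ψ Γ(X, U) Γ(Z, i ⁻¹ᵁ U) (conormalEquiv i hU hU' le_rfl le_rfl x)) := by
  letI := (i.appLE U (i ⁻¹ᵁ U) le_rfl).hom.toAlgebra
  refine conormal_induction i hU hU' le_rfl le_rfl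
    (fun x => (Ψ i).app (i ⁻¹ᵁ U) x =
      θ i ⟨i ⁻¹ᵁ U, hU'⟩ ⟨U, hU⟩ le_rfl
        (ψ Γ(X, U) Γ(Z, i ⁻¹ᵁ U) (conormalEquiv i hU hU' le_rfl le_rfl x))) ?_ ?_ ?_ ?_ x
  · rw [map_zero, map_zero, map_zero, map_zero]
  · intro x y hx hy
    rw [map_add, map_add, map_add, map_add, hx, hy]
  · intro a x hx
    rw [Scheme.Modules.Hom.app_smul, _root_.map_smul, _root_.map_smul, hx]
    exact (θ_smul i ⟨i ⁻¹ᵁ U, hU'⟩ ⟨U, hU⟩ le_rfl a _).symm
  · intro σ
    rw [conormalEquiv_pullSectLE, ψ_one_tmul, pullSectLE_self, Ψ_pullSect]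
    apply Subtype.ext
    funext z
    exact (germ_κ i ⟨i ⁻¹ᵁ U, hU'⟩ ⟨U, hU⟩ le_rfl (OmegaSh.idealSect i.ker U σ)
      (appLE_idealSect_eq_zero i U σ) z.1 z.2).symm

end Chart


section Iso

variable [IsImmersion i] [QuasiCompact i]

theorem Ψ_app_bijective (t : ImmChart i (𝟙 X)) :
    Function.Bijective ((Ψ i).app (i ⁻¹ᵁ t.U)) := by
  letI := (i.appLE t.U (i ⁻¹ᵁ t.U) le_rfl).hom.toAlgebra
  have hsurj : Function.Surjective (algebraMap Γ(X, t.U) Γ(Z, i ⁻¹ᵁ t.U)) := by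
    change Function.Surjective (i.appLE t.U (i ⁻¹ᵁ t.U) le_rfl).hom
    rw [Scheme.Hom.appLE_eq_app]
    exact t.surj
  have h1 := (conormalEquiv i t.hU t.hU' le_rfl le_rfl).bijective
  have h2 := ψ_bijective Γ(X, t.U) Γ(Z, i ⁻¹ᵁ t.U) hsurj
  have h3 := θ_bijective i ⟨i ⁻¹ᵁ t.U, t.hU'⟩ ⟨t.U, t.hU⟩ le_rfl
  have h4 : ⇑((Ψ i).app (i ⁻¹ᵁ t.U)) =
      (θ i ⟨i ⁻¹ᵁ t.U, t.hU'⟩ ⟨t.U, t.hU⟩ le_rfl) ∘ (ψ Γ(X, t.U) Γ(Z, i ⁻¹ᵁ t.U)) ∘
        (conormalEquiv i t.hU t.hU' le_rfl le_rfl) := funext (Ψ_chart i t.hU t.hU')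
  rw [h4]
  exact h3.comp (h2.comp h1)

instance isIso_Ψ : IsIso (Ψ i) :=
  Groth.Agent.H7.ZClosBase.isIso_of_isBasis (Ψ i) (isBasis_immChart i (𝟙 X)) (by
    rintro _ ⟨t, rfl⟩
    exact Ψ_app_bijective i t)

/-- the conormal sheaf of a quasi-compact immersion is the cohomology sheaf `H^{-1}(NL_{Z/X})`. -/
noncomputable def h1SheafConormal : NLCx.H1Sheaf i (Omega.conormal i) where
  iso U V e := (AddEquiv.ofBijective ((Ψ i).app (U : Z.Opens)).hom
    (Groth.Agent.H7.ZClosBase.bijective_app_of_isIso (Ψ i) (U : Z.Opens))).trans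
      ((h1Sheaf i).iso U V e)
  map_smul U V e a m := by
    change (h1Sheaf i).iso U V e ((Ψ i).app (U : Z.Opens) (a • m)) =
      a • (h1Sheaf i).iso U V e ((Ψ i).app (U : Z.Opens) m)
    have h : (Ψ i).app (U : Z.Opens) (a • m) = a • (Ψ i).app (U : Z.Opens) m :=
      Scheme.Modules.Hom.app_smul (Ψ i) a m
    exact (congrArg ((h1Sheaf i).iso U V e) h).trans ((h1Sheaf i).map_smul U V e a _)
  map_res {U U' V V'} e e' hU hV m := by
    change (h1Sheaf i).iso U' V' e' ((Ψ i).app (U' : Z.Opens)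
        ((Omega.conormal i).presheaf.map (homOfLE hU).op m)) =
      NLCx.chartRes e e' hU hV ((h1Sheaf i).iso U V e ((Ψ i).app (U : Z.Opens) m))
    have h : (Ψ i).app (U' : Z.Opens) ((Omega.conormal i).presheaf.map (homOfLE hU).op m) =
        (F i).presheaf.map (homOfLE hU).op ((Ψ i).app (U : Z.Opens) m) :=
      hom_app_resLE (Ψ i) hU m
    exact (congrArg ((h1Sheaf i).iso U' V' e') h).trans ((h1Sheaf i).map_res e e' hU hV _)

end Iso

/-- the module of differentials vanishes on every chart pair of a morphism which is surjective on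
stalks (e.g. an immersion). -/
theorem subsingleton_kaehler_chart [SurjectiveOnStalks i] (U : Z.affineOpens) (V : X.affineOpens)
    (e : (U : Z.Opens) ≤ i ⁻¹ᵁ (V : X.Opens)) :
    letI := (i.appLE (V : X.Opens) (U : Z.Opens) e).hom.toAlgebra
    Subsingleton Ω[Γ(Z, (U : Z.Opens))⁄Γ(X, (V : X.Opens))] := by
  letI := (i.appLE (V : X.Opens) (U : Z.Opens) e).hom.toAlgebra
  rw [subsingleton_iff_forall_eq 0]
  intro m
  by_contra hne
  let A : Ideal Γ(Z, (U : Z.Opens)) := Ideal.torsionOf Γ(Z, (U : Z.Opens)) _ m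
  have hA : A ≠ ⊤ := by
    intro hA
    apply hne
    have h1 : (1 : Γ(Z, (U : Z.Opens))) ∈ A := hA ▸ Submodule.mem_top
    rw [Ideal.mem_torsionOf_iff, one_smul] at h1
    exact h1
  obtain ⟨P, hP, hAP⟩ := Ideal.exists_le_maximal A hA
  let p : PrimeSpectrum Γ(Z, (U : Z.Opens)) := ⟨P, hP.isPrime⟩
  have hz : U.2.fromSpec p ∈ (U : Z.Opens) := fromSpec_mem U.2 p
  generalize hzz : U.2.fromSpec p = z at hz
  have hpz : U.2.primeIdealOf ⟨z, hz⟩ = p := by
    subst hzz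
    exact primeIdealOf_fromSpec U.2 p
  letI := stalkAlg i z
  letI : Algebra Γ(X, (V : X.Opens)) (X.presheaf.stalk (i z)) :=
    (X.presheaf.germ (V : X.Opens) (i z) (e hz)).hom.toAlgebra
  letI : Algebra Γ(Z, (U : Z.Opens)) (Z.presheaf.stalk z) :=
    (Z.presheaf.germ (U : Z.Opens) z hz).hom.toAlgebra
  letI : Algebra Γ(X, (V : X.Opens)) (Z.presheaf.stalk z) :=
    ((Z.presheaf.germ (U : Z.Opens) z hz).hom.comp (i.appLE (V : X.Opens) (U : Z.Opens) e).hom).toAlgebra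
  haveI : IsScalarTower Γ(X, (V : X.Opens)) Γ(Z, (U : Z.Opens)) (Z.presheaf.stalk z) :=
    IsScalarTower.of_algebraMap_eq' rfl
  haveI : IsScalarTower Γ(X, (V : X.Opens)) (X.presheaf.stalk (i z)) (Z.presheaf.stalk z) :=
    IsScalarTower.of_algebraMap_eq' (by
      change (Z.presheaf.germ (U : Z.Opens) z hz).hom.comp (i.appLE (V : X.Opens) (U : Z.Opens) e).hom =
        (i.stalkMap z).hom.comp (X.presheaf.germ (V : X.Opens) (i z) (e hz)).hom
      rw [← CommRingCat.hom_comp, ← CommRingCat.hom_comp, appLE_germ])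
  haveI h1 : IsLocalization.AtPrime (Z.presheaf.stalk z) (U.2.primeIdealOf ⟨z, hz⟩).asIdeal :=
    U.2.isLocalization_stalk ⟨z, hz⟩
  haveI h2 : IsLocalization.AtPrime (X.presheaf.stalk (i z)) (V.2.primeIdealOf ⟨i z, e hz⟩).asIdeal :=
    V.2.isLocalization_stalk ⟨i z, e hz⟩
  haveI : Algebra.FormallyUnramified Γ(X, (V : X.Opens)) (X.presheaf.stalk (i z)) :=
    Algebra.FormallyUnramified.of_isLocalization (V.2.primeIdealOf ⟨i z, e hz⟩).asIdeal.primeCompl
  haveI : Algebra.FormallyUnramified (X.presheaf.stalk (i z)) (Z.presheaf.stalk z) :=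
    Algebra.FormallyUnramified.of_surjective (Algebra.ofId _ _) (i.stalkMap_surjective z)
  haveI : Algebra.FormallyUnramified Γ(X, (V : X.Opens)) (Z.presheaf.stalk z) :=
    Algebra.FormallyUnramified.comp _ (X.presheaf.stalk (i z)) _
  have hloc := KaehlerDifferential.isLocalizedModule_map (R := Γ(X, (V : X.Opens)))
    (S := Γ(Z, (U : Z.Opens))) (T := Z.presheaf.stalk z)
    (U.2.primeIdealOf ⟨z, hz⟩).asIdeal.primeCompl
  obtain ⟨c, hc⟩ := (IsLocalizedModule.eq_zero_iff (U.2.primeIdealOf ⟨z, hz⟩).asIdeal.primeCompl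
    (KaehlerDifferential.map Γ(X, (V : X.Opens)) Γ(X, (V : X.Opens)) Γ(Z, (U : Z.Opens))
      (Z.presheaf.stalk z)) (m := m)).1 (Subsingleton.elim _ _)
  have key : ∀ (q : PrimeSpectrum Γ(Z, (U : Z.Opens))), q = p → ∀ c : q.asIdeal.primeCompl,
      c • m = 0 → False := by
    rintro q rfl c hc
    exact c.2 (hAP ((Ideal.mem_torsionOf_iff _ _).2 hc))
  exact key _ hpz c hc


end Groth.Agent.H59.CnH1
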