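import Mathlib

/-!
# A degree `-2` obstruction operator and infinite projective dimension

Let `P' → P` be a surjection of rings whose kernel is generated by one element `f` with `f² = 0`,
and let `𝔫 = Ann(f)`.  Suppose `E` is a projective `P'`-module with an endomorphism `d` such that
`d ∘ d = f g`, and `e ∈ E` with `d e ∈ 𝔫 E`.  If `M` is a `P`-module of projective dimension
`< 2 i` and `ε : E → M` is `P'`-linear with `ε ∘ d = 0`, then `g ^ i • ε e ∈ 𝔫 M`.
-/

set_option autoImplicit false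
set_option linter.style.haveILetI false
set_option linter.unusedSectionVars false
universe u

namespace Groth.Agent.H59.CurvedKill

open CategoryTheory CategoryTheory.Limits

section Red

variable {P' P : Type u} [CommRing P'] [CommRing P] [Algebra P' P]

/-- coefficientwise reduction of finitely supported functions -/
noncomputable def red (ι : Type u) : (ι →₀ P') →ₗ[P'] (ι →₀ P) :=
  Finsupp.mapRange.linearMap (Algebra.linearMap P' P)

theorem red_apply (ι : Type u) (v : ι →₀ P') (a : ι) : red (P := P) ι v a = algebraMap P' P (v a) :=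
  rfl

theorem red_surjective (hsurj : Function.Surjective (algebraMap P' P)) (ι : Type u) :
    Function.Surjective (red (P' := P') (P := P) ι) := by
  classical
  intro w
  induction w using Finsupp.induction_linear with
  | zero => exact ⟨0, map_zero _⟩
  | add x y hx hy =>
    obtain ⟨x', rfl⟩ := hx
    obtain ⟨y', rfl⟩ := hy
    exact ⟨x' + y', map_add _ _ _⟩
  | single a b =>
    obtain ⟨b', rfl⟩ := hsurj b
    refine ⟨Finsupp.single a b', ?_⟩
    ext c
    rw [red_apply, Finsupp.single_apply, Finsupp.single_apply]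
    split_ifs
    · rfl
    · exact map_zero _

theorem exists_smul_of_red_eq_zero (f : P') (hker : RingHom.ker (algebraMap P' P) = Ideal.span {f})
    (ι : Type u) (v : ι →₀ P') (hv : red (P := P) ι v = 0) : ∃ w : ι →₀ P', v = f • w := by
  classical
  have h1 : ∀ a, ∃ c : P', c * f = v a := by
    intro a
    have : v a ∈ RingHom.ker (algebraMap P' P) := by
      rw [RingHom.mem_ker, ← red_apply, hv]; rfl
    rw [hker] at this
    exact Ideal.mem_span_singleton'.mp this
  choose c hc using h1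
  refine ⟨v.support.sum fun a => Finsupp.single a (c a), ?_⟩
  rw [Finset.smul_sum]
  conv_lhs => rw [← Finsupp.sum_single v]
  rw [Finsupp.sum]
  refine Finset.sum_congr rfl fun a _ => ?_
  rw [Finsupp.smul_single, smul_eq_mul, mul_comm, hc]

theorem mem_smul_top_of_smul_eq_zero (f : P') (𝔫 : Ideal P') (hann : ∀ y, y * f = 0 → y ∈ 𝔫)
    (ι : Type u) (v : ι →₀ P') (hv : f • v = 0) : v ∈ 𝔫 • (⊤ : Submodule P' (ι →₀ P')) := by
  classical
  rw [← Finsupp.sum_single v, Finsupp.sum]
  refine Submodule.sum_mem _ fun a _ => ?_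
  have h1 : v a ∈ 𝔫 := by
    apply hann
    have := DFunLike.congr_fun hv a
    simpa [mul_comm] using this
  have h2 : Finsupp.single a (v a) = v a • Finsupp.single a (1 : P') := by
    rw [Finsupp.smul_single, smul_eq_mul, mul_one]
  rw [h2]
  exact Submodule.smul_mem_smul h1 Submodule.mem_top

end Red

section Step

variable {P' P : Type u} [CommRing P'] [CommRing P] [Algebra P' P]

theorem smul_eq_zero_of_ker (f : P') (hf : algebraMap P' P f = 0)
    {N : Type u} [AddCommGroup N] [Module P' N] [Module P N] [IsScalarTower P' P N] (y : N) :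
    f • y = 0 := by
  rw [← algebraMap_smul P f y, hf, zero_smul]

theorem map_mem_smul_top (𝔫 : Ideal P') {N N' : Type u} [AddCommGroup N] [Module P' N]
    [AddCommGroup N'] [Module P' N'] (h : N →ₗ[P'] N') (x : N)
    (hx : x ∈ 𝔫 • (⊤ : Submodule P' N)) : h x ∈ 𝔫 • (⊤ : Submodule P' N') := by
  have h1 : h x ∈ (𝔫 • (⊤ : Submodule P' N)).map h := Submodule.mem_map_of_mem hx
  rw [Submodule.map_smul''] at h1
  exact Submodule.smul_mono le_rfl le_top h1

variable (hsurj : Function.Surjective (algebraMap P' P)) (f g : P')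
  (hker : RingHom.ker (algebraMap P' P) = Ideal.span {f})
  (𝔫 : Ideal P') (h𝔫f : ∀ y ∈ 𝔫, y * f = 0) (hann : ∀ y, y * f = 0 → y ∈ 𝔫)
  {E : Type u} [AddCommGroup E] [Module P' E] [Module.Projective P' E]
  (d : E →ₗ[P'] E) (hd : ∀ x, d (d x) = (f * g) • x) (e : E)
  (he : d e ∈ 𝔫 • (⊤ : Submodule P' E))

include hsurj hker h𝔫f hann hd he in
theorem step (M : Type u) [AddCommGroup M] [Module P' M] [Module P M] [IsScalarTower P' P M]
    (ε : E →ₗ[P'] M) (hε : ∀ x, ε (d x) = 0)
    {ι₀ ι₁ : Type u} (p : (ι₀ →₀ P) →ₗ[P] M) (hp : Function.Surjective p)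
    (d₁ : (ι₁ →₀ P) →ₗ[P] (ι₀ →₀ P)) (hex : LinearMap.range d₁ = LinearMap.ker p) :
    ∃ εZ : E →ₗ[P'] (LinearMap.ker d₁), (∀ x, εZ (d x) = 0) ∧
      ((εZ e : ι₁ →₀ P) ∈ 𝔫 • (⊤ : Submodule P' (ι₁ →₀ P))) ∧
      ∀ j : ℕ, g ^ j • εZ e ∈ 𝔫 • (⊤ : Submodule P' (LinearMap.ker d₁)) →
        g ^ (j + 1) • ε e ∈ 𝔫 • (⊤ : Submodule P' M) := by
  have hf0 : algebraMap P' P f = 0 := by
    rw [← RingHom.mem_ker, hker]; exact Ideal.mem_span_singleton_self f
  -- the quotient map `F'₀ → M`
  let q : (ι₀ →₀ P') →ₗ[P'] M := p.restrictScalars P' ∘ₗ red ι₀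
  have hq : Function.Surjective q := hp.comp (red_surjective hsurj ι₀)
  obtain ⟨φ₀, hφ₀⟩ := Module.projective_lifting_property q ε hq
  have hφ₀' : ∀ x, p (red ι₀ (φ₀ x)) = ε x := fun x => LinearMap.congr_fun hφ₀ x
  let ψ : E →ₗ[P'] (ι₀ →₀ P) := red ι₀ ∘ₗ φ₀ ∘ₗ d
  let χ : (ι₁ →₀ P') →ₗ[P'] (ι₀ →₀ P) := d₁.restrictScalars P' ∘ₗ red ι₁
  have hψχ : ∀ x, ψ x ∈ LinearMap.range χ := by
    intro x
    have h1 : ψ x ∈ LinearMap.ker p := by
      rw [LinearMap.mem_ker]
      change p (red ι₀ (φ₀ (d x))) = 0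
      rw [hφ₀', hε]
    rw [← hex] at h1
    obtain ⟨y, hy⟩ := h1
    obtain ⟨y', rfl⟩ := red_surjective hsurj ι₁ y
    exact ⟨y', hy⟩
  obtain ⟨φ₁', hφ₁'⟩ := Module.projective_lifting_property χ.rangeRestrict
    (ψ.codRestrict (LinearMap.range χ) hψχ) (LinearMap.surjective_rangeRestrict χ)
  have hφ₁ : ∀ x, d₁ (red ι₁ (φ₁' x)) = red ι₀ (φ₀ (d x)) := by
    intro x
    have := congrArg Subtype.val (LinearMap.congr_fun hφ₁' x)
    exact this
  obtain ⟨d₁', hd₁'⟩ := Module.projective_lifting_property (red (P := P) ι₀) χ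
    (red_surjective hsurj ι₀)
  have hd₁'' : ∀ v, red ι₀ (d₁' v) = d₁ (red ι₁ v) := fun v => LinearMap.congr_fun hd₁' v
  have hfg0 : ∀ (N : Type u) [AddCommGroup N] [Module P' N] [Module P N] [IsScalarTower P' P N]
      (y : N), (f * g) • y = 0 := by
    intro N _ _ _ _ y
    rw [mul_comm, mul_smul, smul_eq_zero_of_ker f hf0, smul_zero]
  have hmem : ∀ x, red ι₁ (φ₁' (d x)) ∈ LinearMap.ker d₁ := by
    intro x
    rw [LinearMap.mem_ker, hφ₁, hd, map_smul, map_smul]
    exact hfg0 _ _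
  let εZ : E →ₗ[P'] (LinearMap.ker d₁) :=
    { toFun := fun x => ⟨red ι₁ (φ₁' (d x)), hmem x⟩
      map_add' := fun x y => Subtype.ext (by simp [map_add])
      map_smul' := fun c x => Subtype.ext (by simp [map_smul]) }
  have hεZ_coe : ∀ x, ((εZ x : LinearMap.ker d₁) : ι₁ →₀ P) = red ι₁ (φ₁' (d x)) := fun x => rfl
  refine ⟨εZ, ?_, ?_, ?_⟩
  · intro x
    apply Subtype.ext
    rw [hεZ_coe, hd, map_smul, map_smul]
    exact hfg0 _ _
  · rw [hεZ_coe]
    exact map_mem_smul_top 𝔫 (red (P := P) ι₁ ∘ₗ φ₁') (d e) he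
  · intro j hj
    -- Claim A
    have hA : ∀ y ∈ 𝔫 • (⊤ : Submodule P' (LinearMap.ker d₁)),
        ∃ (y' u : ι₁ →₀ P'), red ι₁ y' = (y : ι₁ →₀ P) ∧ d₁' y' = f • d₁' u := by
      intro y hy
      refine Submodule.smul_induction_on hy ?_ ?_
      · intro n hn z _
        obtain ⟨z', hz'⟩ := red_surjective hsurj ι₁ (z : ι₁ →₀ P)
        have h1 : red (P := P) ι₀ (d₁' z') = 0 := by
          rw [hd₁'', hz']
          exact z.2
        obtain ⟨w, hw⟩ := exists_smul_of_red_eq_zero f hker ι₀ _ h1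
        refine ⟨n • z', 0, ?_, ?_⟩
        · rw [map_smul, hz']; rfl
        · rw [map_smul, hw, ← mul_smul, h𝔫f n hn, zero_smul, map_zero, smul_zero]
      · intro y₁ y₂ h₁ h₂
        obtain ⟨y₁', u₁, h11, h12⟩ := h₁
        obtain ⟨y₂', u₂, h21, h22⟩ := h₂
        refine ⟨y₁' + y₂', u₁ + u₂, ?_, ?_⟩
        · rw [map_add, h11, h21]; rfl
        · rw [map_add, h12, h22, map_add, smul_add]
    obtain ⟨y', u, hy', hu⟩ := hA _ hj
    have h2 : red (P := P) ι₁ (y' - g ^ j • φ₁' (d e)) = 0 := by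
      rw [map_sub, map_smul, hy']
      change g ^ j • ((εZ e : LinearMap.ker d₁) : ι₁ →₀ P) - _ = 0
      rw [hεZ_coe, sub_self]
    obtain ⟨u₂, hu₂⟩ := exists_smul_of_red_eq_zero f hker ι₁ _ h2
    -- Claim B
    have hB : ∀ y ∈ 𝔫 • (⊤ : Submodule P' E), d₁' (φ₁' y) = φ₀ (d y) := by
      intro y hy
      refine Submodule.smul_induction_on hy ?_ ?_
      · intro n hn x _
        have h3 : red (P := P) ι₀ (d₁' (φ₁' x) - φ₀ (d x)) = 0 := by
          rw [map_sub, hd₁'', hφ₁, sub_self]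
        obtain ⟨w, hw⟩ := exists_smul_of_red_eq_zero f hker ι₀ _ h3
        have h4 : n • (d₁' (φ₁' x) - φ₀ (d x)) = 0 := by
          rw [hw, ← mul_smul, h𝔫f n hn, zero_smul]
        rw [map_smul, map_smul, map_smul, map_smul]
        rw [smul_sub, sub_eq_zero] at h4
        exact h4
      · intro y₁ y₂ h₁ h₂
        rw [map_add, map_add, map_add, map_add, h₁, h₂]
    have h5 : d₁' (φ₁' (d e)) = (f * g) • φ₀ e := by
      rw [hB _ he, hd, map_smul]
    have h6 : f • (g ^ (j + 1) • φ₀ e - d₁' (u - u₂)) = 0 := by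
      have h7 : d₁' (g ^ j • φ₁' (d e)) = f • d₁' (u - u₂) := by
        have h8 : g ^ j • φ₁' (d e) = y' - f • u₂ := by rw [← hu₂]; abel
        rw [h8, map_sub, hu, map_smul, map_sub, smul_sub]
      rw [map_smul, h5] at h7
      rw [smul_sub, ← h7, ← mul_smul, ← mul_smul, pow_succ]
      have : f * (g ^ j * g) = g ^ j * (f * g) := by ring
      rw [this, sub_self]
    have h9 := mem_smul_top_of_smul_eq_zero f 𝔫 hann ι₀ _ h6
    have h10 := map_mem_smul_top 𝔫 q _ h9
    have h11 : q (g ^ (j + 1) • φ₀ e - d₁' (u - u₂)) = g ^ (j + 1) • ε e := by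
      rw [map_sub, map_smul]
      have h12 : q (φ₀ e) = ε e := hφ₀' e
      have h13 : q (d₁' (u - u₂)) = 0 := by
        change p (red ι₀ (d₁' (u - u₂))) = 0
        rw [hd₁'', ← LinearMap.mem_ker, ← hex]
        exact LinearMap.mem_range_self _ _
      rw [h12, h13, sub_zero]
    rw [h11] at h10
    exact h10

end Step

section Key

variable {P' P : Type u} [CommRing P'] [CommRing P] [Algebra P' P]

theorem shortExact_of_exact {M₁ M₂ M₃ : Type u} [AddCommGroup M₁] [Module P M₁]
    [AddCommGroup M₂] [Module P M₂] [AddCommGroup M₃] [Module P M₃]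
    (f : M₁ →ₗ[P] M₂) (g : M₂ →ₗ[P] M₃) (hf : Function.Injective f) (hg : Function.Surjective g)
    (hfg : Function.Exact f g) :
    (ModuleCat.shortComplexOfCompEqZero f g hfg.linearMap_comp_eq_zero).ShortExact where
  exact := (ShortComplex.ShortExact.moduleCat_exact_iff_function_exact _).mpr hfg
  mono_f := (ModuleCat.mono_iff_injective _).mpr hf
  epi_g := (ModuleCat.epi_iff_surjective _).mpr hg

variable (hsurj : Function.Surjective (algebraMap P' P)) (f g : P')
  (hker : RingHom.ker (algebraMap P' P) = Ideal.span {f})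
  (𝔫 : Ideal P') (h𝔫f : ∀ y ∈ 𝔫, y * f = 0) (hann : ∀ y, y * f = 0 → y ∈ 𝔫)
  {E : Type u} [AddCommGroup E] [Module P' E] [Module.Projective P' E]
  (d : E →ₗ[P'] E) (hd : ∀ x, d (d x) = (f * g) • x) (e : E)
  (he : d e ∈ 𝔫 • (⊤ : Submodule P' E))

set_option maxHeartbeats 400000 in
include hsurj hker h𝔫f hann hd he in
theorem key : ∀ (i : ℕ) (M : Type u) [AddCommGroup M] [Module P' M] [Module P M]
    [IsScalarTower P' P M] (ε : E →ₗ[P'] M), (∀ x, ε (d x) = 0) →
    HasProjectiveDimensionLT (ModuleCat.of P M) (2 * i) →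
    g ^ i • ε e ∈ 𝔫 • (⊤ : Submodule P' M) := by
  intro i
  induction i with
  | zero =>
    intro M _ _ _ _ ε _ hpd
    have hz : IsZero (ModuleCat.of P M) := (hasProjectiveDimensionLT_zero_iff_isZero _).mp hpd
    haveI : Subsingleton M := ModuleCat.subsingleton_of_isZero hz
    rw [Subsingleton.elim (g ^ 0 • ε e) 0]
    exact Submodule.zero_mem _
  | succ i ih =>
    intro M _ _ _ _ ε hε hpd
    -- presentation
    let p : (M →₀ P) →ₗ[P] M := Finsupp.linearCombination P (id : M → M)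
    have hp : Function.Surjective p := Finsupp.linearCombination_id_surjective P M
    let Z₁ : Submodule P (M →₀ P) := LinearMap.ker p
    let p₁ : (Z₁ →₀ P) →ₗ[P] Z₁ := Finsupp.linearCombination P (id : Z₁ → Z₁)
    have hp₁ : Function.Surjective p₁ := Finsupp.linearCombination_id_surjective P Z₁
    let d₁ : (Z₁ →₀ P) →ₗ[P] (M →₀ P) := Z₁.subtype ∘ₗ p₁
    have hex : LinearMap.range d₁ = LinearMap.ker p := by
      rw [LinearMap.range_comp, LinearMap.range_eq_top.mpr hp₁, Submodule.map_top,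
        Submodule.range_subtype]
    obtain ⟨εZ, hεZ, hmem, himp⟩ := step hsurj f g hker 𝔫 h𝔫f hann d hd e he M ε hε p hp d₁ hex
    -- projective dimension of `Z₁`
    have hS₁ := shortExact_of_exact (M₁ := Z₁) (M₂ := M →₀ P) (M₃ := M) Z₁.subtype p
      Subtype.val_injective hp (LinearMap.exact_subtype_ker_map p)
    have hF₀ : Projective (ModuleCat.of P (M →₀ P)) :=
      (IsProjective.iff_projective _).mp inferInstance
    have hF₁ : Projective (ModuleCat.of P (Z₁ →₀ P)) :=
      (IsProjective.iff_projective _).mp inferInstance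
    have hZ₁ : HasProjectiveDimensionLT (ModuleCat.of P Z₁) (2 * i + 1) := by
      have h2 : HasProjectiveDimensionLT (ModuleCat.of P (M →₀ P)) (2 * i + 1) :=
        hasProjectiveDimensionLT_of_ge _ 1 (2 * i + 1) (by omega)
      exact hS₁.hasProjectiveDimensionLT_X₁ (2 * i + 1) h2 hpd
    have hkerd₁ : ∀ y : Z₁ →₀ P, d₁ y = 0 ↔ p₁ y = 0 := by
      intro y
      constructor
      · intro h
        exact Subtype.ext h
      · intro h
        change Z₁.subtype (p₁ y) = 0
        rw [h, map_zero]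
    rcases Nat.eq_zero_or_pos i with hi | hi
    · subst hi
      -- `Z₁` is projective
      have hZ₁p : Projective (ModuleCat.of P Z₁) :=
        projective_iff_hasProjectiveDimensionLT_one.mpr hZ₁
      haveI : Module.Projective P Z₁ := (IsProjective.iff_projective _).mpr hZ₁p
      obtain ⟨s, hs⟩ := Module.projective_lifting_property p₁ LinearMap.id hp₁
      have hs' : ∀ z, p₁ (s z) = z := fun z => LinearMap.congr_fun hs z
      let ρ₀ : (Z₁ →₀ P) →ₗ[P] (Z₁ →₀ P) := LinearMap.id - s ∘ₗ p₁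
      have hρ₀ : ∀ y, ρ₀ y ∈ LinearMap.ker d₁ := by
        intro y
        rw [LinearMap.mem_ker, hkerd₁]
        change p₁ (y - s (p₁ y)) = 0
        rw [map_sub, hs', sub_self]
      let ρ : (Z₁ →₀ P) →ₗ[P] (LinearMap.ker d₁) := ρ₀.codRestrict _ hρ₀
      have hρz : ρ ((εZ e : LinearMap.ker d₁) : Z₁ →₀ P) = εZ e := by
        apply Subtype.ext
        change ((εZ e : LinearMap.ker d₁) : Z₁ →₀ P) - s (p₁ _) = _
        have : p₁ ((εZ e : LinearMap.ker d₁) : Z₁ →₀ P) = 0 := (hkerd₁ _).mp (εZ e).2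
        rw [this, map_zero, sub_zero]
      have h1 := map_mem_smul_top (N := Z₁ →₀ P) (N' := LinearMap.ker d₁) 𝔫
        (ρ.restrictScalars P') _ hmem
      change ρ _ ∈ _ at h1
      rw [hρz] at h1
      have h2 := himp 0 (by rw [pow_zero, one_smul]; exact h1)
      exact h2
    · -- shift twice
      have hS₂ := shortExact_of_exact (M₁ := LinearMap.ker d₁) (M₂ := Z₁ →₀ P) (M₃ := Z₁)
        (LinearMap.ker d₁).subtype p₁ Subtype.val_injective hp₁
        (by
          intro y
          constructor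
          · intro h
            exact ⟨⟨y, (hkerd₁ y).mpr h⟩, rfl⟩
          · rintro ⟨z, rfl⟩
            exact (hkerd₁ _).mp z.2)
      have hZ₂ : HasProjectiveDimensionLT (ModuleCat.of P (LinearMap.ker d₁)) (2 * i) := by
        have h2 : HasProjectiveDimensionLT (ModuleCat.of P (Z₁ →₀ P)) (2 * i) :=
          hasProjectiveDimensionLT_of_ge _ 1 (2 * i) (by omega)
        exact hS₂.hasProjectiveDimensionLT_X₁ (2 * i) h2 hZ₁
      have h3 : g ^ i • εZ e ∈ 𝔫 • (⊤ : Submodule P' (LinearMap.ker d₁)) :=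
        ih (LinearMap.ker d₁) εZ hεZ hZ₂
      exact himp i h3

end Key

section Factorization

variable {P' : Type u} [CommRing P']

theorem exists_factorization (𝔫 : Ideal P') : ∀ (m : ℕ) (a r : Fin m → P'), (∀ j, r j ∈ 𝔫) →
    ∃ (E : Type u) (_ : AddCommGroup E) (_ : Module P' E) (_ : Module.Free P' E)
      (d : E →ₗ[P'] E) (ε₀ : E →ₗ[P'] P') (e : E),
      (∀ x, d (d x) = (∑ j, r j * a j) • x) ∧ ε₀ e = 1 ∧
      (∀ x, ε₀ (d x) ∈ Ideal.span (Set.range a)) ∧ d e ∈ 𝔫 • (⊤ : Submodule P' E) := by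
  intro m
  induction m with
  | zero =>
    intro a r _
    refine ⟨P', inferInstance, inferInstance, inferInstance, 0, LinearMap.id, 1, ?_, rfl, ?_, ?_⟩
    · intro x
      simp
    · intro x
      simp
    · simp
  | succ m ih =>
    intro a r hr
    obtain ⟨E, _, _, _, d, ε₀, e, hd, hε₀e, hε₀d, hde⟩ :=
      ih (fun j => a j.succ) (fun j => r j.succ) (fun j => hr j.succ)
    let D : (E × E) →ₗ[P'] (E × E) :=
      (d ∘ₗ LinearMap.fst P' E E + a 0 • LinearMap.snd P' E E).prod
        (r 0 • LinearMap.fst P' E E - d ∘ₗ LinearMap.snd P' E E)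
    have hD : ∀ x y, D (x, y) = (d x + a 0 • y, r 0 • x - d y) := fun x y => rfl
    refine ⟨E × E, inferInstance, inferInstance, inferInstance, D, ε₀ ∘ₗ LinearMap.fst P' E E,
      (e, 0), ?_, hε₀e, ?_, ?_⟩
    · rintro ⟨x, y⟩
      rw [hD, hD, Fin.sum_univ_succ]
      simp only [map_add, map_sub, map_smul, hd, Prod.smul_mk, Prod.mk.injEq]
      constructor
      · simp only [smul_sub, add_smul, mul_smul]
        rw [smul_comm (a 0) (r 0) x]
        abel
      · simp only [smul_add, add_smul, mul_smul]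
        abel
    · rintro ⟨x, y⟩
      rw [hD]
      change ε₀ (d x + a 0 • y) ∈ _
      rw [map_add, map_smul]
      refine Ideal.add_mem _ ?_ ?_
      · refine Ideal.span_mono ?_ (hε₀d x)
        rintro _ ⟨j, rfl⟩
        exact ⟨j.succ, rfl⟩
      · rw [smul_eq_mul]
        exact Ideal.mul_mem_right _ _ (Ideal.subset_span ⟨0, rfl⟩)
    · rw [hD, map_zero, sub_zero, smul_zero, add_zero]
      have h1 : ((d e, r 0 • e) : E × E) = LinearMap.inl P' E E (d e) + r 0 • ((0, e) : E × E) := by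
        simp
      rw [h1]
      refine Submodule.add_mem _ ?_ ?_
      · exact map_mem_smul_top (P' := P') 𝔫 (LinearMap.inl P' E E) _ hde
      · exact Submodule.smul_mem_smul (hr 0) Submodule.mem_top

end Factorization

section Main

variable {P' P : Type u} [CommRing P'] [CommRing P] [Algebra P' P]

/-- **Main theorem.**  `P' → P` surjective with kernel `(f)`, `𝔫 = Ann(f)`, a relation
`∑ r j * a j = f * g` in `P'` with `r j ∈ 𝔫`.  If `M` is a `P`-module of projective dimension
`< 2 i` and `m₀ ∈ M` is killed by the `a j`, then `g ^ i • m₀ ∈ 𝔫 M`. -/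
theorem main (hsurj : Function.Surjective (algebraMap P' P)) (f g : P')
    (hker : RingHom.ker (algebraMap P' P) = Ideal.span {f})
    (𝔫 : Ideal P') (h𝔫f : ∀ y ∈ 𝔫, y * f = 0) (hann : ∀ y, y * f = 0 → y ∈ 𝔫)
    {m : ℕ} (a r : Fin m → P') (hr : ∀ j, r j ∈ 𝔫) (hsum : ∑ j, r j * a j = f * g)
    (M : Type u) [AddCommGroup M] [Module P M] (m₀ : M)
    (hm₀ : ∀ j, algebraMap P' P (a j) • m₀ = 0)
    (i : ℕ) (hpd : HasProjectiveDimensionLT (ModuleCat.of P M) (2 * i)) :
    algebraMap P' P (g ^ i) • m₀ ∈ (𝔫.map (algebraMap P' P)) • (⊤ : Submodule P M) := by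
  letI : Module P' M := Module.compHom M (algebraMap P' P)
  haveI : IsScalarTower P' P M := IsScalarTower.of_algebraMap_smul fun _ _ => rfl
  obtain ⟨E, _, _, _, d, ε₀, e, hd, hε₀e, hε₀d, hde⟩ := exists_factorization 𝔫 m a r hr
  let ε : E →ₗ[P'] M := (LinearMap.toSpanSingleton P' M m₀) ∘ₗ ε₀
  have hε_apply : ∀ x, ε x = ε₀ x • m₀ := fun x => rfl
  have hle : Ideal.span (Set.range a) ≤ LinearMap.ker (LinearMap.toSpanSingleton P' M m₀) := by
    rw [Ideal.span_le]
    rintro _ ⟨j, rfl⟩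
    change a j • m₀ = 0
    exact hm₀ j
  have hε : ∀ x, ε (d x) = 0 := by
    intro x
    have := hle (hε₀d x)
    exact this
  have hd' : ∀ x, d (d x) = (f * g) • x := by
    intro x
    rw [hd, hsum]
  have h1 := key hsurj f g hker 𝔫 h𝔫f hann d hd' e hde i M ε hε hpd
  rw [hε_apply, hε₀e, one_smul] at h1
  have h2 : ∀ y ∈ 𝔫 • (⊤ : Submodule P' M),
      y ∈ (𝔫.map (algebraMap P' P)) • (⊤ : Submodule P M) := by
    intro y hy
    refine Submodule.smul_induction_on hy ?_ ?_
    · intro n hn z _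
      change algebraMap P' P n • z ∈ _
      exact Submodule.smul_mem_smul (Ideal.mem_map_of_mem _ hn) Submodule.mem_top
    · intro y₁ y₂ h₁ h₂
      exact Submodule.add_mem _ h₁ h₂
  exact h2 _ h1

end Main

end Groth.Agent.H59.CurvedKill
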