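import Mathlib
import Groth.Prelude.Def_CAlgX

/-!
# Derivations and determinants

* `DetDeriv.derivation_prod`: Leibniz rule for finite products (ring-valued derivations).
* `DetDeriv.derivation_det`: `D (det M) = ∑ i p, adj(M) i p * D (M p i)`.
* `DetDeriv.pderiv_minor_mem`: the partial derivatives of an `(r+1)`-minor of the generic matrix
  lie in the ideal of `r`-minors.
* `DetDeriv.det_mul_thin`: `(r+1)`-minors of a product through `Fin r` vanish.
-/

set_option autoImplicit false
set_option linter.style.haveILetI false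

namespace Groth.Agent.H59.DetDeriv

open Matrix

section Deriv

variable {R A : Type*} [CommRing R] [CommRing A] [Algebra R A]

theorem derivation_prod {ι : Type*} [DecidableEq ι] (D : Derivation R A A) (s : Finset ι)
    (f : ι → A) : D (∏ i ∈ s, f i) = ∑ i ∈ s, (∏ j ∈ s.erase i, f j) * D (f i) := by
  induction s using Finset.induction_on with
  | empty => simp
  | insert a s ha ih =>
    rw [Finset.prod_insert ha, D.leibniz, ih, Finset.sum_insert ha, Finset.erase_insert ha,
      smul_eq_mul, smul_eq_mul, Finset.mul_sum, add_comm]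
    congr 1
    refine Finset.sum_congr rfl (fun i hi => ?_)
    have hia : i ≠ a := fun h => ha (h ▸ hi)
    rw [Finset.erase_insert_of_ne (Ne.symm hia), Finset.prod_insert (fun h => ha (Finset.mem_of_mem_erase h))]
    ring

theorem derivation_det {n : Type*} [Fintype n] [DecidableEq n] (D : Derivation R A A)
    (M : Matrix n n A) :
    D (M.det) = ∑ i, ∑ p, M.adjugate i p * D (M p i) := by
  have h1 : ∀ i, ∑ p, M.adjugate i p * D (M p i) = (M.updateCol i (fun p => D (M p i))).det := by
    intro i
    rw [← Matrix.cramer_apply, Matrix.cramer_eq_adjugate_mulVec]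
    simp [Matrix.mulVec, dotProduct]
  simp_rw [h1]
  rw [Matrix.det_apply, map_sum]
  simp_rw [Matrix.det_apply]
  rw [Finset.sum_comm]
  refine Finset.sum_congr rfl (fun σ _ => ?_)
  rw [D.map_smul_of_tower, derivation_prod, Finset.smul_sum]
  refine Finset.sum_congr rfl (fun i _ => ?_)
  congr 1
  rw [← Finset.mul_prod_erase Finset.univ _ (Finset.mem_univ i), Matrix.updateCol_self, mul_comm]
  congr 1
  refine Finset.prod_congr rfl (fun j hj => ?_)
  rw [Matrix.updateCol_ne (Finset.ne_of_mem_erase hj)]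

end Deriv

section Minor

universe u

variable (R : Type u) [CommRing R] (n m : ℕ)

/-- the generic `n × m` matrix -/
noncomputable abbrev gX : Matrix (Fin n) (Fin m) (MvPolynomial (Fin n × Fin m) R) :=
  Matrix.of fun (i : Fin n) (j : Fin m) => (MvPolynomial.X (i, j) : MvPolynomial (Fin n × Fin m) R)

theorem minor_mem (r : ℕ) (a : Fin r → Fin n) (b : Fin r → Fin m) :
    ((gX R n m).submatrix a b).det ∈ CAlgX.minorIdeal (gX R n m) r :=
  Ideal.subset_span ⟨(a, b), rfl⟩

theorem adjugate_mem (r : ℕ) (a' : Fin (r + 1) → Fin n) (b' : Fin (r + 1) → Fin m)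
    (i p : Fin (r + 1)) :
    ((gX R n m).submatrix a' b').adjugate i p ∈ CAlgX.minorIdeal (gX R n m) r := by
  rw [Matrix.adjugate_fin_succ_eq_det_submatrix]
  refine Ideal.mul_mem_left _ _ ?_
  exact minor_mem R n m r (a' ∘ p.succAbove) (b' ∘ i.succAbove)

theorem pderiv_minor_mem (r : ℕ) (a' : Fin (r + 1) → Fin n) (b' : Fin (r + 1) → Fin m)
    (v : Fin n × Fin m) :
    MvPolynomial.pderiv v ((gX R n m).submatrix a' b').det ∈ CAlgX.minorIdeal (gX R n m) r := by
  rw [derivation_det]
  refine Ideal.sum_mem _ (fun i _ => Ideal.sum_mem _ (fun p _ => ?_))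
  exact Ideal.mul_mem_right _ _ (adjugate_mem R n m r a' b' i p)

end Minor

section Thin

variable {A : Type*} [CommRing A]

/-- the determinant of a product `(r+1) × r` times `r × (r+1)` vanishes. -/
theorem det_mul_thin (r : ℕ) (U : Matrix (Fin (r + 1)) (Fin r) A)
    (V : Matrix (Fin r) (Fin (r + 1)) A) : (U * V).det = 0 := by
  set U' : Matrix (Fin (r + 1)) (Fin (r + 1)) A :=
    Matrix.of fun i j => if h : (j : ℕ) < r then U i ⟨j, h⟩ else 0 with hU'
  set V' : Matrix (Fin (r + 1)) (Fin (r + 1)) A :=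
    Matrix.of fun i j => if h : (i : ℕ) < r then V ⟨i, h⟩ j else 0 with hV'
  have hmul : U * V = U' * V' := by
    ext i j
    rw [Matrix.mul_apply, Matrix.mul_apply, Fin.sum_univ_castSucc]
    simp [hU', hV']
  rw [hmul, Matrix.det_mul]
  have : U'.det = 0 := by
    apply Matrix.det_eq_zero_of_column_eq_zero (Fin.last r)
    intro i
    simp [hU']
  rw [this, zero_mul]

theorem det_submatrix_mul_thin {α β : Type*} (r : ℕ) (U : Matrix α (Fin r) A)
    (V : Matrix (Fin r) β A) (a' : Fin (r + 1) → α) (b' : Fin (r + 1) → β) :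
    ((U * V).submatrix a' b').det = 0 := by
  have : (U * V).submatrix a' b' = U.submatrix a' id * V.submatrix id b' := by
    ext i j
    simp [Matrix.mul_apply]
  rw [this]
  exact det_mul_thin r _ _

/-- **Schur complement / bordered minors**: if all `(r+1)`-minors of `Z` vanish and the
`r`-minor on rows `a`, columns `b` is a unit, then `Z = Z[:,b] * Z[a,b]⁻¹ * Z[a,:]`. -/
theorem eq_mul_inv_mul {n m r : ℕ} (Z : Matrix (Fin n) (Fin m) A)
    (hZ : ∀ (a' : Fin (r + 1) → Fin n) (b' : Fin (r + 1) → Fin m), (Z.submatrix a' b').det = 0)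
    (a : Fin r → Fin n) (b : Fin r → Fin m) (hu : IsUnit (Z.submatrix a b).det) :
    Z = Z.submatrix id b * (Z.submatrix a b)⁻¹ * Z.submatrix a id := by
  ext i j
  set f : Fin r ⊕ Fin 1 → Fin n := Sum.elim a (fun _ => i) with hf
  set g : Fin r ⊕ Fin 1 → Fin m := Sum.elim b (fun _ => j) with hg
  have hblocks : Z.submatrix f g = Matrix.fromBlocks (Z.submatrix a b)
      (Z.submatrix a (fun _ : Fin 1 => j)) (Z.submatrix (fun _ : Fin 1 => i) b)
      (Z.submatrix (fun _ : Fin 1 => i) (fun _ : Fin 1 => j)) := by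
    ext p q
    rcases p with p | p <;> rcases q with q | q <;> simp [hf, hg]
  have hdet0 : (Z.submatrix f g).det = 0 := by
    have e : Fin (r + 1) ≃ Fin r ⊕ Fin 1 := finSumFinEquiv.symm
    rw [← Matrix.det_submatrix_equiv_self e (Z.submatrix f g)]
    exact hZ (f ∘ e) (g ∘ e)
  letI : Invertible (Z.submatrix a b) := Matrix.invertibleOfIsUnitDet _ hu
  rw [hblocks, Matrix.det_fromBlocks₁₁] at hdet0
  have h2 : (Z.submatrix (fun _ : Fin 1 => i) (fun _ : Fin 1 => j) -
      Z.submatrix (fun _ : Fin 1 => i) b * ⅟(Z.submatrix a b) *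
        Z.submatrix a (fun _ : Fin 1 => j)).det = 0 := by
    rcases hu.mul_left_cancel (b := _) (c := 0) (by rw [hdet0, mul_zero]) with h
    exact h
  rw [Matrix.det_fin_one, Matrix.sub_apply, sub_eq_zero, Matrix.invOf_eq_nonsing_inv] at h2
  rw [Matrix.submatrix_apply] at h2
  rw [h2]
  simp [Matrix.mul_apply]

end Thin

end Groth.Agent.H59.DetDeriv
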