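import Mathlib
import Groth.Agent.H59.BitabSFT

/-!
# The determinantal ring is the dehomogenisation of a Schubert cone

`K[X]/I_t ≅ K[p_θ]/(J(w_t) + (p_ι - 1))`.
-/

set_option autoImplicit false
set_option linter.unusedSectionVars false

namespace Groth.Agent.H59.DetIso

open W4bk4grassmannian MvPolynomial Groth.Agent.H59.SMTIndep Groth.Agent.H59.PrimeIota
open Groth.Agent.H59.SMT Groth.Agent.H59.Bitab

section homog

variable (K : Type*) [Field K] {m n : ℕ} (w : Idx n (n + m))

/-- the composite `K[p_θ] → K[X] → L`. -/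
noncomputable def Psi : PlRing K n (n + m) →ₐ[K] LL K m n := (eval0 K w).comp (evT K m n)

/-- the inclusion of the polynomial ring in its fraction field. -/
noncomputable abbrev aa : MvPolynomial (Var n (n + m)) K →+* LL K m n := algebraMap _ _

/-- `p_ι` at the generic point. -/
noncomputable abbrev dl : LL K m n := aa K (D K w (iota (Nat.le_add_right n m)))

theorem dl_ne_zero : dl K w ≠ 0 := by
  intro h
  apply D_iota_ne_zero K w
  exact (IsFractionRing.injective (MvPolynomial (Var n (n + m)) K) (LL K m n))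
    (h.trans (map_zero _).symm)

theorem Psi_X (θ : Idx n (n + m)) : Psi K w (X θ) = aa K (D K w θ) * (dl K w)⁻¹ :=
  eval0_evT_X K w θ

/-- homogenisation. -/
theorem homog (F : PlRing K n (n + m)) : ∃ N₀ : ℕ, ∀ N, N₀ ≤ N → ∃ G : PlRing K n (n + m),
    F - G ∈ Ideal.span {(X (iota (Nat.le_add_right n m)) - 1 : PlRing K n (n + m))} ∧
      aa K (psi K w G) = (dl K w) ^ N * Psi K w F := by
  induction F using MvPolynomial.induction_on with
  | C a =>
    refine ⟨0, fun N _ => ⟨C a * X (iota (Nat.le_add_right n m)) ^ N, ?_, ?_⟩⟩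
    · have h1 : (C a : PlRing K n (n + m)) - C a * X (iota (Nat.le_add_right n m)) ^ N
          = - C a * (X (iota (Nat.le_add_right n m)) ^ N - 1 ^ N) := by
        rw [one_pow]
        ring
      rw [h1]
      apply Ideal.mul_mem_left
      rw [Ideal.mem_span_singleton]
      exact sub_dvd_pow_sub_pow _ _ N
    · rw [map_mul, map_pow, psi_X, map_mul, map_pow]
      have h2 : psi K w (C a) = C a := (psi K w).commutes a
      have h3 : Psi K w (C a) = algebraMap K (LL K m n) a := (Psi K w).commutes a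
      rw [h2, h3, mul_comm]
      congr 1
  | add p q hp hq =>
    obtain ⟨N₁, h₁⟩ := hp
    obtain ⟨N₂, h₂⟩ := hq
    refine ⟨max N₁ N₂, fun N hN => ?_⟩
    obtain ⟨G₁, hG₁, hG₁'⟩ := h₁ N (le_trans (le_max_left _ _) hN)
    obtain ⟨G₂, hG₂, hG₂'⟩ := h₂ N (le_trans (le_max_right _ _) hN)
    refine ⟨G₁ + G₂, ?_, ?_⟩
    · have : p + q - (G₁ + G₂) = (p - G₁) + (q - G₂) := by ring
      rw [this]
      exact Ideal.add_mem _ hG₁ hG₂
    · rw [map_add, map_add, hG₁', hG₂', map_add, mul_add]
  | mul_X p θ hp =>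
    obtain ⟨N₁, h₁⟩ := hp
    refine ⟨N₁ + 1, fun N hN => ?_⟩
    obtain ⟨N', rfl⟩ : ∃ N', N = N' + 1 := ⟨N - 1, by omega⟩
    obtain ⟨G₁, hG₁, hG₁'⟩ := h₁ N' (by omega)
    refine ⟨G₁ * X θ, ?_, ?_⟩
    · have : p * X θ - G₁ * X θ = (p - G₁) * X θ := by ring
      rw [this]
      exact Ideal.mul_mem_right _ _ hG₁
    · rw [map_mul, map_mul, hG₁', psi_X, map_mul, Psi_X, pow_succ]
      have := dl_ne_zero K w
      field_simp

end homog

section kernel

variable (K : Type*) [Field K] [Infinite K] {m n : ℕ} (t : ℕ)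
  (h1 : 1 ≤ t) (hm : t ≤ m + 1) (hn : t ≤ n + 1)

/-- the determinantal ring. -/
abbrev Rt (K : Type*) [Field K] (m n t : ℕ) : Type _ :=
  MvPolynomial (Fin m × Fin n) K ⧸ CAlgX.minorIdeal (genMatrix K m n) t

/-- the surjection from the Plücker algebra onto the determinantal ring. -/
noncomputable def piMap : PlRing K n (n + m) →ₐ[K] Rt K m n t :=
  (Ideal.Quotient.mkₐ K (CAlgX.minorIdeal (genMatrix K m n) t)).comp (evT K m n)

omit [Infinite K] in
theorem piMap_surjective : Function.Surjective (piMap K (m := m) (n := n) t) :=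
  (Ideal.Quotient.mkₐ_surjective K _).comp (evT_surjective K m n)

include hn in
theorem piMap_eq_zero_iff (hn0 : 0 < n) (F : PlRing K n (n + m)) :
    piMap K t F = 0 ↔ Psi K (wt m n t h1 hm) F = 0 := by
  have h := ker_eval0 K t h1 hm hn hn0
  unfold piMap Psi
  rw [AlgHom.comp_apply, AlgHom.comp_apply, Ideal.Quotient.mkₐ_eq_mk, Ideal.Quotient.eq_zero_iff_mem,
    ← h, RingHom.mem_ker]
  rfl

include hn in
/-- the kernel of the surjection. -/
theorem ker_piMap (hn0 : 0 < n) :
    RingHom.ker (piMap K (m := m) (n := n) t).toRingHom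
      = schubertVanishing K n (n + m) (wt m n t h1 hm)
        ⊔ Ideal.span {(X (iota (Nat.le_add_right n m)) - 1 : PlRing K n (n + m))} := by
  apply le_antisymm
  · intro F hF
    have hF' : piMap K t F = 0 := hF
    rw [piMap_eq_zero_iff K t h1 hm hn hn0] at hF'
    obtain ⟨N₀, hN⟩ := homog K (wt m n t h1 hm) F
    obtain ⟨G, hG, hG'⟩ := hN N₀ le_rfl
    rw [hF', mul_zero] at hG'
    have h0 : psi K (wt m n t h1 hm) G = 0 :=
      (IsFractionRing.injective (MvPolynomial (Var n (n + m)) K) (LL K m n))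
        (hG'.trans (map_zero _).symm)
    have hGJ : G ∈ schubertVanishing K n (n + m) (wt m n t h1 hm) := by
      rw [← Groth.Agent.H59.Shape.ker_psi_eq K hn0]
      exact h0
    have : F = G + (F - G) := by ring
    rw [this]
    exact Ideal.add_mem _ (Ideal.mem_sup_left hGJ) (Ideal.mem_sup_right hG)
  · apply sup_le
    · rw [← plIdeal_eq_schubertVanishing K hn0]
      unfold plIdeal
      rw [Ideal.span_le]
      rintro f (⟨i, j, r, hp, rfl⟩ | ⟨φ, hφ, rfl⟩)
      · have hmem : shuffleRel K i j r ∈ plIdealTop (d := n) (n := n + m) K :=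
          Ideal.subset_span ⟨i, j, r, hp, rfl⟩
        have h0 := evA_eq_zero_of_mem K (TmOf (genMatrix K m n)) _ hmem
        have h2 : evT K m n (shuffleRel K i j r) = 0 := h0
        show piMap K t (shuffleRel K i j r) = 0
        unfold piMap
        rw [AlgHom.comp_apply, h2, map_zero]
      · show piMap K t (X φ) = 0
        unfold piMap
        rw [AlgHom.comp_apply, Ideal.Quotient.mkₐ_eq_mk, Ideal.Quotient.eq_zero_iff_mem]
        exact evT_mem_minorIdeal K t h1 hm hn φ hφ
    · rw [Ideal.span_le, Set.singleton_subset_iff]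
      show piMap K t (X (iota (Nat.le_add_right n m)) - 1) = 0
      unfold piMap
      rw [AlgHom.comp_apply, map_sub, evT_iota, map_one, sub_self, map_zero]

end kernel

end Groth.Agent.H59.DetIso
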