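import Mathlib
import Groth.Agent.H59.BitabGen2

/-!
# The first fundamental theorem for `GL_n`: the chart identity
-/

set_option autoImplicit false

namespace Groth.Agent.H59.GLFFT

open W4bk4grassmannian MvPolynomial Groth.Agent.H59.Bitab

section points

variable (K : Type*) [Field K] {n m q : ℕ}

/-- the point of the space of pairs of matrices with coordinates `U`, `W`. -/
def mkx (U : Matrix (Fin m) (Fin n) K) (W : Matrix (Fin n) (Fin q) K) :
    (Fin m × Fin n) ⊕ (Fin n × Fin q) → K :=
  Sum.elim (fun p => U p.1 p.2) (fun p => W p.1 p.2)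

/-- the left matrix of a point. -/
def Ux (x : (Fin m × Fin n) ⊕ (Fin n × Fin q) → K) : Matrix (Fin m) (Fin n) K :=
  Matrix.of fun i k => x (Sum.inl (i, k))

/-- the right matrix of a point. -/
def Wx (x : (Fin m × Fin n) ⊕ (Fin n × Fin q) → K) : Matrix (Fin n) (Fin q) K :=
  Matrix.of fun k j => x (Sum.inr (k, j))

omit [Field K] in
theorem mkx_Ux_Wx (x : (Fin m × Fin n) ⊕ (Fin n × Fin q) → K) : mkx K (Ux K x) (Wx K x) = x := by
  funext p
  rcases p with p | p <;> rfl

theorem eval_glTranslate (A : GL (Fin n) K) (U : Matrix (Fin m) (Fin n) K)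
    (W : Matrix (Fin n) (Fin q) K) (f : PairRing K n m q) :
    eval (mkx K U W) (glTranslate K n m q A f)
      = eval (mkx K (U * ((A⁻¹ : GL (Fin n) K) : Matrix (Fin n) (Fin n) K))
          ((A : Matrix (Fin n) (Fin n) K) * W)) f := by
  have hcomp : (eval (mkx K U W)).comp (glTranslate K n m q A).toRingHom
      = eval (mkx K (U * ((A⁻¹ : GL (Fin n) K) : Matrix (Fin n) (Fin n) K))
          ((A : Matrix (Fin n) (Fin n) K) * W)) := by
    apply MvPolynomial.ringHom_ext
    · intro a
      rw [RingHom.comp_apply, eval_C]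
      show eval (mkx K U W) (glTranslate K n m q A (C a)) = a
      rw [show (C a : PairRing K n m q) = algebraMap K _ a from rfl, AlgHom.commutes]
      exact eval_C a
    · intro p
      rw [RingHom.comp_apply, eval_X]
      show eval (mkx K U W) (glTranslate K n m q A (X p)) = _
      unfold glTranslate
      rw [aeval_X]
      rcases p with p | p
      · simp only [Sum.elim_inl, map_sum, map_mul, eval_X, eval_C, mkx, Matrix.mul_apply]
      · simp only [Sum.elim_inr, map_sum, map_mul, eval_X, eval_C, mkx, Matrix.mul_apply]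
  exact congrArg (fun F => F f) hcomp

theorem eval_pairingMap (U : Matrix (Fin m) (Fin n) K) (W : Matrix (Fin n) (Fin q) K)
    (F : MvPolynomial (Fin m × Fin q) K) :
    eval (mkx K U W) (pairingMap K n m q F) = eval (fun p : Fin m × Fin q => (U * W) p.1 p.2) F := by
  have hcomp : (eval (mkx K U W)).comp (pairingMap K n m q).toRingHom
      = eval (fun p : Fin m × Fin q => (U * W) p.1 p.2) := by
    apply MvPolynomial.ringHom_ext
    · intro a
      rw [RingHom.comp_apply, eval_C]
      show eval (mkx K U W) (pairingMap K n m q (C a)) = a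
      rw [show (C a : MvPolynomial (Fin m × Fin q) K) = algebraMap K _ a from rfl, AlgHom.commutes]
      exact eval_C a
    · intro p
      rw [RingHom.comp_apply, eval_X]
      show eval (mkx K U W) (pairingMap K n m q (X p)) = _
      unfold pairingMap
      rw [aeval_X]
      simp only [map_sum, map_mul, eval_X, mkx, Sum.elim_inl, Sum.elim_inr, Matrix.mul_apply]
  exact congrArg (fun G => G F) hcomp

end points

section matrix

variable {K : Type*} [Field K] {n m q : ℕ}

/-- the normal form of a pair `(U, W)` whose leading blocks are invertible, in terms of `U W`. -/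
theorem chart_matrix_identity (U : Matrix (Fin (n + m)) (Fin n) K)
    (W : Matrix (Fin n) (Fin (n + q)) K)
    (hδ : ((U * W).submatrix (Fin.castAdd m) (Fin.castAdd q)).det ≠ 0) :
    ∃ A : GL (Fin n) K,
      U * ((A⁻¹ : GL (Fin n) K) : Matrix (Fin n) (Fin n) K)
        = (((U * W).submatrix (Fin.castAdd m) (Fin.castAdd q)).det)⁻¹ •
          ((U * W).submatrix id (Fin.castAdd q)
            * ((U * W).submatrix (Fin.castAdd m) (Fin.castAdd q)).adjugate) ∧
      (A : Matrix (Fin n) (Fin n) K) * W = (U * W).submatrix (Fin.castAdd m) id := by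
  set U₁ := U.submatrix (Fin.castAdd m) id with hU₁
  set W' := W.submatrix id (Fin.castAdd q) with hW'
  have e1 : (U * W).submatrix (Fin.castAdd m) (Fin.castAdd q) = U₁ * W' := by
    rw [hU₁, hW', Matrix.submatrix_mul _ _ _ id _ Function.bijective_id]
  have e2 : (U * W).submatrix id (Fin.castAdd q) = U * W' := by
    rw [hW', Matrix.submatrix_mul _ _ _ id _ Function.bijective_id]
    rfl
  have e3 : (U * W).submatrix (Fin.castAdd m) id = U₁ * W := by
    rw [hU₁, Matrix.submatrix_mul _ _ _ id _ Function.bijective_id]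
    rfl
  rw [e1, Matrix.det_mul] at hδ
  have hU : U₁.det ≠ 0 := left_ne_zero_of_mul hδ
  have hW : W'.det ≠ 0 := right_ne_zero_of_mul hδ
  refine ⟨Matrix.GeneralLinearGroup.mkOfDetNeZero U₁ hU, ?_, ?_⟩
  · rw [e1, e2, Matrix.coe_units_inv]
    have hA : ((Matrix.GeneralLinearGroup.mkOfDetNeZero U₁ hU : GL (Fin n) K) :
        Matrix (Fin n) (Fin n) K) = U₁ := rfl
    rw [hA, Matrix.inv_def, Ring.inverse_eq_inv', Matrix.adjugate_mul_distrib, Matrix.det_mul,
      ← Matrix.mul_assoc, Matrix.mul_assoc U, Matrix.mul_adjugate]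
    have h5 : U * (W'.det • (1 : Matrix (Fin n) (Fin n) K)) * U₁.adjugate
        = W'.det • (U * U₁.adjugate) := by
      rw [Matrix.mul_smul, Matrix.mul_one, Matrix.smul_mul]
    rw [h5, Matrix.mul_smul, smul_smul]
    congr 1
    field_simp
  · rw [e3]
    rfl

end matrix

section chart

variable (K : Type*) [Field K] (n m q : ℕ)

/-- the leading `n × n` minor of the generic `(n + m) × (n + q)` matrix. -/
noncomputable def δg : MvPolynomial (Fin (n + m) × Fin (n + q)) K :=
  ((genMatrix K (n + m) (n + q)).submatrix (Fin.castAdd m) (Fin.castAdd q)).det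

/-- the matrix `Y' adj(Y₁')` over the polynomial ring. -/
noncomputable def Ng : Matrix (Fin (n + m)) (Fin n) (MvPolynomial (Fin (n + m) × Fin (n + q)) K) :=
  (genMatrix K (n + m) (n + q)).submatrix id (Fin.castAdd q)
    * ((genMatrix K (n + m) (n + q)).submatrix (Fin.castAdd m) (Fin.castAdd q)).adjugate

/-- the substitution `U ↦ T · Y' adj(Y₁')`, `W ↦ Y₁`. -/
noncomputable def σ : PairRing K n (n + m) (n + q) →ₐ[K]
    Polynomial (MvPolynomial (Fin (n + m) × Fin (n + q)) K) :=
  aeval (Sum.elim
    (fun p : Fin (n + m) × Fin n => Polynomial.C (Ng K n m q p.1 p.2) * Polynomial.X)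
    (fun p : Fin n × Fin (n + q) =>
      Polynomial.C (genMatrix K (n + m) (n + q) (Fin.castAdd m p.1) p.2)))

variable {n m q}

/-- the matrix of a point. -/
def Yy (y : Fin (n + m) × Fin (n + q) → K) : Matrix (Fin (n + m)) (Fin (n + q)) K :=
  Matrix.of fun i j => y (i, j)

theorem genMatrix_map_eval (y : Fin (n + m) × Fin (n + q) → K) :
    (genMatrix K (n + m) (n + q)).map (eval y) = Yy K y := by
  ext i j
  rw [Matrix.map_apply]
  unfold genMatrix Yy
  rw [Matrix.of_apply, Matrix.of_apply, eval_X]

theorem eval_δg (y : Fin (n + m) × Fin (n + q) → K) :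
    eval y (δg K n m q) = ((Yy K y).submatrix (Fin.castAdd m) (Fin.castAdd q)).det := by
  unfold δg
  rw [RingHom.map_det, ← genMatrix_map_eval]
  rfl

theorem eval_Ng (y : Fin (n + m) × Fin (n + q) → K) (i : Fin (n + m)) (k : Fin n) :
    eval y (Ng K n m q i k)
      = ((Yy K y).submatrix id (Fin.castAdd q)
        * ((Yy K y).submatrix (Fin.castAdd m) (Fin.castAdd q)).adjugate) i k := by
  have h : (Ng K n m q).map (eval y) = (Yy K y).submatrix id (Fin.castAdd q)
        * ((Yy K y).submatrix (Fin.castAdd m) (Fin.castAdd q)).adjugate := by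
    unfold Ng
    rw [Matrix.map_mul]
    have h1 : (((genMatrix K (n + m) (n + q)).submatrix (Fin.castAdd m) (Fin.castAdd q)).adjugate).map
        (eval y) = ((Yy K y).submatrix (Fin.castAdd m) (Fin.castAdd q)).adjugate := by
      rw [← RingHom.mapMatrix_apply, RingHom.map_adjugate, RingHom.mapMatrix_apply,
        ← genMatrix_map_eval]
      rfl
    rw [h1, ← genMatrix_map_eval]
    rfl
  rw [← h, Matrix.map_apply]

theorem eval₂_σ (y : Fin (n + m) × Fin (n + q) → K) (c : K) (f : PairRing K n (n + m) (n + q)) :
    Polynomial.eval₂ (eval y) c (σ K n m q f)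
      = eval (mkx K (c • ((Yy K y).submatrix id (Fin.castAdd q)
          * ((Yy K y).submatrix (Fin.castAdd m) (Fin.castAdd q)).adjugate))
          ((Yy K y).submatrix (Fin.castAdd m) id)) f := by
  have hcomp : (Polynomial.eval₂RingHom (eval y) c).comp (σ K n m q).toRingHom
      = eval (mkx K (c • ((Yy K y).submatrix id (Fin.castAdd q)
          * ((Yy K y).submatrix (Fin.castAdd m) (Fin.castAdd q)).adjugate))
          ((Yy K y).submatrix (Fin.castAdd m) id)) := by
    apply MvPolynomial.ringHom_ext
    · intro a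
      rw [RingHom.comp_apply, eval_C]
      show Polynomial.eval₂ (eval y) c (σ K n m q (C a)) = a
      rw [show (C a : PairRing K n (n + m) (n + q)) = algebraMap K _ a from rfl, AlgHom.commutes]
      rw [show algebraMap K (Polynomial (MvPolynomial (Fin (n + m) × Fin (n + q)) K)) a
        = Polynomial.C (C a) from rfl, Polynomial.eval₂_C, eval_C]
    · intro p
      rw [RingHom.comp_apply, eval_X]
      show Polynomial.eval₂ (eval y) c (σ K n m q (X p)) = _
      unfold σ
      rw [aeval_X]
      rcases p with p | p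
      · simp only [Sum.elim_inl, Polynomial.eval₂_mul, Polynomial.eval₂_C, Polynomial.eval₂_X,
          eval_Ng, mkx, Matrix.smul_apply, smul_eq_mul]
        ring
      · simp only [Sum.elim_inr, Polynomial.eval₂_C, mkx, genMatrix, Matrix.of_apply, eval_X,
          Matrix.submatrix_apply, Yy, id]
  exact congrArg (fun F => F f) hcomp

/-- the polynomial in `Y` representing `δ^N f` in the chart. -/
noncomputable def Pg (f : PairRing K n (n + m) (n + q)) : MvPolynomial (Fin (n + m) × Fin (n + q)) K :=
  ∑ a ∈ Finset.range ((σ K n m q f).natDegree + 1),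
    (σ K n m q f).coeff a * δg K n m q ^ ((σ K n m q f).natDegree - a)

theorem eval_Pg (y : Fin (n + m) × Fin (n + q) → K) (hδ : eval y (δg K n m q) ≠ 0)
    (f : PairRing K n (n + m) (n + q)) :
    eval y (Pg K f) = eval y (δg K n m q) ^ (σ K n m q f).natDegree
      * Polynomial.eval₂ (eval y) (eval y (δg K n m q))⁻¹ (σ K n m q f) := by
  unfold Pg
  rw [Polynomial.eval₂_eq_sum_range, map_sum, Finset.mul_sum]
  refine Finset.sum_congr rfl fun a ha => ?_
  have ha' : a ≤ (σ K n m q f).natDegree := by
    have := Finset.mem_range.mp ha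
    omega
  rw [map_mul, map_pow]
  have h3 : eval y (δg K n m q) ^ (σ K n m q f).natDegree
      = eval y (δg K n m q) ^ ((σ K n m q f).natDegree - a) * eval y (δg K n m q) ^ a := by
    rw [← pow_add, Nat.sub_add_cancel ha']
  rw [h3, inv_pow]
  field_simp

theorem pairingMap_δg_ne_zero : pairingMap K n (n + m) (n + q) (δg K n m q) ≠ 0 := by
  intro h
  set U₀ : Matrix (Fin (n + m)) (Fin n) K := Matrix.of fun i k => if i.val = k.val then 1 else 0
    with hU₀
  set W₀ : Matrix (Fin n) (Fin (n + q)) K := Matrix.of fun k j => if k.val = j.val then 1 else 0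
    with hW₀
  have h1 := congrArg (eval (mkx K U₀ W₀)) h
  rw [eval_pairingMap, map_zero, eval_δg] at h1
  have h2 : (Yy K fun p : Fin (n + m) × Fin (n + q) => (U₀ * W₀) p.1 p.2).submatrix
      (Fin.castAdd m) (Fin.castAdd q) = 1 := by
    ext a b
    rw [Matrix.submatrix_apply, Matrix.one_apply]
    unfold Yy
    rw [Matrix.of_apply]
    show (U₀ * W₀) (Fin.castAdd m a) (Fin.castAdd q b) = _
    rw [Matrix.mul_apply]
    simp only [hU₀, hW₀, Matrix.of_apply, Fin.val_castAdd]
    rw [Finset.sum_eq_single a]
    · rw [if_pos rfl, one_mul]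
      by_cases hab : a = b
      · rw [if_pos hab, if_pos (by rw [hab])]
      · rw [if_neg hab, if_neg (fun h => hab (Fin.ext h))]
    · intro k _ hk
      rw [if_neg (fun h => hk (Fin.ext h.symm)), zero_mul]
    · intro h
      exact absurd (Finset.mem_univ a) h
  rw [h2, Matrix.det_one] at h1
  exact one_ne_zero h1

/-- the chart identity: a power of the leading minor times an invariant is a polynomial in the
entries of the product matrix. -/
theorem chart_identity [Infinite K] (f : PairRing K n (n + m) (n + q))
    (hf : ∀ A : GL (Fin n) K, glTranslate K n (n + m) (n + q) A f = f) :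
    pairingMap K n (n + m) (n + q) (δg K n m q) ^ (σ K n m q f).natDegree * f
      = pairingMap K n (n + m) (n + q) (Pg K f) := by
  have hzero : pairingMap K n (n + m) (n + q) (δg K n m q)
      * (pairingMap K n (n + m) (n + q) (δg K n m q) ^ (σ K n m q f).natDegree * f
        - pairingMap K n (n + m) (n + q) (Pg K f)) = 0 := by
    apply MvPolynomial.funext
    intro x
    rw [← mkx_Ux_Wx K x]
    set U := Ux K x with hU
    set W := Wx K x with hW
    rw [map_zero, map_mul, map_sub, map_mul, map_pow, eval_pairingMap, eval_pairingMap]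
    set y : Fin (n + m) × Fin (n + q) → K := fun p => (U * W) p.1 p.2 with hy
    by_cases hδ : eval y (δg K n m q) = 0
    · rw [hδ, zero_mul]
    · have hYy : Yy K y = U * W := by
        ext i j
        rfl
      have hδ' : ((U * W).submatrix (Fin.castAdd m) (Fin.castAdd q)).det ≠ 0 := by
        rw [← hYy, ← eval_δg]
        exact hδ
      obtain ⟨A, hA1, hA2⟩ := chart_matrix_identity U W hδ'
      have h1 : eval (mkx K U W) f
          = Polynomial.eval₂ (eval y) (eval y (δg K n m q))⁻¹ (σ K n m q f) := by
        rw [eval₂_σ, eval_δg, hYy, ← hA1, ← hA2, ← eval_glTranslate, hf A]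
      rw [eval_Pg K y hδ f, h1, sub_self, mul_zero]
  rcases mul_eq_zero.mp hzero with h | h
  · exact absurd h (pairingMap_δg_ne_zero K)
  · exact sub_eq_zero.mp h

end chart

end Groth.Agent.H59.GLFFT
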