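import Mathlib
import Groth.Agent.H59.GLChart

/-!
# The first fundamental theorem for `GL_n`: dividing by the leading minor
-/

set_option autoImplicit false

namespace Groth.Agent.H59.GLFFT

open W4bk4grassmannian MvPolynomial Groth.Agent.H59.Bitab Groth.Agent.H59.SMTIndep
open Groth.Agent.H59.PrimeIota

section leading

variable {r m q : ℕ}

/-- the leading minor as a minor index. -/
def M1 (r m q : ℕ) : MinorIdx (r + 1 + m) (r + 1 + q) :=
  mkMinor r ⟨fun k => Fin.castAdd m k, fun _ _ h => h⟩ ⟨fun k => Fin.castAdd q k, fun _ _ h => h⟩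

theorem minorOf_M1 (K : Type*) [Field K] : minorOf K (M1 r m q) = δg K (r + 1) m q := rfl

/-- the leading minor is the only minor of size at most `r + 1` below it. -/
theorem eq_M1_of_minorGE (M' : MinorIdx (r + 1 + m) (r + 1 + q)) (h : MinorGE (M1 r m q) M')
    (hs : M'.1 + 1 ≤ r + 1) : M' = M1 r m q := by
  obtain ⟨s', A', B'⟩ := M'
  have h1 : r ≤ s' := h.1
  have hs' : s' = r := by
    simp only at hs
    omega
  subst hs'
  have hA : A' = ⟨fun k => Fin.castAdd m k, fun _ _ h => h⟩ := by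
    apply Subtype.ext
    funext j
    apply Fin.ext
    have h2 := Fin.le_def.mp (h.2 j j rfl).1
    have h3 := Groth.Agent.H59.Straighten.strictMono_val_le A'.1 A'.2 j
    have h4 : (Fin.castAdd m j).val = j.val := rfl
    simp only [M1, mkMinor] at h2
    simp only [Fin.val_castAdd] at h2 ⊢
    omega
  have hB : B' = ⟨fun k => Fin.castAdd q k, fun _ _ h => h⟩ := by
    apply Subtype.ext
    funext j
    apply Fin.ext
    have h2 := Fin.le_def.mp (h.2 j j rfl).2
    have h3 := Groth.Agent.H59.Straighten.strictMono_val_le B'.1 B'.2 j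
    simp only [M1, mkMinor] at h2
    simp only [Fin.val_castAdd] at h2 ⊢
    omega
  rw [hA, hB]
  rfl

end leading

section div

variable (K : Type*) [Field K] {r m q : ℕ}

theorem c1 (r : ℕ) : 1 ≤ r + 2 := by omega
theorem c2 (r m : ℕ) : r + 2 ≤ r + 1 + m + 1 := by omega

/-- evaluation of functions of pairs at the factors of the generic point of a Schubert variety. -/
noncomputable def Eφ (φ : Idx (r + 1 + q) (r + 1 + q + (r + 1 + m))) :
    PairRing K (r + 1) (r + 1 + m) (r + 1 + q) →ₐ[K] LL K (r + 1 + m) (r + 1 + q) :=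
  evalUW K (padU (U0' K (r + 2) (c2 r q) φ) (r + 1)) (padW (W0' K (r + 2) (c2 r q) φ) (r + 1))

theorem Eφ_pairingMap (φ : Idx (r + 1 + q) (r + 1 + q + (r + 1 + m)))
    (hφ : φ ≤ wt (r + 1 + m) (r + 1 + q) (r + 2) (c1 r) (c2 r m))
    (F : MvPolynomial (Fin (r + 1 + m) × Fin (r + 1 + q)) K) :
    Eφ K φ (pairingMap K (r + 1) (r + 1 + m) (r + 1 + q) F) = eval0 K φ F := by
  unfold Eφ
  rw [evalUW_pairingMap, padU_mul_padW _ _ (by omega),
    ← X0_eq_mul' K (r + 2) (c1 r) (c2 r m) (c2 r q) φ hφ]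
  rfl

variable [Infinite K]

/-- the key divisibility statement: a polynomial in the entries of the product matrix which is
divisible by the leading minor in the ring of all functions is so already modulo the relations. -/
theorem exists_sub_mul_mem (P : MvPolynomial (Fin (r + 1 + m) × Fin (r + 1 + q)) K)
    (h : PairRing K (r + 1) (r + 1 + m) (r + 1 + q))
    (hP : pairingMap K (r + 1) (r + 1 + m) (r + 1 + q) P
      = pairingMap K (r + 1) (r + 1 + m) (r + 1 + q) (δg K (r + 1) m q) * h) :
    ∃ P₁ : MvPolynomial (Fin (r + 1 + m) × Fin (r + 1 + q)) K,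
      P - δg K (r + 1) m q * P₁
        ∈ CAlgX.minorIdeal (genMatrix K (r + 1 + m) (r + 1 + q)) (r + 2) := by
  classical
  set I := CAlgX.minorIdeal (genMatrix K (r + 1 + m) (r + 1 + q)) (r + 2) with hI
  have hspan : Ideal.Quotient.mk I P ∈
      Submodule.span K (Set.range fun b : BT (r + 1 + m) (r + 1 + q) (r + 2) =>
        Ideal.Quotient.mk I (Finset.univ.prod fun i => minorOf K (b.2.1 i))) := by
    rw [span_bitableaux K (r + 2) (c1 r) (c2 r m) (c2 r q)]
    exact Submodule.mem_top
  rw [Finsupp.mem_span_range_iff_exists_finsupp] at hspan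
  obtain ⟨l, hl⟩ := hspan
  choose u hu using fun b : BT (r + 1 + m) (r + 1 + q) (r + 2) => prod_minorOf_BT K (r + 2) b
  set top : BT (r + 1 + m) (r + 1 + q) (r + 2) → Prop := fun b => ∃ i, b.2.1 i = M1 r m q with htop
  -- factor the leading minor out of the bitableaux containing it
  have hfac : ∀ b : BT (r + 1 + m) (r + 1 + q) (r + 2), top b →
      ∃ ν : MvPolynomial (Fin (r + 1 + m) × Fin (r + 1 + q)) K,
        (∏ i, minorOf K (b.2.1 i)) = δg K (r + 1) m q * ν := by
    rintro b ⟨i₀, hi₀⟩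
    refine ⟨∏ i ∈ Finset.univ.erase i₀, minorOf K (b.2.1 i), ?_⟩
    rw [← Finset.mul_prod_erase _ _ (Finset.mem_univ i₀), hi₀, minorOf_M1]
  choose ν hν using hfac
  set P₁ := ∑ b ∈ l.support, if hb : top b then l b • ν b hb else 0 with hP₁
  set g := ∑ b ∈ l.support, if top b then 0 else l b • (∏ i, minorOf K (b.2.1 i)) with hg
  have hsum : ∑ b ∈ l.support, l b • (∏ i, minorOf K (b.2.1 i)) = δg K (r + 1) m q * P₁ + g := by
    rw [hP₁, hg, Finset.mul_sum, ← Finset.sum_add_distrib]
    refine Finset.sum_congr rfl fun b _ => ?_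
    by_cases hb : top b
    · rw [dif_pos hb, if_pos hb, add_zero, hν b hb, mul_smul_comm]
    · rw [dif_neg hb, if_neg hb, mul_zero, zero_add]
  have hPmem : P - (δg K (r + 1) m q * P₁ + g) ∈ I := by
    rw [← hsum, ← Ideal.Quotient.eq, ← hl, Finsupp.sum, map_sum]
    refine Finset.sum_congr rfl fun b _ => ?_
    exact (map_smul (Ideal.Quotient.mkₐ K I) _ _).symm
  -- `pairingMap g` is divisible by the leading minor
  have hgdiv : pairingMap K (r + 1) (r + 1 + m) (r + 1 + q) g
      = pairingMap K (r + 1) (r + 1 + m) (r + 1 + q) (δg K (r + 1) m q)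
        * (h - pairingMap K (r + 1) (r + 1 + m) (r + 1 + q) P₁) := by
    have h0 := minorIdeal_le_ker_pairingMap K (r + 1 + m) (r + 1 + q) (r + 1) hPmem
    rw [RingHom.mem_ker] at h0
    have h0' : pairingMap K (r + 1) (r + 1 + m) (r + 1 + q) (P - (δg K (r + 1) m q * P₁ + g)) = 0 :=
      h0
    rw [map_sub, map_add, map_mul, hP] at h0'
    have : pairingMap K (r + 1) (r + 1 + m) (r + 1 + q) g
        = pairingMap K (r + 1) (r + 1 + m) (r + 1 + q) (δg K (r + 1) m q) * h
          - pairingMap K (r + 1) (r + 1 + m) (r + 1 + q) (δg K (r + 1) m q)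
            * pairingMap K (r + 1) (r + 1 + m) (r + 1 + q) P₁ := by
      have := sub_eq_zero.mp h0'
      rw [this]
      ring
    rw [this]
    ring
  -- hence `g` vanishes at the generic points of the smaller Schubert varieties
  have hcoef : ∀ b ∈ l.support, ¬ top b → l b = 0 := by
    intro b₀ hb₀ hnt
    -- the Schubert variety carrying `b₀`
    obtain ⟨φ, hφw, hφM, hφb⟩ : ∃ φ : Idx (r + 1 + q) (r + 1 + q + (r + 1 + m)),
        φ ≤ wt (r + 1 + m) (r + 1 + q) (r + 2) (c1 r) (c2 r m) ∧ ¬ Phi (M1 r m q) ≤ φ ∧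
        ∀ k, (toCh (r + 2) b₀).2.1 k ≤ φ := by
      rcases Nat.eq_zero_or_pos b₀.1 with hk | hk
      · refine ⟨iota (Nat.le_add_right _ _), iota_le _ _, ?_, ?_⟩
        · intro hle
          exact Phi_ne_iota _ (le_antisymm hle (iota_le _ _))
        · intro k
          have hk' : k.val < b₀.1 := k.isLt
          omega
      · refine ⟨(toCh (r + 2) b₀).2.1 ⟨0, hk⟩, ?_, ?_, ?_⟩
        · exact (Phi_le_wt_iff (r + 2) (c1 r) (c2 r m) (c2 r q) _).mpr (b₀.2.2.1 _)
        · intro hle
          have h1 : MinorGE (M1 r m q) (b₀.2.1 (Fin.rev ⟨0, hk⟩)) := (Phi_le_iff _ _).mp hle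
          have h2 := eq_M1_of_minorGE _ h1 (b₀.2.2.1 _)
          exact hnt ⟨_, h2⟩
        · intro k
          have hle : (⟨0, hk⟩ : Fin (toCh (r + 2) b₀).1) ≤ k := Fin.le_def.mpr (Nat.zero_le _)
          exact (toCh (r + 2) b₀).2.2 hle
    have hev : eval0 K φ g = 0 := by
      rw [← Eφ_pairingMap K φ hφw, hgdiv, map_mul, Eφ_pairingMap K φ hφw, ← minorOf_M1,
        eval0_minorOf_eq_zero K φ _ hφM, zero_mul]
    have hg' : g = evT K (r + 1 + m) (r + 1 + q)
        (∑ b ∈ l.support, (if top b then 0 else l b * (u b : K)) •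
          chainMon K (toCh (r + 2) b).2.1) := by
      rw [map_sum, hg]
      refine Finset.sum_congr rfl fun b _ => ?_
      by_cases hb : top b
      · rw [if_pos hb, if_pos hb, zero_smul, map_zero]
      · rw [if_neg hb, if_neg hb, map_smul, hu b, ← smul_eq_C_mul, smul_smul]
    rw [hg'] at hev
    have h5 := coeff_eq_zero_of_eval0' K φ (by omega) (toCh (r + 2)) (toCh_injective (r + 2))
      (fun b k => Phi_ne_iota _) l.support
      (fun b => if top b then 0 else l b * (u b : K)) hev b₀ hb₀ hφb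
    rw [if_neg hnt] at h5
    rcases mul_eq_zero.mp h5 with h6 | h6
    · exact h6
    · exact absurd h6 (u b₀).ne_zero
  have hg0 : g = 0 := by
    rw [hg]
    apply Finset.sum_eq_zero
    intro b hb
    by_cases hb' : top b
    · rw [if_pos hb']
    · rw [if_neg hb', hcoef b hb hb', zero_smul]
  refine ⟨P₁, ?_⟩
  rw [hg0, add_zero] at hPmem
  exact hPmem

/-- cancelling powers of the leading minor. -/
theorem mem_range_of_pow_mul (N : ℕ) (f : PairRing K (r + 1) (r + 1 + m) (r + 1 + q))
    (P : MvPolynomial (Fin (r + 1 + m) × Fin (r + 1 + q)) K)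
    (hP : pairingMap K (r + 1) (r + 1 + m) (r + 1 + q) (δg K (r + 1) m q) ^ N * f
      = pairingMap K (r + 1) (r + 1 + m) (r + 1 + q) P) :
    f ∈ (pairingMap K (r + 1) (r + 1 + m) (r + 1 + q)).range := by
  induction N generalizing P with
  | zero =>
    rw [pow_zero, one_mul] at hP
    exact ⟨P, hP.symm⟩
  | succ N ih =>
    have h1 : pairingMap K (r + 1) (r + 1 + m) (r + 1 + q) P
        = pairingMap K (r + 1) (r + 1 + m) (r + 1 + q) (δg K (r + 1) m q)
          * (pairingMap K (r + 1) (r + 1 + m) (r + 1 + q) (δg K (r + 1) m q) ^ N * f) := by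
      rw [← hP]
      ring
    obtain ⟨P₁, hP₁⟩ := exists_sub_mul_mem K P _ h1
    have h2 := minorIdeal_le_ker_pairingMap K (r + 1 + m) (r + 1 + q) (r + 1) hP₁
    rw [RingHom.mem_ker] at h2
    have h2' : pairingMap K (r + 1) (r + 1 + m) (r + 1 + q) (P - δg K (r + 1) m q * P₁) = 0 := h2
    rw [map_sub, map_mul, sub_eq_zero, h1] at h2'
    have h3 := mul_left_cancel₀ (pairingMap_δg_ne_zero K) h2'
    exact ih P₁ h3

/-- the first fundamental theorem when both matrices have at least `n` rows (columns). -/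
theorem mem_range_of_invariant_big (f : PairRing K (r + 1) (r + 1 + m) (r + 1 + q))
    (hf : ∀ A : GL (Fin (r + 1)) K, glTranslate K (r + 1) (r + 1 + m) (r + 1 + q) A f = f) :
    f ∈ (pairingMap K (r + 1) (r + 1 + m) (r + 1 + q)).range :=
  mem_range_of_pow_mul K _ f _ (chart_identity K f hf)

end div

end Groth.Agent.H59.GLFFT
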