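import Mathlib
import Groth.Agent.H59.GLDiv

/-!
# The first fundamental theorem for `GL_n` acting on pairs of matrices
-/

set_option autoImplicit false

namespace Groth.Agent.H59.GLFFT

open W4bk4grassmannian MvPolynomial Groth.Agent.H59.Bitab

section easy

variable (K : Type*) [Field K] [Infinite K] (n m q : ℕ)

/-- polynomials in the entries of the product matrix are invariant. -/
theorem invariant_of_mem_range (f : PairRing K n m q) (hf : f ∈ (pairingMap K n m q).range)
    (A : GL (Fin n) K) : glTranslate K n m q A f = f := by
  obtain ⟨P, rfl⟩ := hf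
  show glTranslate K n m q A (pairingMap K n m q P) = pairingMap K n m q P
  apply MvPolynomial.funext
  intro x
  rw [← mkx_Ux_Wx K x, eval_glTranslate, eval_pairingMap, eval_pairingMap]
  have h : Ux K x * ((A⁻¹ : GL (Fin n) K) : Matrix (Fin n) (Fin n) K)
      * ((A : Matrix (Fin n) (Fin n) K) * Wx K x) = Ux K x * Wx K x := by
    rw [Matrix.mul_assoc, ← Matrix.mul_assoc _ (A : Matrix (Fin n) (Fin n) K), ← Units.val_mul,
      inv_mul_cancel, Units.val_one, Matrix.one_mul]
  rw [h]

end easy

section reduce

variable (K : Type*) [Field K] (n m q : ℕ)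

/-- adding `n` dummy rows and columns. -/
noncomputable def emb : PairRing K n m q →ₐ[K] PairRing K n (n + m) (n + q) :=
  rename (Sum.map (fun p : Fin m × Fin n => (Fin.natAdd n p.1, p.2))
    (fun p : Fin n × Fin q => (p.1, Fin.natAdd n p.2)))

/-- setting the dummy rows and columns to zero. -/
noncomputable def proj : PairRing K n (n + m) (n + q) →ₐ[K] PairRing K n m q :=
  aeval (Sum.elim
    (fun p : Fin (n + m) × Fin n =>
      Fin.addCases (fun _ => (0 : PairRing K n m q)) (fun i => X (Sum.inl (i, p.2))) p.1)
    (fun p : Fin n × Fin (n + q) =>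
      Fin.addCases (fun _ => (0 : PairRing K n m q)) (fun j => X (Sum.inr (p.1, j))) p.2))

/-- setting the dummy rows and columns of the product matrix to zero. -/
noncomputable def projY : MvPolynomial (Fin (n + m) × Fin (n + q)) K →ₐ[K]
    MvPolynomial (Fin m × Fin q) K :=
  aeval fun p : Fin (n + m) × Fin (n + q) =>
    Fin.addCases (fun _ => (0 : MvPolynomial (Fin m × Fin q) K))
      (fun i => Fin.addCases (fun _ => (0 : MvPolynomial (Fin m × Fin q) K))
        (fun j => X (i, j)) p.2) p.1

theorem proj_emb (f : PairRing K n m q) : proj K n m q (emb K n m q f) = f := by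
  have hcomp : (proj K n m q).comp (emb K n m q) = AlgHom.id K _ := by
    apply MvPolynomial.algHom_ext
    intro p
    rw [AlgHom.comp_apply, AlgHom.id_apply]
    unfold emb proj
    rw [rename_X, aeval_X]
    rcases p with p | p
    · simp only [Sum.map_inl, Sum.elim_inl, Fin.addCases_right]
    · simp only [Sum.map_inr, Sum.elim_inr, Fin.addCases_right]
  exact congrArg (fun F => F f) hcomp

theorem emb_glTranslate (A : GL (Fin n) K) (f : PairRing K n m q) :
    emb K n m q (glTranslate K n m q A f)
      = glTranslate K n (n + m) (n + q) A (emb K n m q f) := by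
  have hcomp : (emb K n m q).comp (glTranslate K n m q A)
      = (glTranslate K n (n + m) (n + q) A).comp (emb K n m q) := by
    apply MvPolynomial.algHom_ext
    intro p
    rw [AlgHom.comp_apply, AlgHom.comp_apply]
    unfold emb glTranslate
    rw [aeval_X, rename_X]
    rcases p with p | p
    · simp only [Sum.elim_inl, Sum.map_inl, aeval_X, map_sum, map_mul, rename_X, rename_C]
    · simp only [Sum.elim_inr, Sum.map_inr, aeval_X, map_sum, map_mul, rename_X, rename_C]
  exact congrArg (fun F => F f) hcomp

theorem proj_pairingMap (P : MvPolynomial (Fin (n + m) × Fin (n + q)) K) :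
    proj K n m q (pairingMap K n (n + m) (n + q) P) = pairingMap K n m q (projY K n m q P) := by
  have hcomp : (proj K n m q).comp (pairingMap K n (n + m) (n + q))
      = (pairingMap K n m q).comp (projY K n m q) := by
    apply MvPolynomial.algHom_ext
    rintro ⟨i', j'⟩
    rw [AlgHom.comp_apply, AlgHom.comp_apply]
    unfold pairingMap projY proj
    rw [aeval_X, aeval_X, map_sum]
    simp only [map_mul, aeval_X, Sum.elim_inl, Sum.elim_inr]
    refine Fin.addCases (fun a => ?_) (fun i => ?_) i'
    · simp only [Fin.addCases_left, zero_mul, Finset.sum_const_zero, map_zero]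
    · refine Fin.addCases (fun b => ?_) (fun j => ?_) j'
      · simp only [Fin.addCases_left, Fin.addCases_right, mul_zero, Finset.sum_const_zero,
          map_zero]
      · simp only [Fin.addCases_right, aeval_X]
  exact congrArg (fun F => F P) hcomp

end reduce

section main

variable (K : Type*) [Field K] [Infinite K] (n m q : ℕ)

/-- the first fundamental theorem for `GL_n` acting on pairs of matrices. -/
theorem mem_range_of_invariant (f : PairRing K n m q)
    (hf : ∀ A : GL (Fin n) K, glTranslate K n m q A f = f) :
    f ∈ (pairingMap K n m q).range := by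
  rcases Nat.eq_zero_or_pos n with hn | hn
  · subst hn
    have hC := MvPolynomial.eq_C_of_isEmpty f
    rw [hC]
    exact ⟨C (coeff 0 f), (pairingMap K 0 m q).commutes _⟩
  · obtain ⟨r, rfl⟩ : ∃ r, n = r + 1 := ⟨n - 1, by omega⟩
    have h1 : ∀ A : GL (Fin (r + 1)) K,
        glTranslate K (r + 1) (r + 1 + m) (r + 1 + q) A (emb K (r + 1) m q f)
          = emb K (r + 1) m q f := by
      intro A
      rw [← emb_glTranslate, hf A]
    obtain ⟨P, hP⟩ := mem_range_of_invariant_big K (emb K (r + 1) m q f) h1
    refine ⟨projY K (r + 1) m q P, ?_⟩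
    show pairingMap K (r + 1) m q (projY K (r + 1) m q P) = f
    rw [← proj_pairingMap]
    have hP' : pairingMap K (r + 1) (r + 1 + m) (r + 1 + q) P = emb K (r + 1) m q f := hP
    rw [hP', proj_emb]

end main

end Groth.Agent.H59.GLFFT
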