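import Mathlib

/-!
# A subring `S ⊆ B` of a normal domain with `S = B ∩ Frac S` is normal
-/

set_option autoImplicit false

namespace Groth.Agent.H59.InvNormal

/-- if `ι : S → B` is an injective ring map into an integrally closed domain such that every
`b ∈ B` with `ι s₂ * b = ι s₁`, `s₂ ≠ 0`, comes from `S`, then `S` is integrally closed. -/
theorem isIntegrallyClosed_of_injective {S B : Type*} [CommRing S] [IsDomain S] [CommRing B]
    [IsDomain B] [IsIntegrallyClosed B] (ι : S →+* B) (hι : Function.Injective ι)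
    (h : ∀ (b : B) (s₁ s₂ : S), s₂ ≠ 0 → ι s₂ * b = ι s₁ → ∃ s, ι s = b) :
    IsIntegrallyClosed S := by
  rw [isIntegrallyClosed_iff (FractionRing S)]
  intro z hz
  let i : S →+* FractionRing B := (algebraMap B (FractionRing B)).comp ι
  have hi : Function.Injective i := (IsFractionRing.injective B (FractionRing B)).comp hι
  let φ : FractionRing S →+* FractionRing B := IsFractionRing.lift hi
  have hφ : ∀ s : S, φ (algebraMap S (FractionRing S) s) = i s := fun s => IsFractionRing.lift_algebraMap hi s
  obtain ⟨p, hp, hpz⟩ := hz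
  have hint : IsIntegral B (φ z) := by
    refine ⟨p.map ι, hp.map ι, ?_⟩
    rw [Polynomial.eval₂_map]
    have h2 : (algebraMap B (FractionRing B)).comp ι = φ.comp (algebraMap S (FractionRing S)) := by
      ext s
      exact (hφ s).symm
    rw [h2, ← Polynomial.hom_eval₂, hpz, map_zero]
  obtain ⟨b, hb⟩ := IsIntegrallyClosed.isIntegral_iff.mp hint
  obtain ⟨s₁, s₂, rfl⟩ := IsLocalization.exists_mk'_eq (nonZeroDivisors S) z
  have hs₂ : (s₂ : S) ≠ 0 := nonZeroDivisors.coe_ne_zero s₂
  have hspec : IsLocalization.mk' (FractionRing S) s₁ s₂ * algebraMap S (FractionRing S) s₂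
      = algebraMap S (FractionRing S) s₁ := IsLocalization.mk'_spec _ _ _
  have h3 : algebraMap B (FractionRing B) (ι s₂ * b) = algebraMap B (FractionRing B) (ι s₁) := by
    have := congrArg φ hspec
    rw [map_mul, hφ, hφ, ← hb] at this
    rw [map_mul, mul_comm]
    exact this
  have h4 : ι s₂ * b = ι s₁ := IsFractionRing.injective B (FractionRing B) h3
  obtain ⟨s, rfl⟩ := h b s₁ s₂ hs₂ h4
  refine ⟨s, ?_⟩
  have h5 : (s₂ : S) * s = s₁ := hι (by rw [map_mul]; exact h4)
  have h6 : algebraMap S (FractionRing S) s₂ ≠ 0 := by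
    intro h0
    exact hs₂ (IsFractionRing.injective S (FractionRing S) (h0.trans (map_zero _).symm))
  apply mul_right_cancel₀ h6
  rw [hspec, ← map_mul, mul_comm, h5]

end Groth.Agent.H59.InvNormal
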