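import Mathlib
import Groth.Prelude.Def_W4bk4grassmannianPl
import Groth.Agent.H59.Straighten

/-!
# The Schubert divisors of `w`: combinatorics
-/

set_option autoImplicit false

namespace Groth.Agent.H59.DivComb

open W4bk4grassmannian

variable {d n : ℕ} (τ : Idx d n)

/-- the entry at `t` can be lowered by one. -/
def Cond (t : Fin d) : Prop :=
  t.val < (τ.1 t).val ∧ ∀ t' : Fin d, t'.val + 1 = t.val → (τ.1 t').val + 1 < (τ.1 t).val

/-- the lowered entry. -/
def low (t : Fin d) : Fin n := ⟨(τ.1 t).val - 1, by have := (τ.1 t).isLt; omega⟩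

/-- the tuple with the entry at `t` lowered by one. -/
def decFun (t : Fin d) : Fin d → Fin n := fun s => if s = t then low τ t else τ.1 s

theorem decFun_self (t : Fin d) : decFun τ t t = low τ t := if_pos rfl

theorem decFun_ne (t s : Fin d) (h : s ≠ t) : decFun τ t s = τ.1 s := if_neg h

theorem decFun_strictMono (t : Fin d) (h : Cond τ t) : StrictMono (decFun τ t) := by
  intro a b hab
  by_cases ha : a = t
  · have hb : b ≠ t := by
      intro hb
      rw [ha, hb] at hab
      exact lt_irrefl _ hab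
    rw [ha, decFun_self, decFun_ne τ t b hb, Fin.lt_def]
    have h1 : τ.1 t < τ.1 b := τ.2 (ha ▸ hab)
    have h2 := Fin.lt_def.mp h1
    show (τ.1 t).val - 1 < (τ.1 b).val
    omega
  · by_cases hb : b = t
    · rw [hb, decFun_self, decFun_ne τ t a ha, Fin.lt_def]
      show (τ.1 a).val < (τ.1 t).val - 1
      have hat : a < t := hb ▸ hab
      have hat' := Fin.lt_def.mp hat
      have ht1 : t.val - 1 < d := by have := t.isLt; omega
      have h1 := h.2 ⟨t.val - 1, ht1⟩ (by simp only; omega)
      have h2 : τ.1 a ≤ τ.1 ⟨t.val - 1, ht1⟩ := τ.2.monotone (Fin.le_def.mpr (by simp only; omega))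
      have h3 := Fin.le_def.mp h2
      omega
    · rw [decFun_ne τ t a ha, decFun_ne τ t b hb]
      exact τ.2 hab

/-- the divisor attached to a lowerable position. -/
def dec (t : Fin d) (h : Cond τ t) : Idx d n := ⟨decFun τ t, decFun_strictMono τ t h⟩

theorem dec_le (t : Fin d) (h : Cond τ t) : dec τ t h ≤ τ := by
  intro s
  show decFun τ t s ≤ τ.1 s
  by_cases hs : s = t
  · rw [hs, decFun_self, Fin.le_def]
    show (τ.1 t).val - 1 ≤ (τ.1 t).val
    omega
  · rw [decFun_ne τ t s hs]

theorem dec_apply_self (t : Fin d) (h : Cond τ t) : ((dec τ t h).1 t).val = (τ.1 t).val - 1 := by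
  show (decFun τ t t).val = _
  rw [decFun_self]
  rfl

theorem dec_ne (t : Fin d) (h : Cond τ t) : dec τ t h ≠ τ := by
  intro he
  have h1 := dec_apply_self τ t h
  rw [he] at h1
  have := h.1
  omega

theorem dec_mem_divisors (t : Fin d) (h : Cond τ t) : dec τ t h ∈ divisors τ := by
  refine ⟨lt_of_le_of_ne (dec_le τ t h) (dec_ne τ t h), ?_⟩
  unfold codeg
  rw [← Finset.add_sum_erase _ _ (Finset.mem_univ t), ← Finset.add_sum_erase _ _ (Finset.mem_univ t)]
  have h1 : ∀ s ∈ Finset.univ.erase t, ((dec τ t h).1 s).val - s.val = (τ.1 s).val - s.val := by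
    intro s hs
    have hs' : s ≠ t := (Finset.mem_erase.mp hs).1
    show (decFun τ t s).val - s.val = _
    rw [decFun_ne τ t s hs']
  rw [Finset.sum_congr rfl h1, dec_apply_self]
  have := h.1
  omega

theorem dec_injective (t t' : Fin d) (h : Cond τ t) (h' : Cond τ t') (he : dec τ t h = dec τ t' h') :
    t = t' := by
  by_contra hne
  have h1 := dec_apply_self τ t h
  rw [he] at h1
  have h2 : ((dec τ t' h').1 t).val = (τ.1 t).val := by
    show (decFun τ t' t).val = _
    rw [decFun_ne τ t' t hne]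
  have := h.1
  omega

theorem exists_of_mem_divisors (φ : Idx d n) (hφ : φ ∈ divisors τ) :
    ∃ (t : Fin d) (h : Cond τ t), φ = dec τ t h := by
  have hle : ∀ s, (φ.1 s).val ≤ (τ.1 s).val := fun s => Fin.le_def.mp (hφ.1.le s)
  have hlow : ∀ s : Fin d, s.val ≤ (φ.1 s).val := Straighten.strictMono_val_le φ.1 φ.2
  have hsum : ∑ s : Fin d, ((τ.1 s).val - (φ.1 s).val) = 1 := by
    have h1 := hφ.2
    unfold codeg at h1
    have h2 : ∑ s : Fin d, ((τ.1 s).val - s.val)
        = ∑ s : Fin d, ((φ.1 s).val - s.val) + ∑ s : Fin d, ((τ.1 s).val - (φ.1 s).val) := by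
      rw [← Finset.sum_add_distrib]
      refine Finset.sum_congr rfl fun s _ => ?_
      have := hle s
      have := hlow s
      omega
    omega
  have hex : ∃ t : Fin d, (τ.1 t).val - (φ.1 t).val ≠ 0 := by
    by_contra hcon
    push Not at hcon
    rw [Finset.sum_eq_zero fun s _ => hcon s] at hsum
    exact zero_ne_one hsum
  obtain ⟨t, ht⟩ := hex
  rw [← Finset.add_sum_erase _ _ (Finset.mem_univ t)] at hsum
  have ht1 : (τ.1 t).val - (φ.1 t).val = 1 := by omega
  have hrest : ∑ s ∈ Finset.univ.erase t, ((τ.1 s).val - (φ.1 s).val) = 0 := by omega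
  have hrest' : ∀ s : Fin d, s ≠ t → (φ.1 s).val = (τ.1 s).val := by
    intro s hs
    have h1 := (Finset.sum_eq_zero_iff.mp hrest) s (Finset.mem_erase.mpr ⟨hs, Finset.mem_univ s⟩)
    have := hle s
    omega
  have hcond : Cond τ t := by
    refine ⟨?_, ?_⟩
    · have := hlow t
      omega
    · intro t' ht'
      have hne : t' ≠ t := by
        intro h
        rw [h] at ht'
        omega
      have h1 := hrest' t' hne
      have h2 : φ.1 t' < φ.1 t := φ.2 (Fin.lt_def.mpr (by omega))
      have h3 := Fin.lt_def.mp h2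
      omega
  refine ⟨t, hcond, ?_⟩
  apply Subtype.ext
  funext s
  apply Fin.ext
  by_cases hs : s = t
  · rw [hs, dec_apply_self]
    omega
  · rw [hrest' s hs]
    show _ = (decFun τ t s).val
    rw [decFun_ne τ t s hs]

theorem run_of_cond (s : ℕ) (h : ∀ t : Fin d, t.val ≠ s → ¬ Cond τ t) :
    (∀ t : Fin d, t.val < s → (τ.1 t).val = t.val) ∧
      ∀ t t' : Fin d, s ≤ t.val → t.val + 1 = t'.val → (τ.1 t).val + 1 = (τ.1 t').val := by
  have hlow : ∀ s : Fin d, s.val ≤ (τ.1 s).val := Straighten.strictMono_val_le τ.1 τ.2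
  have hA : ∀ (m : ℕ) (t : Fin d), t.val = m → t.val < s → (τ.1 t).val = t.val := by
    intro m
    induction m with
    | zero =>
      intro t htm hts
      have hnc := h t (by omega)
      unfold Cond at hnc
      rw [not_and_or] at hnc
      rcases hnc with h1 | h1
      · have := hlow t
        omega
      · exfalso
        apply h1
        intro t' ht'
        omega
    | succ m ih =>
      intro t htm hts
      have hnc := h t (by omega)
      unfold Cond at hnc
      rw [not_and_or] at hnc
      rcases hnc with h1 | h1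
      · have := hlow t
        omega
      · push Not at h1
        obtain ⟨t', ht', h2⟩ := h1
        have h3 := ih t' (by omega) (by omega)
        have := hlow t
        omega
  refine ⟨fun t ht => hA t.val t rfl ht, ?_⟩
  intro t t' hst htt'
  have hnc := h t' (by omega)
  unfold Cond at hnc
  rw [not_and_or] at hnc
  have hlt : τ.1 t < τ.1 t' := τ.2 (Fin.lt_def.mpr (by omega))
  have hlt' := Fin.lt_def.mp hlt
  rcases hnc with h1 | h1
  · have := hlow t'
    have := hlow t
    omega
  · push Not at h1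
    obtain ⟨t'', ht'', h2⟩ := h1
    have e : t'' = t := Fin.ext (by omega)
    rw [e] at h2
    omega

theorem cond_val_eq (s : ℕ) (hA : ∀ t : Fin d, t.val < s → (τ.1 t).val = t.val)
    (hB : ∀ t t' : Fin d, s ≤ t.val → t.val + 1 = t'.val → (τ.1 t).val + 1 = (τ.1 t').val)
    (t : Fin d) (h : Cond τ t) : t.val = s := by
  rcases lt_trichotomy t.val s with h1 | h1 | h1
  · have := hA t h1
    have := h.1
    omega
  · exact h1
  · exfalso
    have ht1 : t.val - 1 < d := by have := t.isLt; omega
    have h2 := hB ⟨t.val - 1, ht1⟩ t (by simp only; omega) (by simp only; omega)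
    have h3 := h.2 ⟨t.val - 1, ht1⟩ (by simp only; omega)
    omega

theorem subsingleton_iff :
    (divisors τ).Subsingleton ↔
      ∃ s : ℕ, (∀ t : Fin d, t.val < s → (τ.1 t).val = t.val) ∧
        ∀ t t' : Fin d, s ≤ t.val → t.val + 1 = t'.val → (τ.1 t).val + 1 = (τ.1 t').val := by
  constructor
  · intro hs
    have hone : ∀ t t' : Fin d, Cond τ t → Cond τ t' → t = t' := by
      intro t t' h h'
      exact dec_injective τ t t' h h' (hs (dec_mem_divisors τ t h) (dec_mem_divisors τ t' h'))
    by_cases hex : ∃ t, Cond τ t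
    · obtain ⟨t₀, h₀⟩ := hex
      refine ⟨t₀.val, run_of_cond τ t₀.val ?_⟩
      intro t ht hc
      exact ht (congrArg Fin.val (hone t t₀ hc h₀))
    · push Not at hex
      exact ⟨d, run_of_cond τ d fun t _ => hex t⟩
  · rintro ⟨s, hA, hB⟩
    intro φ₁ h₁ φ₂ h₂
    obtain ⟨t₁, hc₁, rfl⟩ := exists_of_mem_divisors τ φ₁ h₁
    obtain ⟨t₂, hc₂, rfl⟩ := exists_of_mem_divisors τ φ₂ h₂
    have e : t₁ = t₂ := Fin.ext ((cond_val_eq τ s hA hB t₁ hc₁).trans (cond_val_eq τ s hA hB t₂ hc₂).symm)
    subst e
    rfl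

end Groth.Agent.H59.DivComb
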