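import Mathlib
import Groth.Agent.H59.SMTUnion
import Groth.Agent.S11268

/-!
# The hyperplane section of a Schubert variety by its top coordinate
-/

set_option autoImplicit false

namespace Groth.Agent.H59.SMT

open W4bk4grassmannian MvPolynomial Groth.Agent.H59.SMTIndep

variable (K : Type*) [Field K] [Infinite K] {d n : ℕ}

theorem exists_divisor_ge (τ : Idx d n) (hτ : ∃ φ : Idx d n, φ < τ) (c : Ch d n)
    (hlt : ∀ k, c.2.1 k < τ) : ∃ φ ∈ divisors τ, ∀ k, c.2.1 k ≤ φ := by
  obtain ⟨m, c, hc⟩ := c
  cases m with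
  | zero =>
    obtain ⟨φ₀, hφ₀⟩ := hτ
    obtain ⟨φ, hφ, -⟩ := Groth.Agent.S11268.result d n φ₀ τ hφ₀
    exact ⟨φ, hφ, fun k => k.elim0⟩
  | succ m =>
    obtain ⟨φ, hφ, hle⟩ := Groth.Agent.S11268.result d n (c 0) τ (hlt 0)
    exact ⟨φ, hφ, fun k => le_trans (hc (Fin.zero_le k)) hle⟩

theorem sup_span_eq (hd : 0 < d) (τ : Idx d n) (hτ : ∃ φ : Idx d n, φ < τ) :
    schubertVanishing K d n τ ⊔ Ideal.span {MvPolynomial.X τ} =
      ⨅ φ ∈ divisors τ, schubertVanishing K d n φ := by
  apply le_antisymm
  · rw [sup_le_iff]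
    constructor
    · intro f hf
      rw [mem_biInf]
      intro φ hφ
      exact schubertVanishing_anti K hφ.1.le hf
    · rw [Ideal.span_le]
      intro f hf
      rw [Set.mem_singleton_iff] at hf
      subst hf
      rw [SetLike.mem_coe, mem_biInf]
      intro φ hφ
      exact X_mem_schubertVanishing K φ τ (not_le_of_gt hφ.1)
  · intro f hf
    obtain ⟨l, hl⟩ := exists_repr K f
    set h := ∑ c ∈ l.support, l c • chainMon K c.2.1 with hh
    have hfh : f - h ∈ schubertVanishing K d n τ :=
      plIdeal_le_schubertVanishing K τ (plIdealTop_le_plIdeal K τ hl)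
    have hmem : h ∈ ⨅ φ ∈ divisors τ, schubertVanishing K d n φ := by
      have e : h = f - (f - h) := by ring
      rw [e]
      exact Ideal.sub_mem _ hf (plIdealTop_le_biInf K _ hl)
    have hz := coeff_eq_zero_of_mem_biInf K hd (divisors τ) (fun c : Ch d n => c)
      Function.injective_id l.support (fun c => l c) hmem
    have hh' : h ∈ schubertVanishing K d n τ ⊔ Ideal.span {X τ} := by
      apply Ideal.sum_mem
      intro c hcl
      by_cases hcτ : ∀ k, c.2.1 k ≤ τ
      · by_cases hcτ' : ∃ k, c.2.1 k = τ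
        · obtain ⟨k, hk⟩ := hcτ'
          apply Submodule.smul_of_tower_mem
          apply Ideal.mem_sup_right
          rw [← hk]
          exact chainMon_mem_span_X K c.2.1 k
        · push Not at hcτ'
          have hlt : ∀ k, c.2.1 k < τ := fun k => lt_of_le_of_ne (hcτ k) (hcτ' k)
          rw [hz c hcl (exists_divisor_ge τ hτ c hlt), zero_smul]
          exact zero_mem _
      · apply Submodule.smul_of_tower_mem
        apply Ideal.mem_sup_left
        exact plIdeal_le_schubertVanishing K τ (chainMon_mem_plIdeal K τ c.2.1 hcτ)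
    have e : f = (f - h) + h := by ring
    rw [e]
    exact Ideal.add_mem _ (Ideal.mem_sup_left hfh) hh'

end Groth.Agent.H59.SMT
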