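import Mathlib
import Groth.Agent.H59.SMTDivisor
import Groth.Agent.H59.DivisorComb

/-!
# Intersections of Schubert divisors
-/

set_option autoImplicit false

namespace Groth.Agent.H59.SchubLat

open W4bk4grassmannian MvPolynomial Groth.Agent.H59.SMTIndep Groth.Agent.H59.SMT
open Groth.Agent.H59.DivComb

section comb

variable {d n : ℕ}

theorem inf_le_left' (a b : Idx d n) : W4bk4grassmannian.inf a b ≤ a := fun _ => min_le_left _ _

theorem inf_le_right' (a b : Idx d n) : W4bk4grassmannian.inf a b ≤ b := fun _ => min_le_right _ _

theorem le_inf' (c a b : Idx d n) (h1 : c ≤ a) (h2 : c ≤ b) : c ≤ W4bk4grassmannian.inf a b :=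
  fun t => le_min (h1 t) (h2 t)

theorem inf_comm' (a b : Idx d n) : W4bk4grassmannian.inf a b = W4bk4grassmannian.inf b a := by
  apply Subtype.ext
  funext t
  exact min_comm _ _

/-- the meet of two distinct Schubert divisors of `w` is a Schubert divisor of each. -/
theorem inf_mem_divisors (w φ φ' : Idx d n) (h : φ ∈ divisors w) (h' : φ' ∈ divisors w)
    (hne : φ ≠ φ') : W4bk4grassmannian.inf φ φ' ∈ divisors φ := by
  obtain ⟨t, hc, rfl⟩ := exists_of_mem_divisors w φ h
  obtain ⟨t', hc', rfl⟩ := exists_of_mem_divisors w φ' h'
  have htt : t ≠ t' := by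
    rintro rfl
    exact hne rfl
  have hval : ∀ s : Fin d, ((dec w t hc).1 s).val = if s = t then (w.1 t).val - 1 else (w.1 s).val := by
    intro s
    by_cases hs : s = t
    · rw [if_pos hs, hs, dec_apply_self]
    · rw [if_neg hs]
      show (decFun w t s).val = _
      rw [decFun_ne w t s hs]
  have hval' : ∀ s : Fin d,
      ((dec w t' hc').1 s).val = if s = t' then (w.1 t').val - 1 else (w.1 s).val := by
    intro s
    by_cases hs : s = t'
    · rw [if_pos hs, hs, dec_apply_self]
    · rw [if_neg hs]
      show (decFun w t' s).val = _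
      rw [decFun_ne w t' s hs]
  have hcond : Cond (dec w t hc) t' := by
    refine ⟨?_, ?_⟩
    · rw [hval, if_neg (Ne.symm htt)]
      exact hc'.1
    · intro t'' ht''
      rw [hval t', if_neg (Ne.symm htt), hval t'']
      have h3 := hc'.2 t'' ht''
      by_cases h1 : t'' = t
      · rw [if_pos h1]
        rw [h1] at h3
        omega
      · rw [if_neg h1]
        exact h3
  have heq : W4bk4grassmannian.inf (dec w t hc) (dec w t' hc') = dec (dec w t hc) t' hcond := by
    apply Subtype.ext
    funext s
    apply Fin.ext
    show (min ((dec w t hc).1 s) ((dec w t' hc').1 s)).val = ((dec (dec w t hc) t' hcond).1 s).val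
    have hmin : (min ((dec w t hc).1 s) ((dec w t' hc').1 s)).val
        = min ((dec w t hc).1 s).val ((dec w t' hc').1 s).val := by
      rcases le_total ((dec w t hc).1 s) ((dec w t' hc').1 s) with hle | hle
      · rw [min_eq_left hle, min_eq_left (Fin.le_def.mp hle)]
      · rw [min_eq_right hle, min_eq_right (Fin.le_def.mp hle)]
    rw [hmin]
    by_cases hs' : s = t'
    · have hR : ((dec (dec w t hc) t' hcond).1 s).val = (w.1 t').val - 1 := by
        rw [hs', dec_apply_self, hval t', if_neg (Ne.symm htt)]
      have hA : ((dec w t hc).1 s).val = (w.1 t').val := by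
        rw [hs', hval t', if_neg (Ne.symm htt)]
      have hB : ((dec w t' hc').1 s).val = (w.1 t').val - 1 := by
        rw [hs', hval' t', if_pos rfl]
      rw [hR, hA, hB]
      omega
    · have hR : ((dec (dec w t hc) t' hcond).1 s).val = ((dec w t hc).1 s).val := by
        show (decFun (dec w t hc) t' s).val = _
        rw [decFun_ne _ t' s hs']
      have hB : ((dec w t' hc').1 s).val = (w.1 s).val := by
        rw [hval' s, if_neg hs']
      rw [hR, hB, hval s]
      by_cases hs : s = t
      · rw [if_pos hs, hs]
        omega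
      · rw [if_neg hs]
        omega
  rw [heq]
  exact dec_mem_divisors _ t' hcond

end comb

section ideals

variable (K : Type*) [Field K] [Infinite K] {d n : ℕ}

theorem sup_eq_inf (hd : 0 < d) (w₁ w₂ : Idx d n) :
    schubertVanishing K d n w₁ ⊔ schubertVanishing K d n w₂
      = schubertVanishing K d n (W4bk4grassmannian.inf w₁ w₂) := by
  rw [← plIdeal_eq_schubertVanishing K hd, ← plIdeal_eq_schubertVanishing K hd, plIdeal_sup,
    plIdeal_eq_schubertVanishing K hd]

/-- the intersection of a union of Schubert varieties with a Schubert variety. -/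
theorem finset_inf_sup (hd : 0 < d) (T : Finset (Idx d n)) (φs : Idx d n) :
    (T.inf fun φ => schubertVanishing K d n φ) ⊔ schubertVanishing K d n φs
      = T.inf fun φ => schubertVanishing K d n (W4bk4grassmannian.inf φ φs) := by
  classical
  apply le_antisymm
  · rw [sup_le_iff]
    constructor
    · intro f hf
      rw [Submodule.mem_finsetInf] at hf ⊢
      intro φ hφ
      exact schubertVanishing_anti K (inf_le_left' φ φs) (hf φ hφ)
    · intro f hf
      rw [Submodule.mem_finsetInf]
      intro φ _
      exact schubertVanishing_anti K (inf_le_right' φ φs) hf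
  · intro f hf
    rw [Submodule.mem_finsetInf] at hf
    obtain ⟨l, hl⟩ := exists_repr K f
    set h := ∑ c ∈ l.support, l c • chainMon K c.2.1 with hh
    have htop : ∀ φ : Idx d n, f - h ∈ schubertVanishing K d n φ := fun φ =>
      plIdeal_le_schubertVanishing K φ (plIdealTop_le_plIdeal K φ hl)
    have hfh : f - h ∈ (T.inf fun φ => schubertVanishing K d n φ) := by
      rw [Submodule.mem_finsetInf]
      intro φ _
      exact htop φ
    set T' : Set (Idx d n) := {ψ | ∃ φ ∈ T, ψ = W4bk4grassmannian.inf φ φs} with hT'
    have hmem : h ∈ ⨅ ψ ∈ T', schubertVanishing K d n ψ := by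
      rw [mem_biInf]
      rintro ψ ⟨φ, hφ, rfl⟩
      have e : h = f - (f - h) := by ring
      rw [e]
      exact Ideal.sub_mem _ (hf φ hφ) (htop _)
    have hz := coeff_eq_zero_of_mem_biInf K hd T' (fun c : Ch d n => c)
      Function.injective_id l.support (fun c => l c) hmem
    have hh' : h ∈ (T.inf fun φ => schubertVanishing K d n φ) ⊔ schubertVanishing K d n φs := by
      apply Ideal.sum_mem
      intro c hcl
      by_cases hcs : ∀ k, c.2.1 k ≤ φs
      · by_cases hex : ∃ φ ∈ T, ∀ k, c.2.1 k ≤ φ
        · obtain ⟨φ, hφ, hle⟩ := hex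
          rw [hz c hcl ⟨W4bk4grassmannian.inf φ φs, ⟨φ, hφ, rfl⟩,
            fun k => le_inf' _ _ _ (hle k) (hcs k)⟩, zero_smul]
          exact zero_mem _
        · apply Submodule.smul_of_tower_mem
          apply Ideal.mem_sup_left
          rw [Submodule.mem_finsetInf]
          intro φ hφ
          apply plIdeal_le_schubertVanishing K φ
          apply chainMon_mem_plIdeal
          intro hcon
          exact hex ⟨φ, hφ, hcon⟩
      · apply Submodule.smul_of_tower_mem
        apply Ideal.mem_sup_right
        exact plIdeal_le_schubertVanishing K φs (chainMon_mem_plIdeal K φs c.2.1 hcs)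
    have e : f = (f - h) + h := by ring
    rw [e]
    exact Ideal.add_mem _ (Ideal.mem_sup_left hfh) hh'

end ideals

end Groth.Agent.H59.SchubLat
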