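import Mathlib

/-!
# A normality criterion for domains

If `x` generates a radical ideal of the domain `A` and `A` embeds into an integrally closed domain `Z`
all of whose elements become elements of `A` after multiplication by a power of `x`, then `A` is
integrally closed.
-/

set_option autoImplicit false

namespace Groth.Agent.H59.NormalCrit

open Polynomial

theorem exists_algebraMap_eq_of_radical {A : Type*} [CommRing A] [IsDomain A] (x : A) (hx : x ≠ 0)
    (hrad : (Ideal.span {x}).IsRadical) (k : ℕ) :
    ∀ (z : FractionRing A) (_ : IsIntegral A z) (a : A)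
      (_ : algebraMap A (FractionRing A) x ^ k * z = algebraMap A (FractionRing A) a),
      ∃ a', z = algebraMap A (FractionRing A) a' := by
  induction k with
  | zero =>
    intro z _ a h
    rw [pow_zero, one_mul] at h
    exact ⟨a, h⟩
  | succ k ih =>
    intro z hz a h
    have hinj := IsFractionRing.injective A (FractionRing A)
    set y := algebraMap A (FractionRing A) x ^ k * z with hy
    have hyint : IsIntegral A y := (isIntegral_algebraMap.pow k).mul hz
    have hxy : algebraMap A (FractionRing A) x * y = algebraMap A (FractionRing A) a := by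
      rw [hy, ← mul_assoc, ← pow_succ', h]
    obtain ⟨p, hp, hpy⟩ := hyint
    have hdvd : x ∣ a ^ p.natDegree :=
      Polynomial.dvd_pow_natDegree_of_eval₂_eq_zero hinj hp x a y hpy hxy
    have hmem : a ∈ Ideal.span {x} := hrad ⟨p.natDegree, Ideal.mem_span_singleton.mpr hdvd⟩
    obtain ⟨a'', ha''⟩ := Ideal.mem_span_singleton.mp hmem
    have hx' : algebraMap A (FractionRing A) x ≠ 0 := by
      intro h0
      exact hx ((map_eq_zero_iff _ hinj).mp h0)
    have hy' : y = algebraMap A (FractionRing A) a'' := by
      apply mul_left_cancel₀ hx'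
      rw [hxy, ha'', map_mul]
    exact ih z hz a'' hy'

theorem isIntegrallyClosed_of_radical {A : Type*} [CommRing A] [IsDomain A] (x : A) (hx : x ≠ 0)
    (hrad : (Ideal.span {x}).IsRadical)
    (h : ∀ z : FractionRing A, IsIntegral A z → ∃ (k : ℕ) (a : A),
      algebraMap A (FractionRing A) x ^ k * z = algebraMap A (FractionRing A) a) :
    IsIntegrallyClosed A := by
  rw [isIntegrallyClosed_iff (FractionRing A)]
  intro z hz
  obtain ⟨k, a, hka⟩ := h z hz
  obtain ⟨a', ha'⟩ := exists_algebraMap_eq_of_radical x hx hrad k z hz a hka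
  exact ⟨a', ha'.symm⟩

theorem exists_pow_mul_eq {A Z : Type*} [CommRing A] [IsDomain A] [CommRing Z] [IsDomain Z]
    [IsIntegrallyClosed Z] (e : A →+* Z) (he : Function.Injective e) (x : A)
    (hZ : ∀ g : Z, ∃ (k : ℕ) (a : A), e x ^ k * g = e a)
    (z : FractionRing A) (hz : IsIntegral A z) :
    ∃ (k : ℕ) (a : A),
      algebraMap A (FractionRing A) x ^ k * z = algebraMap A (FractionRing A) a := by
  have hinjZ := IsFractionRing.injective Z (FractionRing Z)
  have hg : Function.Injective ((algebraMap Z (FractionRing Z)).comp e) := hinjZ.comp he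
  set j : FractionRing A →+* FractionRing Z := IsFractionRing.lift hg with hj
  have hjalg : ∀ a : A, j (algebraMap A (FractionRing A) a) = algebraMap Z (FractionRing Z) (e a) :=
    fun a => IsFractionRing.lift_algebraMap hg a
  obtain ⟨p, hp, hpz⟩ := hz
  have hint : IsIntegral Z (j z) := by
    refine ⟨p.map e, hp.map e, ?_⟩
    rw [Polynomial.eval₂_map]
    have h1 := congrArg j hpz
    rw [Polynomial.hom_eval₂, map_zero] at h1
    have h2 : j.comp (algebraMap A (FractionRing A)) = (algebraMap Z (FractionRing Z)).comp e := by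
      ext a
      exact hjalg a
    rw [h2] at h1
    exact h1
  obtain ⟨g, hg'⟩ := IsIntegrallyClosed.isIntegral_iff.mp hint
  obtain ⟨k, a, hka⟩ := hZ g
  refine ⟨k, a, j.injective ?_⟩
  rw [map_mul, map_pow, hjalg, hjalg, ← hg', ← map_pow, ← map_mul, hka]

/-- the criterion. -/
theorem isIntegrallyClosed_of_embedding {A Z : Type*} [CommRing A] [IsDomain A] [CommRing Z]
    [IsDomain Z] [IsIntegrallyClosed Z] (e : A →+* Z) (he : Function.Injective e) (x : A)
    (hx : x ≠ 0) (hrad : (Ideal.span {x}).IsRadical)
    (hZ : ∀ g : Z, ∃ (k : ℕ) (a : A), e x ^ k * g = e a) : IsIntegrallyClosed A :=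
  isIntegrallyClosed_of_radical x hx hrad fun z hz => exists_pow_mul_eq e he x hZ z hz

end Groth.Agent.H59.NormalCrit
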