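import Mathlib
import Groth.Agent.H59.PrimeIota
import Groth.Agent.H59.SMTDivisor

/-!
# Lower bound for the Krull dimension of the cone over a Schubert variety
-/

set_option autoImplicit false

namespace Groth.Agent.H59.SchubDim

open W4bk4grassmannian MvPolynomial Groth.Agent.H59.SMTIndep Groth.Agent.H59.SMT
open Groth.Agent.H59.HibiW Groth.Agent.H59.Shape Groth.Agent.H59.PrimeIota

variable (K : Type*) [Field K] [Infinite K] {d n : ℕ}

theorem isDomain_AA (hd : 0 < d) (w : Idx d n) : IsDomain (AA K w) :=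
  Function.Injective.isDomain (psiBar K w).toRingHom (psiBar_injective K w hd)

theorem xbar_ne_zero (w θ : Idx d n) (h : θ ≤ w) : xbar K w θ ≠ 0 := by
  intro h0
  have := congrArg (psiBar K w) h0
  rw [psiBar_xbar, map_zero] at this
  exact (D_monic_degree K w θ h).1.ne_zero this

theorem codeg_iota (hdn : d ≤ n) : codeg (iota hdn) = 0 := by
  unfold codeg
  apply Finset.sum_eq_zero
  intro t _
  show t.val - t.val = 0
  omega

theorem one_le_dim (hd : 0 < d) (hdn : d ≤ n) (w : Idx d n) :
    (1 : WithBot ℕ∞) ≤ ringKrullDim (AA K w) := by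
  have := isDomain_AA K hd w
  have hp := prime_xι K w hd hdn
  have hne : Ideal.span {xι K w hdn} ≠ ⊤ := by
    rw [Ne, Ideal.span_singleton_eq_top]
    exact hp.not_isUnit
  have hnt : Nontrivial (AA K w ⧸ Ideal.span {xι K w hdn}) := Ideal.Quotient.nontrivial_iff.mpr hne
  have h1 := ringKrullDim_quotient_succ_le_of_nonZeroDivisor
    (mem_nonZeroDivisors_of_ne_zero hp.ne_zero)
  have h2 : (0 : WithBot ℕ∞) ≤ ringKrullDim (AA K w ⧸ Ideal.span {xι K w hdn}) :=
    ringKrullDim_nonneg_of_nontrivial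
  calc (1 : WithBot ℕ∞) = 0 + 1 := by simp
    _ ≤ ringKrullDim (AA K w ⧸ Ideal.span {xι K w hdn}) + 1 := by gcongr
    _ ≤ _ := h1

theorem dim_divisor_succ_le (hd : 0 < d) (w φ : Idx d n) (hφ : φ < w) :
    ringKrullDim (AA K φ) + 1 ≤ ringKrullDim (AA K w) := by
  have := isDomain_AA K hd w
  refine ringKrullDim_succ_le_of_surjective
    (Ideal.Quotient.factor (schubertVanishing_anti K hφ.le))
    (Ideal.Quotient.factor_surjective _) (r := xbar K w w)
    (mem_nonZeroDivisors_of_ne_zero (xbar_ne_zero K w w le_rfl)) ?_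
  unfold xbar
  rw [Ideal.Quotient.factor_mk, Ideal.Quotient.eq_zero_iff_mem]
  exact X_mem_schubertVanishing K φ w (not_le_of_gt hφ)

theorem lower (hd : 0 < d) (hdn : d ≤ n) (w : Idx d n) :
    ((codeg w + 1 : ℕ) : WithBot ℕ∞) ≤ ringKrullDim (AA K w) := by
  induction hN : codeg w generalizing w with
  | zero => simpa using one_le_dim K hd hdn w
  | succ N ih =>
    have hne : w ≠ iota hdn := by
      intro h
      rw [h, codeg_iota] at hN
      omega
    have hlt : iota hdn < w := lt_of_le_of_ne (iota_le hdn w) (Ne.symm hne)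
    obtain ⟨φ, hφ, -⟩ := Groth.Agent.S11268.result d n (iota hdn) w hlt
    have hφN : codeg φ = N := by
      have := hφ.2
      omega
    have h1 := ih φ hφN
    have h2 := dim_divisor_succ_le K hd w φ hφ.1
    calc ((N + 1 + 1 : ℕ) : WithBot ℕ∞) = ((N + 1 : ℕ) : WithBot ℕ∞) + 1 := by push_cast; rfl
      _ ≤ ringKrullDim (AA K φ) + 1 := by gcongr
      _ ≤ _ := h2

end Groth.Agent.H59.SchubDim
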