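import Mathlib
import Groth.Agent.H54.Dim

/-!
# Krull dimension bound from an embedding into a polynomial ring
-/

set_option autoImplicit false

universe u

namespace Groth.Agent.H59.DimTrdeg

open Cardinal

/-- A finitely generated algebra over a field which embeds into a polynomial ring in `N` variables has
Krull dimension at most `N`. -/
theorem ringKrullDim_le_of_injective (K : Type u) [Field K] (A : Type u) [CommRing A] [Nontrivial A]
    [Algebra K A] [Algebra.FiniteType K A] (σ : Type) [Fintype σ]
    (f : A →ₐ[K] MvPolynomial σ K) (hf : Function.Injective f) :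
    ringKrullDim A ≤ ((Fintype.card σ : ℕ) : WithBot ℕ∞) := by
  obtain ⟨s, g, hinj, hint⟩ := exists_integral_inj_algHom_of_fg K A
  have h1 : ringKrullDim A = ((s : ℕ) : WithBot ℕ∞) := by
    rw [← Groth.Agent.H54.ringKrullDim_eq_of_ringHom_isIntegral_of_injective g.toRingHom hint hinj,
      Groth.Agent.H54.ringKrullDim_mvPolynomial_fin_field]
  have h2 : s ≤ Fintype.card σ := by
    have h3 := lift_trdeg_le_of_injective (f.comp g) (hf.comp hinj)
    rw [MvPolynomial.trdeg_of_isDomain, MvPolynomial.trdeg_of_isDomain] at h3
    simpa using h3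
  rw [h1]
  exact_mod_cast h2

end Groth.Agent.H59.DimTrdeg
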