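import Mathlib
import Groth.Agent.H59.ShapeLemma
import Groth.Agent.H59.DimTrdeg

/-!
# Upper bound for the Krull dimension of the cone over a Schubert variety

The cone over `X(w)` is parametrised by the (reduced) cell chart, whose coordinate ring is a polynomial
ring in `codeg w + 1` variables.
-/

set_option autoImplicit false

universe u

namespace Groth.Agent.H59.SchubDim

open W4bk4grassmannian MvPolynomial Groth.Agent.H59.SMTIndep

section comb

variable {d n : ℕ}

/-- the free positions of the reduced cell chart of `X(w)`. -/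
def IsFree (w : Idx d n) (p : Fin n × Fin d) : Prop := p.1 < w.1 p.2 ∧ ∀ s, w.1 s ≠ p.1

/-- the parameters of the cell. -/
abbrev Fr (w : Idx d n) : Type := {p : Fin n × Fin d // IsFree w p}

noncomputable instance instFintypeFr (w : Idx d n) : Fintype (Fr w) := by
  classical
  exact inferInstanceAs (Fintype {p : Fin n × Fin d // IsFree w p})

open Classical in
theorem card_column (w : Idx d n) (t : Fin d) :
    (Finset.univ.filter fun r : Fin n => IsFree w (r, t)).card = (w.1 t).val - t.val := by
  have h1 : (Finset.univ.filter fun r : Fin n => IsFree w (r, t))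
      = Finset.Iio (w.1 t) \ (Finset.Iio t).image w.1 := by
    ext r
    rw [Finset.mem_filter, Finset.mem_sdiff, Finset.mem_Iio, Finset.mem_image]
    constructor
    · rintro ⟨-, h1, h2⟩
      refine ⟨h1, ?_⟩
      rintro ⟨s, -, hs⟩
      exact h2 s hs
    · rintro ⟨h1, h2⟩
      refine ⟨Finset.mem_univ _, h1, fun s hs => h2 ⟨s, ?_, hs⟩⟩
      rw [Finset.mem_Iio]
      have h3 : w.1 s < w.1 t := by rw [hs]; exact h1
      exact w.2.lt_iff_lt.mp h3
  have h2 : (Finset.Iio t).image w.1 ⊆ Finset.Iio (w.1 t) := by
    intro r hr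
    rw [Finset.mem_image] at hr
    obtain ⟨s, hs, rfl⟩ := hr
    rw [Finset.mem_Iio] at hs ⊢
    exact w.2 hs
  rw [h1, Finset.card_sdiff_of_subset h2, Fin.card_Iio,
    Finset.card_image_of_injective _ w.2.injective, Fin.card_Iio]

open Classical in
theorem card_Fr (w : Idx d n) : Fintype.card (Fr w) = codeg w := by
  rw [Fintype.card_subtype, Finset.card_filter, Fintype.sum_prod_type_right]
  unfold codeg
  refine Finset.sum_congr rfl fun t _ => ?_
  rw [← Finset.card_filter]
  exact card_column w t

end comb

section chart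

variable (K : Type u) [Field K] {d n : ℕ} (w : Idx d n)

/-- the coordinate ring of the cone over the cell. -/
abbrev Zw : Type u := MvPolynomial (Option (Fr w)) K

open Classical in
/-- the matrix of the reduced cell chart: pivots in the rows `w`, the first one being a free scalar. -/
noncomputable def Gc : Matrix (Fin n) (Fin d) (Zw K w) :=
  Matrix.of fun r t => if h : IsFree w (r, t) then X (some ⟨(r, t), h⟩)
    else if r = w.1 t then (if t.val = 0 then X none else 1) else 0

/-- evaluation of the Plücker coordinates on the cell chart. -/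
noncomputable def evC : PlRing K d n →ₐ[K] Zw K w :=
  aeval fun θ : Idx d n => ((Gc K w).submatrix θ.1 id).det

theorem evC_X (θ : Idx d n) : evC K w (X θ) = ((Gc K w).submatrix θ.1 id).det := aeval_X _ _

variable (d n) in
/-- the field of rational functions in the entries of the generic matrix. -/
abbrev Lw : Type u := FractionRing (MvPolynomial (Var d n) K)

/-- the truncated generic matrix over the field of rational functions. -/
noncomputable def GF : Matrix (Fin n) (Fin d) (Lw K d n) :=
  (G K w).map (algebraMap (MvPolynomial (Var d n) K) (Lw K d n))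

theorem GL_apply_eq_zero (r : Fin n) (t : Fin d) (h : w.1 t < r) : GF K w r t = 0 := by
  unfold GF
  rw [Matrix.map_apply, G_apply_eq_zero K w r t h, map_zero]

/-- the pivot block. -/
noncomputable def Q : Matrix (Fin d) (Fin d) (Lw K d n) := (GF K w).submatrix w.1 id

theorem Q_upper : (Q K w).BlockTriangular id := by
  intro s t hts
  have hts' : t < s := hts
  show GF K w (w.1 s) t = 0
  exact GL_apply_eq_zero K w _ _ (w.2 hts')

theorem Q_diag (t : Fin d) :
    Q K w t t = algebraMap (MvPolynomial (Var d n) K) (Lw K d n) (X (toLex (t, w.1 t))) := by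
  show GF K w (w.1 t) t = _
  unfold GF
  rw [Matrix.map_apply]
  simp only [G, Matrix.of_apply]
  rw [if_pos le_rfl]

theorem det_Q_ne_zero : (Q K w).det ≠ 0 := by
  rw [Matrix.det_of_isUpperTriangular (Q_upper K w), Finset.prod_ne_zero_iff]
  intro t _
  rw [Q_diag]
  intro h0
  rw [map_eq_zero_iff _ (IsFractionRing.injective (MvPolynomial (Var d n) K) (Lw K d n))] at h0
  exact X_ne_zero _ h0

theorem isUnit_det_Q : IsUnit (Q K w).det := isUnit_iff_ne_zero.mpr (det_Q_ne_zero K w)

theorem Qinv_upper : ((Q K w)⁻¹).BlockTriangular id := by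
  let _ := Matrix.invertibleOfIsUnitDet (Q K w) (isUnit_det_Q K w)
  exact Matrix.blockTriangular_inv_of_blockTriangular (Q_upper K w)

/-- the normalised matrix. -/
noncomputable def G' : Matrix (Fin n) (Fin d) (Lw K d n) := GF K w * (Q K w)⁻¹

theorem G'_mul_Q : G' K w * Q K w = GF K w := by
  unfold G'
  rw [Matrix.mul_assoc, Matrix.nonsing_inv_mul _ (isUnit_det_Q K w), Matrix.mul_one]

theorem G'_pivot (s t : Fin d) : G' K w (w.1 s) t = (1 : Matrix (Fin d) (Fin d) (Lw K d n)) s t := by
  rw [← Matrix.mul_nonsing_inv (Q K w) (isUnit_det_Q K w)]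
  unfold G'
  rw [Matrix.mul_apply, Matrix.mul_apply]
  rfl

theorem G'_zero (r : Fin n) (t : Fin d) (h : w.1 t < r) : G' K w r t = 0 := by
  unfold G'
  rw [Matrix.mul_apply]
  apply Finset.sum_eq_zero
  intro k _
  rcases le_or_gt k t with hk | hk
  · rw [GL_apply_eq_zero K w r k (lt_of_le_of_lt (w.2.monotone hk) h), zero_mul]
  · rw [Qinv_upper K w (show id t < id k from hk), mul_zero]

/-- the scaling of the first column. -/
noncomputable def lam (t : Fin d) : Lw K d n := if t.val = 0 then (Q K w).det else 1

/-- the generic point of the cell. -/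
noncomputable def rho : Zw K w →ₐ[K] Lw K d n :=
  aeval fun o : Option (Fr w) => match o with
    | none => (Q K w).det
    | some p => G' K w p.1.1 p.1.2 * lam K w p.1.2

theorem map_rho_Gc : (Gc K w).map (rho K w) = G' K w * Matrix.diagonal (lam K w) := by
  classical
  ext r t
  rw [Matrix.map_apply, Matrix.mul_diagonal]
  simp only [Gc, Matrix.of_apply]
  by_cases hf : IsFree w (r, t)
  · rw [dif_pos hf]
    unfold rho
    rw [aeval_X]
  · rw [dif_neg hf]
    by_cases hrt : r = w.1 t
    · rw [if_pos hrt, hrt, G'_pivot, Matrix.one_apply_eq, one_mul]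
      unfold lam
      by_cases ht : t.val = 0
      · rw [if_pos ht, if_pos ht]
        unfold rho
        rw [aeval_X]
      · rw [if_neg ht, if_neg ht, map_one]
    · rw [if_neg hrt, map_zero]
      have h0 : G' K w r t = 0 := by
        rcases lt_or_gt_of_ne hrt with hlt | hgt
        · have : ∃ s, w.1 s = r := by
            by_contra hcon
            push Not at hcon
            exact hf ⟨hlt, hcon⟩
          obtain ⟨s, rfl⟩ := this
          rw [G'_pivot, Matrix.one_apply_ne]
          rintro rfl
          exact hrt rfl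
        · exact G'_zero K w r t hgt
      rw [h0, zero_mul]

theorem det_diagonal_lam (hd : 0 < d) : (Matrix.diagonal (lam K w)).det = (Q K w).det := by
  rw [Matrix.det_diagonal, Finset.prod_eq_single (⟨0, hd⟩ : Fin d)]
  · unfold lam
    rw [if_pos rfl]
  · intro t _ ht
    unfold lam
    rw [if_neg]
    intro h
    exact ht (Fin.ext h)
  · intro h
    exact absurd (Finset.mem_univ _) h

theorem submatrix_mul' {R : Type*} [CommRing R] (A : Matrix (Fin n) (Fin d) R)
    (B : Matrix (Fin d) (Fin d) R) (θ : Fin d → Fin n) :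
    (A * B).submatrix θ id = A.submatrix θ id * B := by
  ext s t
  simp [Matrix.mul_apply]

theorem key (hd : 0 < d) (θ : Idx d n) :
    algebraMap (MvPolynomial (Var d n) K) (Lw K d n) (D K w θ) = rho K w (evC K w (X θ)) := by
  have h1 : algebraMap (MvPolynomial (Var d n) K) (Lw K d n) (D K w θ)
      = ((G' K w).submatrix θ.1 id).det * (Q K w).det := by
    unfold D
    rw [RingHom.map_det, ← Matrix.det_mul, ← submatrix_mul', G'_mul_Q]
    rfl
  have h2 : rho K w (evC K w (X θ)) = ((G' K w).submatrix θ.1 id).det * (Q K w).det := by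
    rw [evC_X, AlgHom.map_det, ← det_diagonal_lam K w hd, ← Matrix.det_mul, ← submatrix_mul',
      ← map_rho_Gc]
    rfl
  rw [h1, h2]

theorem comp_eq (hd : 0 < d) :
    (IsScalarTower.toAlgHom K (MvPolynomial (Var d n) K) (Lw K d n)).comp (psi K w)
      = (rho K w).comp (evC K w) := by
  apply MvPolynomial.algHom_ext
  intro θ
  rw [AlgHom.comp_apply, AlgHom.comp_apply, psi_X, ← key K w hd θ]
  rfl

theorem ker_evC_le [Infinite K] (hd : 0 < d) :
    RingHom.ker (evC K w) ≤ schubertVanishing K d n w := by
  intro f hf
  rw [RingHom.mem_ker] at hf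
  rw [← Shape.ker_psi_eq K hd w, RingHom.mem_ker]
  have h1 := congrArg (fun F => F f) (comp_eq K w hd)
  simp only [AlgHom.comp_apply] at h1
  rw [hf, map_zero] at h1
  have h2 : algebraMap (MvPolynomial (Var d n) K) (Lw K d n) (psi K w f) = 0 := h1
  rw [map_eq_zero_iff _ (IsFractionRing.injective (MvPolynomial (Var d n) K) (Lw K d n))] at h2
  exact h2

theorem upper [Infinite K] (hd : 0 < d) :
    ringKrullDim (PlRing K d n ⧸ schubertVanishing K d n w)
      ≤ ((codeg w + 1 : ℕ) : WithBot ℕ∞) := by
  have hnt : Nontrivial (PlRing K d n ⧸ RingHom.ker (evC K w)) :=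
    Ideal.Quotient.nontrivial_iff.mpr (RingHom.ker_ne_top _)
  have h1 : ringKrullDim (PlRing K d n ⧸ schubertVanishing K d n w)
      ≤ ringKrullDim (PlRing K d n ⧸ RingHom.ker (evC K w)) :=
    ringKrullDim_le_of_surjective (Ideal.Quotient.factor (ker_evC_le K w hd))
      (Ideal.Quotient.factor_surjective _)
  have h2 := DimTrdeg.ringKrullDim_le_of_injective K (PlRing K d n ⧸ RingHom.ker (evC K w))
    (Option (Fr w)) (Ideal.kerLiftAlg (evC K w)) (Ideal.kerLiftAlg_injective _)
  rw [Fintype.card_option, card_Fr] at h2
  exact le_trans h1 h2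

end chart

end Groth.Agent.H59.SchubDim
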