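import Mathlib
import Groth.Agent.H59.SchubDimUpper
import Groth.Agent.H59.SchubDimLower
import Groth.Agent.H59.Pluecker

/-!
# The cell chart of a Schubert variety is an open immersion

`A(w) = S/J(w)` embeds into the polynomial ring `Zw` of the cone over the cell, the top coordinate
`x_w` goes to the variable `X none`, and every element of `Zw` is in the image up to a power of `X none`.
-/

set_option autoImplicit false

universe u

namespace Groth.Agent.H59.SchubDim

open W4bk4grassmannian MvPolynomial Groth.Agent.H59.SMTIndep Groth.Agent.H59.HibiW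

section cell

variable (K : Type u) [Field K] {d n : ℕ} (w : Idx d n)

/-- the pivots of the chart matrix. -/
noncomputable def pv (t : Fin d) : Zw K w := if t.val = 0 then X none else 1

theorem Gc_free (r : Fin n) (t : Fin d) (h : IsFree w (r, t)) :
    Gc K w r t = X (some ⟨(r, t), h⟩) := by
  classical
  simp only [Gc, Matrix.of_apply]
  rw [dif_pos h]

theorem Gc_pivot (s t : Fin d) : Gc K w (w.1 s) t = if s = t then pv K w t else 0 := by
  classical
  simp only [Gc, Matrix.of_apply]
  have hnf : ¬ IsFree w (w.1 s, t) := fun h => h.2 s rfl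
  rw [dif_neg hnf]
  by_cases hst : s = t
  · rw [if_pos (by rw [hst]), if_pos hst]
    rfl
  · rw [if_neg (fun h => hst (w.2.injective h)), if_neg hst]

theorem Gc_zero (r : Fin n) (t : Fin d) (h : w.1 t < r) : Gc K w r t = 0 := by
  classical
  simp only [Gc, Matrix.of_apply]
  have hnf : ¬ IsFree w (r, t) := fun hf => lt_asymm hf.1 h
  rw [dif_neg hnf, if_neg (ne_of_gt h)]

/-- the substitution of the chart into the truncated generic matrix. -/
noncomputable def sig : MvPolynomial (Var d n) K →ₐ[K] Zw K w :=
  aeval fun v : Var d n => Gc K w (ofLex v).2 (ofLex v).1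

theorem map_sig_G : (G K w).map (sig K w) = Gc K w := by
  ext r t
  rw [Matrix.map_apply]
  simp only [G, Matrix.of_apply]
  by_cases h : r ≤ w.1 t
  · rw [if_pos h]
    unfold sig
    rw [aeval_X]
    rfl
  · rw [if_neg h, map_zero, Gc_zero K w r t (not_le.mp h)]

theorem evC_eq : evC K w = (sig K w).comp (psi K w) := by
  apply MvPolynomial.algHom_ext
  intro θ
  rw [evC_X, AlgHom.comp_apply, psi_X]
  unfold D
  rw [AlgHom.map_det, ← map_sig_G]
  rfl

theorem ker_evC [Infinite K] (hd : 0 < d) :
    RingHom.ker (evC K w) = schubertVanishing K d n w := by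
  apply le_antisymm (ker_evC_le K w hd)
  intro f hf
  rw [← Shape.ker_psi_eq K hd w, RingHom.mem_ker] at hf
  have hf' : psi K w f = 0 := hf
  rw [RingHom.mem_ker, evC_eq, AlgHom.comp_apply, hf', map_zero]

/-- the chart on the coordinate ring. -/
noncomputable def evCbar [Infinite K] (hd : 0 < d) : AA K w →ₐ[K] Zw K w :=
  Ideal.Quotient.liftₐ (schubertVanishing K d n w) (evC K w)
    (fun a ha => by rw [← ker_evC K w hd] at ha; exact ha)

theorem evCbar_mk [Infinite K] (hd : 0 < d) (f : PlRing K d n) :
    evCbar K w hd (Ideal.Quotient.mk (schubertVanishing K d n w) f) = evC K w f := rfl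

theorem evCbar_injective [Infinite K] (hd : 0 < d) : Function.Injective (evCbar K w hd) := by
  rw [injective_iff_map_eq_zero]
  intro a ha
  obtain ⟨f, rfl⟩ := Ideal.Quotient.mk_surjective a
  rw [evCbar_mk] at ha
  rw [Ideal.Quotient.eq_zero_iff_mem, ← ker_evC K w hd]
  exact ha

theorem submatrix_w : (Gc K w).submatrix w.1 id = Matrix.diagonal (pv K w) := by
  ext s t
  rw [Matrix.submatrix_apply, id, Gc_pivot, Matrix.diagonal_apply]
  by_cases hst : s = t
  · rw [if_pos hst, if_pos hst, hst]
  · rw [if_neg hst, if_neg hst]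

theorem evC_X_w (hd : 0 < d) : evC K w (X w) = X none := by
  rw [evC_X, submatrix_w, Matrix.det_diagonal, Finset.prod_eq_single (⟨0, hd⟩ : Fin d)]
  · unfold pv
    rw [if_pos rfl]
  · intro t _ ht
    unfold pv
    rw [if_neg]
    intro h
    exact ht (Fin.ext h)
  · intro h
    exact absurd (Finset.mem_univ _) h

theorem prod_erase_pv (hd : 0 < d) (t : Fin d) :
    ∏ j ∈ Finset.univ.erase t, pv K w j = if t.val = 0 then 1 else X none := by
  by_cases ht : t.val = 0
  · rw [if_pos ht]
    apply Finset.prod_eq_one
    intro j hj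
    unfold pv
    rw [if_neg]
    intro hj0
    exact (Finset.mem_erase.mp hj).1 (Fin.ext (by rw [hj0, ht]))
  · rw [if_neg ht]
    have hmem : (⟨0, hd⟩ : Fin d) ∈ Finset.univ.erase t := by
      rw [Finset.mem_erase]
      refine ⟨?_, Finset.mem_univ _⟩
      intro h
      apply ht
      rw [← h]
    rw [Finset.prod_eq_single_of_mem _ hmem]
    · unfold pv
      rw [if_pos rfl]
    · intro j _ hj
      unfold pv
      rw [if_neg]
      intro h
      exact hj (Fin.ext h)

theorem det_update (hd : 0 < d) (r : Fin n) (t : Fin d) :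
    ((Gc K w).submatrix (Function.update w.1 t r) id).det
      = (if t.val = 0 then 1 else X none) * Gc K w r t := by
  classical
  have h1 : (Gc K w).submatrix (Function.update w.1 t r) id
      = (Matrix.diagonal (pv K w)).updateRow t (Gc K w r) := by
    rw [← submatrix_w]
    ext s t'
    rw [Matrix.updateRow_apply, Matrix.submatrix_apply, Function.update_apply]
    by_cases hs : s = t
    · rw [if_pos hs, if_pos hs]
      rfl
    · rw [if_neg hs, if_neg hs]
      rfl
  rw [h1, ← Matrix.cramer_transpose_apply, Matrix.cramer_eq_adjugate_mulVec,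
    Matrix.diagonal_transpose, Matrix.adjugate_diagonal, Matrix.mulVec_diagonal, prod_erase_pv K w hd]

theorem card_image_update (r : Fin n) (t : Fin d) (h : IsFree w (r, t)) :
    (Finset.univ.image (Function.update w.1 t r)).card = d := by
  classical
  rw [Finset.card_image_of_injective, Finset.card_univ, Fintype.card_fin]
  intro a b hab
  rw [Function.update_apply, Function.update_apply] at hab
  by_cases ha : a = t
  · by_cases hb : b = t
    · rw [ha, hb]
    · rw [if_pos ha, if_neg hb] at hab
      exact absurd hab.symm (h.2 b)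
  · by_cases hb : b = t
    · rw [if_neg ha, if_pos hb] at hab
      exact absurd hab (h.2 a)
    · rw [if_neg ha, if_neg hb] at hab
      exact w.2.injective hab

theorem det_mem_range (a : Fin d → Fin n) (h : (Finset.univ.image a).card = d) :
    ∃ f : PlRing K d n, evC K w f = ((Gc K w).submatrix a id).det := by
  refine ⟨(-1) ^ invCount d n a * X (sortIdx d n a h), ?_⟩
  rw [map_mul, map_pow, map_neg, map_one, evC_X, Pluecker.det_submatrix_eq (Gc K w) a h]

theorem X_none_mul_mem_range (hd : 0 < d) (p : Fr w) :
    ∃ f : PlRing K d n, evC K w f = X none * X (some p) := by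
  obtain ⟨⟨r, t⟩, hp⟩ := p
  obtain ⟨f, hf⟩ := det_mem_range K w (Function.update w.1 t r) (card_image_update w r t hp)
  rw [det_update K w hd, Gc_free K w r t hp] at hf
  by_cases ht : t.val = 0
  · rw [if_pos ht, one_mul] at hf
    refine ⟨X w * f, ?_⟩
    rw [map_mul, evC_X_w K w hd, hf]
  · rw [if_neg ht] at hf
    exact ⟨f, hf⟩

theorem exists_pow_mul_eq_evC (hd : 0 < d) (g : Zw K w) :
    ∃ (k : ℕ) (f : PlRing K d n), X none ^ k * g = evC K w f := by
  induction g using MvPolynomial.induction_on with
  | C c =>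
    refine ⟨0, C c, ?_⟩
    rw [pow_zero, one_mul]
    exact ((evC K w).commutes c).symm
  | add g₁ g₂ h₁ h₂ =>
    obtain ⟨k₁, f₁, hf₁⟩ := h₁
    obtain ⟨k₂, f₂, hf₂⟩ := h₂
    refine ⟨k₁ + k₂, X w ^ k₂ * f₁ + X w ^ k₁ * f₂, ?_⟩
    rw [map_add, map_mul, map_mul, map_pow, map_pow, evC_X_w K w hd, ← hf₁, ← hf₂]
    ring
  | mul_X g o h =>
    obtain ⟨k, f, hf⟩ := h
    cases o with
    | none =>
      refine ⟨k, f * X w, ?_⟩
      rw [map_mul, evC_X_w K w hd, ← hf]
      ring
    | some p =>
      obtain ⟨f', hf'⟩ := X_none_mul_mem_range K w hd p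
      refine ⟨k + 1, f * f', ?_⟩
      rw [map_mul, ← hf, hf']
      ring

end cell

end Groth.Agent.H59.SchubDim
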