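import Mathlib
import Groth.Agent.H59.SchubCell
import Groth.Agent.H59.NormalCrit

/-!
# Cones over Schubert varieties are normal
-/

set_option autoImplicit false

universe u

namespace Groth.Agent.H59.SchubDim

open W4bk4grassmannian MvPolynomial Groth.Agent.H59.SMTIndep Groth.Agent.H59.SMT
open Groth.Agent.H59.HibiW Groth.Agent.H59.PrimeIota

section normal

variable (K : Type u) [Field K] [Infinite K] {d n : ℕ}

theorem isPrime_schubertVanishing (hd : 0 < d) (φ : Idx d n) :
    (schubertVanishing K d n φ).IsPrime :=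
  (Ideal.Quotient.isDomain_iff_prime _).mp (isDomain_AA K hd φ)

omit [Infinite K] in
theorem span_xbar_eq (w : Idx d n) :
    Ideal.span {xbar K w w}
      = Ideal.map (Ideal.Quotient.mk (schubertVanishing K d n w)) (Ideal.span {X w}) := by
  rw [Ideal.map_span, Set.image_singleton]
  rfl

theorem isRadical_span_xbar (hd : 0 < d) (hdn : d ≤ n) (w : Idx d n) :
    (Ideal.span {xbar K w w}).IsRadical := by
  have := isDomain_AA K hd w
  by_cases hw : w = iota hdn
  · have hp := prime_xι K w hd hdn
    have hp' : Prime (xbar K w w) := by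
      have e : xbar K w w = xι K w hdn := by
        show xbar K w w = xbar K w (iota hdn)
        rw [← hw]
      rw [e]
      exact hp
    exact ((Ideal.span_singleton_prime hp'.ne_zero).mpr hp').isRadical
  · have hlt : iota hdn < w := lt_of_le_of_ne (iota_le hdn w) (Ne.symm hw)
    have hsup := sup_span_eq K hd w ⟨iota hdn, hlt⟩
    intro a ha
    obtain ⟨m, hm⟩ := ha
    obtain ⟨f, rfl⟩ := Ideal.Quotient.mk_surjective a
    rw [span_xbar_eq, ← map_pow, Ideal.mem_quotient_iff_mem_sup, sup_comm, hsup] at hm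
    rw [span_xbar_eq, Ideal.mem_quotient_iff_mem_sup, sup_comm, hsup]
    rw [Submodule.mem_iInf] at hm ⊢
    intro φ
    have h1 := hm φ
    rw [Submodule.mem_iInf] at h1 ⊢
    intro hφ
    have hprime := isPrime_schubertVanishing K hd φ
    exact hprime.mem_of_pow_mem m (h1 hφ)

theorem isIntegrallyClosed_AA (hd : 0 < d) (hdn : d ≤ n) (w : Idx d n) :
    IsIntegrallyClosed (AA K w) := by
  have := isDomain_AA K hd w
  refine NormalCrit.isIntegrallyClosed_of_embedding (evCbar K w hd).toRingHom
    (evCbar_injective K w hd) (xbar K w w) (xbar_ne_zero K w w le_rfl)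
    (isRadical_span_xbar K hd hdn w) ?_
  intro g
  obtain ⟨k, f, hf⟩ := exists_pow_mul_eq_evC K w hd g
  refine ⟨k, Ideal.Quotient.mk _ f, ?_⟩
  show evCbar K w hd (xbar K w w) ^ k * g = evCbar K w hd (Ideal.Quotient.mk _ f)
  rw [evCbar_mk]
  unfold xbar
  rw [evCbar_mk, evC_X_w K w hd, hf]

end normal

end Groth.Agent.H59.SchubDim
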