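import Mathlib
import Groth.Agent.H59.SchubNormal

/-!
# Factoriality of cones over Schubert varieties
-/

set_option autoImplicit false

universe u

namespace Groth.Agent.H59.SchubDim

open W4bk4grassmannian MvPolynomial Groth.Agent.H59.SMTIndep Groth.Agent.H59.SMT
open Groth.Agent.H59.HibiW Groth.Agent.H59.PrimeIota

section nagata

variable (K : Type u) [Field K] [Infinite K] {d n : ℕ} (w : Idx d n) (hd : 0 < d)

/-- the localisation of the cell ring at the scalar coordinate. -/
abbrev Tw : Type u := Localization.Away (X none : Zw K w)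

/-- the coordinate ring maps to the localised cell ring. -/
noncomputable def toTw : AA K w →+* Tw K w :=
  (algebraMap (Zw K w) (Tw K w)).comp (evCbar K w hd).toRingHom

theorem toTw_injective : Function.Injective (toTw K w hd) := by
  have h1 : Function.Injective (algebraMap (Zw K w) (Tw K w)) :=
    IsLocalization.injective (Tw K w)
      (powers_le_nonZeroDivisors_of_noZeroDivisors (X_ne_zero (none : Option (Fr w))))
  exact h1.comp (evCbar_injective K w hd)

theorem toTw_xbar : toTw K w hd (xbar K w w) = algebraMap (Zw K w) (Tw K w) (X none) := by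
  show algebraMap (Zw K w) (Tw K w) (evCbar K w hd (xbar K w w)) = _
  unfold xbar
  rw [evCbar_mk, evC_X_w K w hd]

theorem isLocalization_away :
    letI := (toTw K w hd).toAlgebra
    IsLocalization.Away (xbar K w w) (Tw K w) := by
  let _ := (toTw K w hd).toAlgebra
  have halg : ∀ a : AA K w, algebraMap (AA K w) (Tw K w) a = toTw K w hd a := fun _ => rfl
  have hunit : IsUnit (algebraMap (Zw K w) (Tw K w) (X none)) :=
    IsLocalization.Away.algebraMap_isUnit (X none : Zw K w)
  rw [IsLocalization.Away, isLocalization_iff]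
  refine ⟨?_, ?_, ?_⟩
  · rintro ⟨y, k, rfl⟩
    rw [halg, map_pow, toTw_xbar]
    exact hunit.pow k
  · intro z
    obtain ⟨⟨g, ⟨_, j, rfl⟩⟩, hz⟩ := IsLocalization.surj (Submonoid.powers (X none : Zw K w)) z
    simp only at hz
    obtain ⟨k, f, hf⟩ := exists_pow_mul_eq_evC K w hd g
    refine ⟨(Ideal.Quotient.mk _ f, ⟨xbar K w w ^ (j + k), j + k, rfl⟩), ?_⟩
    simp only
    rw [halg, halg, map_pow, toTw_xbar]
    show _ = algebraMap (Zw K w) (Tw K w) (evCbar K w hd (Ideal.Quotient.mk _ f))
    rw [evCbar_mk, ← hf, map_mul, ← hz, map_pow, map_pow, pow_add]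
    ring
  · intro a b hab
    rw [halg, halg] at hab
    exact ⟨1, by rw [toTw_injective K w hd hab]⟩

include hd in
theorem ufd_of_prime (hp : Prime (xbar K w w)) : UniqueFactorizationMonoid (AA K w) := by
  have := isDomain_AA K hd w
  let _ := (toTw K w hd).toAlgebra
  have hloc := isLocalization_away K w hd
  rw [UniqueFactorizationMonoid.iff_of_isLocalizationAway_of_prime hp (Tw K w)]
  have : IsDomain (Tw K w) := Localization.Away.isDomain (X_ne_zero (none : Option (Fr w)))
  exact UniqueFactorizationMonoid.of_isLocalization (Submonoid.powers (X none : Zw K w)) (Tw K w)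

end nagata

section irreducible

variable (K : Type u) [Field K] [Infinite K] {d n : ℕ} (w : Idx d n) (hd : 0 < d)

/-- all monomials have degree divisible by `d`. -/
def DivDeg (f : MvPolynomial (Var d n) K) : Prop := ∀ u ∈ f.support, d ∣ Shape.dg u

omit [Infinite K] in
theorem divDeg_psi (f : PlRing K d n) : DivDeg K (psi K w f) := by
  classical
  induction f using MvPolynomial.induction_on with
  | C c =>
    intro u hu
    have h1 : psi K w (C c) = C c := (psi K w).commutes c
    rw [h1] at hu
    have h2 : u = 0 := by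
      have := MvPolynomial.support_monomial_subset (R := K) (s := (0 : Var d n →₀ ℕ)) (a := c) hu
      exact Finset.mem_singleton.mp this
    rw [h2, map_zero]
    exact dvd_zero d
  | add f g hf hg =>
    intro u hu
    rw [map_add] at hu
    rcases Finset.mem_union.mp (MvPolynomial.support_add hu) with h | h
    · exact hf u h
    · exact hg u h
  | mul_X f θ hf =>
    intro u hu
    rw [map_mul, psi_X] at hu
    obtain ⟨u₁, h₁, u₂, h₂, rfl⟩ := Finset.mem_add.mp (MvPolynomial.support_mul _ _ hu)
    rw [map_add, (Shape.allType_D K w θ u₂ h₂).1]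
    exact dvd_add (hf u₁ h₁) (dvd_refl d)

omit [Infinite K] in
theorem dg_eq (u : Var d n →₀ ℕ) : Shape.dg u = u.sum fun _ e => e := by
  unfold Shape.dg
  rw [Finsupp.weight_apply]
  simp

omit [Infinite K] in
theorem totalDegree_eq_sup (f : MvPolynomial (Var d n) K) :
    f.totalDegree = f.support.sup fun u => Shape.dg u := by
  unfold MvPolynomial.totalDegree
  congr 1
  funext u
  rw [dg_eq]

omit [Infinite K] in
theorem totalDegree_zero_or_ge (f : MvPolynomial (Var d n) K) (hf : f ≠ 0) (h : DivDeg K f) :
    f.totalDegree = 0 ∨ d ≤ f.totalDegree := by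
  have hne : f.support.Nonempty := by
    rw [Finset.nonempty_iff_ne_empty, Ne, MvPolynomial.support_eq_empty]
    exact hf
  obtain ⟨u, hu, hsup⟩ := Finset.exists_mem_eq_sup f.support hne (fun u => Shape.dg u)
  rw [totalDegree_eq_sup, hsup]
  rcases Nat.eq_zero_or_pos (Shape.dg u) with h0 | h0
  · left
    exact h0
  · right
    exact Nat.le_of_dvd h0 (h u hu)

omit [Infinite K] in
theorem totalDegree_D (θ : Idx d n) (hθ : θ ≤ w) : (D K w θ).totalDegree = d := by
  have hne : D K w θ ≠ 0 := (D_monic_degree K w θ hθ).1.ne_zero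
  have hne' : (D K w θ).support.Nonempty := by
    rw [Finset.nonempty_iff_ne_empty, Ne, MvPolynomial.support_eq_empty]
    exact hne
  rw [totalDegree_eq_sup]
  apply le_antisymm
  · apply Finset.sup_le
    intro u hu
    exact le_of_eq (Shape.allType_D K w θ u hu).1
  · obtain ⟨u, hu⟩ := hne'
    calc d = Shape.dg u := (Shape.allType_D K w θ u hu).1.symm
      _ ≤ _ := Finset.le_sup (f := fun u => Shape.dg u) hu

include hd in
theorem isUnit_of_totalDegree_eq_zero (a : AA K w) (ha : a ≠ 0)
    (h : (psiBar K w a).totalDegree = 0) : IsUnit a := by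
  have hinj := psiBar_injective K w hd
  rw [MvPolynomial.totalDegree_eq_zero_iff_eq_C] at h
  set c := (psiBar K w a).coeff 0 with hc
  have hc0 : c ≠ 0 := by
    intro h0
    rw [h0, map_zero] at h
    exact ha (hinj (by rw [h, map_zero]))
  have hac : a = algebraMap K (AA K w) c := by
    apply hinj
    rw [h, AlgHom.commutes]
    rfl
  rw [hac]
  exact (isUnit_iff_ne_zero.mpr hc0).map _

include hd in
theorem irreducible_xbar : Irreducible (xbar K w w) := by
  have hinj := psiBar_injective K w hd
  have hD := totalDegree_D K w w le_rfl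
  have hD0 : D K w w ≠ 0 := (D_monic_degree K w w le_rfl).1.ne_zero
  have hdiv : ∀ a : AA K w, DivDeg K (psiBar K w a) := by
    intro a
    obtain ⟨f, rfl⟩ := Ideal.Quotient.mk_surjective a
    rw [psiBar_mk]
    exact divDeg_psi K w f
  constructor
  · intro hu
    obtain ⟨b, hb⟩ := hu.exists_right_inv
    have h1 := congrArg (psiBar K w) hb
    rw [map_mul, map_one, psiBar_xbar] at h1
    have hb0 : psiBar K w b ≠ 0 := by
      intro h
      rw [h, mul_zero] at h1
      exact zero_ne_one h1
    have h2 := congrArg MvPolynomial.totalDegree h1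
    rw [MvPolynomial.totalDegree_mul_of_isDomain hD0 hb0, MvPolynomial.totalDegree_one, hD] at h2
    omega
  · intro a b hab
    have h1 := congrArg (psiBar K w) hab
    rw [psiBar_xbar, map_mul] at h1
    have ha0 : psiBar K w a ≠ 0 := by
      intro h
      rw [h, zero_mul] at h1
      exact hD0 h1
    have hb0 : psiBar K w b ≠ 0 := by
      intro h
      rw [h, mul_zero] at h1
      exact hD0 h1
    have ha0' : a ≠ 0 := fun h => ha0 (by rw [h, map_zero])
    have hb0' : b ≠ 0 := fun h => hb0 (by rw [h, map_zero])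
    have h2 := congrArg MvPolynomial.totalDegree h1
    rw [MvPolynomial.totalDegree_mul_of_isDomain ha0 hb0, hD] at h2
    rcases totalDegree_zero_or_ge K _ ha0 (hdiv a) with h | h
    · left
      exact isUnit_of_totalDegree_eq_zero K w hd a ha0' h
    · right
      apply isUnit_of_totalDegree_eq_zero K w hd b hb0'
      omega

include hd in
theorem prime_of_ufd (h : UniqueFactorizationMonoid (AA K w)) : Prime (xbar K w w) := by
  have := isDomain_AA K hd w
  exact UniqueFactorizationMonoid.irreducible_iff_prime.mp (irreducible_xbar K w hd)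

end irreducible

section divisors

variable {d n : ℕ}

theorem eq_of_le_of_codeg_eq (φ₁ φ₂ : Idx d n) (hle : φ₁ ≤ φ₂) (hc : codeg φ₁ = codeg φ₂) :
    φ₁ = φ₂ := by
  unfold codeg at hc
  have hterm : ∀ t ∈ Finset.univ, (φ₁.1 t).val - t.val ≤ (φ₂.1 t).val - t.val := by
    intro t _
    have := Fin.le_def.mp (hle t)
    omega
  have h := (Finset.sum_eq_sum_iff_of_le hterm).mp hc
  apply Subtype.ext
  funext t
  apply Fin.ext
  have h1 := h t (Finset.mem_univ t)
  have h2 := Straighten.strictMono_val_le φ₁.1 φ₁.2 t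
  have h3 := Straighten.strictMono_val_le φ₂.1 φ₂.2 t
  omega

theorem eq_of_mem_divisors_of_le (τ φ₁ φ₂ : Idx d n) (h₁ : φ₁ ∈ divisors τ) (h₂ : φ₂ ∈ divisors τ)
    (hle : φ₁ ≤ φ₂) : φ₁ = φ₂ := by
  apply eq_of_le_of_codeg_eq φ₁ φ₂ hle
  have := h₁.2
  have := h₂.2
  omega

end divisors

section prime

variable (K : Type u) [Field K] [Infinite K] {d n : ℕ} (w : Idx d n) (hd : 0 < d) (hdn : d ≤ n)

include hd in
theorem mem_span_xbar_iff (hw : w ≠ iota hdn) (f : PlRing K d n) :
    Ideal.Quotient.mk (schubertVanishing K d n w) f ∈ Ideal.span {xbar K w w}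
      ↔ ∀ φ ∈ divisors w, f ∈ schubertVanishing K d n φ := by
  have hlt : iota hdn < w := lt_of_le_of_ne (iota_le hdn w) (Ne.symm hw)
  have hsup := sup_span_eq K hd w ⟨iota hdn, hlt⟩
  rw [span_xbar_eq, Ideal.mem_quotient_iff_mem_sup, sup_comm, hsup, Submodule.mem_iInf]
  refine forall_congr' fun φ => ?_
  rw [Submodule.mem_iInf]

include hd hdn in
theorem subsingleton_of_prime (hp : Prime (xbar K w w)) : (divisors w).Subsingleton := by
  intro φ₁ h₁ φ₂ h₂
  by_contra hne
  have hw : w ≠ iota hdn := by
    intro h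
    have h3 := h₁.1
    rw [h] at h3
    exact absurd (iota_le hdn φ₁) (not_le_of_gt h3)
  have hmem : ∀ φ : Idx d n, Ideal.Quotient.mk (schubertVanishing K d n w) (X φ)
      ∈ Ideal.span {xbar K w w} ↔ xbar K w w ∣ xbar K w φ := fun φ => Ideal.mem_span_singleton
  have hdvd : xbar K w w ∣ xbar K w φ₁ * xbar K w φ₂ := by
    rw [← Ideal.mem_span_singleton]
    show Ideal.Quotient.mk _ (X φ₁) * Ideal.Quotient.mk _ (X φ₂) ∈ _
    rw [← map_mul, mem_span_xbar_iff K w hd hdn hw]
    intro φ hφ
    by_cases h1 : φ₁ ≤ φ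
    · have e1 := eq_of_mem_divisors_of_le w φ₁ φ h₁ hφ h1
      have h2 : ¬ φ₂ ≤ φ := by
        intro h2
        have e2 := eq_of_mem_divisors_of_le w φ₂ φ h₂ hφ h2
        exact hne (e1.trans e2.symm)
      exact Ideal.mul_mem_left _ _ (X_mem_schubertVanishing K φ φ₂ h2)
    · exact Ideal.mul_mem_right _ _ (X_mem_schubertVanishing K φ φ₁ h1)
  have hnot : ∀ φ ∈ divisors w, ¬ xbar K w w ∣ xbar K w φ := by
    intro φ hφ hdiv
    rw [← hmem, mem_span_xbar_iff K w hd hdn hw] at hdiv
    have h1 := hdiv φ hφ
    have h2 : xbar K φ φ = 0 := Ideal.Quotient.eq_zero_iff_mem.mpr h1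
    exact xbar_ne_zero K φ φ le_rfl h2
  rcases hp.dvd_or_dvd hdvd with h | h
  · exact hnot φ₁ h₁ h
  · exact hnot φ₂ h₂ h

include hd hdn in
theorem prime_of_subsingleton (hs : (divisors w).Subsingleton) : Prime (xbar K w w) := by
  have := isDomain_AA K hd w
  by_cases hw : w = iota hdn
  · have hp := prime_xι K w hd hdn
    have e : xbar K w w = xι K w hdn := by
      show xbar K w w = xbar K w (iota hdn)
      rw [← hw]
    rw [e]
    exact hp
  · have hlt : iota hdn < w := lt_of_le_of_ne (iota_le hdn w) (Ne.symm hw)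
    obtain ⟨φ, hφ, -⟩ := Groth.Agent.S11268.result d n (iota hdn) w hlt
    have hiff : ∀ f : PlRing K d n,
        Ideal.Quotient.mk (schubertVanishing K d n w) f ∈ Ideal.span {xbar K w w}
          ↔ f ∈ schubertVanishing K d n φ := by
      intro f
      rw [mem_span_xbar_iff K w hd hdn hw]
      constructor
      · intro h
        exact h φ hφ
      · intro h φ' hφ'
        rw [hs hφ' hφ]
        exact h
    have hprime := isPrime_schubertVanishing K hd φ
    rw [← Ideal.span_singleton_prime (xbar_ne_zero K w w le_rfl)]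
    refine ⟨?_, ?_⟩
    · intro htop
      have h1 : Ideal.Quotient.mk (schubertVanishing K d n w) 1 ∈ Ideal.span {xbar K w w} := by
        rw [htop]
        exact Submodule.mem_top
      rw [hiff] at h1
      exact hprime.ne_top ((Ideal.eq_top_iff_one _).mpr h1)
    · intro a b hab
      obtain ⟨f, rfl⟩ := Ideal.Quotient.mk_surjective a
      obtain ⟨g, rfl⟩ := Ideal.Quotient.mk_surjective b
      rw [← map_mul, hiff] at hab
      rw [hiff, hiff]
      exact hprime.mem_or_mem hab

end prime

end Groth.Agent.H59.SchubDim
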