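import Mathlib
import Groth.Agent.H59.CMAt
import Groth.Agent.H59.SchubLattice
import Groth.Agent.H59.SchubUFD
import Groth.Agent.H26.CMFlat

/-!
# Cones over Schubert varieties, and over unions of Schubert divisors, are Cohen–Macaulay
-/

set_option autoImplicit false
set_option linter.unusedSectionVars false

universe u

namespace Groth.Agent.H59.SchubCM

open W4bk4grassmannian MvPolynomial Groth.Agent.H59.SMTIndep Groth.Agent.H59.SMT
open Groth.Agent.H59.HibiW Groth.Agent.H59.PrimeIota Groth.Agent.H59.SchubDim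
open Groth.Agent.H59.CMAt Groth.Agent.H59.SchubLat

section main

variable (K : Type u) [Field K] [Infinite K] {d n : ℕ} (hd : 0 < d) (hdn : d ≤ n)

/-- the vanishing ideal. -/
noncomputable abbrev J (φ : Idx d n) : Ideal (PlRing K d n) := schubertVanishing K d n φ

open Classical in
/-- the finite set of Schubert divisors. -/
noncomputable def divs (w : Idx d n) : Finset (Idx d n) := Finset.univ.filter fun φ => φ ∈ divisors w

theorem mem_divs (w φ : Idx d n) : φ ∈ divs w ↔ φ ∈ divisors w := by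
  classical
  unfold divs
  rw [Finset.mem_filter]
  exact ⟨fun h => h.2, fun h => ⟨Finset.mem_univ _, h⟩⟩

include hd in
theorem divs_inf_eq (w : Idx d n) (hw : w ≠ iota hdn) :
    (divs w).inf (J K) = J K w ⊔ Ideal.span {X w} := by
  have hlt : iota hdn < w := lt_of_le_of_ne (iota_le hdn w) (Ne.symm hw)
  rw [sup_span_eq K hd w ⟨iota hdn, hlt⟩]
  ext f
  rw [Submodule.mem_finsetInf, mem_biInf]
  exact ⟨fun h φ hφ => h φ ((mem_divs w φ).mpr hφ), fun h φ hφ => h φ ((mem_divs w φ).mp hφ)⟩

theorem divs_nonempty (w : Idx d n) (hw : w ≠ iota hdn) : (divs w).Nonempty := by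
  have hlt : iota hdn < w := lt_of_le_of_ne (iota_le hdn w) (Ne.symm hw)
  obtain ⟨φ, hφ, -⟩ := Groth.Agent.S11268.result d n (iota hdn) w hlt
  exact ⟨φ, (mem_divs w φ).mpr hφ⟩

theorem X_notMem (w : Idx d n) : (X w : PlRing K d n) ∉ J K w := by
  intro h
  exact xbar_ne_zero K w w le_rfl (Ideal.Quotient.eq_zero_iff_mem.mpr h)

include hd in
theorem hreg (w : Idx d n) : ∀ s : PlRing K d n, X w * s ∈ J K w → s ∈ J K w := by
  intro s hs
  have hp := isPrime_schubertVanishing K hd w
  exact (hp.mem_or_mem hs).resolve_left (X_notMem K w)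

/-- the inductive package. -/
structure Good (w : Idx d n) : Prop where
  cm : ∀ (P : Ideal (PlRing K d n)) [P.IsPrime], J K w ≤ P → CMat (J K w) P
  dim : ∀ φ ∈ divisors w, ∀ (P : Ideal (PlRing K d n)) [P.IsPrime], J K φ ≤ P →
    dimAt (J K w) P = dimAt (J K φ) P + 1
  union : ∀ T : Finset (Idx d n), T.Nonempty → (∀ φ ∈ T, φ ∈ divisors w) →
    ∀ (P : Ideal (PlRing K d n)) [P.IsPrime], T.inf (J K) ≤ P →
      CMat (T.inf (J K)) P ∧ ∀ φ ∈ T, J K φ ≤ P → dimAt (T.inf (J K)) P = dimAt (J K φ) P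

include hd in
/-- the union statement from the inductive hypothesis. -/
theorem union_of_lower (w : Idx d n) (ih : ∀ φ ∈ divisors w, Good K φ) :
    ∀ T : Finset (Idx d n), T.Nonempty → (∀ φ ∈ T, φ ∈ divisors w) →
    ∀ (P : Ideal (PlRing K d n)) [P.IsPrime], T.inf (J K) ≤ P →
      CMat (T.inf (J K)) P ∧ ∀ φ ∈ T, J K φ ≤ P → dimAt (T.inf (J K)) P = dimAt (J K φ) P := by
  classical
  intro T
  induction T using Finset.induction_on with
  | empty =>
    intro hne
    exact absurd hne Finset.not_nonempty_empty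
  | insert φs T' hφs IH =>
    intro _ hT P hP hle
    have hφsw : φs ∈ divisors w := hT φs (Finset.mem_insert_self _ _)
    have hT' : ∀ φ ∈ T', φ ∈ divisors w := fun φ hφ => hT φ (Finset.mem_insert_of_mem hφ)
    rw [Finset.inf_insert] at hle ⊢
    by_cases hT'ne : T'.Nonempty
    · have IH' := IH hT'ne hT'
      by_cases hI : T'.inf (J K) ≤ P
      · by_cases hJd : J K φs ≤ P
        · -- both: glue
          have hsup : J K φs ⊔ T'.inf (J K)
              = (T'.image fun φ => W4bk4grassmannian.inf φs φ).inf (J K) := by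
            rw [sup_comm, finset_inf_sup K hd, Finset.inf_image]
            refine Finset.inf_congr rfl fun φ _ => ?_
            show J K (W4bk4grassmannian.inf φ φs) = J K (W4bk4grassmannian.inf φs φ)
            rw [inf_comm']
          have hT''div : ∀ ψ ∈ (T'.image fun φ => W4bk4grassmannian.inf φs φ), ψ ∈ divisors φs := by
            intro ψ hψ
            obtain ⟨φ, hφ, rfl⟩ := Finset.mem_image.mp hψ
            exact inf_mem_divisors w φs φ hφsw (hT' φ hφ) (fun h => hφs (h ▸ hφ))
          have hT''ne : (T'.image fun φ => W4bk4grassmannian.inf φs φ).Nonempty := hT'ne.image _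
          have hsupP : J K φs ⊔ T'.inf (J K) ≤ P := sup_le hJd hI
          have hU := (ih φs hφsw).union _ hT''ne hT''div P (hsup ▸ hsupP)
          obtain ⟨φ0, hφ0, hφ0P⟩ := (Ideal.IsPrime.inf_le' hP).mp hI
          have hψ0mem : W4bk4grassmannian.inf φs φ0
              ∈ (T'.image fun φ => W4bk4grassmannian.inf φs φ) := Finset.mem_image_of_mem _ hφ0
          have hψ0P : J K (W4bk4grassmannian.inf φs φ0) ≤ P := by
            calc J K (W4bk4grassmannian.inf φs φ0) = J K φs ⊔ J K φ0 :=
                  (SchubLat.sup_eq_inf K hd φs φ0).symm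
              _ ≤ P := sup_le hJd hφ0P
          have hne0 : φs ≠ φ0 := fun h => hφs (h ▸ hφ0)
          have hd_s := (ih φs hφsw).dim _ (inf_mem_divisors w φs φ0 hφsw (hT' φ0 hφ0) hne0) P hψ0P
          have hd_0 := (ih φ0 (hT' φ0 hφ0)).dim (W4bk4grassmannian.inf φs φ0)
            (by rw [inf_comm']; exact inf_mem_divisors w φ0 φs (hT' φ0 hφ0) hφsw (Ne.symm hne0))
            P hψ0P
          have hdI := (IH' P hI).2 φ0 hφ0 hφ0P
          have hdU := hU.2 _ hψ0mem hψ0P
          have hg := glue_at (J K φs) (T'.inf (J K)) P ((ih φs hφsw).cm P hJd) (IH' P hI).1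
            (hsup ▸ hU.1) (by rw [hd_s, hdI, hd_0]) (by rw [hsup, hdU, hd_s])
          refine ⟨hg.1, ?_⟩
          intro φ hφ hφP
          rw [hg.2]
          rcases Finset.mem_insert.mp hφ with rfl | hφ'
          · rfl
          · rw [hd_s, ← hd_0, ← hdI, (IH' P hI).2 φ hφ' hφP]
        · -- only the union
          rw [inf_comm]
          refine ⟨(cmAt_inf_of_not_le _ _ P hJd).mpr (IH' P hI).1, ?_⟩
          intro φ hφ hφP
          rw [dimAt_inf_of_not_le _ _ P hJd]
          rcases Finset.mem_insert.mp hφ with rfl | hφ'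
          · exact absurd hφP hJd
          · exact (IH' P hI).2 φ hφ' hφP
      · -- only the new divisor
        have hJd : J K φs ≤ P := ((Ideal.IsPrime.inf_le hP).mp hle).resolve_right hI
        refine ⟨(cmAt_inf_of_not_le _ _ P hI).mpr ((ih φs hφsw).cm P hJd), ?_⟩
        intro φ hφ hφP
        rw [dimAt_inf_of_not_le _ _ P hI]
        rcases Finset.mem_insert.mp hφ with rfl | hφ'
        · rfl
        · exact absurd (le_trans (Finset.inf_le hφ') hφP) hI
    · rw [Finset.not_nonempty_iff_eq_empty] at hT'ne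
      subst hT'ne
      rw [Finset.inf_empty, inf_top_eq] at hle ⊢
      refine ⟨(ih φs hφsw).cm P hle, ?_⟩
      intro φ hφ _
      rcases Finset.mem_insert.mp hφ with rfl | hφ'
      · rfl
      · exact absurd hφ' (Finset.notMem_empty _)

include hd hdn in
theorem section_of_union (w : Idx d n) (hw : w ≠ iota hdn)
    (hU : ∀ T : Finset (Idx d n), T.Nonempty → (∀ φ ∈ T, φ ∈ divisors w) →
      ∀ (P : Ideal (PlRing K d n)) [P.IsPrime], T.inf (J K) ≤ P →
        CMat (T.inf (J K)) P ∧ ∀ φ ∈ T, J K φ ≤ P → dimAt (T.inf (J K)) P = dimAt (J K φ) P)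
    (P : Ideal (PlRing K d n)) [hP : P.IsPrime] (hwP : J K w ≤ P) (hXP : X w ∈ P) :
    CMat (J K w) P ∧ ∀ φ ∈ divisors w, J K φ ≤ P → dimAt (J K w) P = dimAt (J K φ) P + 1 := by
  have hsupP : (divs w).inf (J K) ≤ P := by
    rw [divs_inf_eq K hd hdn w hw]
    exact sup_le hwP ((Ideal.span_singleton_le_iff_mem _).mpr hXP)
  have h1 := hU (divs w) (divs_nonempty hdn w hw) (fun φ hφ => (mem_divs w φ).mp hφ) P hsupP
  have h2 := hyperplane_at (J K w) P (X w) hwP hXP (hreg K hd w)
    (by rw [← divs_inf_eq K hd hdn w hw]; exact h1.1)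
  refine ⟨h2.1, ?_⟩
  intro φ hφ hφP
  rw [h2.2, ← divs_inf_eq K hd hdn w hw, h1.2 φ ((mem_divs w φ).mpr hφ) hφP]

theorem le_zero_of_add_one_le_one (x : WithBot ℕ∞)
    (h : x + 1 ≤ ((0 + 1 : ℕ) : WithBot ℕ∞)) : x ≤ 0 := by
  induction x with
  | bot => exact bot_le
  | coe a =>
    induction a with
    | top =>
      exfalso
      have h1 : ((⊤ : ℕ∞) : WithBot ℕ∞) + 1 = ((⊤ : ℕ∞) : WithBot ℕ∞) := rfl
      rw [h1] at h
      have h2 : (⊤ : ℕ∞) ≤ ((0 + 1 : ℕ) : ℕ∞) := by exact_mod_cast h
      simp at h2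
    | coe k =>
      have h1 : ((k + 1 : ℕ) : WithBot ℕ∞) ≤ ((0 + 1 : ℕ) : WithBot ℕ∞) := by exact_mod_cast h
      have h2 : k + 1 ≤ 0 + 1 := by exact_mod_cast h1
      have h3 : k = 0 := by omega
      rw [h3]
      rfl

include hd hdn in
theorem cm_iota_section (P : Ideal (PlRing K d n)) [hP : P.IsPrime] (hwP : J K (iota hdn) ≤ P)
    (hXP : X (iota hdn) ∈ P) : CMat (J K (iota hdn)) P := by
  have hdom := isDomain_AA K hd (iota hdn)
  have hup := SchubDim.upper K (iota hdn) hd
  rw [codeg_iota] at hup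
  have hx0 : xbar K (iota hdn) (iota hdn) ≠ 0 := xbar_ne_zero K _ _ le_rfl
  have h1 := ringKrullDim_quotient_succ_le_of_nonZeroDivisor (mem_nonZeroDivisors_of_ne_zero hx0)
  have h2 : ringKrullDim (AA K (iota hdn) ⧸ Ideal.span {xbar K (iota hdn) (iota hdn)}) ≤ 0 :=
    le_zero_of_add_one_le_one _ (le_trans h1 hup)
  have hspan : (Ideal.span {X (iota hdn)}).map (Ideal.Quotient.mk (J K (iota hdn)))
      = Ideal.span {xbar K (iota hdn) (iota hdn)} := (span_xbar_eq K (iota hdn)).symm
  let e1 : (AA K (iota hdn) ⧸ Ideal.span {xbar K (iota hdn) (iota hdn)}) ≃+*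
      (PlRing K d n ⧸ (J K (iota hdn) ⊔ Ideal.span {X (iota hdn)})) :=
    (Ideal.quotEquivOfEq hspan.symm).trans
      (DoubleQuot.quotQuotEquivQuotSup (J K (iota hdn)) (Ideal.span {X (iota hdn)}))
  have h0 : ringKrullDim (PlRing K d n ⧸ (J K (iota hdn) ⊔ Ideal.span {X (iota hdn)})) ≤ 0 := by
    have e := (ringKrullDim_eq_of_ringEquiv e1 :
      ringKrullDim (AA K (iota hdn) ⧸ Ideal.span {xbar K (iota hdn) (iota hdn)})
        = ringKrullDim (PlRing K d n ⧸ (J K (iota hdn) ⊔ Ideal.span {X (iota hdn)})))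
    rw [← e]
    exact h2
  have hsupP : J K (iota hdn) ⊔ Ideal.span {X (iota hdn)} ≤ P :=
    sup_le hwP ((Ideal.span_singleton_le_iff_mem _).mpr hXP)
  have hcm := cmAt_of_ringKrullDim_le_zero _ P hsupP h0
  exact (hyperplane_at (J K (iota hdn)) P (X (iota hdn)) hwP hXP (hreg K hd _) hcm).1

include hd in
theorem cm_away (w : Idx d n) (P : Ideal (PlRing K d n)) [hP : P.IsPrime] (hwP : J K w ≤ P)
    (hXP : X w ∉ P) : CMat (J K w) P := by
  let _ := (toTw K w hd).toAlgebra
  have hloc : IsLocalization.Away (Ideal.Quotient.mk (J K w) (X w)) (Tw K w) :=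
    isLocalization_away K w hd
  have hZ : LocCoh.IsCohenMacaulayRing (Zw K w) :=
    Groth.Agent.H26.CMFlat.isCohenMacaulayRing_of_isRegularRing (Zw K w)
  have hT : LocCoh.IsCohenMacaulayRing (Tw K w) :=
    isCohenMacaulayRing_of_isLocalization (Submonoid.powers (X none : Zw K w)) (Tw K w) hZ
  exact cmAt_of_away (J K w) (X w) (Tw K w) hT P hwP hXP

include hd hdn in
theorem good (N : ℕ) : ∀ w : Idx d n, codeg w = N → Good K w := by
  induction N using Nat.strong_induction_on with
  | _ N ih =>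
    intro w hN
    have ihd : ∀ φ ∈ divisors w, Good K φ := by
      intro φ hφ
      exact ih (codeg φ) (by have := hφ.2; omega) φ rfl
    have hU := union_of_lower K hd w ihd
    have hwne : ∀ φ ∈ divisors w, w ≠ iota hdn := by
      intro φ hφ h
      have h3 := hφ.1
      rw [h] at h3
      exact absurd (iota_le hdn φ) (not_le_of_gt h3)
    refine ⟨?_, ?_, hU⟩
    · intro P hP hwP
      by_cases hXP : X w ∈ P
      · by_cases hw : w = iota hdn
        · subst hw
          exact cm_iota_section K hd hdn P hwP hXP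
        · exact (section_of_union K hd hdn w hw hU P hwP hXP).1
      · exact cm_away K hd w P hwP hXP
    · intro φ hφ P hP hφP
      have hwP : J K w ≤ P := le_trans (schubertVanishing_anti K hφ.1.le) hφP
      have hXP : X w ∈ P := hφP (X_mem_schubertVanishing K φ w (not_le_of_gt hφ.1))
      exact (section_of_union K hd hdn w (hwne φ hφ) hU P hwP hXP).2 φ hφ hφP

include hd hdn in
/-- cones over Schubert varieties are Cohen–Macaulay. -/
theorem isCohenMacaulayRing_AA (w : Idx d n) : LocCoh.IsCohenMacaulayRing (AA K w) :=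
  isCohenMacaulayRing_quotient (J K w) fun P _ hP => (good K hd hdn (codeg w) w rfl).cm P hP

include hd hdn in
/-- cones over unions of Schubert divisors are Cohen–Macaulay. -/
theorem isCohenMacaulayRing_union (w : Idx d n) (T : Finset (Idx d n))
    (hT : ∀ φ ∈ T, φ ∈ divisors w) :
    LocCoh.IsCohenMacaulayRing (PlRing K d n ⧸ T.inf (J K)) := by
  apply isCohenMacaulayRing_quotient
  intro P hP hle
  by_cases hne : T.Nonempty
  · exact ((good K hd hdn (codeg w) w rfl).union T hne hT P hle).1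
  · rw [Finset.not_nonempty_iff_eq_empty] at hne
    subst hne
    rw [Finset.inf_empty] at hle
    exact absurd (top_le_iff.mp hle) hP.ne_top

end main

end Groth.Agent.H59.SchubCM
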