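import Mathlib
import Groth.Agent.H59.DetIso
import Groth.Agent.H59.InvNormal
import Groth.Agent.H59.CMHyperFwd
import Groth.Agent.H59.GLMain
import Groth.Agent.H59.SchubCM
import Groth.Agent.H14.DimTrdeg

/-!
# Determinantal rings: integral, normal, Cohen–Macaulay, of the expected dimension
-/

set_option autoImplicit false
set_option linter.unusedSectionVars false

universe u

namespace Groth.Agent.H59.DetMain

open W4bk4grassmannian MvPolynomial Groth.Agent.H59.SMTIndep Groth.Agent.H59.PrimeIota
open Groth.Agent.H59.SMT Groth.Agent.H59.Bitab Groth.Agent.H59.DetIso Groth.Agent.H59.HibiW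
open Groth.Agent.H59.SchubDim

section normal

variable (K : Type*) [Field K] [Infinite K] (m n r : ℕ)

/-- the embedding of the determinantal ring in the ring of pairs of matrices. -/
noncomputable def iotaMap : Rt K m n (r + 1) →+* PairRing K r m n :=
  Ideal.Quotient.lift _ (pairingMap K r m n).toRingHom (fun a ha => by
    rw [← Bitab.ker_pairingMap_eq K m n r] at ha
    exact RingHom.mem_ker.mp ha)

theorem iotaMap_mk (f : MvPolynomial (Fin m × Fin n) K) :
    iotaMap K m n r (Ideal.Quotient.mk _ f) = pairingMap K r m n f := rfl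

theorem iotaMap_injective : Function.Injective (iotaMap K m n r) := by
  unfold iotaMap
  exact (Ideal.injective_lift_iff _).mpr (Bitab.ker_pairingMap_eq K m n r)

theorem isDomain_Rt : IsDomain (Rt K m n (r + 1)) :=
  Function.Injective.isDomain (iotaMap K m n r) (iotaMap_injective K m n r)

theorem isIntegrallyClosed_Rt : IsIntegrallyClosed (Rt K m n (r + 1)) := by
  have hdom := isDomain_Rt K m n r
  apply InvNormal.isIntegrallyClosed_of_injective (iotaMap K m n r) (iotaMap_injective K m n r)
  intro b s₁ s₂ hs₂ hb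
  have hinv : ∀ s : Rt K m n (r + 1), ∀ A : GL (Fin r) K,
      glTranslate K r m n A (iotaMap K m n r s) = iotaMap K m n r s := by
    intro s A
    obtain ⟨f, rfl⟩ := Ideal.Quotient.mk_surjective s
    exact Groth.Agent.H59.GLFFT.invariant_of_mem_range K r m n _ ⟨f, rfl⟩ A
  have hbinv : ∀ A : GL (Fin r) K, glTranslate K r m n A b = b := by
    intro A
    have h1 := congrArg (glTranslate K r m n A) hb
    rw [map_mul, hinv, hinv, ← hb] at h1
    have hne : iotaMap K m n r s₂ ≠ 0 := by
      intro h0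
      exact hs₂ (iotaMap_injective K m n r (h0.trans (map_zero _).symm))
    exact mul_left_cancel₀ hne h1
  obtain ⟨f, hf⟩ := Groth.Agent.H59.GLFFT.mem_range_of_invariant K r m n b hbinv
  exact ⟨Ideal.Quotient.mk _ f, hf⟩

end normal

section cm

variable (K : Type u) [Field K] [Infinite K] {m n : ℕ} (t : ℕ)
  (h1 : 1 ≤ t) (hm : t ≤ m + 1) (hn : t ≤ n + 1)

/-- `p_ι - 1`. -/
noncomputable abbrev xi (K : Type u) [Field K] (m n : ℕ) : PlRing K n (n + m) :=
  X (iota (Nat.le_add_right n m)) - 1

theorem xi_notMem (hn0 : 0 < n) (w : Idx n (n + m)) : xi K m n ∉ schubertVanishing K n (n + m) w := by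
  intro h
  rw [mem_schubertVanishing_iff] at h
  have hne : Nonempty (Fin n) := ⟨⟨0, hn0⟩⟩
  have h0 := h 0 (fun φ _ => by
    have : (0 : Matrix (Fin (n + m)) (Fin n) K).submatrix φ.1 id = 0 := rfl
    rw [this, Matrix.det_zero])
  unfold xi at h0
  rw [map_sub, evalMinors_X, map_one] at h0
  have : (0 : Matrix (Fin (n + m)) (Fin n) K).submatrix (iota (Nat.le_add_right n m)).1 id = 0 := rfl
  rw [this, Matrix.det_zero, zero_sub, neg_eq_zero] at h0
  exact one_ne_zero h0

theorem hreg (hn0 : 0 < n) (w : Idx n (n + m)) :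
    ∀ s : PlRing K n (n + m), xi K m n * s ∈ schubertVanishing K n (n + m) w →
      s ∈ schubertVanishing K n (n + m) w := by
  intro s hs
  have hp := isPrime_schubertVanishing K hn0 w
  exact (hp.mem_or_mem hs).resolve_left (xi_notMem K hn0 w)

include hn in
/-- the determinantal ring as a dehomogenisation of the Schubert cone. -/
noncomputable def equivRt (hn0 : 0 < n) :
    (PlRing K n (n + m) ⧸ (schubertVanishing K n (n + m) (wt m n t h1 hm) ⊔ Ideal.span {xi K m n}))
      ≃+* Rt K m n t :=
  (Ideal.quotEquivOfEq (ker_piMap K t h1 hm hn hn0).symm).trans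
    (RingHom.quotientKerEquivOfSurjective (f := (piMap K (m := m) (n := n) t).toRingHom)
      (piMap_surjective K t))

include h1 hm hn in
theorem isCohenMacaulayRing_Rt (hn0 : 0 < n) : LocCoh.IsCohenMacaulayRing (Rt K m n t) := by
  apply CMHyperFwd.isCohenMacaulayRing_of_ringEquiv (equivRt K t h1 hm hn hn0)
  apply CMHyperFwd.isCohenMacaulayRing_quotient_sup_span _ _ (hreg K hn0 _)
  exact SchubCM.isCohenMacaulayRing_AA K hn0 (Nat.le_add_right n m) _

include h1 hm hn in
theorem ringKrullDim_Rt (hn0 : 0 < n) (hnt : Nontrivial (Rt K m n t)) :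
    ringKrullDim (Rt K m n t) = ((codeg (wt m n t h1 hm) : ℕ) : WithBot ℕ∞) := by
  set w := wt m n t h1 hm with hw
  have hdom : IsDomain (AA K w) := isDomain_AA K hn0 w
  have hdimA : ringKrullDim (AA K w) = ((codeg w + 1 : ℕ) : WithBot ℕ∞) :=
    le_antisymm (upper K w hn0) (lower K hn0 (Nat.le_add_right n m) w)
  set f : AA K w := Ideal.Quotient.mk _ (xi K m n) with hf
  have hf0 : f ≠ 0 := fun h => xi_notMem K hn0 w (Ideal.Quotient.eq_zero_iff_mem.mp h)
  have hfnzd : f ∈ nonZeroDivisors (AA K w) := mem_nonZeroDivisors_of_ne_zero hf0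
  have hspan : (Ideal.span {xi K m n}).map (Ideal.Quotient.mk (schubertVanishing K n (n + m) w))
      = Ideal.span {f} := by
    rw [Ideal.map_span, Set.image_singleton]
  let e : (AA K w ⧸ Ideal.span {f}) ≃+* Rt K m n t :=
    ((Ideal.quotEquivOfEq hspan.symm).trans
      (DoubleQuot.quotQuotEquivQuotSup (schubertVanishing K n (n + m) w) (Ideal.span {xi K m n}))).trans
      (equivRt K t h1 hm hn hn0)
  have hne : Ideal.span {f} ≠ ⊤ := by
    intro htop
    have h1 : Subsingleton (AA K w ⧸ Ideal.span {f}) := Ideal.Quotient.subsingleton_iff.mpr htop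
    have h2 : Subsingleton (Rt K m n t) := e.symm.injective.subsingleton
    exact not_subsingleton _ h2
  obtain ⟨p, hpmax, hle⟩ := Ideal.exists_le_maximal _ hne
  have hft : Algebra.FiniteType K (AA K w) :=
    Algebra.FiniteType.of_surjective (Ideal.Quotient.mkₐ K (schubertVanishing K n (n + m) w))
      (Ideal.Quotient.mkₐ_surjective K _)
  have hht := Groth.Agent.H14.height_of_isMaximal_of_finiteType_domain K (AA K w) p
  have hfp : f ∈ p := hle (Ideal.subset_span rfl)
  have hkey := Module.ringKrullDim_quotient_add_one_of_mem_nonZeroDivisors hfnzd hht hfp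
  rw [ringKrullDim_eq_of_ringEquiv e, hdimA] at hkey
  obtain ⟨e', he'⟩ : ∃ e' : ℕ∞, ringKrullDim (Rt K m n t) = (e' : WithBot ℕ∞) := by
    have : ringKrullDim (Rt K m n t) ≠ ⊥ := by
      intro hb
      have h0 : (0 : WithBot ℕ∞) ≤ ringKrullDim (Rt K m n t) := ringKrullDim_nonneg_of_nontrivial
      rw [hb] at h0
      exact absurd h0 (by simp)
    exact ⟨_, (WithBot.coe_unbot _ this).symm⟩
  rw [he'] at hkey ⊢
  have h3 : ((e' + 1 : ℕ∞) : WithBot ℕ∞) = (((codeg w : ℕ) + 1 : ℕ∞) : WithBot ℕ∞) := by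
    rw [WithBot.coe_add, WithBot.coe_add]
    exact_mod_cast hkey
  have h4 : e' + 1 = ((codeg w : ℕ) : ℕ∞) + 1 := WithBot.coe_injective h3
  have h5 : e' = ((codeg w : ℕ) : ℕ∞) := ENat.add_left_injective_of_ne_top ENat.one_ne_top h4
  rw [h5]
  rfl

omit [Infinite K] in
theorem codeg_wt (htn : t ≤ n) :
    codeg (wt m n t h1 hm) = (t - 1) * (m + n - t + 1) := by
  unfold codeg
  have h0 : ∀ j : Fin n, ((wt m n t h1 hm).1 j).val - j.val
      = (fun k : ℕ => if k + t ≤ n then t - 1 else m) j.val := by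
    intro j
    rw [wt_val]
    unfold wtFun
    simp only
    split_ifs <;> omega
  rw [Finset.sum_congr rfl fun j _ => h0 j,
    Fin.sum_univ_eq_sum_range (fun k : ℕ => if k + t ≤ n then t - 1 else m) n, Finset.sum_ite,
    Finset.sum_const, Finset.sum_const, smul_eq_mul, smul_eq_mul]
  have hc1 : (Finset.range n).filter (fun k => k + t ≤ n) = Finset.range (n + 1 - t) := by
    ext k
    simp only [Finset.mem_filter, Finset.mem_range]
    omega
  have hc2 : (Finset.range n).filter (fun k => ¬ k + t ≤ n) = Finset.Ico (n + 1 - t) n := by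
    ext k
    simp only [Finset.mem_filter, Finset.mem_range, Finset.mem_Ico]
    omega
  rw [hc1, hc2, Finset.card_range, Nat.card_Ico]
  obtain ⟨r, rfl⟩ : ∃ r, t = r + 1 := ⟨t - 1, by omega⟩
  obtain ⟨c, rfl⟩ : ∃ c, n = r + 1 + c := ⟨n - (r + 1), by omega⟩
  have e1 : r + 1 + c + 1 - (r + 1) = c + 1 := by omega
  have e2 : r + 1 + c - (c + 1) = r := by omega
  have e3 : m + (r + 1 + c) - (r + 1) + 1 = m + c + 1 := by omega
  have e4 : r + 1 - 1 = r := by omega
  rw [e1, e2, e3, e4]
  ring

end cm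

end Groth.Agent.H59.DetMain
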