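import Mathlib
import Groth.Agent.H54.Dim

/-!
# Krull dimension of a quotient of a polynomial ring is invariant under algebraic extension of
the base field
-/

set_option autoImplicit false

namespace Groth.Agent.H59.FieldExtDim

open MvPolynomial

attribute [local instance] MvPolynomial.algebraMvPolynomial

variable {k K : Type*} [Field k] [Field K] [Algebra k K] {σ : Type*}

theorem faithfullyFlat : Module.FaithfullyFlat (MvPolynomial σ k) (MvPolynomial σ K) :=
  Module.FaithfullyFlat.of_linearEquiv _ _
    (Algebra.IsPushout.equiv k (MvPolynomial σ k) K (MvPolynomial σ K)).toLinearEquiv.symm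

/-- extension then contraction of an ideal along a field extension. -/
theorem comap_map_eq (I : Ideal (MvPolynomial σ k)) :
    (I.map (MvPolynomial.map (algebraMap k K))).comap (MvPolynomial.map (algebraMap k K)) = I := by
  have := faithfullyFlat (k := k) (K := K) (σ := σ)
  exact Ideal.comap_map_eq_self_of_faithfullyFlat (B := MvPolynomial σ K) I

theorem ringKrullDim_quotient_map_eq [Algebra.IsAlgebraic k K] (I : Ideal (MvPolynomial σ k)) :
    ringKrullDim (MvPolynomial σ K ⧸ I.map (MvPolynomial.map (algebraMap k K)))
      = ringKrullDim (MvPolynomial σ k ⧸ I) := by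
  set f : MvPolynomial σ k →+* MvPolynomial σ K := MvPolynomial.map (algebraMap k K) with hf
  have hle : I ≤ (I.map f).comap f := Ideal.le_comap_map
  set fb : (MvPolynomial σ k ⧸ I) →+* (MvPolynomial σ K ⧸ I.map f) :=
    Ideal.quotientMap (I.map f) f hle with hfb
  have hinj : Function.Injective fb := by
    apply Ideal.quotientMap_injective'
    rw [comap_map_eq]
  have hintf : f.IsIntegral := by
    have h : Algebra.IsIntegral (MvPolynomial σ k) (MvPolynomial σ K) := inferInstance
    intro p
    exact h.isIntegral p
  have hint : fb.IsIntegral := by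
    intro y
    obtain ⟨p, rfl⟩ := Ideal.Quotient.mk_surjective y
    obtain ⟨q, hq, hq0⟩ := hintf p
    refine ⟨q.map (Ideal.Quotient.mk I), hq.map _, ?_⟩
    rw [Polynomial.eval₂_map]
    have hcomp : fb.comp (Ideal.Quotient.mk I) = (Ideal.Quotient.mk (I.map f)).comp f := by
      ext x <;> rfl
    rw [hcomp, ← Polynomial.hom_eval₂, hq0, map_zero]
  exact (Groth.Agent.H54.ringKrullDim_eq_of_ringHom_isIntegral_of_injective fb hint hinj).symm

end Groth.Agent.H59.FieldExtDim
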