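import Mathlib
import Groth.Agent.H59.DetMain
import Groth.Agent.H59.FieldExtDim

/-!
# The dimension of the generic determinantal ring over an arbitrary field
-/

set_option autoImplicit false
set_option linter.unusedSectionVars false

universe u

namespace Groth.Agent.H59.DetDimAny

open W4bk4grassmannian MvPolynomial Groth.Agent.H59.Bitab Groth.Agent.H59.DetIso
open Groth.Agent.H59.DetMain

/-- extension of scalars of the determinantal ideal. -/
theorem map_minorIdeal {k K : Type u} [Field k] [Field K] [Algebra k K] (m n t : ℕ) :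
    (CAlgX.minorIdeal (genMatrix k m n) t).map (MvPolynomial.map (algebraMap k K))
      = CAlgX.minorIdeal (genMatrix K m n) t := by
  unfold CAlgX.minorIdeal
  rw [Ideal.map_span]
  congr 1
  ext x
  constructor
  · rintro ⟨y, ⟨fg, rfl⟩, rfl⟩
    refine ⟨fg, ?_⟩
    simp only
    rw [RingHom.map_det]
    congr 1
    ext i j
    simp [genMatrix]
  · rintro ⟨fg, rfl⟩
    refine ⟨_, ⟨fg, rfl⟩, ?_⟩
    simp only
    rw [RingHom.map_det]
    congr 1
    ext i j
    simp [genMatrix]

theorem codeg_wt' {m n : ℕ} (t : ℕ) (h1 : 1 ≤ t) (hm : t ≤ m + 1) (hn : t ≤ n + 1) :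
    codeg (wt m n t h1 hm) = (t - 1) * (m + (n + 1 - t)) := by
  unfold codeg
  have h0 : ∀ j : Fin n, ((wt m n t h1 hm).1 j).val - j.val
      = (fun k : ℕ => if k + t ≤ n then t - 1 else m) j.val := by
    intro j
    rw [wt_val]
    unfold wtFun
    simp only
    split_ifs <;> omega
  rw [Finset.sum_congr rfl fun j _ => h0 j,
    Fin.sum_univ_eq_sum_range (fun k : ℕ => if k + t ≤ n then t - 1 else m) n, Finset.sum_ite,
    Finset.sum_const, Finset.sum_const, smul_eq_mul, smul_eq_mul]
  have hc1 : (Finset.range n).filter (fun k => k + t ≤ n) = Finset.range (n + 1 - t) := by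
    ext k
    simp only [Finset.mem_filter, Finset.mem_range]
    omega
  have hc2 : (Finset.range n).filter (fun k => ¬ k + t ≤ n) = Finset.Ico (n + 1 - t) n := by
    ext k
    simp only [Finset.mem_filter, Finset.mem_range, Finset.mem_Ico]
    omega
  rw [hc1, hc2, Finset.card_range, Nat.card_Ico]
  obtain ⟨r, rfl⟩ : ∃ r, t = r + 1 := ⟨t - 1, by omega⟩
  obtain ⟨c, hc⟩ : ∃ c, n = r + c := ⟨n - r, by omega⟩
  subst hc
  have e1 : r + c + 1 - (r + 1) = c := by omega
  have e2 : r + c - c = r := by omega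
  have e4 : r + 1 - 1 = r := by omega
  rw [e1, e2, e4]
  ring

/-- the dimension of the generic determinantal ring, over an infinite field. -/
theorem ringKrullDim_Rt_infinite (K : Type u) [Field K] [Infinite K] (n m r : ℕ) (hm0 : 0 < m)
    (hr : r ≤ min n m) :
    ringKrullDim (Rt K n m (r + 1)) = ((r * (m + n - r) : ℕ) : WithBot ℕ∞) := by
  have hdom := isDomain_Rt K n m r
  have hnt : Nontrivial (Rt K n m (r + 1)) := inferInstance
  have h1 : 1 ≤ r + 1 := by omega
  have h2 : r + 1 ≤ n + 1 := by omega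
  have h3 : r + 1 ≤ m + 1 := by omega
  rw [ringKrullDim_Rt K (m := n) (n := m) (r + 1) h1 h2 h3 hm0 hnt, codeg_wt' (r + 1) h1 h2 h3]
  have e1 : r + 1 - 1 = r := by omega
  have e2 : n + (m + 1 - (r + 1)) = m + n - r := by omega
  rw [e1, e2]

/-- the dimension of the generic determinantal ring, over any field. -/
theorem ringKrullDim_Rt_any (k : Type u) [Field k] (n m r : ℕ) (hr : r ≤ min n m) :
    ringKrullDim (Rt k n m (r + 1)) = ((r * (m + n - r) : ℕ) : WithBot ℕ∞) := by
  rcases Nat.eq_zero_or_pos m with hm | hm0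
  · subst hm
    have hr0 : r = 0 := by omega
    subst hr0
    have hbot : CAlgX.minorIdeal (genMatrix k n 0) (0 + 1) = ⊥ := by
      unfold CAlgX.minorIdeal
      have : IsEmpty ((Fin (0 + 1) → Fin n) × (Fin (0 + 1) → Fin 0)) :=
        ⟨fun fg => (fg.2 0).elim0⟩
      rw [Set.range_eq_empty, Ideal.span_empty]
    unfold Rt
    rw [hbot, ringKrullDim_eq_of_ringEquiv (RingEquiv.quotientBot _),
      ringKrullDim_eq_of_ringEquiv (MvPolynomial.isEmptyRingEquiv k (Fin n × Fin 0)),
      ringKrullDim_eq_zero_of_field]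
    simp
  · have hinf : Infinite (AlgebraicClosure k) := IsAlgClosed.instInfinite
    rw [← ringKrullDim_Rt_infinite (AlgebraicClosure k) n m r hm0 hr]
    unfold Rt
    rw [← map_minorIdeal (k := k) (K := AlgebraicClosure k) n m (r + 1)]
    exact (Groth.Agent.H59.FieldExtDim.ringKrullDim_quotient_map_eq _).symm

end Groth.Agent.H59.DetDimAny
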