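import Mathlib
import Groth.Agent.H59.DetDeriv

/-!
# The generic determinantal ring is smooth where an `r`-minor is invertible

`B = k[X]/I_{r+1}`, `δ` an `r`-minor.  Then `B[1/δ]` is a retract of `k[X][1/δ]`
(Schur complement), hence formally smooth.
-/

set_option autoImplicit false
set_option linter.style.haveILetI false

universe u

namespace Groth.Agent.H59.DetSmoothChart

open MvPolynomial Matrix Groth.Agent.H59.DetDeriv

variable (k : Type u) [Field k] (n m r : ℕ) (a : Fin r → Fin n) (b : Fin r → Fin m)

/-- the `r`-minor on rows `a`, columns `b` -/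
noncomputable def dl : MvPolynomial (Fin n × Fin m) k := ((gX k n m).submatrix a b).det

/-- the generic matrix over `k[X][1/δ]` -/
noncomputable def XQ : Matrix (Fin n) (Fin m) (Localization.Away (dl k n m r a b)) :=
  (gX k n m).map (algebraMap _ (Localization.Away (dl k n m r a b)))

/-- `U A⁻¹ W` -/
noncomputable def Y : Matrix (Fin n) (Fin m) (Localization.Away (dl k n m r a b)) :=
  (XQ k n m r a b).submatrix id b * ((XQ k n m r a b).submatrix a b)⁻¹ *
    (XQ k n m r a b).submatrix a id

/-- the parametrisation `X ↦ U A⁻¹ W` -/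
noncomputable def psi : MvPolynomial (Fin n × Fin m) k →ₐ[k] Localization.Away (dl k n m r a b) :=
  aeval fun v : Fin n × Fin m => Y k n m r a b v.1 v.2

theorem psi_map : (gX k n m).map (psi k n m r a b) = Y k n m r a b := by
  ext i j
  simp [psi, gX]

theorem det_XQ : ((XQ k n m r a b).submatrix a b).det =
    algebraMap _ (Localization.Away (dl k n m r a b)) (dl k n m r a b) := by
  have : (XQ k n m r a b).submatrix a b =
      ((gX k n m).submatrix a b).map (algebraMap _ (Localization.Away (dl k n m r a b))) := rfl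
  rw [this, dl, RingHom.map_det]
  rfl

theorem isUnit_det_XQ : IsUnit ((XQ k n m r a b).submatrix a b).det := by
  rw [det_XQ]
  exact IsLocalization.Away.algebraMap_isUnit _

theorem psi_minor (s : ℕ) (a' : Fin s → Fin n) (b' : Fin s → Fin m) :
    psi k n m r a b ((gX k n m).submatrix a' b').det = ((Y k n m r a b).submatrix a' b').det := by
  rw [← psi_map, AlgHom.map_det]
  rfl

theorem psi_minor_succ (a' : Fin (r + 1) → Fin n) (b' : Fin (r + 1) → Fin m) :
    psi k n m r a b ((gX k n m).submatrix a' b').det = 0 := by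
  rw [psi_minor, Y, Matrix.mul_assoc]
  exact det_submatrix_mul_thin r _ _ a' b'

theorem psi_dl : psi k n m r a b (dl k n m r a b) =
    algebraMap _ (Localization.Away (dl k n m r a b)) (dl k n m r a b) := by
  have h1 : (Y k n m r a b).submatrix a b = (XQ k n m r a b).submatrix a b := by
    have : (Y k n m r a b).submatrix a b = (XQ k n m r a b).submatrix a b *
        ((XQ k n m r a b).submatrix a b)⁻¹ * (XQ k n m r a b).submatrix a b := by
      ext i j
      simp [Y, Matrix.mul_apply]
    rw [this, Matrix.mul_nonsing_inv _ (isUnit_det_XQ k n m r a b), one_mul]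
  have h2 : psi k n m r a b (dl k n m r a b) = ((Y k n m r a b).submatrix a b).det :=
    psi_minor k n m r a b r a b
  rw [h2, h1, det_XQ]

theorem psi_mem (x : MvPolynomial (Fin n × Fin m) k)
    (hx : x ∈ CAlgX.minorIdeal (gX k n m) (r + 1)) : psi k n m r a b x = 0 := by
  have : CAlgX.minorIdeal (gX k n m) (r + 1) ≤ RingHom.ker (psi k n m r a b) := by
    rw [CAlgX.minorIdeal, Ideal.span_le]
    rintro _ ⟨⟨a', b'⟩, rfl⟩
    exact psi_minor_succ k n m r a b a' b'
  exact this hx

/-- the determinantal ring -/
abbrev Bq := MvPolynomial (Fin n × Fin m) k ⧸ CAlgX.minorIdeal (gX k n m) (r + 1)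

/-- `ψ` on the quotient -/
noncomputable def psiBar : Bq k n m r →ₐ[k] Localization.Away (dl k n m r a b) :=
  Ideal.Quotient.liftₐ _ (psi k n m r a b) (psi_mem k n m r a b)

/-- image of `δ` in `B` -/
noncomputable abbrev dlBar : Bq k n m r :=
  (Ideal.Quotient.mkₐ k (CAlgX.minorIdeal (gX k n m) (r + 1))) (dl k n m r a b)

theorem psiBar_dlBar : IsUnit (psiBar k n m r a b (dlBar k n m r a b)) := by
  have : psiBar k n m r a b (dlBar k n m r a b) = psi k n m r a b (dl k n m r a b) := by
    simp only [psiBar, dlBar, Ideal.Quotient.mkₐ_eq_mk]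
    exact Ideal.Quotient.liftₐ_apply _ _ _ _
  rw [this, psi_dl]
  exact IsLocalization.Away.algebraMap_isUnit _

/-- the section `B[1/δ] → k[X][1/δ]` -/
noncomputable def iota : Localization.Away (dlBar k n m r a b) →ₐ[k]
    Localization.Away (dl k n m r a b) :=
  IsLocalization.Away.liftAlgHom (dlBar k n m r a b) (psiBar_dlBar k n m r a b)

/-- the projection `k[X][1/δ] → B[1/δ]` -/
noncomputable def pi : Localization.Away (dl k n m r a b) →ₐ[k]
    Localization.Away (dlBar k n m r a b) :=
  Localization.awayMapₐ (Ideal.Quotient.mkₐ k (CAlgX.minorIdeal (gX k n m) (r + 1))) (dl k n m r a b)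

/-- the generic matrix over `B[1/δ]` -/
noncomputable def ZA : Matrix (Fin n) (Fin m) (Localization.Away (dlBar k n m r a b)) :=
  (gX k n m).map ((algebraMap (Bq k n m r) (Localization.Away (dlBar k n m r a b))).comp
    (Ideal.Quotient.mk _))

theorem pi_algebraMap (x : MvPolynomial (Fin n × Fin m) k) :
    pi k n m r a b (algebraMap _ _ x) =
      algebraMap (Bq k n m r) (Localization.Away (dlBar k n m r a b)) (Ideal.Quotient.mk _ x) := by
  rw [pi, Localization.awayMapₐ, IsLocalization.Away.mapₐ_apply, IsLocalization.Away.map,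
    IsLocalization.map_eq]
  rfl

theorem XQ_map_pi : (XQ k n m r a b).map (pi k n m r a b) = ZA k n m r a b := by
  ext i j
  simp only [XQ, ZA, Matrix.map_apply, RingHom.comp_apply]
  exact pi_algebraMap k n m r a b _

theorem ZA_minor (s : ℕ) (a' : Fin s → Fin n) (b' : Fin s → Fin m) :
    ((ZA k n m r a b).submatrix a' b').det =
      algebraMap (Bq k n m r) (Localization.Away (dlBar k n m r a b))
        (Ideal.Quotient.mk _ ((gX k n m).submatrix a' b').det) := by
  have : (ZA k n m r a b).submatrix a' b' = ((gX k n m).submatrix a' b').map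
      ((algebraMap (Bq k n m r) (Localization.Away (dlBar k n m r a b))).comp
        (Ideal.Quotient.mk _)) := rfl
  rw [this]
  exact (RingHom.map_det _ _).symm

theorem ZA_minor_succ (a' : Fin (r + 1) → Fin n) (b' : Fin (r + 1) → Fin m) :
    ((ZA k n m r a b).submatrix a' b').det = 0 := by
  rw [ZA_minor, Ideal.Quotient.eq_zero_iff_mem.mpr (minor_mem k n m (r + 1) a' b'), map_zero]

theorem isUnit_det_ZA : IsUnit ((ZA k n m r a b).submatrix a b).det := by
  rw [ZA_minor]
  exact IsLocalization.Away.algebraMap_isUnit (dlBar k n m r a b)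

theorem Y_map_pi : (Y k n m r a b).map (pi k n m r a b) = ZA k n m r a b := by
  have hinv : (((XQ k n m r a b).submatrix a b)⁻¹).map (pi k n m r a b) =
      ((ZA k n m r a b).submatrix a b)⁻¹ := by
    symm
    apply Matrix.inv_eq_right_inv
    have h1 : (ZA k n m r a b).submatrix a b =
        ((XQ k n m r a b).submatrix a b).map (pi k n m r a b) := by
      rw [← XQ_map_pi]; rfl
    rw [h1, ← Matrix.map_mul, Matrix.mul_nonsing_inv _ (isUnit_det_XQ k n m r a b)]
    simp
  have h2 : (Y k n m r a b).map (pi k n m r a b) =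
      ((XQ k n m r a b).map (pi k n m r a b)).submatrix id b *
        (((XQ k n m r a b).submatrix a b)⁻¹).map (pi k n m r a b) *
        ((XQ k n m r a b).map (pi k n m r a b)).submatrix a id := by
    rw [Y, Matrix.map_mul, Matrix.map_mul]
    rfl
  rw [h2, hinv, XQ_map_pi]
  exact (eq_mul_inv_mul (ZA k n m r a b) (ZA_minor_succ k n m r a b) a b
    (isUnit_det_ZA k n m r a b)).symm

theorem pi_comp_iota : (pi k n m r a b).comp (iota k n m r a b) = AlgHom.id k _ := by
  apply IsLocalization.algHom_ext (Submonoid.powers (dlBar k n m r a b))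
  apply Ideal.Quotient.algHom_ext
  apply MvPolynomial.algHom_ext
  intro v
  change pi k n m r a b (iota k n m r a b (algebraMap (Bq k n m r) _ (Ideal.Quotient.mk _ (X v)))) =
    algebraMap (Bq k n m r) _ (Ideal.Quotient.mk _ (X v))
  have h1 : iota k n m r a b (algebraMap (Bq k n m r) _ (Ideal.Quotient.mk _ (X v))) =
      Y k n m r a b v.1 v.2 := by
    rw [iota, IsLocalization.Away.liftAlgHom_apply, IsLocalization.Away.lift_eq]
    change psiBar k n m r a b (Ideal.Quotient.mk _ (X v)) = _
    rw [psiBar]
    rw [show (Ideal.Quotient.liftₐ _ (psi k n m r a b) (psi_mem k n m r a b))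
        (Ideal.Quotient.mk _ (X v)) = psi k n m r a b (X v) from
      Ideal.Quotient.liftₐ_apply _ _ _ _]
    simp [psi]
  rw [h1]
  have h2 := congrFun (congrFun (Y_map_pi k n m r a b) v.1) v.2
  simp only [Matrix.map_apply] at h2
  rw [h2]
  simp [ZA, gX]

theorem formallySmooth_away :
    Algebra.FormallySmooth k (Localization.Away (dlBar k n m r a b)) := by
  refine Algebra.FormallySmooth.of_split (pi k n m r a b)
    ((Ideal.Quotient.mkₐ k _).comp (iota k n m r a b)) ?_
  refine AlgHom.ext (fun x => ?_)
  have := congrArg (fun f => f x) (pi_comp_iota k n m r a b)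
  simp only [AlgHom.comp_apply, AlgHom.id_apply] at this ⊢
  rw [Ideal.Quotient.mkₐ_eq_mk]
  exact ((pi k n m r a b).kerSquareLift_mk _).trans this

instance : Algebra.FinitePresentation k (Bq k n m r) :=
  Algebra.FinitePresentation.quotient (IsNoetherian.noetherian _)

theorem basicOpen_subset_smoothLocus :
    (PrimeSpectrum.basicOpen (dlBar k n m r a b) : Set (PrimeSpectrum (Bq k n m r))) ⊆
      Algebra.smoothLocus k (Bq k n m r) :=
  Algebra.basicOpen_subset_smoothLocus_iff.mpr (formallySmooth_away k n m r a b)

end Groth.Agent.H59.DetSmoothChart
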