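import Mathlib

/-!
# A criterion for non-smoothness

`NonSmoothCrit.not_formallySmooth`: let `P` be a formally smooth local `k`-algebra and
`P → A` a surjection with finitely generated kernel `J ≠ ⊥, ⊤`, generated by elements `x` with
`1 ⊗ D x ∈ 𝔪 • (A ⊗ Ω_{P/k})`.  Then `A` is not formally smooth over `k`.
-/

set_option autoImplicit false
set_option linter.style.haveILetI false

namespace Groth.Agent.H59.NonSmoothCrit

open TensorProduct KaehlerDifferential

variable {k P A : Type*} [CommRing k] [CommRing P] [CommRing A] [Algebra k P] [Algebra k A]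
  [Algebra P A] [IsScalarTower k P A]

omit [Algebra k A] [IsScalarTower k P A] in
theorem tmul_D_mem [IsLocalRing P] (gens : Set P)
    (hgens : Ideal.span gens = RingHom.ker (algebraMap P A))
    (hD : ∀ x ∈ gens, (1 : A) ⊗ₜ[P] D k P x ∈
      IsLocalRing.maximalIdeal P • (⊤ : Submodule P (A ⊗[P] Ω[P⁄k])))
    (x : P) (hx : x ∈ RingHom.ker (algebraMap P A)) :
    (1 : A) ⊗ₜ[P] D k P x ∈
      IsLocalRing.maximalIdeal P • (⊤ : Submodule P (A ⊗[P] Ω[P⁄k])) := by
  rw [← hgens] at hx
  have key : x ∈ RingHom.ker (algebraMap P A) ∧ (1 : A) ⊗ₜ[P] D k P x ∈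
      IsLocalRing.maximalIdeal P • (⊤ : Submodule P (A ⊗[P] Ω[P⁄k])) := by
    refine Submodule.span_induction (p := fun x _ => x ∈ RingHom.ker (algebraMap P A) ∧
      (1 : A) ⊗ₜ[P] D k P x ∈
        IsLocalRing.maximalIdeal P • (⊤ : Submodule P (A ⊗[P] Ω[P⁄k]))) ?_ ?_ ?_ ?_ hx
    · intro y hy
      exact ⟨hgens ▸ Ideal.subset_span hy, hD y hy⟩
    · exact ⟨Ideal.zero_mem _, by simp⟩
    · intro y z _ _ hy hz
      refine ⟨Ideal.add_mem _ hy.1 hz.1, ?_⟩
      rw [map_add, tmul_add]
      exact Submodule.add_mem _ hy.2 hz.2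
    · intro c y _ hy
      refine ⟨Ideal.mul_mem_left _ _ hy.1, ?_⟩
      rw [smul_eq_mul, Derivation.leibniz, tmul_add, tmul_smul, tmul_smul]
      refine Submodule.add_mem _ (Submodule.smul_mem _ _ hy.2) ?_
      have : y • ((1 : A) ⊗ₜ[P] D k P c) = 0 := by
        rw [TensorProduct.smul_tmul', Algebra.smul_def, mul_one, RingHom.mem_ker.mp hy.1,
          zero_tmul]
      rw [this]
      exact Submodule.zero_mem _
  exact key.2

/-- **Non-smoothness criterion.** -/
theorem not_formallySmooth [IsLocalRing P] [IsNoetherianRing P] [Algebra.FormallySmooth k P]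
    (hsurj : Function.Surjective (algebraMap P A)) (gens : Set P)
    (hgens : Ideal.span gens = RingHom.ker (algebraMap P A))
    (hD : ∀ x ∈ gens, (1 : A) ⊗ₜ[P] D k P x ∈
      IsLocalRing.maximalIdeal P • (⊤ : Submodule P (A ⊗[P] Ω[P⁄k])))
    (hbot : RingHom.ker (algebraMap P A) ≠ ⊥) (htop : RingHom.ker (algebraMap P A) ≠ ⊤) :
    ¬ Algebra.FormallySmooth k A := by
  intro hsm
  obtain ⟨l, hl⟩ := (Algebra.FormallySmooth.iff_split_injection (R := k) hsurj).mp hsm
  -- every cotangent class lies in `(IsLocalRing.maximalIdeal P) • ⊤`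
  have h1 : (⊤ : Submodule P (RingHom.ker (algebraMap P A)).Cotangent) ≤ (IsLocalRing.maximalIdeal P) • (⊤ : Submodule P (RingHom.ker (algebraMap P A)).Cotangent) := by
    intro c _
    obtain ⟨x, rfl⟩ := Ideal.toCotangent_surjective _ c
    have h2 : l (kerCotangentToTensor k P A ((RingHom.ker (algebraMap P A)).toCotangent x)) = (RingHom.ker (algebraMap P A)).toCotangent x :=
      LinearMap.congr_fun hl ((RingHom.ker (algebraMap P A)).toCotangent x)
    rw [← h2, kerCotangentToTensor_toCotangent]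
    have h3 := tmul_D_mem (k := k) gens hgens hD x.1 x.2
    have h4 : Submodule.map l ((IsLocalRing.maximalIdeal P) • (⊤ : Submodule P (A ⊗[P] Ω[P⁄k]))) ≤
        (IsLocalRing.maximalIdeal P) • (⊤ : Submodule P (RingHom.ker (algebraMap P A)).Cotangent) := by
      rw [Submodule.map_smul'']
      exact Submodule.smul_mono le_rfl le_top
    exact h4 (Submodule.mem_map_of_mem h3)
  have hfg : (⊤ : Submodule P (RingHom.ker (algebraMap P A)).Cotangent).FG := by
    have : Module.Finite P (RingHom.ker (algebraMap P A)) :=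
      Module.Finite.iff_fg.mpr (IsNoetherian.noetherian _)
    have : Module.Finite P (RingHom.ker (algebraMap P A)).Cotangent :=
      Module.Finite.of_surjective (RingHom.ker (algebraMap P A)).toCotangent
        (Ideal.toCotangent_surjective _)
    exact Module.Finite.fg_top
  have hjac : (IsLocalRing.maximalIdeal P) ≤ Ideal.jacobson ⊥ := by
    rw [IsLocalRing.jacobson_eq_maximalIdeal ⊥ bot_ne_top]
  have h5 : (⊤ : Submodule P (RingHom.ker (algebraMap P A)).Cotangent) = ⊥ :=
    Submodule.eq_bot_of_le_smul_of_le_jacobson_bot (IsLocalRing.maximalIdeal P) ⊤ hfg h1 hjac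
  have h6 : Subsingleton (RingHom.ker (algebraMap P A)).Cotangent := by
    rw [← Submodule.subsingleton_iff P]
    exact ⟨fun a b => by
      have ha : a = ⊥ := by
        rw [eq_bot_iff]; intro x _; rw [← h5]; trivial
      have hb : b = ⊥ := by
        rw [eq_bot_iff]; intro x _; rw [← h5]; trivial
      rw [ha, hb]⟩
  have h7 : IsIdempotentElem (RingHom.ker (algebraMap P A)) :=
    (Ideal.cotangent_subsingleton_iff _).mp h6
  have h8 : RingHom.ker (algebraMap P A) ≤
      RingHom.ker (algebraMap P A) • RingHom.ker (algebraMap P A) := by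
    rw [smul_eq_mul]; exact le_of_eq h7.symm
  have h9 : RingHom.ker (algebraMap P A) ≤ Ideal.jacobson ⊥ :=
    le_trans (IsLocalRing.le_maximalIdeal htop) hjac
  exact hbot (Submodule.eq_bot_of_le_smul_of_le_jacobson_bot _ _ (IsNoetherian.noetherian _) h8 h9)

end Groth.Agent.H59.NonSmoothCrit
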