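import Mathlib
import Groth.Agent.H59.DetSmoothChart
import Groth.Agent.H59.NonSmoothCrit

/-!
# The determinantal ring is not smooth where all `r`-minors vanish
-/

set_option autoImplicit false
set_option linter.style.haveILetI false

universe u

namespace Groth.Agent.H59.DetSmoothConv

open MvPolynomial Matrix TensorProduct KaehlerDifferential Groth.Agent.H59.DetDeriv
  Groth.Agent.H59.DetSmoothChart

section General

variable {R : Type*} [CommRing R] (I : Ideal R) (P : Ideal (R ⧸ I)) [P.IsPrime]

theorem localRingHom_surjective :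
    Function.Surjective (Localization.localRingHom (P.comap (Ideal.Quotient.mk I)) P
      (Ideal.Quotient.mk I) rfl) := by
  intro y
  obtain ⟨b, t, rfl⟩ := IsLocalization.exists_mk'_eq P.primeCompl y
  obtain ⟨s, rfl⟩ := Ideal.Quotient.mk_surjective b
  obtain ⟨t', ht'⟩ := Ideal.Quotient.mk_surjective (t : R ⧸ I)
  have ht'mem : t' ∈ (P.comap (Ideal.Quotient.mk I)).primeCompl := by
    intro h
    apply t.2
    rw [← ht']
    exact h
  refine ⟨IsLocalization.mk' _ s ⟨t', ht'mem⟩, ?_⟩
  rw [Localization.localRingHom_mk']
  congr 1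
  exact Subtype.ext ht'

theorem ker_localRingHom :
    RingHom.ker (Localization.localRingHom (P.comap (Ideal.Quotient.mk I)) P
      (Ideal.Quotient.mk I) rfl) =
      I.map (algebraMap R (Localization.AtPrime (P.comap (Ideal.Quotient.mk I)))) := by
  apply le_antisymm
  · intro x hx
    rw [RingHom.mem_ker] at hx
    obtain ⟨s, t, rfl⟩ := IsLocalization.exists_mk'_eq (P.comap (Ideal.Quotient.mk I)).primeCompl x
    rw [Localization.localRingHom_mk', IsLocalization.mk'_eq_zero_iff] at hx
    obtain ⟨u, hu⟩ := hx
    obtain ⟨u', hu'⟩ := Ideal.Quotient.mk_surjective (u : R ⧸ I)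
    have hu'mem : u' ∈ (P.comap (Ideal.Quotient.mk I)).primeCompl := by
      intro h
      apply u.2
      rw [← hu']
      exact h
    have hmem : u' * s ∈ I := by
      rw [← Ideal.Quotient.eq_zero_iff_mem, map_mul, hu']
      exact hu
    have : IsLocalization.mk' (Localization.AtPrime (P.comap (Ideal.Quotient.mk I))) s t =
        IsLocalization.mk' _ (u' * s) (⟨u', hu'mem⟩ * t) := by
      rw [IsLocalization.mk'_eq_iff_eq]
      simp only [Submonoid.coe_mul]
      congr 1
      ring
    rw [this, IsLocalization.mk'_eq_mul_mk'_one]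
    exact Ideal.mul_mem_right _ _ (Ideal.mem_map_of_mem _ hmem)
  · rw [Ideal.map_le_iff_le_comap]
    intro x hx
    rw [Ideal.mem_comap, RingHom.mem_ker, Localization.localRingHom_to_map,
      Ideal.Quotient.eq_zero_iff_mem.mpr hx, map_zero]

end General

section DerivFormula

variable {k : Type*} [CommRing k] {σ : Type*} [Fintype σ] [DecidableEq σ]
  {T : Type*} [CommRing T] [Algebra k T] [Algebra (MvPolynomial σ k) T]
  [IsScalarTower k (MvPolynomial σ k) T]
  {N : Type*} [AddCommGroup N] [Module T N] [Module k N] [IsScalarTower k T N]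

omit [IsScalarTower k T N] in
theorem derivation_algebraMap (d : Derivation k T N) (f : MvPolynomial σ k) :
    d (algebraMap (MvPolynomial σ k) T f) =
      ∑ v, algebraMap (MvPolynomial σ k) T (pderiv v f) • d (algebraMap (MvPolynomial σ k) T (X v)) := by
  induction f using MvPolynomial.induction_on with
  | C c =>
    have : algebraMap (MvPolynomial σ k) T (C c) = algebraMap k T c := by
      rw [IsScalarTower.algebraMap_apply k (MvPolynomial σ k) T]; rfl
    rw [this, Derivation.map_algebraMap]
    simp
  | add p q hp hq =>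
    rw [map_add, map_add, hp, hq, ← Finset.sum_add_distrib]
    refine Finset.sum_congr rfl (fun v _ => ?_)
    rw [map_add, map_add, add_smul]
  | mul_X p w hp =>
    rw [map_mul, Derivation.leibniz, hp, Finset.smul_sum]
    have h1 : ∀ v, algebraMap (MvPolynomial σ k) T (pderiv v (p * X w)) •
          d (algebraMap (MvPolynomial σ k) T (X v)) =
        algebraMap (MvPolynomial σ k) T (X w) • algebraMap (MvPolynomial σ k) T (pderiv v p) •
          d (algebraMap (MvPolynomial σ k) T (X v)) +
        (if v = w then algebraMap (MvPolynomial σ k) T p •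
          d (algebraMap (MvPolynomial σ k) T (X w)) else 0) := by
      intro v
      rw [Derivation.leibniz, smul_eq_mul, smul_eq_mul, map_add, add_smul, map_mul, map_mul,
        pderiv_X, add_comm]
      congr 1
      · rw [mul_smul]
      · by_cases hvw : v = w
        · subst hvw
          simp
        · simp [hvw]
    simp_rw [h1]
    rw [Finset.sum_add_distrib, Finset.sum_ite_eq' Finset.univ w, if_pos (Finset.mem_univ w),
      add_comm]

end DerivFormula

section Main

variable (k : Type u) [Field k] (n m r : ℕ)

/-- an `(r+1)`-minor of the generic matrix is nonzero when `r < min n m`. -/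
theorem exists_minor_ne_zero (hr : r < min n m) :
    ∃ (a' : Fin (r + 1) → Fin n) (b' : Fin (r + 1) → Fin m),
      ((gX k n m).submatrix a' b').det ≠ 0 := by
  have hn : r + 1 ≤ n := by omega
  have hm : r + 1 ≤ m := by omega
  refine ⟨Fin.castLE hn, Fin.castLE hm, ?_⟩
  intro h0
  -- evaluate at the partial identity matrix
  set E : Matrix (Fin n) (Fin m) k := Matrix.of fun i j => if (i : ℕ) = (j : ℕ) then 1 else 0
    with hE
  have h1 := congrArg (eval (fun v : Fin n × Fin m => E v.1 v.2)) h0
  rw [map_zero, RingHom.map_det] at h1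
  have h2 : (eval (fun v : Fin n × Fin m => E v.1 v.2)).mapMatrix
      ((gX k n m).submatrix (Fin.castLE hn) (Fin.castLE hm)) = 1 := by
    ext i j
    simp [gX, hE, Matrix.one_apply, Fin.ext_iff]
  rw [h2, Matrix.det_one] at h1
  exact one_ne_zero h1

theorem not_formallySmooth (hr : r < min n m) (P : Ideal (Bq k n m r)) [P.IsPrime]
    (hP : (CAlgX.minorIdeal (gX k n m) r).map
      (Ideal.Quotient.mk (CAlgX.minorIdeal (gX k n m) (r + 1))) ≤ P) :
    ¬ Algebra.FormallySmooth k (Localization.AtPrime P) := by
  set I := CAlgX.minorIdeal (gX k n m) (r + 1) with hI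
  set 𝔭 := P.comap (Ideal.Quotient.mk I) with h𝔭
  let φ := Localization.localRingHom 𝔭 P (Ideal.Quotient.mk I) rfl
  letI : Algebra (Localization.AtPrime 𝔭) (Localization.AtPrime P) := φ.toAlgebra
  haveI : IsScalarTower k (Localization.AtPrime 𝔭) (Localization.AtPrime P) := by
    refine IsScalarTower.of_algebraMap_eq (fun c => ?_)
    change _ = φ _
    rw [IsScalarTower.algebraMap_apply k (MvPolynomial (Fin n × Fin m) k) (Localization.AtPrime 𝔭),
      Localization.localRingHom_to_map,
      IsScalarTower.algebraMap_apply k (Bq k n m r) (Localization.AtPrime P)]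
    rfl
  have hsurj : Function.Surjective (algebraMap (Localization.AtPrime 𝔭) (Localization.AtPrime P)) :=
    localRingHom_surjective I P
  have hker : RingHom.ker (algebraMap (Localization.AtPrime 𝔭) (Localization.AtPrime P)) =
      I.map (algebraMap _ (Localization.AtPrime 𝔭)) := ker_localRingHom I P
  -- generators
  set gens : Set (Localization.AtPrime 𝔭) :=
    algebraMap _ (Localization.AtPrime 𝔭) '' (Set.range fun fg : (Fin (r + 1) → Fin n) × (Fin (r + 1) → Fin m) =>
      Matrix.det ((gX k n m).submatrix fg.1 fg.2)) with hgens_def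
  have hgens : Ideal.span gens =
      RingHom.ker (algebraMap (Localization.AtPrime 𝔭) (Localization.AtPrime P)) := by
    rw [hker]
    exact (Ideal.map_span _ _).symm
  have hIr : CAlgX.minorIdeal (gX k n m) r ≤ 𝔭 := Ideal.map_le_iff_le_comap.mp hP
  refine NonSmoothCrit.not_formallySmooth (k := k) hsurj gens hgens ?_ ?_ ?_
  · rintro _ ⟨_, ⟨⟨a', b'⟩, rfl⟩, rfl⟩
    rw [derivation_algebraMap, tmul_sum]
    refine Submodule.sum_mem _ (fun v _ => ?_)
    rw [tmul_smul]
    refine Submodule.smul_mem_smul ?_ Submodule.mem_top
    rw [IsLocalization.AtPrime.to_map_mem_maximal_iff (Localization.AtPrime 𝔭) 𝔭]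
    exact hIr (pderiv_minor_mem k n m r a' b' v)
  · rw [hker]
    obtain ⟨a', b', hne⟩ := exists_minor_ne_zero k n m r hr
    intro hbot
    have hmem : algebraMap _ (Localization.AtPrime 𝔭) ((gX k n m).submatrix a' b').det ∈
        I.map (algebraMap _ (Localization.AtPrime 𝔭)) :=
      Ideal.mem_map_of_mem _ (minor_mem k n m (r + 1) a' b')
    rw [hbot, Ideal.mem_bot] at hmem
    have hinj : Function.Injective (algebraMap (MvPolynomial (Fin n × Fin m) k)
        (Localization.AtPrime 𝔭)) :=
      IsLocalization.injective _ (Ideal.primeCompl_le_nonZeroDivisors 𝔭)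
    exact hne (hinj (by rw [hmem, map_zero]))
  · intro htop
    have : (1 : Localization.AtPrime 𝔭) ∈
        RingHom.ker (algebraMap (Localization.AtPrime 𝔭) (Localization.AtPrime P)) := by
      rw [htop]; trivial
    rw [RingHom.mem_ker, map_one] at this
    exact one_ne_zero this

end Main

end Groth.Agent.H59.DetSmoothConv
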