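import Mathlib

/-!
# The universal derivation into the conormal module of the relative diagonal

For `A`-algebras `P → B`, `T = P ⊗[A] B`, `μ : T → B` the multiplication, `J = ker μ`: the map
`f ↦ [f ⊗ 1 - 1 ⊗ f] : P → J/J²` is an `A`-derivation; hence if `1 ⊗ d f ∈ 𝔮 (B ⊗[P] Ω[P/A])` then
`f ⊗ 1 - 1 ⊗ f ∈ μ⁻¹(𝔮) J`.
-/

set_option autoImplicit false
universe u

namespace Groth.Agent.H59.DiagTaylor

open TensorProduct

variable {A P B : Type u} [CommRing A] [CommRing P] [CommRing B] [Algebra A P] [Algebra A B]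
  [Algebra P B] [IsScalarTower A P B]

variable (A P B) in
/-- the multiplication map `P ⊗[A] B → B` -/
noncomputable def μ : P ⊗[A] B →ₐ[A] B :=
  Algebra.TensorProduct.productMap (IsScalarTower.toAlgHom A P B) (AlgHom.id A B)

@[simp] lemma μ_tmul (p : P) (b : B) : μ A P B (p ⊗ₜ b) = algebraMap P B p * b := by
  simp [μ]

lemma μ_surjective : Function.Surjective (μ A P B) := fun b => ⟨1 ⊗ₜ b, by simp⟩

variable (A P B) in
/-- `B` as an algebra over `P ⊗[A] B` via the multiplication map (to be used as a local instance) -/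
noncomputable abbrev algTB : Algebra (P ⊗[A] B) B := (μ A P B).toAlgebra

attribute [local instance] algTB

lemma algebraMap_TB (t : P ⊗[A] B) : algebraMap (P ⊗[A] B) B t = μ A P B t := rfl

variable (A P B) in
lemma isScalarTower_TB : IsScalarTower A (P ⊗[A] B) B :=
  IsScalarTower.of_algebraMap_eq' (μ A P B).comp_algebraMap.symm

attribute [local instance] isScalarTower_TB

variable (A P B) in
/-- the extension `P ⊗[A] B → B` of `B` -/
noncomputable abbrev ET : Algebra.Extension.{u} A B :=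
  ⟨P ⊗[A] B, fun b => 1 ⊗ₜ b, fun b => by rw [algebraMap_TB]; simp⟩

variable (A B) in
/-- `ξ f = f ⊗ 1 - 1 ⊗ f` -/
def ξ (f : P) : P ⊗[A] B := f ⊗ₜ 1 - 1 ⊗ₜ algebraMap P B f

lemma ξ_mem_ker (f : P) : ξ A B f ∈ (ET A P B).ker := by
  rw [Algebra.Extension.ker, RingHom.mem_ker, algebraMap_TB]
  simp [ξ]

lemma ξ_add (f g : P) : ξ A B (f + g) = ξ A B f + ξ A B g := by
  simp only [ξ, map_add, TensorProduct.add_tmul, TensorProduct.tmul_add]
  abel

lemma ξ_smul (a : A) (f : P) : ξ A B (a • f) = a • ξ A B f := by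
  simp only [ξ, smul_sub, TensorProduct.smul_tmul', Algebra.smul_def (R := A) (A := B),
    Algebra.smul_def (R := A) (A := P), map_mul, ← IsScalarTower.algebraMap_apply A P B]
  congr 1
  rw [← Algebra.smul_def, ← Algebra.smul_def, TensorProduct.tmul_smul, TensorProduct.smul_tmul']

lemma ξ_one : ξ A B (1 : P) = 0 := by
  simp [ξ]

lemma ξ_mul (f g : P) :
    ξ A B (f * g) = (f ⊗ₜ[A] (1 : B)) * ξ A B g + (g ⊗ₜ[A] (1 : B)) * ξ A B f
      - ξ A B f * ξ A B g := by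
  simp only [ξ, map_mul, sub_mul, mul_sub, Algebra.TensorProduct.tmul_mul_tmul, mul_one, one_mul]
  rw [mul_comm g f]
  abel

open Algebra.Extension in
/-- `f • n = (f ⊗ 1) • n` on the conormal module -/
lemma smul_cot (f : P) (n : (ET A P B).Cotangent) :
    f • n = (f ⊗ₜ[A] (1 : B) : P ⊗[A] B) • n := by
  rw [← algebraMap_smul B f n, ← algebraMap_smul B (f ⊗ₜ[A] (1 : B) : P ⊗[A] B) n,
    algebraMap_TB, μ_tmul, mul_one]

variable (A B) in
/-- `ξ f` as an element of the kernel -/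
def ξk (f : P) : (ET A P B).ker := ⟨ξ A B f, ξ_mem_ker f⟩

open Algebra.Extension in
lemma smul_mk (f : P) (y : (ET A P B).ker) :
    f • Cotangent.mk y = Cotangent.mk ((f ⊗ₜ[A] (1 : B) : P ⊗[A] B) • y) := by
  rw [smul_cot, map_smul]

open Algebra.Extension in
lemma mk_ξk_mul (f g : P) : Cotangent.mk (ξk A B (f * g)) =
      f • Cotangent.mk (ξk A B g) + g • Cotangent.mk (ξk A B f) := by
  rw [smul_mk, smul_mk, ← map_add, Cotangent.mk_eq_mk_iff_sub_mem]
  have : ξ A B (f * g) - ((f ⊗ₜ[A] (1 : B)) * ξ A B g + (g ⊗ₜ[A] (1 : B)) * ξ A B f) =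
      - (ξ A B f * ξ A B g) := by
    rw [ξ_mul]; abel
  change ξ A B (f * g) - ((f ⊗ₜ[A] (1 : B)) * ξ A B g + (g ⊗ₜ[A] (1 : B)) * ξ A B f) ∈ _
  rw [this, pow_two]
  exact Ideal.neg_mem_iff _ |>.mpr (Ideal.mul_mem_mul (ξ_mem_ker f) (ξ_mem_ker g))

open Algebra.Extension in
lemma mk_ξk_add (f g : P) : Cotangent.mk (ξk A B (f + g)) =
      Cotangent.mk (ξk A B f) + Cotangent.mk (ξk A B g) := by
  rw [← map_add]
  congr 1
  exact Subtype.ext (ξ_add f g)

open Algebra.Extension in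
lemma mk_ξk_smul (a : A) (f : P) : Cotangent.mk (ξk A B (a • f)) = a • Cotangent.mk (ξk A B f) := by
  rw [← algebraMap_smul (ET A P B).Ring a (Cotangent.mk _), ← map_smul]
  congr 1
  apply Subtype.ext
  change ξ A B (a • f) = algebraMap A (P ⊗[A] B) a * ξ A B f
  rw [ξ_smul, Algebra.smul_def]

open Algebra.Extension in
lemma mk_ξk_one : Cotangent.mk (ξk A B (1 : P)) = 0 := by
  have : ξk A B (1 : P) = 0 := Subtype.ext ξ_one
  rw [this, map_zero]

open Algebra.Extension in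
variable (A P B) in
/-- the derivation `f ↦ [f ⊗ 1 - 1 ⊗ f]` -/
noncomputable def dd : Derivation A P (ET A P B).Cotangent where
  toLinearMap :=
    { toFun := fun f => Cotangent.mk (ξk A B f)
      map_add' := mk_ξk_add
      map_smul' := mk_ξk_smul }
  map_one_eq_zero' := mk_ξk_one
  leibniz' := fun f g => mk_ξk_mul f g

open Algebra.Extension in
lemma dd_apply (f : P) : dd A P B f = Cotangent.mk (ξk A B f) := rfl

variable (A P B) in
/-- the `B`-linear map `B ⊗[P] Ω[P/A] → J/J²` induced by `dd` -/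
noncomputable def L : B ⊗[P] Ω[P⁄A] →ₗ[B] (ET A P B).Cotangent :=
  LinearMap.liftBaseChange B (dd A P B).liftKaehlerDifferential

open Algebra.Extension in
lemma L_tmul_D (f : P) :
    L A P B ((1 : B) ⊗ₜ[P] KaehlerDifferential.D A P f) = Cotangent.mk (ξk A B f) := by
  rw [L, LinearMap.liftBaseChange_tmul, one_smul, Derivation.liftKaehlerDifferential_comp_D,
    dd_apply]

open Algebra.Extension in
/-- **Taylor.** If `1 ⊗ d f ∈ 𝔮 (B ⊗[P] Ω[P/A])` then `f ⊗ 1 - 1 ⊗ f ∈ μ⁻¹(𝔮) · ker μ`. -/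
theorem taylor_main (𝔮 : Ideal B) (f : P)
    (h : (1 : B) ⊗ₜ[P] KaehlerDifferential.D A P f ∈
      𝔮 • (⊤ : Submodule B (B ⊗[P] Ω[P⁄A]))) :
    ξ A B f ∈ (𝔮.comap (algebraMap (P ⊗[A] B) B)) * RingHom.ker (algebraMap (P ⊗[A] B) B) := by
  set 𝔫 : Ideal (P ⊗[A] B) := 𝔮.comap (algebraMap (P ⊗[A] B) B) with h𝔫
  set J : Ideal (P ⊗[A] B) := RingHom.ker (algebraMap (P ⊗[A] B) B) with hJ
  have hJ𝔫 : J ≤ 𝔫 := by
    intro y hy
    rw [h𝔫, Ideal.mem_comap, (RingHom.mem_ker).mp hy]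
    exact zero_mem _
  -- step 1
  have h1 : Cotangent.mk (ξk A B f) ∈ 𝔮 • (⊤ : Submodule B (ET A P B).Cotangent) := by
    rw [← L_tmul_D]
    refine Submodule.smul_induction_on h ?_ ?_
    · intro b hb x _
      rw [map_smul]
      exact Submodule.smul_mem_smul hb trivial
    · intro x y hx hy
      rw [map_add]
      exact add_mem hx hy
  -- step 2
  have h2 : ∀ n ∈ 𝔮 • (⊤ : Submodule B (ET A P B).Cotangent),
      ∃ y : (ET A P B).ker, y.1 ∈ 𝔫 * J ∧ Cotangent.mk y = n := by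
    intro n hn
    refine Submodule.smul_induction_on hn ?_ ?_
    · intro b hb n _
      obtain ⟨y₀, rfl⟩ := Cotangent.mk_surjective n
      refine ⟨((1 : P) ⊗ₜ[A] b : P ⊗[A] B) • y₀, ?_, ?_⟩
      · refine Ideal.mul_mem_mul ?_ y₀.2
        rw [h𝔫, Ideal.mem_comap, algebraMap_TB, μ_tmul, map_one, one_mul]
        exact hb
      · rw [map_smul, ← algebraMap_smul B ((1 : P) ⊗ₜ[A] b : P ⊗[A] B) (Cotangent.mk y₀),
          algebraMap_TB, μ_tmul, map_one, one_mul]
    · rintro n₁ n₂ ⟨y₁, hy₁, rfl⟩ ⟨y₂, hy₂, rfl⟩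
      exact ⟨y₁ + y₂, Ideal.add_mem _ hy₁ hy₂, map_add _ _ _⟩
  obtain ⟨y, hy, hy'⟩ := h2 _ h1
  have h3 := (Cotangent.mk_eq_mk_iff_sub_mem _ _).mp hy'
  have h4 : (ET A P B).ker ^ 2 ≤ 𝔫 * J := by
    rw [pow_two]
    exact Ideal.mul_mono_left hJ𝔫
  have h5 : ξ A B f = y.1 - (y.1 - ξ A B f) := by ring
  rw [h5]
  exact Ideal.sub_mem _ hy (h4 h3)

end Groth.Agent.H59.DiagTaylor
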