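import Mathlib
import Groth.Agent.H23.SmoothQuot
import Groth.Agent.H59.DiagTaylor

/-!
# Flat descent of `f ⊗ 1 ∈ 𝔫 (I ⊗ B)` to `f ∈ 𝔮 I + I²`

`P → B` a surjection of `A`-algebras with kernel `I`, `B` flat over `A`, `T = P ⊗[A] B`,
`ρ : T → B ⊗[A] B`, `μ : T → B`.  For an ideal `𝔮` of `B` with `𝔫 = μ⁻¹ 𝔮`: if `f ∈ I` and
`f ⊗ 1 ∈ 𝔫 · ker ρ` then the class of `f` in `I/I²` lies in `𝔮 (I/I²)`.
-/

set_option autoImplicit false
universe u

namespace Groth.Agent.H59.DiagDescent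

open TensorProduct Groth.Agent.H59.DiagTaylor Groth.Agent.H23.SmoothQuot Algebra.Extension

variable {A P B : Type u} [CommRing A] [CommRing P] [CommRing B] [Algebra A P] [Algebra A B]
  [Algebra P B] [IsScalarTower A P B]

attribute [local instance] algTB isScalarTower_TB

variable (A P B) in
/-- the map `P ⊗[A] B → B ⊗[A] B` -/
noncomputable def ρ : P ⊗[A] B →ₐ[A] B ⊗[A] B :=
  Algebra.TensorProduct.map (IsScalarTower.toAlgHom A P B) (AlgHom.id A B)

@[simp] lemma ρ_tmul (p : P) (b : B) : ρ A P B (p ⊗ₜ b) = algebraMap P B p ⊗ₜ b := by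
  simp [ρ]

variable (A P B) in
/-- `B ⊗[A] B` as an algebra over `P ⊗[A] B` (to be used as a local instance) -/
noncomputable abbrev algTBB : Algebra (P ⊗[A] B) (B ⊗[A] B) := (ρ A P B).toAlgebra

attribute [local instance] algTBB

lemma algebraMap_TBB (t : P ⊗[A] B) : algebraMap (P ⊗[A] B) (B ⊗[A] B) t = ρ A P B t := rfl

variable (hsurj : Function.Surjective (algebraMap P B)) (𝔮 : Ideal B)

/-- the target `(I/I²)/𝔮(I/I²)` -/
abbrev V : Type u :=
  (ext (A := A) hsurj).Cotangent ⧸ (𝔮 • (⊤ : Submodule B (ext (A := A) hsurj).Cotangent))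

/-- `f ⊗ b ↦ [b • f]` -/
noncomputable def ψ₀ : (ext (A := A) hsurj).ker ⊗[A] B →ₗ[A] V (A := A) hsurj 𝔮 :=
  TensorProduct.lift
    (LinearMap.mk₂ A
      (fun (f : (ext (A := A) hsurj).ker) (b : B) =>
        (𝔮 • (⊤ : Submodule B (ext (A := A) hsurj).Cotangent)).mkQ (b • Cotangent.mk f))
      (fun f₁ f₂ b => by rw [map_add, smul_add, map_add])
      (fun a f b => by
        have h : Cotangent.mk (a • f) = a • Cotangent.mk f := LinearMap.map_smul_of_tower _ a f
        rw [h, smul_comm b a]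
        exact LinearMap.map_smul_of_tower _ a _)
      (fun f b₁ b₂ => by rw [add_smul, map_add])
      (fun a f b => by
        rw [smul_assoc]
        exact LinearMap.map_smul_of_tower _ a _))

lemma ψ₀_tmul (f : (ext (A := A) hsurj).ker) (b : B) :
    ψ₀ (A := A) hsurj 𝔮 (f ⊗ₜ b) =
      (𝔮 • (⊤ : Submodule B (ext (A := A) hsurj).Cotangent)).mkQ (b • Cotangent.mk f) := by
  simp [ψ₀]

/-- the inclusion `I ⊗[A] B → P ⊗[A] B` -/
noncomputable def ι : (ext (A := A) hsurj).ker ⊗[A] B →ₗ[A] P ⊗[A] B :=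
  ((ext (A := A) hsurj).ker.subtype.restrictScalars A).rTensor B

lemma ι_tmul (f : (ext (A := A) hsurj).ker) (b : B) :
    ι (A := A) hsurj (f ⊗ₜ b) = (f.1 : P) ⊗ₜ b := by
  simp [ι]

lemma ι_injective [Module.Flat A B] : Function.Injective (ι (A := A) hsurj) :=
  Module.Flat.rTensor_preserves_injective_linearMap (M := B)
    ((ext (A := A) hsurj).ker.subtype.restrictScalars A) Subtype.val_injective

/-- exactness: the kernel of `ρ` is the range of `ι` -/
lemma mem_range_ι_of_mem_ker (y : P ⊗[A] B)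
    (hy : y ∈ RingHom.ker (algebraMap (P ⊗[A] B) (B ⊗[A] B))) :
    ∃ z, ι (A := A) hsurj z = y := by
  set g : P →ₗ[A] B := (IsScalarTower.toAlgHom A P B).toLinearMap with hg
  have hex : Function.Exact ((ext (A := A) hsurj).ker.subtype.restrictScalars A) g := by
    intro p
    constructor
    · intro hp
      have hp' : algebraMap P B p = 0 := hp
      exact ⟨⟨p, (RingHom.mem_ker).mpr hp'⟩, rfl⟩
    · rintro ⟨x, rfl⟩
      change algebraMap P B x.1 = 0
      exact (RingHom.mem_ker).mp x.2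
  have hgs : Function.Surjective g := hsurj
  have hex2 := rTensor_exact B hex hgs
  have hρ : ∀ t : P ⊗[A] B, (g.rTensor B) t = ρ A P B t := by
    intro t
    induction t using TensorProduct.induction_on with
    | zero => simp
    | tmul p b => simp [hg]
    | add x y hx hy => rw [map_add, map_add, hx, hy]
  have h0 : (g.rTensor B) y = 0 := by
    rw [hρ]
    exact (RingHom.mem_ker).mp hy
  exact (hex2 y).mp h0

/-- multiplication by `p ⊗ b'` on `I ⊗[A] B` -/
noncomputable def mulTmul (p : P) (b' : B) :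
    (ext (A := A) hsurj).ker ⊗[A] B →ₗ[A] (ext (A := A) hsurj).ker ⊗[A] B :=
  TensorProduct.map ((LinearMap.lsmul P (ext (A := A) hsurj).ker p).restrictScalars A)
    (LinearMap.mulLeft A b')

lemma ι_mulTmul (p : P) (b' : B) (z : (ext (A := A) hsurj).ker ⊗[A] B) :
    ι (A := A) hsurj (mulTmul (A := A) hsurj p b' z) = (p ⊗ₜ[A] b') * ι (A := A) hsurj z := by
  induction z using TensorProduct.induction_on with
  | zero => simp
  | tmul x b =>
    rw [mulTmul, TensorProduct.map_tmul, ι_tmul, ι_tmul, Algebra.TensorProduct.tmul_mul_tmul]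
    rfl
  | add x y hx hy => simp only [map_add, hx, hy, mul_add]

lemma ψ₀_mulTmul (p : P) (b' : B) (z : (ext (A := A) hsurj).ker ⊗[A] B) :
    ψ₀ (A := A) hsurj 𝔮 (mulTmul (A := A) hsurj p b' z) =
      (algebraMap P B p * b') • ψ₀ (A := A) hsurj 𝔮 z := by
  induction z using TensorProduct.induction_on with
  | zero => simp
  | tmul x b =>
    have e : mulTmul (A := A) hsurj p b' (x ⊗ₜ b) = (p • x) ⊗ₜ (b' * b) := rfl
    have h : (b' * b) • Cotangent.mk (p • x) =
        (algebraMap P B p * b') • (b • Cotangent.mk x) := by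
      have h' : Cotangent.mk (p • x) = p • Cotangent.mk x := map_smul _ p x
      rw [h', ← algebraMap_smul B p (Cotangent.mk x), smul_smul, smul_smul]
      congr 1
      ring
    rw [e, ψ₀_tmul, ψ₀_tmul, h, map_smul]
  | add x y hx hy => simp only [map_add, hx, hy, smul_add]

/-- semilinearity of `ψ₀` along `ι` -/
lemma semi (s : P ⊗[A] B) (z : (ext (A := A) hsurj).ker ⊗[A] B) :
    ∃ z', ι (A := A) hsurj z' = s * ι (A := A) hsurj z ∧
      ψ₀ (A := A) hsurj 𝔮 z' = (algebraMap (P ⊗[A] B) B s) • ψ₀ (A := A) hsurj 𝔮 z := by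
  induction s using TensorProduct.induction_on with
  | zero => exact ⟨0, by simp, by simp⟩
  | tmul p b' =>
    refine ⟨mulTmul (A := A) hsurj p b' z, ι_mulTmul hsurj p b' z, ?_⟩
    rw [ψ₀_mulTmul, algebraMap_TB, μ_tmul]
  | add s₁ s₂ h₁ h₂ =>
    obtain ⟨z₁, h1, h1'⟩ := h₁
    obtain ⟨z₂, h2, h2'⟩ := h₂
    exact ⟨z₁ + z₂, by rw [map_add, h1, h2, add_mul], by rw [map_add, h1', h2', map_add, add_smul]⟩

/-- elements of `𝔫 · ker ρ` come from elements of `I ⊗ B` killed by `ψ₀` -/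
lemma kill (y : P ⊗[A] B)
    (hy : y ∈ (𝔮.comap (algebraMap (P ⊗[A] B) B)) *
      RingHom.ker (algebraMap (P ⊗[A] B) (B ⊗[A] B))) :
    ∃ z, ι (A := A) hsurj z = y ∧ ψ₀ (A := A) hsurj 𝔮 z = 0 := by
  refine Submodule.mul_induction_on hy ?_ ?_
  · intro m hm n hn
    obtain ⟨z₀, rfl⟩ := mem_range_ι_of_mem_ker hsurj n hn
    obtain ⟨z', h1, h2⟩ := semi hsurj 𝔮 m z₀
    refine ⟨z', h1, ?_⟩
    rw [h2]
    obtain ⟨v, hv⟩ := Submodule.mkQ_surjective _ (ψ₀ (A := A) hsurj 𝔮 z₀)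
    rw [← hv, ← map_smul, Submodule.mkQ_apply, Submodule.Quotient.mk_eq_zero]
    exact Submodule.smul_mem_smul (Ideal.mem_comap.mp hm) trivial
  · rintro y₁ y₂ ⟨z₁, h1, h1'⟩ ⟨z₂, h2, h2'⟩
    exact ⟨z₁ + z₂, by rw [map_add, h1, h2], by rw [map_add, h1', h2', add_zero]⟩

/-- **Descent.** If `f ∈ I` and `f ⊗ 1 ∈ 𝔫 · ker ρ` then `[f] ∈ 𝔮 (I/I²)`. -/
theorem descent_main [Module.Flat A B] (f : (ext (A := A) hsurj).ker)
    (hf : (f.1 : P) ⊗ₜ[A] (1 : B) ∈ (𝔮.comap (algebraMap (P ⊗[A] B) B)) *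
      RingHom.ker (algebraMap (P ⊗[A] B) (B ⊗[A] B))) :
    Cotangent.mk f ∈ 𝔮 • (⊤ : Submodule B (ext (A := A) hsurj).Cotangent) := by
  obtain ⟨z, h1, h2⟩ := kill hsurj 𝔮 _ hf
  have h3 : z = f ⊗ₜ[A] (1 : B) := by
    apply ι_injective hsurj
    rw [h1, ι_tmul]
  rw [h3, ψ₀_tmul, one_smul, Submodule.mkQ_apply, Submodule.Quotient.mk_eq_zero] at h2
  exact h2

end Groth.Agent.H59.DiagDescent
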