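import Mathlib
import Groth.Agent.H59.CurvedKill

/-!
# `I ∩ 𝔫 J ⊆ 𝔫 I` at a maximal ideal when `T/J` has finite projective dimension over `T/I`

Non-local, presentation-free version of `Groth.Agent.H59.SmallExt`: `T → Q₁ → Q₂` surjections of
rings with kernels `I ≤ J`, `𝔫` a maximal ideal of `T` containing `J`.  If `Q₂` has finite projective
dimension over `Q₁`, then `I ∩ 𝔫 J ⊆ 𝔫 I`.
-/

set_option autoImplicit false
set_option linter.style.haveILetI false
set_option linter.unusedSectionVars false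
universe u

namespace Groth.Agent.H59.SmallExtMax

open CategoryTheory

variable {T : Type u} [CommRing T] [IsNoetherianRing T]

/-- an ideal `I'` between `𝔫 I` and `I`, maximal among those avoiding `x` -/
theorem exists_hyperplane (𝔫 : Ideal T) [h𝔫 : 𝔫.IsMaximal] (I : Ideal T) (x : T) (hx : x ∈ I)
    (hxm : x ∉ 𝔫 * I) :
    ∃ I' : Ideal T, 𝔫 * I ≤ I' ∧ I' ≤ I ∧ x ∉ I' ∧ I ≤ I' ⊔ Ideal.span {x} := by
  let S : Set (Ideal T) := {K | 𝔫 * I ≤ K ∧ K ≤ I ∧ x ∉ K}
  have hS : S.Nonempty := ⟨𝔫 * I, le_rfl, Ideal.mul_le_right, hxm⟩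
  obtain ⟨I', hI'S, hmax⟩ := set_has_maximal_iff_noetherian.mpr
    (inferInstance : IsNoetherian T T) S hS
  obtain ⟨h1, h2, h3⟩ := hI'S
  refine ⟨I', h1, h2, h3, ?_⟩
  intro y hy
  by_cases hyI' : y ∈ I'
  · exact Ideal.mem_sup_left hyI'
  · have h4 : x ∈ I' ⊔ Ideal.span {y} := by
      by_contra h5
      have h6 : I' ⊔ Ideal.span {y} ∈ S :=
        ⟨h1.trans le_sup_left, sup_le h2 ((Ideal.span_singleton_le_iff_mem _).mpr hy), h5⟩
      have h7 : ¬ I' < I' ⊔ Ideal.span {y} := hmax _ h6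
      apply h7
      refine lt_of_le_of_ne le_sup_left ?_
      intro h8
      apply hyI'
      rw [h8]
      exact Ideal.mem_sup_right (Ideal.mem_span_singleton_self y)
    obtain ⟨i', hi', z, hz, hxz⟩ := Submodule.mem_sup.mp h4
    obtain ⟨c, rfl⟩ := Ideal.mem_span_singleton'.mp hz
    by_cases hc : c ∈ 𝔫
    · exfalso
      apply h3
      rw [← hxz]
      exact Ideal.add_mem _ hi' (h1 (Ideal.mul_mem_mul hc hy))
    · obtain ⟨c', n, hn, hcn⟩ := h𝔫.exists_inv hc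
      have h9 : y = c' * x - c' * i' + n * y := by
        rw [← hxz]
        have : y = (c' * c + n) * y := by rw [hcn, one_mul]
        nth_rewrite 1 [this]
        ring
      rw [h9]
      refine Ideal.add_mem _ (Ideal.sub_mem _ ?_ ?_) ?_
      · exact Ideal.mem_sup_right (Ideal.mul_mem_left _ _ (Ideal.mem_span_singleton_self x))
      · exact Ideal.mem_sup_left (Ideal.mul_mem_left _ _ hi')
      · exact Ideal.mem_sup_left (h1 (Ideal.mul_mem_mul hn hy))

variable {Q₁ Q₂ : Type u} [CommRing Q₁] [CommRing Q₂]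
  [Algebra T Q₁] [Algebra Q₁ Q₂] [Algebra T Q₂] [IsScalarTower T Q₁ Q₂]

/-- **Main theorem.** `T → Q₁ → Q₂` surjections with kernels `I ≤ J ≤ 𝔫`, `𝔫` maximal.  If `Q₂` has
finite projective dimension over `Q₁` then `I ∩ 𝔫 J ⊆ 𝔫 I`. -/
theorem main (h₁ : Function.Surjective (algebraMap T Q₁))
    (h₂ : Function.Surjective (algebraMap T Q₂))
    (𝔫 : Ideal T) [h𝔫 : 𝔫.IsMaximal] (hJ : RingHom.ker (algebraMap T Q₂) ≤ 𝔫) (i : ℕ)
    (hpd : HasProjectiveDimensionLT (ModuleCat.of Q₁ Q₂) (2 * i))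
    (x : T) (hx : x ∈ RingHom.ker (algebraMap T Q₁))
    (hxm : x ∈ 𝔫 * RingHom.ker (algebraMap T Q₂)) :
    x ∈ 𝔫 * RingHom.ker (algebraMap T Q₁) := by
  by_contra hxmI
  set I : Ideal T := RingHom.ker (algebraMap T Q₁) with hI
  set J : Ideal T := RingHom.ker (algebraMap T Q₂) with hJdef
  obtain ⟨I', h1, h2, h3, h4⟩ := exists_hyperplane 𝔫 I x hx hxmI
  have hI'ker : ∀ a ∈ I', algebraMap T Q₁ a = 0 := fun a ha => (RingHom.mem_ker).mp (h2 ha)
  letI algQ : Algebra (T ⧸ I') Q₁ := (Ideal.Quotient.lift I' (algebraMap T Q₁) hI'ker).toAlgebra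
  have halgQ : ∀ a : T, algebraMap (T ⧸ I') Q₁ (Ideal.Quotient.mk I' a) = algebraMap T Q₁ a :=
    fun a => rfl
  have hsurj : Function.Surjective (algebraMap (T ⧸ I') Q₁) := by
    intro q
    obtain ⟨a, rfl⟩ := h₁ q
    exact ⟨Ideal.Quotient.mk I' a, rfl⟩
  have hker : RingHom.ker (algebraMap (T ⧸ I') Q₁) = Ideal.span {Ideal.Quotient.mk I' x} := by
    apply le_antisymm
    · intro y hy
      obtain ⟨a, rfl⟩ := Ideal.Quotient.mk_surjective y
      rw [RingHom.mem_ker, halgQ] at hy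
      have haI : a ∈ I := (RingHom.mem_ker).mpr hy
      obtain ⟨i', hi', z, hz, rfl⟩ := Submodule.mem_sup.mp (h4 haI)
      obtain ⟨c, rfl⟩ := Ideal.mem_span_singleton'.mp hz
      rw [map_add, Ideal.Quotient.eq_zero_iff_mem.mpr hi', zero_add, map_mul]
      exact Ideal.mul_mem_left _ _ (Ideal.mem_span_singleton_self _)
    · rw [Ideal.span_singleton_le_iff_mem, RingHom.mem_ker, halgQ]
      exact (RingHom.mem_ker).mp hx
  set 𝔫' : Ideal (T ⧸ I') := 𝔫.map (Ideal.Quotient.mk I') with h𝔫'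
  have h𝔫f : ∀ y ∈ 𝔫', y * Ideal.Quotient.mk I' x = 0 := by
    intro y hy
    obtain ⟨c, hc, rfl⟩ := (Ideal.mem_map_iff_of_surjective _ Ideal.Quotient.mk_surjective).mp hy
    rw [← map_mul, Ideal.Quotient.eq_zero_iff_mem]
    exact h1 (Ideal.mul_mem_mul hc hx)
  have hann : ∀ y, y * Ideal.Quotient.mk I' x = 0 → y ∈ 𝔫' := by
    intro y hy
    obtain ⟨c, rfl⟩ := Ideal.Quotient.mk_surjective y
    rw [← map_mul, Ideal.Quotient.eq_zero_iff_mem] at hy
    apply Ideal.mem_map_of_mem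
    by_contra hc
    obtain ⟨c', n, hn, hcn⟩ := h𝔫.exists_inv hc
    apply h3
    have : x = c' * (c * x) + n * x := by
      have : x = (c' * c + n) * x := by rw [hcn, one_mul]
      nth_rewrite 1 [this]
      ring
    rw [this]
    exact Ideal.add_mem _ (Ideal.mul_mem_left _ _ hy) (h1 (Ideal.mul_mem_mul hn hx))
  -- generators of `J`
  obtain ⟨m, y, hy⟩ := (Submodule.fg_iff_exists_fin_generating_family).mp
    ((isNoetherianRing_iff_ideal_fg T).mp inferInstance J)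
  have hyJ : ∀ j, y j ∈ J := fun j => by
    rw [← hy]; exact Submodule.subset_span ⟨j, rfl⟩
  have hxm' : x ∈ 𝔫 • Submodule.span T (Set.range y) := by
    rw [hy]; exact hxm
  obtain ⟨c, hc, hcx⟩ := (Submodule.mem_ideal_smul_span_iff_exists_sum _ _ _).mp hxm'
  have hcx' : ∑ j, c j * y j = x := by
    rw [← hcx, Finsupp.sum_fintype]
    · rfl
    · intro j; exact zero_smul _ _
  have hr : ∀ j, Ideal.Quotient.mk I' (c j) ∈ 𝔫' := fun j => Ideal.mem_map_of_mem _ (hc j)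
  have hsum : ∑ j, Ideal.Quotient.mk I' (c j) * Ideal.Quotient.mk I' (y j) =
      Ideal.Quotient.mk I' x * 1 := by
    rw [mul_one, ← hcx', map_sum]
    simp only [map_mul]
  have hm₀ : ∀ j, algebraMap (T ⧸ I') Q₁ (Ideal.Quotient.mk I' (y j)) • (1 : Q₂) = 0 := by
    intro j
    rw [halgQ, Algebra.smul_def, mul_one, ← IsScalarTower.algebraMap_apply T Q₁ Q₂]
    exact (RingHom.mem_ker).mp (hyJ j)
  have key := Groth.Agent.H59.CurvedKill.main hsurj (Ideal.Quotient.mk I' x) 1 hker 𝔫' h𝔫f hann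
    (fun j => Ideal.Quotient.mk I' (y j)) (fun j => Ideal.Quotient.mk I' (c j)) hr hsum
    Q₂ 1 hm₀ i hpd
  rw [one_pow, map_one, one_smul] at key
  have h5 : ∀ b ∈ (𝔫'.map (algebraMap (T ⧸ I') Q₁)) • (⊤ : Submodule Q₁ Q₂),
      b ∈ 𝔫.map (algebraMap T Q₂) := by
    intro b hb
    refine Submodule.smul_induction_on hb ?_ ?_
    · intro c' hc' z _
      obtain ⟨c₁, hc₁, rfl⟩ := (Ideal.mem_map_iff_of_surjective _ hsurj).mp hc'
      obtain ⟨c'', hc'', rfl⟩ :=
        (Ideal.mem_map_iff_of_surjective _ Ideal.Quotient.mk_surjective).mp hc₁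
      rw [Algebra.smul_def, halgQ, ← IsScalarTower.algebraMap_apply T Q₁ Q₂]
      exact Ideal.mul_mem_right _ _ (Ideal.mem_map_of_mem _ hc'')
    · intro b₁ b₂ hb₁ hb₂
      exact Ideal.add_mem _ hb₁ hb₂
  have h6 := h5 _ key
  obtain ⟨c₀, hc₀, hc₀'⟩ := (Ideal.mem_map_iff_of_surjective _ h₂).mp h6
  have h7 : c₀ - 1 ∈ J := by
    rw [hJdef, RingHom.mem_ker, map_sub, hc₀', map_one, sub_self]
  have h8 : (1 : T) ∈ 𝔫 := by
    have : (1 : T) = c₀ - (c₀ - 1) := by ring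
    rw [this]
    exact Ideal.sub_mem _ hc₀ (hJ h7)
  exact (Ideal.ne_top_iff_one _).mp h𝔫.ne_top h8

end Groth.Agent.H59.SmallExtMax
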