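import Mathlib
import Groth.Agent.H23.SmoothQuot
import Groth.Agent.S4530
import Groth.Agent.H59.DiagTaylor
import Groth.Agent.H59.DiagDescent
import Groth.Agent.H59.SmallExtMax

/-!
# Finite projective dimension of the diagonal implies smoothness at maximal ideals

`A → B` flat, `P → B` a surjection from a formally smooth `A`-algebra, `P ⊗[A] B` Noetherian.
If `B` has finite projective dimension over `B ⊗[A] B`, then `B_𝔮` is formally smooth over `A`
for every maximal ideal `𝔮` of `B`.
-/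

set_option autoImplicit false
universe u

namespace Groth.Agent.H59.DiagSmooth

open TensorProduct CategoryTheory Groth.Agent.H59.DiagTaylor Groth.Agent.H59.DiagDescent
  Groth.Agent.H23.SmoothQuot Algebra.Extension

section LemmaQ

variable {R : Type*} [CommRing R] {M N : Type*} [AddCommGroup M] [Module R M] [AddCommGroup N]
  [Module R N]

/-- injectivity modulo `𝔮` in elementary terms -/
theorem injective_lTensor_quotient (u : M →ₗ[R] N) (𝔮 : Ideal R)
    (h : ∀ m, u m ∈ 𝔮 • (⊤ : Submodule R N) → m ∈ 𝔮 • (⊤ : Submodule R M)) :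
    Function.Injective (u.lTensor (R ⧸ 𝔮)) := by
  rw [injective_iff_map_eq_zero]
  intro z hz
  obtain ⟨m', hm'⟩ := (TensorProduct.quotTensorEquivQuotSMul M 𝔮).symm.surjective z
  obtain ⟨m, rfl⟩ := Submodule.Quotient.mk_surjective _ m'
  rw [TensorProduct.quotTensorEquivQuotSMul_symm_mk] at hm'
  subst hm'
  rw [LinearMap.lTensor_tmul] at hz
  have h2 := congrArg (TensorProduct.quotTensorEquivQuotSMul N 𝔮) hz
  rw [TensorProduct.quotTensorEquivQuotSMul_mk_one_tmul, map_zero,
    Submodule.Quotient.mk_eq_zero] at h2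
  have h3 := h m h2
  rw [← TensorProduct.quotTensorEquivQuotSMul_symm_mk,
    (Submodule.Quotient.mk_eq_zero _).mpr h3, map_zero]

/-- transfer of injectivity of `K ⊗ u` along an isomorphism of the coefficient module -/
theorem injective_lTensor_of_equiv {K₁ K₂ : Type*} [AddCommGroup K₁] [Module R K₁]
    [AddCommGroup K₂] [Module R K₂] (e : K₁ ≃ₗ[R] K₂) (u : M →ₗ[R] N)
    (h : Function.Injective (u.lTensor K₁)) : Function.Injective (u.lTensor K₂) := by
  have hcomm : (u.lTensor K₂) ∘ₗ (e.toLinearMap.rTensor M) =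
      (e.toLinearMap.rTensor N) ∘ₗ (u.lTensor K₁) := by
    rw [LinearMap.lTensor_comp_rTensor, LinearMap.rTensor_comp_lTensor]
  have hinj : Function.Injective ((e.toLinearMap.rTensor N) ∘ₗ (u.lTensor K₁)) := by
    rw [LinearMap.coe_comp]
    exact (LinearEquiv.injective (e.rTensor N)).comp h
  rw [← hcomm] at hinj
  intro x y hxy
  obtain ⟨x', rfl⟩ := (e.rTensor M).surjective x
  obtain ⟨y', rfl⟩ := (e.rTensor M).surjective y
  have := hinj (a₁ := x') (a₂ := y') hxy
  rw [this]

end LemmaQ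

variable {A P B : Type u} [CommRing A] [CommRing P] [CommRing B] [Algebra A P] [Algebra A B]
  [Algebra P B] [IsScalarTower A P B]

attribute [local instance] algTB isScalarTower_TB algTBB

lemma isScalarTower_T [Algebra (B ⊗[A] B) B]
    (hmul : ∀ x y : B, algebraMap (B ⊗[A] B) B (x ⊗ₜ[A] y) = x * y) :
    @IsScalarTower (P ⊗[A] B) (B ⊗[A] B) B (algTBB A P B).toSMul Algebra.toSMul
      (algTB A P B).toSMul := by
  apply @IsScalarTower.of_algebraMap_eq (P ⊗[A] B) (B ⊗[A] B) B _ _ _ (algTBB A P B) _ (algTB A P B)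
  intro t
  rw [algebraMap_TB, algebraMap_TBB]
  induction t using TensorProduct.induction_on with
  | zero => simp
  | tmul p b => rw [μ_tmul, ρ_tmul, hmul]
  | add x y hx hy => rw [map_add, map_add, map_add, hx, hy]

set_option maxHeartbeats 1000000 in
/-- **Core theorem.** -/
theorem core [IsNoetherianRing (P ⊗[A] B)] [Algebra.FormallySmooth A P] [Module.Flat A B]
    (hsurj : Function.Surjective (algebraMap P B))
    [Module.Finite B (ext (A := A) hsurj).Cotangent]
    [Algebra (B ⊗[A] B) B] (hmul : ∀ x y : B, algebraMap (B ⊗[A] B) B (x ⊗ₜ[A] y) = x * y)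
    (i : ℕ) (hpd : HasProjectiveDimensionLT (ModuleCat.of (B ⊗[A] B) B) (2 * i))
    (𝔮 : Ideal B) [h𝔮 : 𝔮.IsMaximal] :
    Algebra.FormallySmooth A (Localization.AtPrime 𝔮) := by
  rw [formallySmooth_atPrime_iff hsurj 𝔮]
  set E := ext (A := A) hsurj with hE
  have hsm : Algebra.FormallySmooth A E.Ring := ‹_›
  refine (((Groth.Agent.S4530.result E.cotangentComplex).1 ⟨𝔮, inferInstance⟩).out 0 1).mpr ?_
  change Function.Injective (E.cotangentComplex.lTensor 𝔮.ResidueField)
  -- transfer to `B ⧸ 𝔮`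
  let e : (B ⧸ 𝔮) ≃ₗ[B] 𝔮.ResidueField :=
    LinearEquiv.ofBijective ((Algebra.linearMap (B ⧸ 𝔮) 𝔮.ResidueField).restrictScalars B)
      𝔮.bijective_algebraMap_quotient_residueField
  apply injective_lTensor_of_equiv e
  apply injective_lTensor_quotient
  intro m hm
  obtain ⟨f, rfl⟩ := Cotangent.mk_surjective m
  rw [cotangentComplex_mk] at hm
  have h1 := taylor_main (A := A) (P := P) (B := B) 𝔮 f.1 hm
  have hf0 : algebraMap P B f.1 = 0 := (RingHom.mem_ker).mp f.2
  have h2 : ξ A B f.1 = (f.1 : P) ⊗ₜ[A] (1 : B) := by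
    rw [ξ, hf0, TensorProduct.tmul_zero, sub_zero]
  rw [h2] at h1
  have htower := isScalarTower_T (A := A) (P := P) (B := B) hmul
  have hs1 : Function.Surjective (algebraMap (P ⊗[A] B) (B ⊗[A] B)) := by
    intro t
    induction t using TensorProduct.induction_on with
    | zero => exact ⟨0, map_zero _⟩
    | tmul x y =>
      obtain ⟨p, rfl⟩ := hsurj x
      exact ⟨p ⊗ₜ y, by rw [algebraMap_TBB, ρ_tmul]⟩
    | add x y hx hy =>
      obtain ⟨x', rfl⟩ := hx
      obtain ⟨y', rfl⟩ := hy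
      exact ⟨x' + y', map_add _ _ _⟩
  have hs2 : Function.Surjective (algebraMap (P ⊗[A] B) B) := μ_surjective
  haveI : (𝔮.comap (algebraMap (P ⊗[A] B) B)).IsMaximal :=
    Ideal.comap_isMaximal_of_surjective _ hs2
  have hJ : RingHom.ker (algebraMap (P ⊗[A] B) B) ≤ 𝔮.comap (algebraMap (P ⊗[A] B) B) := by
    intro y hy
    rw [Ideal.mem_comap, (RingHom.mem_ker).mp hy]
    exact zero_mem _
  have hx : (f.1 : P) ⊗ₜ[A] (1 : B) ∈ RingHom.ker (algebraMap (P ⊗[A] B) (B ⊗[A] B)) := by
    rw [RingHom.mem_ker, algebraMap_TBB, ρ_tmul, hf0, TensorProduct.zero_tmul]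
  have h3 := @Groth.Agent.H59.SmallExtMax.main (P ⊗[A] B) _ _ (B ⊗[A] B) B _ _ (algTBB A P B) _
    (algTB A P B) htower hs1 hs2 (𝔮.comap (algebraMap (P ⊗[A] B) B)) _ hJ i hpd _ hx h1
  exact descent_main hsurj 𝔮 f h3

end Groth.Agent.H59.DiagSmooth
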