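import Mathlib
import Groth.Agent.H59.DiagSmooth
import Groth.Agent.H87.EtLocalStd

/-!
# Local version: a flat local algebra essentially of finite type whose diagonal has finite
projective dimension is formally smooth, hence a localization of a smooth algebra
-/

set_option autoImplicit false
universe u

namespace Groth.Agent.H59.DiagLocal

open TensorProduct CategoryTheory IsLocalRing

variable {A B : Type u} [CommRing A] [CommRing B] [Algebra A B]

/-- a local algebra essentially of finite type is a quotient of a localization of a polynomial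
ring at a prime -/
theorem exists_surjective_localization [IsLocalRing B] [Algebra.EssFiniteType A B] :
    ∃ (n : ℕ) (q : Ideal (MvPolynomial (Fin n) A)) (_ : q.IsPrime)
      (L : Localization.AtPrime q →ₐ[A] B), Function.Surjective L := by
  set C₀ := Algebra.EssFiniteType.subalgebra A B with hC₀
  set p : Ideal C₀ := (maximalIdeal B).comap (algebraMap C₀ B) with hp
  haveI hpl : IsLocalization.AtPrime B p :=
    Groth.Agent.H87.EtLocalStd.isLocalization_atPrime_subalgebra A B
  obtain ⟨n, φ, hφ⟩ := Algebra.FiniteType.iff_quotient_mvPolynomial''.mp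
    (inferInstance : Algebra.FiniteType A C₀)
  let θ : MvPolynomial (Fin n) A →ₐ[A] B := (IsScalarTower.toAlgHom A C₀ B).comp φ
  let q : Ideal (MvPolynomial (Fin n) A) := (maximalIdeal B).comap θ
  have hq : q.IsPrime := Ideal.comap_isPrime _ _
  have hunit : ∀ y : MvPolynomial (Fin n) A, y ∈ q.primeCompl → IsUnit (θ y) := fun y hy => by
    rwa [Ideal.mem_primeCompl_iff, Ideal.mem_comap, mem_maximalIdeal, mem_nonunits_iff,
      not_not] at hy
  let L : Localization.AtPrime q →ₐ[A] B :=
    IsLocalization.liftAlgHom (M := q.primeCompl) (f := θ) (fun y => hunit y.1 y.2)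
  refine ⟨n, q, hq, L, ?_⟩
  intro b
  obtain ⟨⟨c, s⟩, hcs⟩ := IsLocalization.surj p.primeCompl b
  obtain ⟨x, hx⟩ := hφ c
  obtain ⟨y, hy⟩ := hφ s.1
  have hθx : θ x = algebraMap C₀ B c := by simp [θ, hx]
  have hθy : θ y = algebraMap C₀ B s.1 := by simp [θ, hy]
  have hsu : IsUnit (algebraMap C₀ B s.1) := IsLocalization.map_units B s
  have hyq : y ∈ q.primeCompl := by
    rw [Ideal.mem_primeCompl_iff, Ideal.mem_comap, mem_maximalIdeal, mem_nonunits_iff,
      not_not, hθy]
    exact hsu
  refine ⟨IsLocalization.mk' _ x ⟨y, hyq⟩, ?_⟩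
  have : L (IsLocalization.mk' _ x ⟨y, hyq⟩) * θ y = θ x := by
    have h2 : θ y = L (algebraMap _ _ y) := by simp [L]
    have h3 : θ x = L (algebraMap _ _ x) := by simp [L]
    rw [h2, h3, ← map_mul]
    congr 1
    exact IsLocalization.mk'_spec _ x ⟨y, hyq⟩
  rw [hθx, hθy] at this
  exact hsu.mul_right_cancel (this.trans hcs.symm)

/-- **Local core.** -/
theorem formallySmooth [IsNoetherianRing A] [IsNoetherianRing B] [IsLocalRing B] [Module.Flat A B]
    [Algebra.EssFiniteType A B] [Algebra (B ⊗[A] B) B]
    (hmul : ∀ x y : B, algebraMap (B ⊗[A] B) B (x ⊗ₜ[A] y) = x * y)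
    (i : ℕ) (hpd : HasProjectiveDimensionLT (ModuleCat.of (B ⊗[A] B) B) (2 * i)) :
    Algebra.FormallySmooth A B := by
  obtain ⟨n, q, hq, L, hL⟩ := exists_surjective_localization (A := A) (B := B)
  letI algPB : Algebra (Localization.AtPrime q) B := L.toAlgebra
  haveI : IsScalarTower A (Localization.AtPrime q) B :=
    IsScalarTower.of_algebraMap_eq' L.comp_algebraMap.symm
  have hsurj : Function.Surjective (algebraMap (Localization.AtPrime q) B) := hL
  haveI hfsP : Algebra.FormallySmooth A (Localization.AtPrime q) := by
    haveI : Algebra.FormallySmooth (MvPolynomial (Fin n) A) (Localization.AtPrime q) :=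
      Algebra.FormallySmooth.of_isLocalization q.primeCompl
    exact Algebra.FormallySmooth.comp A (MvPolynomial (Fin n) A) (Localization.AtPrime q)
  haveI hPN : IsNoetherianRing (Localization.AtPrime q) :=
    IsLocalization.isNoetherianRing q.primeCompl _ inferInstance
  haveI hTN : IsNoetherianRing (Localization.AtPrime q ⊗[A] B) :=
    Algebra.EssFiniteType.isNoetherianRing (Localization.AtPrime q)
      (Localization.AtPrime q ⊗[A] B)
  haveI hcot0 : Module.Finite (Localization.AtPrime q)
      (RingHom.ker (algebraMap (Localization.AtPrime q) B)).Cotangent :=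
    Module.Finite.of_surjective (Ideal.toCotangent _) (Ideal.toCotangent_surjective _)
  haveI hcot : Module.Finite B
      (Groth.Agent.H23.SmoothQuot.ext (A := A) hsurj).Cotangent :=
    Groth.Agent.H23.SmoothQuot.finite_cotangent hsurj
  have hloc : Algebra.FormallySmooth A (Localization.AtPrime (maximalIdeal B)) :=
    Groth.Agent.H59.DiagSmooth.core hsurj hmul i hpd (maximalIdeal B)
  haveI : IsLocalization (maximalIdeal B).primeCompl B := by
    apply IsLocalization.of_le_isUnit
    intro x hx
    rw [Ideal.mem_primeCompl_iff, mem_maximalIdeal, mem_nonunits_iff, not_not] at hx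
    exact hx
  let e : Localization.AtPrime (maximalIdeal B) ≃ₐ[B] B :=
    IsLocalization.algEquiv (maximalIdeal B).primeCompl _ _
  exact Algebra.FormallySmooth.of_equiv (e.restrictScalars A)

/-- a formally smooth local algebra essentially of finite type over a Noetherian ring is the
localization at a prime of a smooth algebra -/
theorem exists_smooth_localization [IsNoetherianRing A] [IsLocalRing B]
    [Algebra.EssFiniteType A B] [Algebra.FormallySmooth A B] :
    ∃ (C : Type u) (_ : CommRing C) (_ : Algebra A C) (_ : Algebra C B) (_ : IsScalarTower A C B)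
      (q : Ideal C) (_ : q.IsPrime), Algebra.Smooth A C ∧ IsLocalization.AtPrime B q := by
  set C₀ := Algebra.EssFiniteType.subalgebra A B with hC₀
  set p : Ideal C₀ := (maximalIdeal B).comap (algebraMap C₀ B) with hp
  haveI hpl : IsLocalization.AtPrime B p :=
    Groth.Agent.H87.EtLocalStd.isLocalization_atPrime_subalgebra A B
  haveI hfp : Algebra.FinitePresentation A C₀ :=
    Algebra.FinitePresentation.of_finiteType.mp inferInstance
  have e₁ : Localization.AtPrime p ≃ₐ[C₀] B := IsLocalization.algEquiv p.primeCompl _ _
  haveI : Algebra.IsSmoothAt A p :=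
    Algebra.FormallySmooth.of_equiv (e₁.restrictScalars A).symm
  obtain ⟨f, hfp', hsm⟩ := Algebra.IsSmoothAt.exists_notMem_smooth A p
  have hfu : IsUnit (algebraMap C₀ B f) :=
    IsLocalization.map_units B (⟨f, hfp'⟩ : p.primeCompl)
  let ψ : Localization.Away f →+* B := IsLocalization.Away.lift f hfu
  letI algCB : Algebra (Localization.Away f) B := ψ.toAlgebra
  haveI : IsScalarTower C₀ (Localization.Away f) B :=
    .of_algebraMap_eq' (IsLocalization.Away.lift_comp f hfu).symm
  haveI htower : IsScalarTower A (Localization.Away f) B := .to₁₃₄ A C₀ _ _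
  haveI : IsLocalization (Algebra.algebraMapSubmonoid (Localization.Away f) p.primeCompl) B :=
    IsLocalization.isLocalization_of_submonoid_le _ _ (.powers f) p.primeCompl
      (Submonoid.powers_le.mpr hfp')
  let p'' : Ideal (Localization.Away f) :=
    (maximalIdeal B).comap (algebraMap (Localization.Away f) B)
  have hp'' : IsLocalization.AtPrime B p'' :=
    Groth.Agent.H87.EtLocalStd.isLocalization_atPrime_of_isLocalRing
      (Algebra.algebraMapSubmonoid (Localization.Away f) p.primeCompl)
  exact ⟨Localization.Away f, inferInstance, inferInstance, algCB, htower, p'',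
    Ideal.comap_isPrime _ _, hsm, hp''⟩

end Groth.Agent.H59.DiagLocal
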