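import Groth.Agent.H59.DubRed

/-!
# Base change of graded pieces along a field extension
-/

set_option autoImplicit false

namespace Groth.Agent.H59.Dub

open MvPolynomial

variable {k K : Type*} [Field k] [Field K] [Algebra k K] {σ : Type*}

/-- coefficientwise extension of scalars. -/
noncomputable abbrev phi : MvPolynomial σ k →+* MvPolynomial σ K :=
  MvPolynomial.map (algebraMap k K)

lemma phi_smul (c : k) (f : MvPolynomial σ k) :
    phi (K := K) (c • f) = (algebraMap k K c) • phi (K := K) f := by
  rw [smul_eq_C_mul, map_mul, map_C, smul_eq_C_mul]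

lemma phi_X_mul (i : σ) (f : MvPolynomial σ k) :
    phi (K := K) (X i * f) = X i * phi (K := K) f := by
  rw [map_mul, map_X]

lemma coeff_pushFun (lam : K →ₗ[k] k) (F : MvPolynomial σ K) (m : σ →₀ ℕ) :
    coeff m (∑ m' ∈ F.support, monomial m' (lam (coeff m' F))) = lam (coeff m F) := by
  classical
  rw [coeff_sum]
  simp only [coeff_monomial]
  rw [Finset.sum_ite_eq']
  split_ifs with h
  · rfl
  · rw [notMem_support_iff.mp h, map_zero]

/-- apply a `k`-linear functional on `K` coefficientwise. -/
noncomputable def pushL (lam : K →ₗ[k] k) : MvPolynomial σ K →ₗ[k] MvPolynomial σ k where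
  toFun F := ∑ m ∈ F.support, monomial m (lam (coeff m F))
  map_add' F G := by
    ext m
    rw [coeff_add, coeff_pushFun, coeff_pushFun, coeff_pushFun, coeff_add, map_add]
  map_smul' c F := by
    ext m
    rw [coeff_smul, coeff_pushFun, coeff_pushFun, coeff_smul, map_smul, RingHom.id_apply]

@[simp] lemma coeff_pushL (lam : K →ₗ[k] k) (F : MvPolynomial σ K) (m : σ →₀ ℕ) :
    coeff m (pushL lam F) = lam (coeff m F) := coeff_pushFun lam F m

lemma pushL_smul_phi (lam : K →ₗ[k] k) (c : K) (f : MvPolynomial σ k) :
    pushL lam (c • phi (K := K) f) = lam c • f := by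
  ext m
  rw [coeff_pushL, coeff_smul, coeff_map, coeff_smul, smul_eq_mul, smul_eq_mul]
  have : c * algebraMap k K (coeff m f) = coeff m f • c := by
    rw [Algebra.smul_def, mul_comm]
  rw [this, map_smul, smul_eq_mul, mul_comm]

lemma pushL_monomial (lam : K →ₗ[k] k) (m : σ →₀ ℕ) (c : K) :
    pushL lam (monomial m c) = monomial m (lam c) := by
  classical
  ext m'
  rw [coeff_pushL, coeff_monomial, coeff_monomial]
  split_ifs
  · rfl
  · exact map_zero _

lemma eval_pushL (lam : K →ₗ[k] k) (p : σ → k) (F : MvPolynomial σ K) :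
    eval p (pushL lam F) = lam (eval (fun i => algebraMap k K (p i)) F) := by
  induction F using MvPolynomial.induction_on' with
  | monomial m c =>
    rw [pushL_monomial, eval_monomial, eval_monomial]
    have : (m.prod fun n e => (algebraMap k K (p n)) ^ e)
        = algebraMap k K (m.prod fun n e => p n ^ e) := by
      rw [map_finsuppProd]
      simp only [map_pow]
    rw [this]
    have h2 : c * algebraMap k K (m.prod fun n e => p n ^ e)
        = (m.prod fun n e => p n ^ e) • c := by
      rw [Algebra.smul_def, mul_comm]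
    rw [h2, map_smul, smul_eq_mul, mul_comm]
  | add F G hF hG =>
    rw [map_add, map_add, hF, hG, map_add, map_add]

lemma pushL_isHomogeneous (lam : K →ₗ[k] k) {F : MvPolynomial σ K} {t : ℕ}
    (hF : F.IsHomogeneous t) : (pushL lam F).IsHomogeneous t := by
  intro m hm
  apply hF
  intro h
  apply hm
  rw [coeff_pushL, h, map_zero]

/-- linear independence is preserved by extension of scalars. -/
lemma linearIndependent_phi {ι : Type*} {v : ι → MvPolynomial σ k}
    (hv : LinearIndependent k v) : LinearIndependent K (fun i => phi (K := K) (v i)) := by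
  rw [linearIndependent_iff']
  intro s g hg i hi
  rw [← Module.forall_dual_apply_eq_zero_iff k]
  intro lam
  have h1 := congrArg (pushL lam) hg
  rw [map_sum, map_zero] at h1
  simp only [pushL_smul_phi] at h1
  exact linearIndependent_iff'.mp hv s (fun i => lam (g i)) h1 i hi

/-- the extension of scalars of a subspace. -/
noncomputable def bc (V : Submodule k (MvPolynomial σ k)) : Submodule K (MvPolynomial σ K) :=
  Submodule.span K (phi (K := K) '' (V : Set (MvPolynomial σ k)))

lemma phi_mem_bc {V : Submodule k (MvPolynomial σ k)} {f : MvPolynomial σ k} (hf : f ∈ V) :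
    phi (K := K) f ∈ bc (K := K) V :=
  Submodule.subset_span ⟨f, hf, rfl⟩

lemma bc_le_iff {V : Submodule k (MvPolynomial σ k)} {U : Submodule K (MvPolynomial σ K)} :
    bc (K := K) V ≤ U ↔ ∀ f ∈ V, phi (K := K) f ∈ U := by
  unfold bc
  rw [Submodule.span_le]
  constructor
  · intro h f hf
    exact h ⟨f, hf, rfl⟩
  · rintro h _ ⟨f, hf, rfl⟩
    exact h f hf

lemma finrank_bc (V : Submodule k (MvPolynomial σ k)) [Module.Finite k V] :
    Module.finrank K (bc (K := K) V) = Module.finrank k V := by
  classical
  set n := Module.finrank k V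
  let b : Module.Basis (Fin n) k V := Module.finBasis k V
  let v : Fin n → MvPolynomial σ k := fun i => (b i : MvPolynomial σ k)
  have hv : LinearIndependent k v :=
    b.linearIndependent.map' V.subtype (Submodule.ker_subtype V)
  have hw := linearIndependent_phi (K := K) hv
  have hspan : bc (K := K) V = Submodule.span K (Set.range fun i => phi (K := K) (v i)) := by
    apply le_antisymm
    · rw [bc_le_iff]
      intro f hf
      have h1 : f = ∑ i, (b.repr ⟨f, hf⟩ i) • v i := by
        have := congrArg (Subtype.val) (b.sum_repr ⟨f, hf⟩)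
        simp only [Submodule.coe_sum, Submodule.coe_smul] at this
        exact this.symm
      rw [h1, map_sum]
      refine Submodule.sum_mem _ fun i _ => ?_
      rw [phi_smul]
      exact Submodule.smul_mem _ _ (Submodule.subset_span ⟨i, rfl⟩)
    · rw [Submodule.span_le]
      rintro _ ⟨i, rfl⟩
      exact phi_mem_bc (b i).2
  rw [hspan, finrank_span_eq_card hw, Fintype.card_fin]

lemma bc_S1 (V : Submodule k (MvPolynomial σ k)) :
    bc (K := K) (S1 V) = S1 (bc (K := K) V) := by
  apply le_antisymm
  · rw [bc_le_iff]
    -- the preimage of `S1 (bc V)` is a `k`-subspace containing all `X i * v`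
    let U : Submodule k (MvPolynomial σ k) :=
      { carrier := {f | phi (K := K) f ∈ S1 (bc (K := K) V)}
        add_mem' := by
          intro a b ha hb
          simp only [Set.mem_ofPred_eq] at ha hb ⊢
          rw [map_add]; exact Submodule.add_mem _ ha hb
        zero_mem' := by
          simp only [Set.mem_ofPred_eq]
          rw [map_zero]; exact Submodule.zero_mem _
        smul_mem' := by
          intro c a ha
          simp only [Set.mem_ofPred_eq] at ha ⊢
          rw [phi_smul]; exact Submodule.smul_mem _ _ ha }
    have hU : S1 V ≤ U := by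
      rw [S1_le_iff]
      intro i v hv
      show phi (K := K) (X i * v) ∈ S1 (bc (K := K) V)
      rw [phi_X_mul]
      exact X_mul_mem_S1 i (phi_mem_bc hv)
    exact fun f hf => hU hf
  · rw [S1_le_iff]
    intro i w hw
    have hle : bc (K := K) V ≤ (bc (K := K) (S1 V)).comap (mulX i) := by
      rw [bc_le_iff]
      intro f hf
      show X i * phi (K := K) f ∈ bc (K := K) (S1 V)
      rw [← phi_X_mul]
      exact phi_mem_bc (X_mul_mem_S1 i hf)
    exact hle hw

/-- the running generator count is invariant under extension of scalars. -/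
lemma Gnum_bc [Finite σ] (V : ℕ → Submodule k (MvPolynomial σ k))
    (hV : ∀ t, V t ≤ homogeneousSubmodule σ k t)
    (W : ℕ → Submodule K (MvPolynomial σ K)) (hW : ∀ t, bc (K := K) (V t) = W t) (T : ℕ) :
    Gnum V T = Gnum W T := by
  induction T with
  | zero =>
    rw [Gnum_zero, Gnum_zero, ← hW 0]
    have := finite_of_le (hV 0)
    rw [finrank_bc]
  | succ T ih =>
    rw [Gnum_succ, Gnum_succ, ih, ← hW (T + 1), ← hW T, ← bc_S1]
    have := finite_of_le (hV (T + 1))
    have := finite_of_le (S1_le_homogeneous (hV T))
    rw [finrank_bc, finrank_bc]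

section Points

variable (Z : Finset (σ → k))

/-- forms of degree `t` over `k` vanishing on `Z`. -/
noncomputable def vanK (t : ℕ) : Submodule k (MvPolynomial σ k) where
  carrier := {f | f.IsHomogeneous t ∧ ∀ p ∈ Z, eval p f = 0}
  add_mem' := by
    rintro a b ⟨ha, ha'⟩ ⟨hb, hb'⟩
    exact ⟨ha.add hb, fun p hp => by rw [map_add, ha' p hp, hb' p hp, add_zero]⟩
  zero_mem' := ⟨isHomogeneous_zero _ _ _, fun p _ => map_zero _⟩
  smul_mem' := by
    rintro c a ⟨ha, ha'⟩
    refine ⟨?_, fun p hp => ?_⟩
    · rw [smul_eq_C_mul]; exact ha.C_mul c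
    · rw [smul_eval, ha' p hp, mul_zero]

/-- forms of degree `t` over `K` vanishing on the image of `Z`. -/
noncomputable def vanL (t : ℕ) : Submodule K (MvPolynomial σ K) where
  carrier := {F | F.IsHomogeneous t ∧ ∀ p ∈ Z, eval (fun i => algebraMap k K (p i)) F = 0}
  add_mem' := by
    rintro a b ⟨ha, ha'⟩ ⟨hb, hb'⟩
    exact ⟨ha.add hb, fun p hp => by rw [map_add, ha' p hp, hb' p hp, add_zero]⟩
  zero_mem' := ⟨isHomogeneous_zero _ _ _, fun p _ => map_zero _⟩
  smul_mem' := by
    rintro c a ⟨ha, ha'⟩
    refine ⟨?_, fun p hp => ?_⟩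
    · rw [smul_eq_C_mul]; exact ha.C_mul c
    · rw [smul_eval, ha' p hp, mul_zero]

lemma eval_phi (p : σ → k) (f : MvPolynomial σ k) :
    eval (fun i => algebraMap k K (p i)) (phi (K := K) f) = algebraMap k K (eval p f) := by
  rw [eval_map]
  have := eval₂_comp_left (algebraMap k K) (RingHom.id k) p f
  rw [RingHom.comp_id] at this
  exact this.symm

/-- **Vanishing forms over an extension field come from the ground field.** -/
theorem bc_vanK (t : ℕ) : bc (K := K) (vanK Z t) = vanL (K := K) Z t := by
  classical
  apply le_antisymm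
  · rw [bc_le_iff]
    rintro f ⟨hf, hf'⟩
    refine ⟨hf.map _, fun p hp => ?_⟩
    rw [eval_phi, hf' p hp, map_zero]
  · rintro F ⟨hF, hF'⟩
    let b := Module.Free.chooseBasis k K
    let Ξ := F.support.biUnion fun m => (b.repr (coeff m F)).support
    have hFj : ∀ j, pushL (b.coord j) F ∈ vanK Z t := by
      intro j
      refine ⟨pushL_isHomogeneous _ hF, fun p hp => ?_⟩
      rw [eval_pushL, hF' p hp, map_zero]
    have hsum : F = ∑ j ∈ Ξ, b j • phi (K := K) (pushL (b.coord j) F) := by
      ext m
      rw [coeff_sum]
      simp only [coeff_smul, coeff_map, coeff_pushL, Module.Basis.coord_apply, smul_eq_mul]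
      have h1 := b.linearCombination_repr (coeff m F)
      rw [Finsupp.linearCombination_apply] at h1
      have hsub : (b.repr (coeff m F)).support ⊆ Ξ := by
        by_cases hm : m ∈ F.support
        · exact Finset.subset_biUnion_of_mem (fun m => (b.repr (coeff m F)).support) hm
        · rw [notMem_support_iff.mp hm, map_zero, Finsupp.support_zero]
          exact Finset.empty_subset _
      rw [Finsupp.sum_of_support_subset (b.repr (coeff m F)) hsub (fun i a => a • b i)
        (fun i _ => zero_smul _ _)] at h1
      conv_lhs => rw [← h1]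
      refine Finset.sum_congr rfl fun j _ => ?_
      rw [Algebra.smul_def, mul_comm]
    rw [hsum]
    exact Submodule.sum_mem _ fun j _ => Submodule.smul_mem _ _ (phi_mem_bc (hFj j))

end Points

end Groth.Agent.H59.Dub
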