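import Groth.Agent.H59.DubTwoVar

/-!
# Counting generators degree by degree
-/

set_option autoImplicit false

namespace Groth.Agent.H59.Dub

open MvPolynomial

variable {K : Type*} [Field K]

/-- the running count of new generators needed up to degree `T`. -/
noncomputable def Gnum {σ : Type*} (V : ℕ → Submodule K (MvPolynomial σ K)) : ℕ → ℕ
  | 0 => Module.finrank K (V 0)
  | T + 1 => Gnum V T + (Module.finrank K (V (T + 1)) - Module.finrank K (S1 (V T)))

lemma Gnum_zero {σ : Type*} (V : ℕ → Submodule K (MvPolynomial σ K)) :
    Gnum V 0 = Module.finrank K (V 0) := rfl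

lemma Gnum_succ {σ : Type*} (V : ℕ → Submodule K (MvPolynomial σ K)) (T : ℕ) :
    Gnum V (T + 1) =
      Gnum V T + (Module.finrank K (V (T + 1)) - Module.finrank K (S1 (V T))) := rfl

section TwoVar

local notation "P2" => MvPolynomial (Fin 2) K

lemma finrank_homog_two_le (T : ℕ) :
    Module.finrank K (homogeneousSubmodule (Fin 2) K T) ≤ T + 1 := by
  classical
  let e : ℕ → P2 := fun a => monomial (Finsupp.single 0 a + Finsupp.single 1 (T - a)) 1
  have hle : homogeneousSubmodule (Fin 2) K T
      ≤ Submodule.span K (((Finset.range (T + 1)).image e : Finset P2) : Set P2) := by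
    rw [homogeneousSubmodule_eq_finsupp_supported, AddMonoidAlgebra.supported_eq_span_single]
    apply Submodule.span_mono
    rintro _ ⟨d, hd, rfl⟩
    simp only [Set.mem_ofPred_eq] at hd
    rw [Finsupp.degree_eq_sum, Fin.sum_univ_two] at hd
    simp only [Finset.coe_image, Finset.coe_range, Set.mem_image, Set.mem_Iio]
    refine ⟨d 0, by omega, ?_⟩
    show monomial _ 1 = _
    have : Finsupp.single 0 (d 0) + Finsupp.single 1 (T - d 0) = d := by
      ext i
      fin_cases i
      · simp
      · simp; omega
    rw [this]
    rfl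
  calc Module.finrank K (homogeneousSubmodule (Fin 2) K T)
      ≤ Module.finrank K (Submodule.span K
          (((Finset.range (T + 1)).image e : Finset P2) : Set P2)) :=
        Submodule.finrank_mono hle
    _ ≤ ((Finset.range (T + 1)).image e).card := finrank_span_finset_le_card _
    _ ≤ (Finset.range (T + 1)).card := Finset.card_image_le
    _ = T + 1 := Finset.card_range _

/-- **Two-variable count.** -/
theorem Gnum_two_var (V : ℕ → Submodule K P2)
    (hV : ∀ t, V t ≤ homogeneousSubmodule (Fin 2) K t)
    (hS : ∀ t, S1 (V t) ≤ V (t + 1)) (α : ℕ) (hα : V α ≠ ⊥) (T : ℕ) :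
    Gnum V T ≤ α + 1 := by
  have hfin : ∀ t, Module.Finite K (V t) := fun t => finite_of_le (hV t)
  have hne : ∀ t, α ≤ t → V t ≠ ⊥ := by
    intro t ht
    induction t, ht using Nat.le_induction with
    | base => exact hα
    | succ t _ ih =>
      obtain ⟨v, hv, hv0⟩ := (Submodule.ne_bot_iff _).mp ih
      refine (Submodule.ne_bot_iff _).mpr ⟨X 0 * v, hS t (X_mul_mem_S1 0 hv), ?_⟩
      exact mul_ne_zero (X_ne_zero 0) hv0
  have hm_le : ∀ t, Module.finrank K (S1 (V t) : Submodule K P2)
      ≤ Module.finrank K (V (t + 1)) := fun t => Submodule.finrank_mono (hS t)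
  have ha_le : ∀ t, Module.finrank K (V t) ≤ Module.finrank K (S1 (V t) : Submodule K P2) := by
    intro t
    have : Module.Finite K (S1 (V t) : Submodule K P2) :=
      finite_of_le (S1_le_homogeneous (hV t))
    calc Module.finrank K (V t) = Module.finrank K ((V t).map (mulX 0)) :=
          (Submodule.equivMapOfInjective _ (mulX_injective 0) (V t)).finrank_eq
      _ ≤ _ := Submodule.finrank_mono (map_le_S1 (V t) 0)
  have hQ : ∀ T, Gnum V T + (T - α) ≤ Module.finrank K (V T) := by
    intro T
    induction T with
    | zero => simp [Gnum_zero]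
    | succ T ih =>
      rw [Gnum_succ]
      have h1 := hm_le T
      have h2 := ha_le T
      by_cases hT : α ≤ T
      · have h3 := two_var T (V T) (hV T) (hne T hT)
        omega
      · omega
  have hT1 : Module.finrank K (V T) ≤ T + 1 :=
    (Submodule.finrank_mono (hV T)).trans (finrank_homog_two_le T)
  have := hQ T
  omega

end TwoVar

section Gen

variable {σ : Type*}

/-- the degree `t` piece of an ideal. -/
noncomputable def pc (I : Ideal (MvPolynomial σ K)) (t : ℕ) :
    Submodule K (MvPolynomial σ K) :=
  (I.restrictScalars K) ⊓ homogeneousSubmodule σ K t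

lemma mem_pc {I : Ideal (MvPolynomial σ K)} {t : ℕ} {f : MvPolynomial σ K} :
    f ∈ pc I t ↔ f ∈ I ∧ f.IsHomogeneous t := Iff.rfl

lemma pc_le_homog (I : Ideal (MvPolynomial σ K)) (t : ℕ) :
    pc I t ≤ homogeneousSubmodule σ K t := inf_le_right

lemma S1_pc_le (I : Ideal (MvPolynomial σ K)) (t : ℕ) : S1 (pc I t) ≤ pc I (t + 1) := by
  rw [S1_le_iff]
  intro i v hv
  refine ⟨I.mul_mem_left _ hv.1, ?_⟩
  have := (isHomogeneous_X K i).mul hv.2
  rwa [add_comm] at this

/-- a spanning lemma: a subspace `V` containing `W` is `W` plus the span of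
`dim V - dim W` vectors of `V`. -/
lemma exists_finset_span {E : Type*} [AddCommGroup E] [Module K E]
    (n : ℕ) : ∀ (W V : Submodule K E), Module.Finite K V → W ≤ V →
      Module.finrank K V - Module.finrank K W ≤ n →
      ∃ B : Finset E, (B : Set E) ⊆ V ∧ V ≤ W ⊔ Submodule.span K (B : Set E) ∧
        B.card ≤ Module.finrank K V - Module.finrank K W := by
  classical
  induction n with
  | zero =>
    intro W V hfin hWV hn
    have hle : Module.finrank K W ≤ Module.finrank K V := Submodule.finrank_mono hWV
    have : W = V := Submodule.eq_of_le_of_finrank_le hWV (by omega)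
    refine ⟨∅, by simp, by simp [this], by simp⟩
  | succ n ih =>
    intro W V hfin hWV hn
    by_cases hWV' : W = V
    · refine ⟨∅, by simp, by simp [hWV'], by simp⟩
    · have hlt : W < V := lt_of_le_of_ne hWV hWV'
      obtain ⟨v, hvV, hvW⟩ := SetLike.exists_of_lt hlt
      set W1 := W ⊔ Submodule.span K {v} with hW1
      have hW1V : W1 ≤ V := sup_le hWV (by
        rw [Submodule.span_le]; simpa using hvV)
      have hWW1 : W < W1 := by
        refine lt_of_le_of_ne le_sup_left ?_
        intro h
        apply hvW
        rw [h]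
        exact le_sup_right (a := W) (Submodule.mem_span_singleton_self v)
      have : Module.Finite K W1 := Submodule.finiteDimensional_of_le hW1V
      have h1 : Module.finrank K W < Module.finrank K W1 :=
        Submodule.finrank_lt_finrank_of_lt hWW1
      have h2 : Module.finrank K W1 ≤ Module.finrank K V := Submodule.finrank_mono hW1V
      obtain ⟨B1, hB1V, hB1, hB1c⟩ := ih W1 V hfin hW1V (by omega)
      refine ⟨insert v B1, ?_, ?_, ?_⟩
      · intro x hx
        simp only [Finset.coe_insert, Set.mem_insert_iff] at hx
        rcases hx with rfl | hx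
        · exact hvV
        · exact hB1V hx
      · refine hB1.trans ?_
        rw [hW1, Finset.coe_insert, Submodule.span_insert, sup_assoc]
      · calc (insert v B1).card ≤ B1.card + 1 := Finset.card_insert_le _ _
          _ ≤ _ := by omega

variable [Finite σ]

/-- Step: finite homogeneous generating sets up to degree `T`. -/
lemma exists_gens (I : Ideal (MvPolynomial σ K)) (T : ℕ) :
    ∃ B : Finset (MvPolynomial σ K), (B : Set (MvPolynomial σ K)) ⊆ I ∧
      (∀ t ≤ T, ((pc I t : Submodule K (MvPolynomial σ K)) : Set (MvPolynomial σ K))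
        ⊆ Ideal.span (B : Set (MvPolynomial σ K))) ∧
      B.card ≤ Gnum (pc I) T := by
  classical
  induction T with
  | zero =>
    have hfin : Module.Finite K (pc I 0) := finite_of_le (pc_le_homog I 0)
    obtain ⟨B, hBV, hB, hBc⟩ := exists_finset_span (K := K) _ ⊥ (pc I 0) hfin bot_le le_rfl
    refine ⟨B, fun x hx => (hBV hx).1, ?_, ?_⟩
    · intro t ht f hf
      obtain rfl : t = 0 := by omega
      have := hB hf
      rw [bot_sup_eq] at this
      exact (Submodule.span_le_restrictScalars K (MvPolynomial σ K) _) this
    · simpa [Gnum_zero] using hBc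
  | succ T ih =>
    obtain ⟨B, hBI, hB, hBc⟩ := ih
    have hfin : Module.Finite K (pc I (T + 1)) := finite_of_le (pc_le_homog I (T + 1))
    obtain ⟨B', hB'V, hB', hB'c⟩ := exists_finset_span (K := K) _ (S1 (pc I T)) (pc I (T + 1))
      hfin (S1_pc_le I T) le_rfl
    refine ⟨B ∪ B', ?_, ?_, ?_⟩
    · intro x hx
      simp only [Finset.coe_union, Set.mem_union] at hx
      rcases hx with hx | hx
      · exact hBI hx
      · exact (hB'V hx).1
    · intro t ht f hf
      have hmono : Ideal.span (B : Set (MvPolynomial σ K))
          ≤ Ideal.span ((B ∪ B' : Finset _) : Set (MvPolynomial σ K)) :=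
        Ideal.span_mono (by simp)
      have hmono' : Ideal.span (B' : Set (MvPolynomial σ K))
          ≤ Ideal.span ((B ∪ B' : Finset _) : Set (MvPolynomial σ K)) :=
        Ideal.span_mono (by simp)
      rcases Nat.lt_or_ge t (T + 1) with h | h
      · exact hmono (hB t (by omega) hf)
      · obtain rfl : t = T + 1 := by omega
        have h1 := hB' hf
        obtain ⟨w, hw, b, hb, rfl⟩ := Submodule.mem_sup.mp h1
        refine Ideal.add_mem _ ?_ ?_
        · have hS1 : S1 (pc I T) ≤ (Ideal.span ((B ∪ B' : Finset _) :
              Set (MvPolynomial σ K))).restrictScalars K := by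
            rw [S1_le_iff]
            intro i v hv
            exact Ideal.mul_mem_left _ _ (hmono (hB T le_rfl hv))
          exact hS1 hw
        · exact hmono' ((Submodule.span_le_restrictScalars K (MvPolynomial σ K) _) hb)
    · rw [Gnum_succ]
      calc (B ∪ B').card ≤ B.card + B'.card := Finset.card_union_le _ _
        _ ≤ _ := by omega

/-- **Generator count.** A homogeneous ideal of a polynomial ring whose running count of new
generators is bounded by `N` is generated by at most `N` elements. -/
theorem spanFinrank_le_of_Gnum_le (I : Ideal (MvPolynomial σ K))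
    (hI : ∀ f ∈ I, ∀ j, homogeneousComponent j f ∈ I) (N : ℕ)
    (hN : ∀ T, Gnum (pc I) T ≤ N) : Submodule.spanFinrank I ≤ N := by
  classical
  obtain ⟨F, hF⟩ : I.FG := IsNoetherian.noetherian I
  set T := F.sup totalDegree with hT
  obtain ⟨B, hBI, hB, hBc⟩ := exists_gens I T
  have hle : I ≤ Ideal.span (B : Set (MvPolynomial σ K)) := by
    rw [← hF, Ideal.span_le]
    intro f hf
    have hfI : f ∈ I := by rw [← hF]; exact Ideal.subset_span hf
    rw [SetLike.mem_coe, ← sum_homogeneousComponent f]
    refine Ideal.sum_mem _ fun j hj => ?_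
    have hjT : j ≤ T := by
      have h1 : f.totalDegree ≤ T := Finset.le_sup (f := totalDegree) hf
      have := Finset.mem_range.mp hj
      omega
    exact hB j hjT ⟨hI f hfI j, homogeneousComponent_isHomogeneous j f⟩
  have heq : I = Ideal.span (B : Set (MvPolynomial σ K)) :=
    le_antisymm hle (Ideal.span_le.mpr hBI)
  calc Submodule.spanFinrank I
      = Submodule.spanFinrank (Submodule.span (MvPolynomial σ K) (B : Set (MvPolynomial σ K))) := by
        conv_lhs => rw [heq]
    _ ≤ (B : Set (MvPolynomial σ K)).ncard :=
        Submodule.spanFinrank_span_le_ncard_of_finite B.finite_toSet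
    _ = B.card := Set.ncard_coe_finset B
    _ ≤ N := hBc.trans (hN T)

end Gen

end Groth.Agent.H59.Dub
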