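import Groth.Agent.H59.DubBC

/-!
# Dubreil's bound for the ideal of a finite set of points of the plane
-/

set_option autoImplicit false

namespace Groth.Agent.H59.Dub

open MvPolynomial

attribute [local instance] MvPolynomial.gradedAlgebra

variable {k K : Type*} [Field k] [Field K] [Algebra k K]

section Over

variable (Z : Finset (Fin 3 → k))

/-- the ideal of `K[x0,x1,x2]` generated by the forms vanishing on the image of `Z`. -/
noncomputable def JZ : Ideal (MvPolynomial (Fin 3) K) :=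
  Ideal.span {F | (∃ t, F.IsHomogeneous t) ∧
    ∀ p ∈ Z, eval (fun i => algebraMap k K (p i)) F = 0}

lemma eval_of_mem_JZ {F : MvPolynomial (Fin 3) K} (hF : F ∈ JZ (K := K) Z)
    {p : Fin 3 → k} (hp : p ∈ Z) : eval (fun i => algebraMap k K (p i)) F = 0 := by
  have hle : JZ (K := K) Z ≤ RingHom.ker (eval (fun i => algebraMap k K (p i))) := by
    unfold JZ
    rw [Ideal.span_le]
    rintro G ⟨_, hG⟩
    exact hG p hp
  exact hle hF

lemma JZ_homog {F : MvPolynomial (Fin 3) K} (hF : F ∈ JZ (K := K) Z) (j : ℕ) :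
    homogeneousComponent j F ∈ JZ (K := K) Z := by
  have h : (JZ (K := K) Z).IsHomogeneous (homogeneousSubmodule (Fin 3) K) := by
    unfold JZ
    apply Ideal.homogeneous_span
    rintro G ⟨⟨t, ht⟩, _⟩
    exact ⟨t, ht⟩
  exact homogeneousComponent_mem_of_mem h hF j

lemma pc_JZ (t : ℕ) : pc (JZ (K := K) Z) t = vanL (K := K) Z t := by
  ext F
  constructor
  · rintro ⟨hFJ, hFt⟩
    exact ⟨hFt, fun p hp => eval_of_mem_JZ Z hFJ hp⟩
  · rintro ⟨hFt, hF⟩
    exact ⟨Ideal.subset_span ⟨⟨t, hFt⟩, hF⟩, hFt⟩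

lemma eval_ell (a0 a1 : K) (p : Fin 3 → k) :
    eval (fun i => algebraMap k K (p i)) (ell a0 a1)
      = a0 * algebraMap k K (p 0) + a1 * algebraMap k K (p 1) + algebraMap k K (p 2) := by
  simp [ell]

lemma JZ_reg (a0 a1 : K)
    (hl : ∀ p ∈ Z, a0 * algebraMap k K (p 0) + a1 * algebraMap k K (p 1)
      + algebraMap k K (p 2) ≠ 0)
    (h : MvPolynomial (Fin 3) K) (hh : ell a0 a1 * h ∈ JZ (K := K) Z) : h ∈ JZ (K := K) Z := by
  rw [← sum_homogeneousComponent h]
  refine Ideal.sum_mem _ fun j _ => ?_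
  refine Ideal.subset_span ⟨⟨j, homogeneousComponent_isHomogeneous j h⟩, fun p hp => ?_⟩
  have h1 := eval_of_mem_JZ Z (JZ_homog Z hh (1 + j)) hp
  rw [hc_mul_add _ _ 1 j (ell_homog a0 a1), map_mul, eval_ell] at h1
  exact (mul_eq_zero.mp h1).resolve_left (hl p hp)

end Over

section Ground

variable (Z : Finset (Fin 3 → k)) (I : Ideal (MvPolynomial (Fin 3) k))
  (hI : ∀ f : MvPolynomial (Fin 3) k, f ∈ I ↔
      ∀ p ∈ Z, ∀ j : ℕ, eval p (homogeneousComponent j f) = 0)

include hI

lemma I_homog {f : MvPolynomial (Fin 3) k} (hf : f ∈ I) (j : ℕ) :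
    homogeneousComponent j f ∈ I := by
  rw [hI]
  intro p hp i
  rw [homogeneousComponent_of_mem (homogeneousComponent_mem j f)]
  split_ifs
  · exact (hI f).mp hf p hp j
  · exact map_zero _

lemma pc_I (t : ℕ) : pc I t = vanK Z t := by
  ext f
  constructor
  · rintro ⟨hfI, hft⟩
    refine ⟨hft, fun p hp => ?_⟩
    have := (hI f).mp hfI p hp t
    rwa [homogeneousComponent_eq_self hft] at this
  · rintro ⟨hft, hf⟩
    refine ⟨(hI f).mpr fun p hp j => ?_, hft⟩
    rw [homogeneousComponent_of_mem hft]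
    split_ifs
    · exact hf p hp
    · exact map_zero _

/-- **Dubreil's bound**, given an extension field containing a linear form that vanishes at no
point of `Z`. -/
theorem main_aux (a0 a1 : K)
    (hl : ∀ p ∈ Z, a0 * algebraMap k K (p 0) + a1 * algebraMap k K (p 1)
      + algebraMap k K (p 2) ≠ 0)
    (d : ℕ) (hf : ∃ f ∈ I, MvPolynomial.IsHomogeneous f d ∧ f ≠ 0) :
    Submodule.spanFinrank I ≤ d + 1 := by
  have hbc : ∀ t, bc (K := K) (pc I t) = pc (JZ (K := K) Z) t := by
    intro t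
    rw [pc_I Z I hI, pc_JZ, bc_vanK]
  have hd : pc (JZ (K := K) Z) d ≠ ⊥ := by
    obtain ⟨f, hfI, hfd, hf0⟩ := hf
    rw [Submodule.ne_bot_iff]
    refine ⟨phi (K := K) f, ?_, ?_⟩
    · rw [← hbc d]
      exact phi_mem_bc ⟨hfI, hfd⟩
    · intro h
      apply hf0
      apply map_injective (algebraMap k K) (algebraMap k K).injective
      rw [map_zero]
      exact h
  refine spanFinrank_le_of_Gnum_le I (fun f hf j => I_homog Z I hI hf j) (d + 1) fun T => ?_
  rw [Gnum_bc (K := K) (pc I) (pc_le_homog I) (pc (JZ (K := K) Z)) hbc T]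
  exact Gnum_three_var (JZ_reg Z a0 a1 hl) d hd T

end Ground

end Groth.Agent.H59.Dub
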