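import Groth.Agent.H59.DubCount

/-!
# Reduction from three to two variables modulo a regular linear form
-/

set_option autoImplicit false

namespace Groth.Agent.H59.Dub

open MvPolynomial

variable {K : Type*} [Field K]

section HC

attribute [local instance] MvPolynomial.gradedAlgebra

lemma decompose_eq_hc {σ : Type*} (f : MvPolynomial σ K) (i : ℕ) :
    (DirectSum.decompose (homogeneousSubmodule σ K) f i : MvPolynomial σ K)
      = homogeneousComponent i f :=
  decomposition.decompose'_apply f i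

lemma hc_mul_add {σ : Type*} (a b : MvPolynomial σ K) (i j : ℕ) (ha : a.IsHomogeneous i) :
    homogeneousComponent (i + j) (a * b) = a * homogeneousComponent j b := by
  rw [← decompose_eq_hc, ← decompose_eq_hc]
  exact DirectSum.coe_decompose_mul_add_of_left_mem (homogeneousSubmodule σ K)
    ((mem_homogeneousSubmodule i a).mpr ha)

lemma hc_mul_lt {σ : Type*} (a b : MvPolynomial σ K) (i n : ℕ) (ha : a.IsHomogeneous i)
    (h : n < i) : homogeneousComponent n (a * b) = 0 := by
  rw [← decompose_eq_hc]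
  exact DirectSum.coe_decompose_mul_of_left_mem_of_not_le (homogeneousSubmodule σ K)
    ((mem_homogeneousSubmodule i a).mpr ha) (by omega)

end HC

section LA

variable {E F : Type*} [AddCommGroup E] [Module K E] [AddCommGroup F] [Module K F]

lemma finrank_map_add_finrank_ker_inf (f : E →ₗ[K] F) (V : Submodule K E) [Module.Finite K V] :
    Module.finrank K (V.map f) + Module.finrank K (V ⊓ LinearMap.ker f : Submodule K E)
      = Module.finrank K V := by
  have h := LinearMap.finrank_range_add_finrank_ker (f.domRestrict V)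
  rw [LinearMap.range_domRestrict, LinearMap.ker_domRestrict] at h
  have e : Module.finrank K ((LinearMap.ker f).comap V.subtype)
      = Module.finrank K (V ⊓ LinearMap.ker f : Submodule K E) := by
    rw [← Submodule.map_comap_subtype]
    exact (Submodule.equivMapOfInjective _ V.injective_subtype _).finrank_eq
  rw [e] at h
  exact h

lemma finrank_sub_le_of_map (f : E →ₗ[K] F) (W V : Submodule K E) [Module.Finite K V]
    (hWV : W ≤ V) (hker : ∀ v ∈ V, f v ∈ W.map f → v ∈ W) :
    Module.finrank K V - Module.finrank K W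
      ≤ Module.finrank K (V.map f) - Module.finrank K (W.map f) := by
  have : Module.Finite K W := Submodule.finiteDimensional_of_le hWV
  have h1 := finrank_map_add_finrank_ker_inf f V
  have h2 := finrank_map_add_finrank_ker_inf f W
  have h3 : (V ⊓ LinearMap.ker f : Submodule K E) = W ⊓ LinearMap.ker f := by
    apply le_antisymm
    · rintro v ⟨hv, hv0⟩
      refine ⟨hker v hv ?_, hv0⟩
      rw [LinearMap.mem_ker.mp hv0]
      exact Submodule.zero_mem _
    · exact inf_le_inf_right _ hWV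
  rw [h3] at h1
  omega

end LA

section Red

local notation "P3" => MvPolynomial (Fin 3) K
local notation "P2" => MvPolynomial (Fin 2) K

variable (a0 a1 : K)

/-- the linear form `a0 x0 + a1 x1 + x2`. -/
noncomputable def ell : P3 := C a0 * X 0 + C a1 * X 1 + X 2

lemma ell_homog : (ell a0 a1).IsHomogeneous 1 := by
  unfold ell
  exact ((isHomogeneous_C_mul_X a0 0).add (isHomogeneous_C_mul_X a1 1)).add (isHomogeneous_X K 2)

lemma ell_ne_zero : ell a0 a1 ≠ 0 := by
  intro h
  have := congrArg (eval ![0, 0, 1]) h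
  simp [ell] at this

/-- images of the variables. -/
noncomputable def piv : Fin 3 → P2 := ![X 0, X 1, -(C a0 * X 0 + C a1 * X 1)]

/-- the projection `K[x0,x1,x2] → K[x0,x1]` killing `ell`. -/
noncomputable def pi : P3 →ₐ[K] P2 := aeval (piv a0 a1)

/-- the inclusion `K[x0,x1] → K[x0,x1,x2]`. -/
noncomputable def iota : P2 →ₐ[K] P3 := aeval ![X 0, X 1]

@[simp] lemma pi_X0 : pi a0 a1 (X 0) = X 0 := by simp [pi, piv]
@[simp] lemma pi_X1 : pi a0 a1 (X 1) = X 1 := by simp [pi, piv]
@[simp] lemma pi_X2 : pi a0 a1 (X 2) = -(C a0 * X 0 + C a1 * X 1) := by simp [pi, piv]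

lemma pi_ell : pi a0 a1 (ell a0 a1) = 0 := by
  simp only [ell, map_add, map_mul, pi_X0, pi_X1, pi_X2, algHom_C, algebraMap_eq]
  ring

lemma piv_homog (i : Fin 3) : (piv a0 a1 i).IsHomogeneous 1 := by
  fin_cases i
  · exact isHomogeneous_X K 0
  · exact isHomogeneous_X K 1
  · exact ((isHomogeneous_C_mul_X a0 0).add (isHomogeneous_C_mul_X a1 1)).neg

lemma pi_homog {f : P3} {t : ℕ} (hf : f.IsHomogeneous t) : (pi a0 a1 f).IsHomogeneous t := by
  have := hf.aeval (piv a0 a1) (piv_homog a0 a1)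
  simpa [pi] using this

lemma sub_iota_pi_mem (f : P3) : f - iota (pi a0 a1 f) ∈ Ideal.span {ell a0 a1} := by
  have h : (Ideal.Quotient.mkₐ K (Ideal.span {ell a0 a1})).comp ((iota).comp (pi a0 a1))
      = Ideal.Quotient.mkₐ K (Ideal.span {ell a0 a1}) := by
    apply MvPolynomial.algHom_ext
    intro i
    fin_cases i
    · simp [iota]
    · simp [iota]
    · simp only [AlgHom.comp_apply, Ideal.Quotient.mkₐ_eq_mk]
      rw [Ideal.Quotient.eq]
      have : iota (pi a0 a1 (X 2)) - X 2 = -ell a0 a1 := by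
        simp [iota, ell]
        ring
      show iota (pi a0 a1 (X 2)) - X 2 ∈ _
      rw [this]
      exact Submodule.neg_mem _ (Ideal.mem_span_singleton_self _)
  have h2 := DFunLike.congr_fun h f
  simp only [AlgHom.comp_apply, Ideal.Quotient.mkₐ_eq_mk] at h2
  exact Ideal.Quotient.eq.mp h2.symm

lemma exists_of_pi_eq_zero {f : P3} {t : ℕ} (hf : f.IsHomogeneous (t + 1))
    (h0 : pi a0 a1 f = 0) : ∃ h : P3, h.IsHomogeneous t ∧ f = ell a0 a1 * h := by
  have h1 := sub_iota_pi_mem a0 a1 f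
  rw [h0, map_zero, sub_zero, Ideal.mem_span_singleton'] at h1
  obtain ⟨h', hh'⟩ := h1
  refine ⟨homogeneousComponent t h', homogeneousComponent_isHomogeneous _ _, ?_⟩
  have := hc_mul_add (ell a0 a1) h' 1 t (ell_homog a0 a1)
  rw [← this, mul_comm, hh', add_comm, homogeneousComponent_eq_self hf]

lemma eq_zero_of_pi_eq_zero {f : P3} (hf : f.IsHomogeneous 0)
    (h0 : pi a0 a1 f = 0) : f = 0 := by
  have h1 := sub_iota_pi_mem a0 a1 f
  rw [h0, map_zero, sub_zero, Ideal.mem_span_singleton'] at h1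
  obtain ⟨h', hh'⟩ := h1
  have := hc_mul_lt (ell a0 a1) h' 1 0 (ell_homog a0 a1) (by omega)
  rw [mul_comm, hh', homogeneousComponent_eq_self hf] at this
  exact this

variable (I : Ideal (MvPolynomial (Fin 3) K))

/-- the images of the graded pieces. -/
noncomputable def Vbar (t : ℕ) : Submodule K P2 := (pc I t).map (pi a0 a1).toLinearMap

lemma Vbar_le (t : ℕ) : Vbar a0 a1 I t ≤ homogeneousSubmodule (Fin 2) K t := by
  rintro _ ⟨f, hf, rfl⟩
  exact pi_homog a0 a1 hf.2

lemma S1_Vbar_le_map (t : ℕ) :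
    S1 (Vbar a0 a1 I t) ≤ (S1 (pc I t)).map (pi a0 a1).toLinearMap := by
  rw [S1_le_iff]
  rintro i _ ⟨f, hf, rfl⟩
  fin_cases i
  · refine ⟨X 0 * f, X_mul_mem_S1 0 hf, ?_⟩
    simp
  · refine ⟨X 1 * f, X_mul_mem_S1 1 hf, ?_⟩
    simp

lemma S1_Vbar_le (t : ℕ) : S1 (Vbar a0 a1 I t) ≤ Vbar a0 a1 I (t + 1) :=
  (S1_Vbar_le_map a0 a1 I t).trans (Submodule.map_mono (S1_pc_le I t))

lemma ell_mul_mem_S1 {t : ℕ} {h : P3} (hh : h ∈ pc I t) : ell a0 a1 * h ∈ S1 (pc I t) := by
  have : ell a0 a1 * h = a0 • (X 0 * h) + a1 • (X 1 * h) + X 2 * h := by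
    simp only [ell, smul_eq_C_mul]; ring
  rw [this]
  exact Submodule.add_mem _ (Submodule.add_mem _ (Submodule.smul_mem _ _ (X_mul_mem_S1 0 hh))
    (Submodule.smul_mem _ _ (X_mul_mem_S1 1 hh))) (X_mul_mem_S1 2 hh)

variable {a0 a1 I}

lemma Gnum_le_Gnum_Vbar (hreg : ∀ h, ell a0 a1 * h ∈ I → h ∈ I) (T : ℕ) :
    Gnum (pc I) T ≤ Gnum (Vbar a0 a1 I) T := by
  induction T with
  | zero =>
    rw [Gnum_zero, Gnum_zero]
    have hfin : Module.Finite K (pc I 0) := finite_of_le (pc_le_homog I 0)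
    have := finrank_sub_le_of_map (pi a0 a1).toLinearMap ⊥ (pc I 0) bot_le (by
      intro v hv _
      have : v = 0 := eq_zero_of_pi_eq_zero a0 a1 hv.2 (by
        rename_i h
        simpa using h)
      rw [this]; exact Submodule.zero_mem _)
    have h0 : Module.finrank K ((⊥ : Submodule K (MvPolynomial (Fin 3) K)).map
        (pi a0 a1).toLinearMap) = 0 := by
      rw [Submodule.map_bot, finrank_bot]
    have h1 : Module.finrank K (⊥ : Submodule K (MvPolynomial (Fin 3) K)) = 0 := finrank_bot _ _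
    have h3 : Module.finrank K (Vbar a0 a1 I 0)
        = Module.finrank K ((pc I 0).map (pi a0 a1).toLinearMap) := rfl
    omega
  | succ T ih =>
    rw [Gnum_succ, Gnum_succ]
    have hfin : Module.Finite K (pc I (T + 1)) := finite_of_le (pc_le_homog I (T + 1))
    have h1 := finrank_sub_le_of_map (pi a0 a1).toLinearMap (S1 (pc I T)) (pc I (T + 1))
      (S1_pc_le I T) (by
        rintro f hf ⟨w, hw, hwf⟩
        have hwI : w ∈ pc I (T + 1) := S1_pc_le I T hw
        have hd : f - w ∈ pc I (T + 1) := Submodule.sub_mem _ hf hwI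
        have hpi : pi a0 a1 (f - w) = 0 := by
          have : (pi a0 a1) w = (pi a0 a1) f := hwf
          rw [map_sub, this, sub_self]
        obtain ⟨h, hh, hfw⟩ := exists_of_pi_eq_zero a0 a1 hd.2 hpi
        have hhI : h ∈ I := hreg h (hfw ▸ hd.1)
        have : f = w + ell a0 a1 * h := by rw [← hfw]; ring
        rw [this]
        exact Submodule.add_mem _ hw (ell_mul_mem_S1 a0 a1 I ⟨hhI, hh⟩))
    have hfin2 : Module.Finite K ((S1 (pc I T)).map (pi a0 a1).toLinearMap) := by
      have : Module.Finite K (S1 (pc I T) : Submodule K P3) :=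
        finite_of_le (S1_le_homogeneous (pc_le_homog I T))
      infer_instance
    have h2 : Module.finrank K (S1 (Vbar a0 a1 I T) : Submodule K P2)
        ≤ Module.finrank K ((S1 (pc I T)).map (pi a0 a1).toLinearMap) :=
      Submodule.finrank_mono (S1_Vbar_le_map a0 a1 I T)
    have h3 : Module.finrank K (Vbar a0 a1 I (T + 1))
        = Module.finrank K ((pc I (T + 1)).map (pi a0 a1).toLinearMap) := rfl
    omega

lemma exists_Vbar_ne_bot (hreg : ∀ h, ell a0 a1 * h ∈ I → h ∈ I) :
    ∀ d, pc I d ≠ ⊥ → ∃ α ≤ d, Vbar a0 a1 I α ≠ ⊥ := by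
  intro d
  induction d with
  | zero =>
    intro hd
    obtain ⟨f, hf, hf0⟩ := (Submodule.ne_bot_iff _).mp hd
    refine ⟨0, le_rfl, (Submodule.ne_bot_iff _).mpr ⟨pi a0 a1 f, ⟨f, hf, rfl⟩, ?_⟩⟩
    intro h
    exact hf0 (eq_zero_of_pi_eq_zero a0 a1 hf.2 h)
  | succ e ih =>
    intro hd
    obtain ⟨f, hf, hf0⟩ := (Submodule.ne_bot_iff _).mp hd
    by_cases h : pi a0 a1 f = 0
    · obtain ⟨g, hg, hfg⟩ := exists_of_pi_eq_zero a0 a1 hf.2 h
      have hgI : g ∈ I := hreg g (hfg ▸ hf.1)
      have hg0 : g ≠ 0 := by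
        rintro rfl
        exact hf0 (by rw [hfg, mul_zero])
      obtain ⟨α, hα, hne⟩ := ih ((Submodule.ne_bot_iff _).mpr ⟨g, ⟨hgI, hg⟩, hg0⟩)
      exact ⟨α, by omega, hne⟩
    · exact ⟨e + 1, le_rfl, (Submodule.ne_bot_iff _).mpr ⟨pi a0 a1 f, ⟨f, hf, rfl⟩, h⟩⟩

/-- **Dubreil count in three variables**, for a homogeneous ideal modulo which a linear form
`a0 x0 + a1 x1 + x2` is regular. -/
theorem Gnum_three_var (hreg : ∀ h, ell a0 a1 * h ∈ I → h ∈ I) (d : ℕ) (hd : pc I d ≠ ⊥)
    (T : ℕ) : Gnum (pc I) T ≤ d + 1 := by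
  obtain ⟨α, hα, hne⟩ := exists_Vbar_ne_bot hreg d hd
  have := Gnum_two_var (Vbar a0 a1 I) (Vbar_le a0 a1 I) (S1_Vbar_le a0 a1 I) α hne T
  have h2 := Gnum_le_Gnum_Vbar hreg T
  omega

end Red

end Groth.Agent.H59.Dub
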