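import Mathlib

/-!
# Two-variable growth lemma (towards Dubreil's bound)

For a nonzero subspace `V` of the forms of degree `t` in `K[x,y]`,
`dim (xV + yV) ≥ dim V + 1`.
-/

set_option autoImplicit false

namespace Groth.Agent.H59.Dub

open MvPolynomial

variable {K : Type*} [Field K]

/-- multiplication by a variable, as a linear map. -/
noncomputable abbrev mulX {σ : Type*} (i : σ) : MvPolynomial σ K →ₗ[K] MvPolynomial σ K :=
  LinearMap.mulLeft K (X i)

lemma mulX_apply {σ : Type*} (i : σ) (f : MvPolynomial σ K) : mulX i f = X i * f := rfl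

lemma mulX_injective {σ : Type*} (i : σ) : Function.Injective (mulX (K := K) i) := by
  intro a b h
  exact mul_left_cancel₀ (X_ne_zero i) h

/-- the span of the products `X i * v`, `v ∈ V`. -/
noncomputable def S1 {σ : Type*} (V : Submodule K (MvPolynomial σ K)) :
    Submodule K (MvPolynomial σ K) :=
  ⨆ i, V.map (mulX i)

lemma map_le_S1 {σ : Type*} (V : Submodule K (MvPolynomial σ K)) (i : σ) :
    V.map (mulX i) ≤ S1 V := le_iSup (fun i => V.map (mulX i)) i

lemma X_mul_mem_S1 {σ : Type*} {V : Submodule K (MvPolynomial σ K)} (i : σ)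
    {v : MvPolynomial σ K} (hv : v ∈ V) : X i * v ∈ S1 V :=
  map_le_S1 V i (Submodule.mem_map_of_mem hv)

lemma S1_mono {σ : Type*} {V W : Submodule K (MvPolynomial σ K)} (h : V ≤ W) : S1 V ≤ S1 W :=
  iSup_mono fun _ => Submodule.map_mono h

lemma S1_le_iff {σ : Type*} {V W : Submodule K (MvPolynomial σ K)} :
    S1 V ≤ W ↔ ∀ i, ∀ v ∈ V, X i * v ∈ W := by
  unfold S1
  rw [iSup_le_iff]
  refine forall_congr' fun i => ?_
  rw [Submodule.map_le_iff_le_comap]
  rfl

lemma isHomogeneous_of_X_mul {σ : Type*} (i : σ) (u : MvPolynomial σ K) (s : ℕ)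
    (h : (X i * u).IsHomogeneous (s + 1)) : u.IsHomogeneous s := by
  classical
  intro d hd
  have h1 : coeff (Finsupp.single i 1 + d) (X i * u) ≠ 0 := by
    rw [coeff_X_mul]; exact hd
  have h2 := h h1
  rw [map_add, Finsupp.weight_single] at h2
  simp only [Pi.one_apply, smul_eq_mul, mul_one] at h2
  omega

lemma eq_zero_of_X_mul_isHomogeneous_zero {σ : Type*} (i : σ) (u : MvPolynomial σ K)
    (h : (X i * u).IsHomogeneous 0) : u = 0 := by
  classical
  ext d
  by_contra hd
  have h1 : coeff (Finsupp.single i 1 + d) (X i * u) ≠ 0 := by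
    rw [coeff_X_mul]; exact hd
  have h2 := h h1
  rw [map_add, Finsupp.weight_single] at h2
  simp only [Pi.one_apply, smul_eq_mul, mul_one] at h2
  omega

lemma S1_le_homogeneous {σ : Type*} {V : Submodule K (MvPolynomial σ K)} {t : ℕ}
    (hV : V ≤ homogeneousSubmodule σ K t) : S1 V ≤ homogeneousSubmodule σ K (t + 1) := by
  rw [S1_le_iff]
  intro i v hv
  have := (isHomogeneous_X K i).mul (hV hv)
  rwa [add_comm] at this

instance finite_homog {σ : Type*} [Finite σ] (t : ℕ) :
    Module.Finite K (homogeneousSubmodule σ K t) :=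
  Module.Finite.iff_fg.mpr (homogeneousSubmodule_fg σ K t)

lemma finite_of_le {σ : Type*} [Finite σ] {V : Submodule K (MvPolynomial σ K)} {t : ℕ}
    (hV : V ≤ homogeneousSubmodule σ K t) : Module.Finite K V :=
  Submodule.finiteDimensional_of_le hV

section TwoVar

local notation "P2" => MvPolynomial (Fin 2) K

lemma S1_two (V : Submodule K P2) : S1 V = V.map (mulX 0) ⊔ V.map (mulX 1) := by
  apply le_antisymm
  · refine iSup_le fun i => ?_
    fin_cases i
    · exact le_sup_left
    · exact le_sup_right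
  · exact sup_le (map_le_S1 V 0) (map_le_S1 V 1)

/-- the auxiliary subspace `V' = {u | x u ∈ V ∧ y u ∈ V}`. -/
noncomputable def Vp (V : Submodule K P2) : Submodule K P2 :=
  V.comap (mulX 0) ⊓ V.comap (mulX 1)

lemma inf_le_map_Vp (V : Submodule K P2) :
    V.map (mulX 0) ⊓ V.map (mulX 1) ≤ (Vp V).map (mulX 0 ∘ₗ mulX 1) := by
  rintro w ⟨⟨v1, hv1, h1⟩, ⟨v2, hv2, h2⟩⟩
  simp only [mulX_apply] at h1 h2
  have hdvd : (X 1 : P2) ∣ X 0 * v1 := ⟨v2, by rw [h1, h2]⟩
  have hpr : Prime (X 1 : P2) := X_prime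
  rcases hpr.dvd_or_dvd hdvd with h | ⟨u, hu⟩
  · rw [X_dvd_X] at h
    exact absurd h (by decide)
  · have hv2u : v2 = X 0 * u := by
      have : (X 1 : P2) * v2 = X 1 * (X 0 * u) := by
        rw [h2, ← h1, hu]; ring
      exact mul_left_cancel₀ (X_ne_zero 1) this
    refine ⟨u, ⟨?_, ?_⟩, ?_⟩
    · show X 0 * u ∈ V
      rw [← hv2u]; exact hv2
    · show X 1 * u ∈ V
      rw [← hu]; exact hv1
    · show X 0 * (X 1 * u) = w
      rw [← hu, h1]

lemma S1_Vp_le (V : Submodule K P2) : S1 (Vp V) ≤ V := by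
  rw [S1_le_iff]
  intro i u hu
  fin_cases i
  · exact hu.1
  · exact hu.2

/-- **Two-variable growth lemma.** -/
theorem two_var (t : ℕ) (V : Submodule K P2) (hV : V ≤ homogeneousSubmodule (Fin 2) K t)
    (hne : V ≠ ⊥) :
    Module.finrank K V + 1 ≤ Module.finrank K (S1 V : Submodule K P2) := by
  induction t generalizing V with
  | zero =>
    have := finite_of_le hV
    -- here `Vp V = ⊥`
    have hVp : Vp V = ⊥ := by
      rw [eq_bot_iff]
      intro u hu
      have h0 : (X 0 * u : P2).IsHomogeneous 0 := hV hu.1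
      simpa using eq_zero_of_X_mul_isHomogeneous_zero 0 u h0
    have hinf : V.map (mulX 0) ⊓ V.map (mulX 1) = ⊥ := by
      rw [eq_bot_iff]
      refine (inf_le_map_Vp V).trans ?_
      rw [hVp, Submodule.map_bot]
    have h1 := Submodule.finrank_sup_add_finrank_inf_eq (V.map (mulX 0)) (V.map (mulX 1))
    rw [hinf, finrank_bot, add_zero, ← S1_two] at h1
    have e0 : Module.finrank K (V.map (mulX 0)) = Module.finrank K V :=
      (Submodule.equivMapOfInjective _ (mulX_injective 0) V).finrank_eq.symm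
    have e1 : Module.finrank K (V.map (mulX 1)) = Module.finrank K V :=
      (Submodule.equivMapOfInjective _ (mulX_injective 1) V).finrank_eq.symm
    have hpos : 0 < Module.finrank K V := by
      rw [Module.finrank_pos_iff_exists_ne_zero]
      obtain ⟨v, hv, hv0⟩ := (Submodule.ne_bot_iff V).mp hne
      exact ⟨⟨v, hv⟩, fun h => hv0 (congrArg Subtype.val h)⟩
    omega
  | succ s ih =>
    have := finite_of_le hV
    have hVp_le : Vp V ≤ homogeneousSubmodule (Fin 2) K s := by
      intro u hu
      exact isHomogeneous_of_X_mul 0 u s (hV hu.1)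
    have := finite_of_le hVp_le
    have h1 := Submodule.finrank_sup_add_finrank_inf_eq (V.map (mulX 0)) (V.map (mulX 1))
    rw [← S1_two] at h1
    have e0 : Module.finrank K (V.map (mulX 0)) = Module.finrank K V :=
      (Submodule.equivMapOfInjective _ (mulX_injective 0) V).finrank_eq.symm
    have e1 : Module.finrank K (V.map (mulX 1)) = Module.finrank K V :=
      (Submodule.equivMapOfInjective _ (mulX_injective 1) V).finrank_eq.symm
    have h2 : Module.finrank K (V.map (mulX 0) ⊓ V.map (mulX 1) : Submodule K P2)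
        ≤ Module.finrank K (Vp V) :=
      (Submodule.finrank_mono (inf_le_map_Vp V)).trans (Submodule.finrank_map_le _ _)
    have hpos : 0 < Module.finrank K V := by
      rw [Module.finrank_pos_iff_exists_ne_zero]
      obtain ⟨v, hv, hv0⟩ := (Submodule.ne_bot_iff V).mp hne
      exact ⟨⟨v, hv⟩, fun h => hv0 (congrArg Subtype.val h)⟩
    have h3 : Module.finrank K (Vp V) + 1 ≤ Module.finrank K V := by
      by_cases hb : Vp V = ⊥
      · rw [hb, finrank_bot]; omega
      · exact (ih (Vp V) hVp_le hb).trans (Submodule.finrank_mono (S1_Vp_le V))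
    omega

end TwoVar

end Groth.Agent.H59.Dub
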