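import Mathlib
import Groth.Agent.H9.ExtBaseChange
import Groth.Agent.H89.DualBC

/-!
# Base change of `Ext¹(Ω, R)` for a module with a two-term finite projective resolution

If `0 → N → F → Ω → 0` is exact over `R` with `N`, `F` finite projective, `S` is an `R`-algebra such
that `S ⊗ N → S ⊗ F` is still injective, and `Ω'` is an `S`-module isomorphic to `S ⊗ Ω`, then
`S ⊗_R Ext¹_R(Ω, R) ≃ Ext¹_S(Ω', S)`.
-/

set_option autoImplicit false
universe u

namespace Groth.Agent.H59.ExtOneBC

open CategoryTheory CategoryTheory.Abelian TensorProduct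

section Coker

variable {R : Type u} [CommRing R]
  {N F Ω : Type u} [AddCommGroup N] [Module R N] [AddCommGroup F] [Module R F]
  [AddCommGroup Ω] [Module R Ω] (i : N →ₗ[R] F) (π : F →ₗ[R] Ω)

/-- `Ext¹(Ω, R)` is the cokernel of the dual of `N → F` when `F` is projective. -/
theorem exists_delta (hi : Function.Injective i) (hex : Function.Exact i π)
    (hπ : Function.Surjective π) [Module.Projective R F] :
    ∃ δ : Module.Dual R N →ₗ[R] Ext.{u} (ModuleCat.of R Ω) (ModuleCat.of R R) 1,
      Function.Exact i.dualMap δ ∧ Function.Surjective δ := by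
  let S : ShortComplex (ModuleCat.{u} R) :=
    ShortComplex.mk (ModuleCat.ofHom i) (ModuleCat.ofHom π) (by
      ext x
      exact hex.apply_apply_eq_zero x)
  have hS : S.ShortExact := by
    refine ShortComplex.ShortExact.mk' ?_ ?_ ?_
    · rw [ShortComplex.ShortExact.moduleCat_exact_iff_function_exact]
      exact hex
    · exact (ModuleCat.mono_iff_injective _).mpr hi
    · exact (ModuleCat.epi_iff_surjective _).mpr hπ
  have : Projective S.X₂ := by
    show Projective (ModuleCat.of R F)
    exact (IsProjective.iff_projective _).mp inferInstance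
  let Y : ModuleCat.{u} R := ModuleCat.of R R
  let eN := Groth.Agent.H9.ExtBaseChange.e₀ (ModuleCat.of R N) Y
  let eF := Groth.Agent.H9.ExtBaseChange.e₀ (ModuleCat.of R F) Y
  refine ⟨(Groth.Agent.H9.ExtBaseChange.delta hS Y 0) ∘ₗ eN.symm.toLinearMap, ?_, ?_⟩
  · have hex2 := Groth.Agent.H9.ExtBaseChange.exact_pre₀_delta hS Y
    have hcomm : ∀ φ : Module.Dual R F,
        eN.symm (i.dualMap φ) = Groth.Agent.H9.ExtBaseChange.pre₀ Y S.f (eF.symm φ) := by
      intro φ
      rw [Groth.Agent.H9.ExtBaseChange.e₀_symm_apply, Groth.Agent.H9.ExtBaseChange.e₀_symm_apply,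
        Groth.Agent.H9.ExtBaseChange.pre₀_mk₀]
      rfl
    intro ψ
    constructor
    · intro h
      obtain ⟨x, hx⟩ := (hex2 (eN.symm ψ)).mp h
      refine ⟨eF x, ?_⟩
      apply eN.symm.injective
      rw [hcomm, LinearEquiv.symm_apply_apply, hx]
    · rintro ⟨φ, rfl⟩
      show Groth.Agent.H9.ExtBaseChange.delta hS Y 0 (eN.symm (i.dualMap φ)) = 0
      rw [hcomm]
      exact (hex2 _).mpr ⟨_, rfl⟩
  · exact (Groth.Agent.H9.ExtBaseChange.delta_surjective hS Y 0).comp eN.symm.surjective

end Coker

section Main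

variable {R : Type u} [CommRing R] (S : Type u) [CommRing S] [Algebra R S]
  {N F Ω : Type u} [AddCommGroup N] [Module R N] [AddCommGroup F] [Module R F]
  [AddCommGroup Ω] [Module R Ω] (i : N →ₗ[R] F) (π : F →ₗ[R] Ω)

/-- Base change of `Ext¹(Ω, R)` along `R → S` for a module with a two-term finite projective
resolution which stays exact after base change. -/
theorem nonempty_equiv (hi : Function.Injective i) (hex : Function.Exact i π)
    (hπ : Function.Surjective π) [Module.Finite R N] [Module.Projective R N]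
    [Module.Finite R F] [Module.Projective R F]
    (hinj : Function.Injective (i.baseChange S))
    (Ω' : Type u) [AddCommGroup Ω'] [Module S Ω'] (e : S ⊗[R] Ω ≃ₗ[S] Ω') :
    Nonempty (S ⊗[R] Ext.{u} (ModuleCat.of R Ω) (ModuleCat.of R R) 1 ≃ₗ[S]
      Ext.{u} (ModuleCat.of S Ω') (ModuleCat.of S S) 1) := by
  obtain ⟨δ, hδ, hδs⟩ := exists_delta i π hi hex hπ
  have hex' : Function.Exact (i.baseChange S) (e.toLinearMap ∘ₗ π.baseChange S) := by
    have h1 : Function.Exact (i.baseChange S) (π.baseChange S) := by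
      have := lTensor_exact S hex hπ
      exact this
    intro y
    rw [← h1 y]
    simp
  have hπ' : Function.Surjective (e.toLinearMap ∘ₗ π.baseChange S) := by
    have h1 : Function.Surjective (π.baseChange S) := LinearMap.lTensor_surjective S hπ
    exact e.surjective.comp h1
  obtain ⟨δ', hδ', hδs'⟩ := exists_delta (i.baseChange S) (e.toLinearMap ∘ₗ π.baseChange S)
    hinj hex' hπ'
  have hex1 : Function.Exact (i.dualMap.baseChange S) (δ.baseChange S) :=
    lTensor_exact S hδ hδs
  have hs1 : Function.Surjective (δ.baseChange S) := LinearMap.lTensor_surjective S hδs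
  let e₁ : S ⊗[R] Module.Dual R F ≃ₗ[S] Module.Dual S (S ⊗[R] F) :=
    LinearEquiv.ofBijective _ (Groth.Agent.H89.DualBC.cDual_bijective R S F)
  let e₂ : S ⊗[R] Module.Dual R N ≃ₗ[S] Module.Dual S (S ⊗[R] N) :=
    LinearEquiv.ofBijective _ (Groth.Agent.H89.DualBC.cDual_bijective R S N)
  exact Groth.Agent.H9.ExtBaseChange.nonempty_coker_equiv (i.dualMap.baseChange S)
    (δ.baseChange S) (i.baseChange S).dualMap δ' hex1 hs1 hδ' hδs' e₁ e₂
    (fun x => Groth.Agent.H89.DualBC.cDual_natural R S i x)

end Main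

end Groth.Agent.H59.ExtOneBC
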