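import Mathlib
import Groth.Agent.H66.ExtPowRank
import Groth.Agent.H74.ExtKer
import Groth.Agent.H74.DeRhamPoly
import Groth.Agent.H74.DeRhamBC

/-!
# Annihilator of the top exterior power of a quotient of a projective module by one element

For `E` finite projective of constant rank `n` over `R`, `v ∈ E` and `π : E → Q` surjective with
kernel `R v`: `Ann (⋀^n Q) = {ψ v | ψ ∈ E^*}` (`annihilator_extPow_eq`).
Also `extPow_eq_bot_of_rank_lt`: `⋀^k E = 0` for `k > n`.
-/

set_option autoImplicit false
universe u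

namespace Groth.Agent.H59.ExtPowAnn

open TensorProduct ExteriorAlgebra

variable {R : Type u} [CommRing R] {E Q : Type u} [AddCommGroup E] [Module R E]
  [AddCommGroup Q] [Module R Q]

/-- the ideal of values `ψ v`, `ψ` a linear form -/
def evalIdeal (v : E) : Ideal R := LinearMap.range (Module.Dual.eval R E v)

lemma mem_evalIdeal {v : E} {r : R} : r ∈ evalIdeal v ↔ ∃ ψ : Module.Dual R E, ψ v = r := by
  rw [evalIdeal, LinearMap.mem_range]
  rfl

/-- exterior powers above the rank of a finite projective module vanish -/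
theorem extPow_eq_bot_of_rank_lt [Module.Finite R E] [Module.Projective R E] (n : ℕ)
    (hrank : ∀ p : PrimeSpectrum R, Module.rankAtStalk E p = n) (k : ℕ) (hk : n < k) :
    ⋀[R]^k E = ⊥ := by
  have hproj := Groth.Agent.H66.ExtPowRank.projective_extPow (R := R) (M := E) k
  have h0 : Module.rankAtStalk (R := R) (⋀[R]^k E) = 0 := by
    ext p
    rw [Groth.Agent.H66.ExtPowRank.rankAtStalk_extPow, hrank p, Nat.choose_eq_zero_of_lt hk]
    rfl
  have hsub : Subsingleton (⋀[R]^k E) := Module.rankAtStalk_eq_zero_iff_subsingleton.1 h0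
  rw [Submodule.eq_bot_iff]
  intro x hx
  have := Subsingleton.elim (⟨x, hx⟩ : ⋀[R]^k E) 0
  exact congrArg Subtype.val this

theorem evalIdeal_le_annihilator [Module.Finite R E] [Module.Projective R E] (n : ℕ)
    (hrank : ∀ p : PrimeSpectrum R, Module.rankAtStalk E p = n) (π : E →ₗ[R] Q)
    (hπ : Function.Surjective π) (v : E) (hv : π v = 0) :
    evalIdeal v ≤ (⋀[R]^n Q).annihilator := by
  intro a ha
  obtain ⟨ψ, rfl⟩ := mem_evalIdeal.1 ha
  rw [Submodule.mem_annihilator]
  intro ω hω
  rw [← ExteriorAlgebra.ιMulti_span_fixedDegree] at hω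
  induction hω using Submodule.span_induction with
  | zero => rw [smul_zero]
  | add x y _ _ hx hy => rw [smul_add, hx, hy, add_zero]
  | smul c x _ hx => rw [smul_comm, hx, smul_zero]
  | mem x hx =>
    obtain ⟨q, rfl⟩ := hx
    choose w hw using fun i => hπ (q i)
    have hq : q = fun i => π (w i) := funext fun i => (hw i).symm
    set ω' := ExteriorAlgebra.ιMulti R n w with hω'
    have h1 : ExteriorAlgebra.ιMulti R n q = ExteriorAlgebra.map π ω' := by
      rw [hq, hω', ExteriorAlgebra.map_apply_ιMulti]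
      rfl
    have hmem : ω' ∈ ⋀[R]^n E := by
      rw [← ExteriorAlgebra.ιMulti_span_fixedDegree]
      exact Submodule.subset_span ⟨w, rfl⟩
    have h2 : ExteriorAlgebra.ι R v * ω' = 0 := by
      have : ExteriorAlgebra.ι R v * ω' ∈ ⋀[R]^(1 + n) E :=
        Groth.Agent.H74.DeRhamPoly.mul_mem_pow_add (Groth.Agent.H74.DeRhamPoly.mem_pow_one_ι v) hmem
      rw [extPow_eq_bot_of_rank_lt n hrank (1 + n) (by omega)] at this
      exact (Submodule.mem_bot R).1 this
    have h3 := CliffordAlgebra.contractLeft_ι_mul (Q := (0 : QuadraticForm R E)) ψ v ω'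
    have h2' : CliffordAlgebra.ι (0 : QuadraticForm R E) v * ω' = 0 := h2
    rw [h2', map_zero] at h3
    have h4 : (ψ v) • ω' = ExteriorAlgebra.ι R v * (CliffordAlgebra.contractLeft ψ ω') := by
      have := sub_eq_zero.1 h3.symm
      exact this
    rw [h1, ← map_smul, h4, map_mul, ExteriorAlgebra.map_apply_ι, hv, map_zero, zero_mul]

/-- `v` lies in `evalIdeal v • E` for `E` finite projective, in tensor form -/
theorem tmul_eq_zero_of_projective [Module.Finite R E] [Module.Projective R E] (v : E)
    (I : Ideal R) (hI : evalIdeal v ≤ I) (t : R ⧸ I) : t ⊗ₜ[R] v = 0 := by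
  obtain ⟨m, p, hp⟩ := Module.Finite.exists_fin' R E
  obtain ⟨i, hi⟩ := Module.projective_lifting_property p LinearMap.id hp
  have hv : v = ∑ j : Fin m, (i v j) • p (Pi.single j 1) := by
    have h1 : p (i v) = v := LinearMap.congr_fun hi v
    conv_lhs => rw [← h1, ← Finset.univ_sum_single (i v)]
    rw [map_sum]
    refine Finset.sum_congr rfl fun j _ => ?_
    rw [← map_smul]
    congr 1
    ext k
    simp [Pi.single_apply]
  rw [hv, TensorProduct.tmul_sum]
  refine Finset.sum_eq_zero fun j _ => ?_
  have hmem : i v j ∈ I :=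
    hI (mem_evalIdeal.2 ⟨(LinearMap.proj j : (Fin m → R) →ₗ[R] R) ∘ₗ i, rfl⟩)
  have h0 : (i v j) • t = 0 := by
    obtain ⟨r, rfl⟩ := Ideal.Quotient.mk_surjective t
    rw [Algebra.smul_def, Ideal.Quotient.algebraMap_eq, ← map_mul, Ideal.Quotient.eq_zero_iff_mem]
    exact Ideal.mul_mem_right _ _ hmem
  rw [TensorProduct.tmul_smul, TensorProduct.smul_tmul', h0, TensorProduct.zero_tmul]

theorem annihilator_le_evalIdeal [Module.Finite R E] [Module.Projective R E] (n : ℕ)
    (hrank : ∀ p : PrimeSpectrum R, Module.rankAtStalk E p = n) (π : E →ₗ[R] Q)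
    (hπ : Function.Surjective π) (v : E) (hker : LinearMap.ker π ≤ Submodule.span R {v}) :
    (⋀[R]^n Q).annihilator ≤ evalIdeal v := by
  intro a ha
  let T := R ⧸ evalIdeal v
  -- `T ⊗ π` is bijective
  have hinj : Function.Injective (LinearMap.baseChange T π) := by
    rw [injective_iff_map_eq_zero]
    intro x hx
    have hex : Function.Exact (LinearMap.ker π).subtype π := LinearMap.exact_subtype_ker_map π
    have hex' := lTensor_exact T hex hπ
    have hx' : LinearMap.lTensor T π x = 0 := hx
    obtain ⟨y, rfl⟩ := (hex' x).1 hx'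
    induction y with
    | zero => rw [map_zero]
    | add y z hy hz =>
      rw [map_add] at hx' ⊢
      rw [hy, hz, add_zero]
      · rw [LinearMap.baseChange_eq_ltensor]
        exact (hex' _).2 ⟨z, rfl⟩
      · exact (hex' _).2 ⟨z, rfl⟩
      · rw [LinearMap.baseChange_eq_ltensor]
        exact (hex' _).2 ⟨y, rfl⟩
      · exact (hex' _).2 ⟨y, rfl⟩
    | tmul t k =>
      obtain ⟨c, hc⟩ := Submodule.mem_span_singleton.1 (hker k.2)
      rw [LinearMap.lTensor_tmul, Submodule.subtype_apply, ← hc, TensorProduct.tmul_smul,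
        tmul_eq_zero_of_projective v _ le_rfl, smul_zero]
  have hsurj : Function.Surjective (LinearMap.baseChange T π) := by
    rw [LinearMap.baseChange_eq_ltensor]
    exact LinearMap.lTensor_surjective T hπ
  let eT : T ⊗[R] E ≃ₗ[T] T ⊗[R] Q := LinearEquiv.ofBijective (LinearMap.baseChange T π) ⟨hinj, hsurj⟩
  have hrankT : ∀ p : PrimeSpectrum T, Module.rankAtStalk (T ⊗[R] E) p = n := fun p => by
    rw [Module.rankAtStalk_baseChange, hrank]
  have hinv : Module.Invertible T (⋀[T]^n (T ⊗[R] E)) :=
    Groth.Agent.H66.ExtPowRank.invertible_extPow n hrankT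
  let Φ : T ⊗[R] (⋀[R]^n Q) →ₗ[T] ⋀[T]^n (T ⊗[R] E) :=
    (exteriorPower.map n eT.symm.toLinearMap) ∘ₗ
      (Groth.Agent.H66.ExtPowRank.powBCEquiv (R := R) (M := Q) T n).toLinearMap
  have hΦ : Function.Surjective Φ :=
    (Groth.Agent.H74.DeRhamBC.map_equiv_bijective T n eT.symm).2.comp
      (Groth.Agent.H66.ExtPowRank.powBCEquiv (R := R) (M := Q) T n).surjective
  have hkill : ∀ z : T ⊗[R] (⋀[R]^n Q), (Ideal.Quotient.mk (evalIdeal v) a) • z = 0 := by
    intro z
    induction z with
    | zero => rw [smul_zero]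
    | add y z hy hz => rw [smul_add, hy, hz, add_zero]
    | tmul t ω =>
      have h1 : a • ω = 0 := Module.mem_annihilator.1 ha ω
      rw [TensorProduct.smul_tmul', smul_eq_mul, ← Ideal.Quotient.algebraMap_eq,
        ← Algebra.smul_def, TensorProduct.smul_tmul, h1, TensorProduct.tmul_zero]
  have hzero : Ideal.Quotient.mk (evalIdeal v) a = 0 := by
    apply FaithfulSMul.eq_of_smul_eq_smul (α := ⋀[T]^n (T ⊗[R] E))
    intro x
    obtain ⟨z, rfl⟩ := hΦ x
    rw [← map_smul, hkill, map_zero, zero_smul]
  exact Ideal.Quotient.eq_zero_iff_mem.1 hzero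

/-- **Annihilator of the top exterior power of a quotient by one element**: for `E` finite
projective of constant rank `n` and `Q = E/Rv`, `Ann ⋀^n Q = {ψ v}`. -/
theorem annihilator_extPow_eq [Module.Finite R E] [Module.Projective R E] (n : ℕ)
    (hrank : ∀ p : PrimeSpectrum R, Module.rankAtStalk E p = n) (π : E →ₗ[R] Q)
    (hπ : Function.Surjective π) (v : E) (hker : LinearMap.ker π = Submodule.span R {v}) :
    (⋀[R]^n Q).annihilator = evalIdeal v := by
  apply le_antisymm
  · exact annihilator_le_evalIdeal n hrank π hπ v hker.le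
  · refine evalIdeal_le_annihilator n hrank π hπ v ?_
    have : v ∈ LinearMap.ker π := by
      rw [hker]
      exact Submodule.mem_span_singleton_self v
    exact this

end Groth.Agent.H59.ExtPowAnn
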