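import Mathlib
import Groth.Prelude.Def_DRing2
import Groth.Agent.H18.TorBalance
import Groth.Agent.H12.Tor1Ker
import Groth.Agent.H35.RegSeqPerfect

/-!
# Vanishing of `Tor` in the second variable along regular sequences

* `isZero_tor_X₃`: the long exact sequence argument for `Tor_p(M, -)`.
* `isZero_tor_quot_of_isWeaklyRegular`: if `Tor_p(M, N) = 0` for `p > n` and `rs` is a weakly
  `N`-regular sequence, then `Tor_p(M, N/(rs)N) = 0` for `p > n + length rs`.
* `nonempty_tor_symm`: symmetry of `Tor`.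
-/

set_option autoImplicit false
universe u

namespace Groth.Agent.H59.TorRegSeq

open CategoryTheory CategoryTheory.Limits Groth.Agent.H18 RingTheory.Sequence

variable {A : Type u} [CommRing A]

/-- symmetry of `Tor` -/
theorem nonempty_tor_symm (M N : ModuleCat.{u} A) (n : ℕ) :
    Nonempty (((Tor (ModuleCat.{u} A) n).obj M).obj N ≅ ((Tor (ModuleCat.{u} A) n).obj N).obj M) := by
  let Q := projectiveResolution M
  obtain ⟨e1⟩ := tor_iso_homology_tensCx M Q n N
  obtain ⟨e2⟩ := Groth.Agent.H12.Tor1Ker.tor_iso_tensCx_swap N M Q n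
  exact ⟨e1 ≪≫ e2.symm⟩

/-- the long exact sequence argument for `Tor_p(M, -)` -/
theorem isZero_tor_X₃ (M : ModuleCat.{u} A) {S : ShortComplex (ModuleCat.{u} A)}
    (hS : S.ShortExact) (p : ℕ)
    (h2 : IsZero (((Tor (ModuleCat.{u} A) (p + 1)).obj M).obj S.X₂))
    (h1 : IsZero (((Tor (ModuleCat.{u} A) p).obj M).obj S.X₁)) :
    IsZero (((Tor (ModuleCat.{u} A) (p + 1)).obj M).obj S.X₃) := by
  let Q := projectiveResolution M
  obtain ⟨e1⟩ := tor_iso_homology_tensCx M Q p S.X₁
  obtain ⟨e2⟩ := tor_iso_homology_tensCx M Q (p + 1) S.X₂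
  obtain ⟨e3⟩ := tor_iso_homology_tensCx M Q (p + 1) S.X₃
  have h1' : IsZero ((tensCx Q S.X₁).homology p) := h1.of_iso e1.symm
  have h2' : IsZero ((tensCx Q S.X₂).homology (p + 1)) := h2.of_iso e2.symm
  refine IsZero.of_iso ?_ e3
  have hΦ := tensSC_shortExact Q hS
  have hex := hΦ.homology_exact₃ (p + 1) p (by simp)
  exact hex.isZero_of_both_zeros (h2'.eq_of_src _ _) (h1'.eq_of_tgt _ _)

/-- one step: modding out by a regular element -/
theorem isZero_tor_quotSMulTop (M : Type u) [AddCommGroup M] [Module A M]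
    (N : Type u) [AddCommGroup N] [Module A N] (r : A) (hr : IsSMulRegular N r) (n : ℕ)
    (h : ∀ p : ℕ, n < p → IsZero (((Tor (ModuleCat.{u} A) p).obj (ModuleCat.of A M)).obj
      (ModuleCat.of A N))) (p : ℕ) (hp : n + 1 < p) :
    IsZero (((Tor (ModuleCat.{u} A) p).obj (ModuleCat.of A M)).obj
      (ModuleCat.of A (QuotSMulTop r N))) := by
  obtain ⟨q, rfl⟩ : ∃ q, p = q + 1 := ⟨p - 1, by omega⟩
  have hS := Groth.Agent.H35.RegSeqPerf.quotSMulTopSC_shortExact N r hr
  exact isZero_tor_X₃ (ModuleCat.of A M) hS q (h (q + 1) (by omega)) (h q (by omega))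

/-- If `Tor_p(M, N) = 0` for `p > n` and `rs` is weakly `N`-regular, then
`Tor_p(M, N/(rs)N) = 0` for `p > n + length rs`. -/
theorem isZero_tor_quot_of_isWeaklyRegular (M : Type u) [AddCommGroup M] [Module A M]
    {N : Type u} [AddCommGroup N] [Module A N] {rs : List A} (hrs : IsWeaklyRegular N rs) :
    ∀ (n : ℕ), (∀ p : ℕ, n < p → IsZero (((Tor (ModuleCat.{u} A) p).obj (ModuleCat.of A M)).obj
      (ModuleCat.of A N))) → ∀ p : ℕ, n + rs.length < p →
      IsZero (((Tor (ModuleCat.{u} A) p).obj (ModuleCat.of A M)).obj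
        (ModuleCat.of A (N ⧸ (Ideal.ofList rs • ⊤ : Submodule A N)))) := by
  induction hrs with
  | nil N =>
    intro n h p hp
    have h0 : (Ideal.ofList ([] : List A) • ⊤ : Submodule A N) = ⊥ := by
      rw [Ideal.ofList_nil, Submodule.bot_smul]
    refine IsZero.of_iso (h p (by simpa using hp)) ?_
    exact ((Tor (ModuleCat.{u} A) p).obj (ModuleCat.of A M)).mapIso
      (Submodule.quotEquivOfEqBot _ h0).toModuleIso
  | cons r rs h1 h2 ih =>
    intro n h p hp
    have hstep := isZero_tor_quotSMulTop M _ r h1 n h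
    have := ih (n + 1) hstep p (by simp only [List.length_cons] at hp; omega)
    refine IsZero.of_iso this ?_
    exact ((Tor (ModuleCat.{u} A) p).obj (ModuleCat.of A M)).mapIso
      (Submodule.quotOfListConsSMulTopEquivQuotSMulTopInner _ r rs).toModuleIso

end Groth.Agent.H59.TorRegSeq
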