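import Mathlib
import Groth.Prelude.Def_DRing2
import Groth.Prelude.Def_CInt
import Groth.Agent.H59.TorRegSeq
import Groth.Agent.H9.TorChangeRing
import Groth.Agent.H72.DepthFlat
import Groth.Agent.H94.RegIdealRLR
import Groth.Agent.H29.TorPd

/-!
# Finite flat dimension over the base gives finite projective dimension over a flat local algebra
with regular closed fibre

Let `R → S` be a flat local homomorphism of Noetherian local rings whose closed fibre `S/𝔪_R S` is a
regular local ring, and `M` a finite `S`-module with `Tor_p^R(M, k) = 0` for `p > n`.  Then `M` has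
finite projective dimension over `S`.
-/

set_option autoImplicit false
set_option linter.style.haveILetI false
set_option linter.unusedSectionVars false
universe u

namespace Groth.Agent.H59.FlatRegFibrePd

open CategoryTheory CategoryTheory.Limits IsLocalRing TensorProduct RingTheory.Sequence

variable {R S : Type u} [CommRing R] [CommRing S] [IsNoetherianRing R] [IsNoetherianRing S]
  [IsLocalRing R] [IsLocalRing S] [Algebra R S] [IsLocalHom (algebraMap R S)] [Module.Flat R S]

omit [IsNoetherianRing R] [IsLocalHom (algebraMap R S)] in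
set_option backward.isDefEq.respectTransparency false in
theorem exists_hasProjectiveDimensionLT
    [IsRegularLocalRing (S ⧸ (maximalIdeal R).map (algebraMap R S))]
    (M : Type u) [AddCommGroup M] [Module S M] [Module R M] [IsScalarTower R S M]
    [Module.Finite S M] (n : ℕ)
    (h : ∀ p : ℕ, n < p → Subsingleton (DRing.Tor R p M (R ⧸ maximalIdeal R))) :
    ∃ m : ℕ, HasProjectiveDimensionLT (ModuleCat.of S M) m := by
  set 𝔫 : Ideal S := (maximalIdeal R).map (algebraMap R S) with h𝔫
  -- Step 1: `Tor^S_p(M, S ⊗ k) = 0` for `p > n`.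
  have h1 : ∀ p : ℕ, n < p → IsZero (((Tor (ModuleCat.{u} S) p).obj (ModuleCat.of S M)).obj
      (ModuleCat.of S (S ⊗[R] (R ⧸ maximalIdeal R)))) := by
    intro p hp
    obtain ⟨φ, hφ⟩ := Groth.Agent.H9.TorChangeRing.semiIso_tor (A := R) (A' := S) M p
      (ModuleCat.of R (R ⧸ maximalIdeal R))
      (fun q => Groth.Agent.H18.isZero_tor_succ_of_flat_left _ _ q)
    haveI := h p hp
    have hsub : Subsingleton (((Tor (ModuleCat.{u} S) p).obj (ModuleCat.of S M)).obj
        (Groth.Agent.H9.TorChangeRing.bc (A' := S) (ModuleCat.of R (R ⧸ maximalIdeal R)))) := by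
      refine ⟨fun a b => ?_⟩
      obtain ⟨a', rfl⟩ := hφ.2 a
      obtain ⟨b', rfl⟩ := hφ.2 b
      rw [Subsingleton.elim a' b']
    exact ModuleCat.isZero_of_subsingleton _
  -- Step 2: the closed fibre as an `S`-module.
  let Fb := S ⧸ 𝔫
  have htop : (𝔫 • (⊤ : Submodule S S)) = 𝔫 := by rw [smul_eq_mul, Ideal.mul_top]
  let e1 : (S ⧸ (𝔫 • (⊤ : Submodule S S))) ≃ₗ[S] S ⊗[R] (R ⧸ maximalIdeal R) :=
    Groth.Agent.H72.DepthFlat.quotEquivTensorQuot (S := S) S (maximalIdeal R)
  let e2 : Fb ≃ₗ[S] S ⊗[R] (R ⧸ maximalIdeal R) :=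
    (Submodule.quotEquivOfEq _ _ htop.symm).trans e1
  have h2 : ∀ p : ℕ, n < p → IsZero (((Tor (ModuleCat.{u} S) p).obj (ModuleCat.of S M)).obj
      (ModuleCat.of S Fb)) := by
    intro p hp
    exact IsZero.of_iso (h1 p hp)
      (((Tor (ModuleCat.{u} S) p).obj (ModuleCat.of S M)).mapIso e2.toModuleIso)
  -- Step 3: a regular sequence generating the maximal ideal of the fibre.
  obtain ⟨rs, hrs, hrsm⟩ := Groth.Agent.H94.RegIdealRLR.isRegularIdeal_maximalIdeal Fb
  obtain ⟨l, hl⟩ := (Ideal.Quotient.mk_surjective (I := 𝔫)).list_map rs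
  have hlreg : IsWeaklyRegular Fb l := by
    have h3 : IsWeaklyRegular Fb (l.map (algebraMap S Fb)) := by
      rw [Ideal.Quotient.algebraMap_eq, hl]
      exact hrs.toIsWeaklyRegular
    exact (isWeaklyRegular_map_algebraMap_iff Fb Fb l).mp h3
  have h4 := Groth.Agent.H59.TorRegSeq.isZero_tor_quot_of_isWeaklyRegular M hlreg n h2
  -- Step 4: the quotient is the residue field of `S`.
  let π : S →ₗ[S] Fb ⧸ (Ideal.ofList l • ⊤ : Submodule S Fb) :=
    (Submodule.mkQ _) ∘ₗ (Submodule.mkQ 𝔫)
  have hπ : Function.Surjective π :=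
    (Submodule.mkQ_surjective _).comp (Submodule.mkQ_surjective _)
  have hker : LinearMap.ker π = maximalIdeal S := by
    have hmem : ∀ s : S, s ∈ LinearMap.ker π ↔ Ideal.Quotient.mk 𝔫 s ∈ maximalIdeal Fb := by
      intro s
      rw [LinearMap.mem_ker]
      change Submodule.mkQ _ (Ideal.Quotient.mk 𝔫 s) = 0 ↔ _
      rw [Submodule.mkQ_apply, Submodule.Quotient.mk_eq_zero, ← hrsm, ← hl]
      have h5 : (Ideal.ofList l • ⊤ : Submodule S Fb) =
          ((Ideal.ofList (l.map (Ideal.Quotient.mk 𝔫)) : Ideal Fb)).restrictScalars S := by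
        rw [Ideal.smul_top_eq_map, Ideal.map_ofList, Ideal.Quotient.algebraMap_eq]
      rw [h5, Submodule.restrictScalars_mem]
    ext s
    rw [hmem]
    constructor
    · intro hs
      by_contra hs'
      have hu : IsUnit s := by
        rwa [mem_maximalIdeal, mem_nonunits_iff, not_not] at hs'
      exact (mem_maximalIdeal _).mp hs (hu.map _)
    · intro hs
      haveI : IsLocalHom (Ideal.Quotient.mk 𝔫) :=
        IsLocalHom.of_surjective _ Ideal.Quotient.mk_surjective
      rw [mem_maximalIdeal, mem_nonunits_iff]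
      intro hu
      exact (mem_maximalIdeal _).mp hs (isUnit_of_map_unit _ _ hu)
  let e3 : (Fb ⧸ (Ideal.ofList l • ⊤ : Submodule S Fb)) ≃ₗ[S] ResidueField S :=
    (π.quotKerEquivOfSurjective hπ).symm.trans (Submodule.quotEquivOfEq _ _ hker)
  -- Step 5: conclude.
  refine ⟨n + l.length + 1, ?_⟩
  apply Groth.Agent.H29.TorPd.hasProjectiveDimensionLT_of_isZero_tor
  obtain ⟨e4⟩ := Groth.Agent.H59.TorRegSeq.nonempty_tor_symm (ModuleCat.of S (ResidueField S))
    (ModuleCat.of S M) (n + l.length + 1)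
  refine IsZero.of_iso ?_ e4
  exact IsZero.of_iso (h4 (n + l.length + 1) (by omega))
    (((Tor (ModuleCat.{u} S) _).obj (ModuleCat.of S M)).mapIso e3.toModuleIso).symm

end Groth.Agent.H59.FlatRegFibrePd
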