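import Mathlib

set_option autoImplicit false
universe u

namespace Groth.Agent.H59.FM

variable {Λ : Type u} [AddCommGroup Λ]

/-- the integer combination `∑ a i • χ i` -/
def L {n : ℕ} (χ : Fin n → Λ) (a : Fin n → ℤ) : Λ := ∑ i, a i • χ i

lemma L_add {n : ℕ} (χ : Fin n → Λ) (a b : Fin n → ℤ) : L χ (a + b) = L χ a + L χ b := by
  simp [L, add_smul, Finset.sum_add_distrib]

lemma L_zsmul {n : ℕ} (χ : Fin n → Λ) (c : ℤ) (a : Fin n → ℤ) : L χ (c • a) = c • L χ a := by
  simp [L, Finset.smul_sum, mul_smul]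

lemma L_neg {n : ℕ} (χ : Fin n → Λ) (a : Fin n → ℤ) : L χ (-a) = - L χ a := by
  simp [L]

lemma L_sub {n : ℕ} (χ : Fin n → Λ) (a b : Fin n → ℤ) : L χ (a - b) = L χ a - L χ b := by
  rw [sub_eq_add_neg, L_add, L_neg, sub_eq_add_neg]

lemma L_succ {n : ℕ} (χ : Fin (n + 1) → Λ) (a : Fin (n + 1) → ℤ) :
    L χ a = a 0 • χ 0 + L (Fin.tail χ) (Fin.tail a) := by
  simp [L, Fin.sum_univ_succ, Fin.tail]

lemma exists_between_finsets (S T : Finset ℚ) (h : ∀ s ∈ S, ∀ t ∈ T, s < t) :
    ∃ x : ℚ, (∀ s ∈ S, s < x) ∧ (∀ t ∈ T, x < t) := by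
  by_cases hS : S.Nonempty
  · by_cases hT : T.Nonempty
    · have hlt : S.max' hS < T.min' hT := h _ (S.max'_mem hS) _ (T.min'_mem hT)
      obtain ⟨x, hx1, hx2⟩ := exists_between hlt
      exact ⟨x, fun s hs => lt_of_le_of_lt (S.le_max' s hs) hx1,
        fun t ht => lt_of_lt_of_le hx2 (T.min'_le t ht)⟩
    · rw [Finset.not_nonempty_iff_eq_empty] at hT
      subst hT
      exact ⟨S.max' hS + 1, fun s hs => lt_of_le_of_lt (S.le_max' s hs) (lt_add_one _), by simp⟩
  · rw [Finset.not_nonempty_iff_eq_empty] at hS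
    subst hS
    by_cases hT : T.Nonempty
    · exact ⟨T.min' hT - 1, by simp, fun t ht => lt_of_lt_of_le (sub_one_lt _) (T.min'_le t ht)⟩
    · rw [Finset.not_nonempty_iff_eq_empty] at hT
      subst hT
      exact ⟨0, by simp, by simp⟩

variable [LinearOrder Λ] [IsOrderedAddMonoid Λ]

/-- Fourier–Motzkin: a system of strict inequalities and equalities with integer coefficients that is
satisfied in some ordered abelian group is satisfied by rational numbers. -/
theorem core : ∀ (n : ℕ) (χ : Fin n → Λ) (P Z : Finset (Fin n → ℤ)),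
    (∀ a ∈ P, 0 < L χ a) → (∀ b ∈ Z, L χ b = 0) →
    ∃ r : Fin n → ℚ, (∀ a ∈ P, 0 < L r a) ∧ (∀ b ∈ Z, L r b = 0) := by
  intro n
  induction n with
  | zero =>
    intro χ P Z hP hZ
    refine ⟨fun _ => 0, ?_, ?_⟩
    · intro a ha
      have := hP a ha
      simp [L] at this
    · intro b _
      simp [L]
  | succ n ih =>
    intro χ P Z hP hZ
    classical
    by_cases hex : ∃ b ∈ Z, b 0 ≠ 0
    · -- Case A: use an equation to eliminate
      obtain ⟨b0, hb0Z, hb0⟩ := hex
      obtain ⟨b, hbL, hbpos⟩ : ∃ b : Fin (n + 1) → ℤ, L χ b = 0 ∧ 0 < b 0 := by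
        rcases lt_or_gt_of_ne hb0 with h | h
        · exact ⟨-b0, by rw [L_neg, hZ b0 hb0Z, neg_zero], by simpa using h⟩
        · exact ⟨b0, hZ b0 hb0Z, h⟩
      set β := b 0 with hβ
      let φ : (Fin (n + 1) → ℤ) → (Fin n → ℤ) := fun v => β • Fin.tail v - v 0 • Fin.tail b
      have hφ : ∀ v, L (Fin.tail χ) (φ v) = β • L χ v := by
        intro v
        simp only [φ]
        rw [L_sub, L_zsmul, L_zsmul, L_succ χ v]
        have hb' : L (Fin.tail χ) (Fin.tail b) = - (β • χ 0) := by
          have := L_succ χ b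
          rw [hbL] at this
          rw [eq_neg_iff_add_eq_zero, add_comm]
          exact this.symm
        rw [hb', smul_add, smul_neg, smul_smul, smul_smul, mul_comm]
        abel
      obtain ⟨r', hr'P, hr'Z⟩ := ih (Fin.tail χ) (P.image φ) (Z.image φ)
        (by
          intro a ha
          obtain ⟨v, hv, rfl⟩ := Finset.mem_image.mp ha
          rw [hφ]
          exact smul_pos hbpos (hP v hv))
        (by
          intro a ha
          obtain ⟨v, hv, rfl⟩ := Finset.mem_image.mp ha
          rw [hφ, hZ v hv, smul_zero])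
      set t : ℚ := -(L r' (Fin.tail b)) / β with ht
      have hβQ : (0 : ℚ) < (β : ℚ) := by exact_mod_cast hbpos
      have key : ∀ v : Fin (n + 1) → ℤ,
          (β : ℚ) * L (Fin.cons t r' : Fin (n + 1) → ℚ) v = L r' (φ v) := by
        intro v
        rw [L_succ]
        simp only [Fin.cons_zero, Fin.tail_cons, φ]
        rw [L_sub, L_zsmul, L_zsmul, ht]
        simp only [zsmul_eq_mul]
        field_simp
        ring
      refine ⟨Fin.cons t r', ?_, ?_⟩
      · intro a ha
        have h1 := hr'P (φ a) (Finset.mem_image_of_mem φ ha)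
        rw [← key] at h1
        exact (mul_pos_iff_of_pos_left hβQ).mp h1
      · intro a ha
        have h1 := hr'Z (φ a) (Finset.mem_image_of_mem φ ha)
        rw [← key] at h1
        rcases mul_eq_zero.mp h1 with h | h
        · exact absurd h hβQ.ne'
        · exact h
    · -- Case B: Fourier–Motzkin on the inequalities
      push Not at hex
      let P0 := P.filter (fun a => a 0 = 0)
      let Pp := P.filter (fun a => 0 < a 0)
      let Pm := P.filter (fun a => a 0 < 0)
      let ψ : (Fin (n + 1) → ℤ) × (Fin (n + 1) → ℤ) → (Fin n → ℤ) :=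
        fun ac => (-(ac.2 0)) • Fin.tail ac.1 + (ac.1 0) • Fin.tail ac.2
      have hψ : ∀ a c, L (Fin.tail χ) (ψ (a, c)) = (-(c 0)) • L χ a + (a 0) • L χ c := by
        intro a c
        simp only [ψ]
        rw [L_add, L_zsmul, L_zsmul, L_succ χ a, L_succ χ c]
        simp only [smul_add, smul_smul, neg_smul, neg_mul]
        rw [mul_comm (c 0) (a 0)]
        abel
      obtain ⟨r', hr'P, hr'Z⟩ := ih (Fin.tail χ)
        (P0.image Fin.tail ∪ (Pp ×ˢ Pm).image ψ) (Z.image Fin.tail)
        (by
          intro a ha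
          rcases Finset.mem_union.mp ha with ha | ha
          · obtain ⟨v, hv, rfl⟩ := Finset.mem_image.mp ha
            obtain ⟨hvP, hv0⟩ := Finset.mem_filter.mp hv
            have := hP v hvP
            rw [L_succ, hv0, zero_smul, zero_add] at this
            exact this
          · obtain ⟨⟨v, c⟩, hvc, rfl⟩ := Finset.mem_image.mp ha
            obtain ⟨hv, hc⟩ := Finset.mem_product.mp hvc
            obtain ⟨hvP, hv0⟩ := Finset.mem_filter.mp hv
            obtain ⟨hcP, hc0⟩ := Finset.mem_filter.mp hc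
            rw [hψ]
            exact add_pos (smul_pos (by simpa using hc0) (hP v hvP)) (smul_pos hv0 (hP c hcP)))
        (by
          intro a ha
          obtain ⟨v, hv, rfl⟩ := Finset.mem_image.mp ha
          have := hZ v hv
          rw [L_succ, hex v hv, zero_smul, zero_add] at this
          exact this)
      -- choose t
      let lo : (Fin (n + 1) → ℤ) → ℚ := fun a => -(L r' (Fin.tail a)) / (a 0 : ℚ)
      obtain ⟨t, ht1, ht2⟩ := exists_between_finsets (Pp.image lo) (Pm.image lo) (by
        intro s hs u hu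
        obtain ⟨a, ha, rfl⟩ := Finset.mem_image.mp hs
        obtain ⟨c, hc, rfl⟩ := Finset.mem_image.mp hu
        have h1 := hr'P (ψ (a, c)) (Finset.mem_union_right _
          (Finset.mem_image_of_mem ψ (Finset.mem_product.mpr ⟨ha, hc⟩)))
        simp only [ψ] at h1
        rw [L_add, L_zsmul, L_zsmul] at h1
        simp only [zsmul_eq_mul] at h1
        obtain ⟨_, ha0⟩ := Finset.mem_filter.mp ha
        obtain ⟨_, hc0⟩ := Finset.mem_filter.mp hc
        have ha0Q : (0 : ℚ) < (a 0 : ℚ) := by exact_mod_cast ha0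
        have hc0Q : ((c 0 : ℤ) : ℚ) < 0 := by exact_mod_cast hc0
        simp only [lo]
        have hc' : (0 : ℚ) < -((c 0 : ℤ) : ℚ) := by linarith
        rw [show -L r' (Fin.tail c) / ((c 0 : ℤ) : ℚ) = L r' (Fin.tail c) / (-((c 0 : ℤ) : ℚ)) by
          rw [neg_div, div_neg], div_lt_div_iff₀ ha0Q hc']
        push_cast at h1
        linarith)
      refine ⟨Fin.cons t r', ?_, ?_⟩
      · intro a ha
        rw [L_succ]
        simp only [Fin.cons_zero, Fin.tail_cons, zsmul_eq_mul]
        rcases lt_trichotomy (a 0) 0 with h | h | h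
        · have hm : a ∈ Pm := Finset.mem_filter.mpr ⟨ha, h⟩
          have := ht2 _ (Finset.mem_image_of_mem lo hm)
          simp only [lo] at this
          have hQ : ((a 0 : ℤ) : ℚ) < 0 := by exact_mod_cast h
          rw [lt_div_iff_of_neg hQ] at this
          linarith
        · have h0 : a ∈ P0 := Finset.mem_filter.mpr ⟨ha, h⟩
          have := hr'P _ (Finset.mem_union_left _ (Finset.mem_image_of_mem Fin.tail h0))
          rw [h]
          simpa using this
        · have hp : a ∈ Pp := Finset.mem_filter.mpr ⟨ha, h⟩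
          have := ht1 _ (Finset.mem_image_of_mem lo hp)
          simp only [lo] at this
          have hQ : (0 : ℚ) < ((a 0 : ℤ) : ℚ) := by exact_mod_cast h
          rw [div_lt_iff₀ hQ] at this
          linarith
      · intro b hb
        rw [L_succ]
        simp only [Fin.cons_zero, Fin.tail_cons, zsmul_eq_mul]
        rw [hex b hb, hr'Z _ (Finset.mem_image_of_mem Fin.tail hb)]
        simp

end Groth.Agent.H59.FM
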