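import Mathlib
import Groth.Agent.H59.GrStarQ
import Groth.Agent.H59.CMAt

/-!
# Gluing Cohen–Macaulay graded quotients at the irrelevant ideal
-/

set_option autoImplicit false
set_option linter.unusedSectionVars false

universe u v

namespace Groth.Agent.H59.GrGlueIrr

open Groth.Agent.H59.CMAt Groth.Agent.H59.GrStarQ

variable {K : Type u} [Field K] {A : Type v} [CommRing A] [Algebra K A] [IsNoetherianRing A]
  (𝒜 : ℕ → Submodule K A) [GradedAlgebra 𝒜]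
  (h0 : ∀ a ∈ 𝒜 0, ∃ c : K, algebraMap K A c = a)

local notation "Pirr" => HomogeneousIdeal.toIdeal (HomogeneousIdeal.irrelevant 𝒜)

include h0 in
/-- the local dimension of a graded quotient at the irrelevant ideal is its dimension. -/
theorem dimAt_irrelevant [hP : (Pirr).IsPrime] (H : Ideal A) (hH : H.IsHomogeneous 𝒜) (hne : H ≠ ⊤) :
    dimAt H Pirr = ringKrullDim (A ⧸ H) := by
  have hHP : H ≤ Pirr := le_irrelevant 𝒜 h0 H hH hne
  have hker : RingHom.ker (Ideal.Quotient.mk H) ≤ Pirr := by rw [Ideal.mk_ker]; exact hHP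
  have hQ : ((Pirr).map (Ideal.Quotient.mk H)).IsPrime :=
    Ideal.map_isPrime_of_surjective Ideal.Quotient.mk_surjective hker
  have hcomap : ((Pirr).map (Ideal.Quotient.mk H)).comap (Ideal.Quotient.mk H) = Pirr :=
    Ideal.comap_map_mk hHP
  obtain ⟨e⟩ := Groth.Agent.H81.LiaisonCM.nonempty_ringEquiv_localization_quotient A H Pirr
    ((Pirr).map (Ideal.Quotient.mk H)) hcomap
  unfold dimAt
  rw [← ringKrullDim_eq_of_ringEquiv e,
    IsLocalization.AtPrime.ringKrullDim_eq_height ((Pirr).map (Ideal.Quotient.mk H))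
      (Localization.AtPrime ((Pirr).map (Ideal.Quotient.mk H)))]
  exact height_irrelevant_map 𝒜 h0 H hH hne

theorem ne_top_of_dim {H : Ideal A} (d : ℕ) (h : ringKrullDim (A ⧸ H) = (d : WithBot ℕ∞)) :
    H ≠ ⊤ := by
  intro htop
  have hs : Subsingleton (A ⧸ H) := Ideal.Quotient.subsingleton_iff.mpr htop
  rw [ringKrullDim_eq_bot_of_subsingleton] at h
  exact absurd h.symm (by simp)

include h0 in
/-- gluing at the irrelevant ideal. -/
theorem glue (I J : Ideal A) (hI : I.IsHomogeneous 𝒜) (hJ : J.IsHomogeneous 𝒜) (e : ℕ) (he : 1 ≤ e)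
    (hIcm : LocCoh.IsCohenMacaulayRing (A ⧸ I)) (hJcm : LocCoh.IsCohenMacaulayRing (A ⧸ J))
    (hIJcm : LocCoh.IsCohenMacaulayRing (A ⧸ (I ⊔ J)))
    (hIdim : ringKrullDim (A ⧸ I) = (e : WithBot ℕ∞)) (hJdim : ringKrullDim (A ⧸ J) = (e : WithBot ℕ∞))
    (hIJdim : ringKrullDim (A ⧸ (I ⊔ J)) = ((e - 1 : ℕ) : WithBot ℕ∞))
    [hm : ((Pirr).map (Ideal.Quotient.mk (I ⊓ J))).IsPrime] :
    LocCoh.IsCohenMacaulayLocalRing (Localization.AtPrime ((Pirr).map (Ideal.Quotient.mk (I ⊓ J)))) ∧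
      ringKrullDim (Localization.AtPrime ((Pirr).map (Ideal.Quotient.mk (I ⊓ J))))
        = (e : WithBot ℕ∞) := by
  have hIne : I ≠ ⊤ := ne_top_of_dim e hIdim
  have hJne : J ≠ ⊤ := ne_top_of_dim e hJdim
  have hIJne : I ⊔ J ≠ ⊤ := ne_top_of_dim (e - 1) hIJdim
  have hIP : I ≤ Pirr := le_irrelevant 𝒜 h0 I hI hIne
  have hJP : J ≤ Pirr := le_irrelevant 𝒜 h0 J hJ hJne
  have hIJP : I ⊔ J ≤ Pirr := sup_le hIP hJP
  have hinfP : I ⊓ J ≤ Pirr := le_trans inf_le_left hIP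
  have hcomap : ((Pirr).map (Ideal.Quotient.mk (I ⊓ J))).comap (Ideal.Quotient.mk (I ⊓ J)) = Pirr :=
    Ideal.comap_map_mk hinfP
  have hP : (Pirr).IsPrime := by
    rw [← hcomap]
    exact Ideal.comap_isPrime _ _
  have hdI : dimAt I Pirr = (e : WithBot ℕ∞) := by rw [dimAt_irrelevant 𝒜 h0 I hI hIne, hIdim]
  have hdJ : dimAt J Pirr = (e : WithBot ℕ∞) := by rw [dimAt_irrelevant 𝒜 h0 J hJ hJne, hJdim]
  have hdIJ : dimAt (I ⊔ J) Pirr = ((e - 1 : ℕ) : WithBot ℕ∞) := by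
    rw [dimAt_irrelevant 𝒜 h0 (I ⊔ J) (hI.sup hJ) hIJne, hIJdim]
  have hcI : CMat I Pirr := cmAt_of_isCohenMacaulayRing I hIcm Pirr hIP
  have hcJ : CMat J Pirr := cmAt_of_isCohenMacaulayRing J hJcm Pirr hJP
  have hcIJ : CMat (I ⊔ J) Pirr := cmAt_of_isCohenMacaulayRing (I ⊔ J) hIJcm Pirr hIJP
  have hd2 : dimAt I Pirr = dimAt (I ⊔ J) Pirr + 1 := by
    rw [hdI, hdIJ]
    have : e - 1 + 1 = e := Nat.sub_add_cancel he
    exact_mod_cast this.symm
  have hg := glue_at I J Pirr hcI hcJ hcIJ (hdI.trans hdJ.symm) hd2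
  obtain ⟨e'⟩ := Groth.Agent.H81.LiaisonCM.nonempty_ringEquiv_localization_quotient A (I ⊓ J) Pirr
    ((Pirr).map (Ideal.Quotient.mk (I ⊓ J))) hcomap
  refine ⟨Groth.Agent.H49.isCohenMacaulayLocalRing_of_ringEquiv e'.symm hg.1, ?_⟩
  rw [ringKrullDim_eq_of_ringEquiv e']
  exact hg.2.trans hdI

end Groth.Agent.H59.GrGlueIrr
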