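import Mathlib
import Groth.Prelude.Def_SheafNL
import Groth.Agent.H59.H1Loc
import Groth.Agent.H18.QCohCriterion

set_option autoImplicit false
set_option linter.style.haveILetI false
universe u

open CategoryTheory CategoryTheory.Limits TensorProduct AlgebraicGeometry Opposite TopologicalSpace

namespace Groth.Agent.H59.H1QC

variable {X Y : Scheme.{u}} (f : X ⟶ Y)

section

variable (U : X.affineOpens) (V V' : Y.affineOpens) (e : (U : X.Opens) ≤ f ⁻¹ᵁ (V : Y.Opens))
  (r : Γ(X, (U : X.Opens)))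

/-- the basic open of `r` as an affine open. -/
noncomputable abbrev D : X.affineOpens := ⟨X.basicOpen r, U.2.basicOpen r⟩

theorem D_le : ((D U r : X.affineOpens) : X.Opens) ≤ (U : X.Opens) := X.basicOpen_le r

/-- restriction of `H^{-1}` to a basic open of the source (and an isomorphic base) is a localization:
surjectivity part and injectivity part. -/
theorem chartRes_basicOpen (e' : ((D U r : X.affineOpens) : X.Opens) ≤ f ⁻¹ᵁ (V' : Y.Opens))
    (hV : (V' : Y.Opens) ≤ (V : Y.Opens))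
    (hbij : Function.Bijective (Y.presheaf.map (homOfLE hV).op).hom) :
    (∀ y : NLCx.ChartH1 f (D U r) V' e', ∃ (n : ℕ) (x₀ : NLCx.ChartH1 f U V e),
      (X.presheaf.map (homOfLE (X.basicOpen_le r)).op r) ^ n • y =
        NLCx.chartRes e e' (D_le U r) hV x₀) ∧
    (∀ x₀ : NLCx.ChartH1 f U V e,
      NLCx.chartRes e e' (D_le U r) hV x₀ = 0 → ∃ n : ℕ, r ^ n • x₀ = 0) := by
  letI := (f.appLE (V : Y.Opens) (U : X.Opens) e).hom.toAlgebra
  letI := (f.appLE (V' : Y.Opens) ((D U r : X.affineOpens) : X.Opens) e').hom.toAlgebra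
  letI := (f.appLE (V : Y.Opens) ((D U r : X.affineOpens) : X.Opens) ((D_le U r).trans e)).hom.toAlgebra
  letI := (X.presheaf.map (homOfLE (D_le U r)).op).hom.toAlgebra
  letI := (Y.presheaf.map (homOfLE hV).op).hom.toAlgebra
  haveI : IsScalarTower Γ(Y, (V : Y.Opens)) Γ(Y, (V' : Y.Opens))
      Γ(X, ((D U r : X.affineOpens) : X.Opens)) :=
    IsScalarTower.of_algebraMap_eq' (by
      change (f.appLE _ _ _).hom = (f.appLE _ _ _).hom.comp (Y.presheaf.map _).hom
      rw [← CommRingCat.hom_comp, Scheme.Hom.map_appLE])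
  haveI : IsScalarTower Γ(Y, (V : Y.Opens)) Γ(X, (U : X.Opens))
      Γ(X, ((D U r : X.affineOpens) : X.Opens)) :=
    IsScalarTower.of_algebraMap_eq' (by
      change (f.appLE _ _ _).hom = (X.presheaf.map _).hom.comp (f.appLE _ _ _).hom
      rw [← CommRingCat.hom_comp, Scheme.Hom.appLE_map])
  haveI hloc : IsLocalization.Away r Γ(X, ((D U r : X.affineOpens) : X.Opens)) :=
    U.2.isLocalization_basicOpen r
  haveI hbot : IsLocalization (⊥ : Submonoid Γ(Y, (V : Y.Opens))) Γ(Y, (V' : Y.Opens)) := by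
    apply IsLocalization.of_le_isUnit_of_bijective
    · rintro _ ⟨y, hy, rfl⟩
      have hy' : y = 1 := Submonoid.mem_bot.1 hy
      subst hy'
      rw [map_one]
      exact isUnit_one
    · exact hbij
  have H := Groth.Agent.H59.H1Loc.isLocalizedModule_h1map Γ(Y, (V : Y.Opens)) Γ(Y, (V' : Y.Opens))
    Γ(X, (U : X.Opens)) Γ(X, ((D U r : X.affineOpens) : X.Opens)) (Submonoid.powers r)
    (⊥ : Submonoid Γ(Y, (V : Y.Opens)))
  constructor
  · intro y
    obtain ⟨⟨x₀, s⟩, hs⟩ := IsLocalizedModule.surj (Submonoid.powers r)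
      (Algebra.H1Cotangent.map Γ(Y, (V : Y.Opens)) Γ(Y, (V' : Y.Opens))
        Γ(X, (U : X.Opens)) Γ(X, ((D U r : X.affineOpens) : X.Opens))) y
    obtain ⟨n, hn⟩ := s.2
    refine ⟨n, x₀, ?_⟩
    refine Eq.trans ?_ hs
    change _ = s.1 • y
    have hn' : r ^ n = s.1 := hn
    rw [← hn', ← map_pow]
    exact algebraMap_smul Γ(X, ((D U r : X.affineOpens) : X.Opens)) (r ^ n) y
  · intro x₀ h0
    obtain ⟨s, hs⟩ := (IsLocalizedModule.eq_zero_iff (Submonoid.powers r)
      (Algebra.H1Cotangent.map Γ(Y, (V : Y.Opens)) Γ(Y, (V' : Y.Opens))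
        Γ(X, (U : X.Opens)) Γ(X, ((D U r : X.affineOpens) : X.Opens)))).1 h0
    obtain ⟨n, hn⟩ := s.2
    refine ⟨n, ?_⟩
    have hn' : r ^ n = s.1 := hn
    rw [hn']
    exact hs

end

theorem bijective_map_le_refl (V : Y.Opens) :
    Function.Bijective (Y.presheaf.map (homOfLE (le_refl V)).op).hom := by
  have : (Y.presheaf.map (homOfLE (le_refl V)).op) = 𝟙 _ := by
    have h : (homOfLE (le_refl V)).op = 𝟙 (op V) := rfl
    rw [h, Y.presheaf.map_id]
  rw [this]
  exact Function.bijective_id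

/-- Every module carrying the structure of `H^{-1}(NL_{X/Y})` is quasi-coherent. -/
theorem isQuasicoherent_of_h1Sheaf (G : X.Modules) (c : NLCx.H1Sheaf f G) : G.IsQuasicoherent := by
  let ι : Type u := Σ (U : X.affineOpens) (V : Y.affineOpens),
    PLift ((U : X.Opens) ≤ f ⁻¹ᵁ (V : Y.Opens))
  refine Groth.Agent.H18.isQuasicoherent_of_localizes G (fun i : ι => (i.1 : X.Opens)) ?_
    (fun i => i.1.2) ?_ ?_
  · rw [IsOpenCover, eq_top_iff]
    intro x _
    obtain ⟨V, hV, hxV, -⟩ := Opens.isBasis_iff_nbhd.mp Y.isBasis_affineOpens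
      (show f x ∈ (⊤ : Y.Opens) from trivial)
    obtain ⟨U, hU, hxU, hUle⟩ := Opens.isBasis_iff_nbhd.mp X.isBasis_affineOpens
      (show x ∈ f ⁻¹ᵁ V from hxV)
    exact Opens.mem_iSup.mpr ⟨⟨⟨U, hU⟩, ⟨V, hV⟩, ⟨hUle⟩⟩, hxU⟩
  · rintro ⟨U, V, ⟨e⟩⟩ r y
    have e' : ((D U r : X.affineOpens) : X.Opens) ≤ f ⁻¹ᵁ (V : Y.Opens) := (D_le U r).trans e
    obtain ⟨n, x₀, hx₀⟩ := (chartRes_basicOpen f U V V e r e' le_rfl
      (bijective_map_le_refl _)).1 (c.iso (D U r) V e' y)
    refine ⟨n, (c.iso U V e).symm x₀, ?_⟩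
    apply (c.iso (D U r) V e').injective
    have h1 := c.map_res e e' (D_le U r) le_rfl ((c.iso U V e).symm x₀)
    rw [AddEquiv.apply_symm_apply] at h1
    have h2 := c.map_smul (D U r) V e'
      ((X.presheaf.map (homOfLE (X.basicOpen_le r)).op r) ^ n) y
    exact (h2.trans hx₀).trans h1.symm
  · rintro ⟨U, V, ⟨e⟩⟩ r x hx
    have e' : ((D U r : X.affineOpens) : X.Opens) ≤ f ⁻¹ᵁ (V : Y.Opens) := (D_le U r).trans e
    have h1 := c.map_res e e' (D_le U r) le_rfl x
    have h0 : NLCx.chartRes e e' (D_le U r) le_rfl (c.iso U V e x) = 0 := by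
      rw [← h1]
      exact (congrArg (c.iso (D U r) V e') hx).trans (map_zero _)
    obtain ⟨n, hn⟩ := (chartRes_basicOpen f U V V e r e' le_rfl
      (bijective_map_le_refl _)).2 _ h0
    refine ⟨n, ?_⟩
    apply (c.iso U V e).injective
    exact ((c.map_smul U V e (r ^ n) x).trans hn).trans (map_zero _).symm

end Groth.Agent.H59.H1QC
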