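import Mathlib
import Groth.Prelude.Def_CAlgX
import Groth.Prelude.Def_CAlg

/-!
# Converse of Hilbert–Burch: exactness from depth two (elementary proof)
-/

set_option autoImplicit false

namespace Groth.Agent.H59.HBConv

open Matrix

variable {R : Type*} [CommRing R]

section Pair

/-- a weak form of a regular pair. -/
def IsPair (I : Ideal R) (x y : R) : Prop :=
  x ∈ I ∧ y ∈ I ∧ (∀ z, x * z = 0 → z = 0) ∧ (∀ z, x ∣ y * z → x ∣ z)

lemma exists_pair (I : Ideal R) (h : 2 ≤ LocCoh.idealDepth I R) : ∃ x y : R, IsPair I x y := by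
  unfold LocCoh.idealDepth at h
  split_ifs at h with htop
  · have hI : I = ⊤ := by
      rw [smul_eq_mul, Ideal.mul_top] at htop
      exact htop
    refine ⟨1, 1, by rw [hI]; trivial, by rw [hI]; trivial, ?_, ?_⟩
    · intro z hz; simpa using hz
    · intro z _; exact one_dvd z
  · -- some weakly regular sequence in `I` has length at least two
    have hex : ∃ rs : List R, (RingTheory.Sequence.IsWeaklyRegular R rs ∧ ∀ r ∈ rs, r ∈ I) ∧
        2 ≤ rs.length := by
      by_contra hno
      push Not at hno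
      have hle : (⨆ (rs : List R)
          (_ : RingTheory.Sequence.IsWeaklyRegular R rs ∧ ∀ r ∈ rs, r ∈ I), (rs.length : ℕ∞)) ≤ 1 := by
        refine iSup₂_le fun rs hrs => ?_
        have := hno rs hrs
        have h1 : rs.length ≤ 1 := by omega
        exact_mod_cast h1
      have : (2 : ℕ∞) ≤ 1 := h.trans hle
      exact absurd this (by norm_num)
    obtain ⟨rs, ⟨hreg, hmem⟩, hlen⟩ := hex
    have h0 : 0 < rs.length := by omega
    have h1 : 1 < rs.length := by omega
    refine ⟨rs[0], rs[1], hmem _ (List.getElem_mem h0), hmem _ (List.getElem_mem h1), ?_, ?_⟩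
    · intro z hz
      have hr := hreg.regular_mod_prev 0 h0
      have hbot : (Ideal.ofList (rs.take 0) • ⊤ : Submodule R R) = ⊥ := by
        simp
      have e0 : rs[0] • (Submodule.Quotient.mk z :
          R ⧸ (Ideal.ofList (rs.take 0) • ⊤ : Submodule R R)) = rs[0] • 0 := by
        have hz' : rs[0] • z = 0 := hz
        rw [smul_zero, ← Submodule.Quotient.mk_smul, hz', Submodule.Quotient.mk_zero]
      have := hr e0
      rw [Submodule.Quotient.mk_eq_zero, hbot] at this
      simpa using this
    · intro z hz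
      have hr := hreg.regular_mod_prev 1 h1
      have hsp : (Ideal.ofList (rs.take 1) • ⊤ : Submodule R R) = Ideal.span {rs[0]} := by
        have : rs.take 1 = [rs[0]] := by
          rcases rs with _ | ⟨a, l⟩
          · simp at h0
          · simp
        rw [this, Ideal.ofList_singleton, smul_eq_mul, Ideal.mul_top]
      have e0 : rs[1] • (Submodule.Quotient.mk z :
          R ⧸ (Ideal.ofList (rs.take 1) • ⊤ : Submodule R R)) = rs[1] • 0 := by
        rw [smul_zero, ← Submodule.Quotient.mk_smul, Submodule.Quotient.mk_eq_zero, hsp,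
          Ideal.mem_span_singleton]
        exact hz
      have := hr e0
      rw [Submodule.Quotient.mk_eq_zero, hsp, Ideal.mem_span_singleton] at this
      exact this

end Pair

section Aug

variable {t : ℕ}

/-- the matrix `Ψ` with the column `w` appended. -/
def aug (Ψ : Matrix (Fin (t + 1)) (Fin t) R) (w : Fin (t + 1) → R) :
    Matrix (Fin (t + 1)) (Fin (t + 1)) R :=
  Matrix.of fun r c => Fin.lastCases (w r) (fun j => Ψ r j) c

omit [CommRing R] in
@[simp] lemma aug_castSucc (Ψ : Matrix (Fin (t + 1)) (Fin t) R) (w : Fin (t + 1) → R)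
    (r : Fin (t + 1)) (j : Fin t) : aug Ψ w r (Fin.castSucc j) = Ψ r j := by
  simp [aug]

omit [CommRing R] in
@[simp] lemma aug_last (Ψ : Matrix (Fin (t + 1)) (Fin t) R) (w : Fin (t + 1) → R)
    (r : Fin (t + 1)) : aug Ψ w r (Fin.last t) = w r := by
  simp [aug]

lemma aug_submatrix (Ψ : Matrix (Fin (t + 1)) (Fin t) R) (w : Fin (t + 1) → R)
    (i : Fin (t + 1)) :
    (aug Ψ w).submatrix i.succAbove (Fin.last t).succAbove = Ψ.submatrix i.succAbove id := by
  ext r c
  simp [Fin.succAbove_last]

/-- the `i`-th maximal minor (row `i` deleted). -/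
noncomputable def mnr (Ψ : Matrix (Fin (t + 1)) (Fin t) R) (i : Fin (t + 1)) : R :=
  (Ψ.submatrix i.succAbove id).det

lemma det_aug (Ψ : Matrix (Fin (t + 1)) (Fin t) R) (w : Fin (t + 1) → R) :
    (aug Ψ w).det = (-1) ^ t * ∑ i : Fin (t + 1), ((-1 : R) ^ (i : ℕ) * mnr Ψ i) * w i := by
  rw [Matrix.det_succ_column _ (Fin.last t), Finset.mul_sum]
  refine Finset.sum_congr rfl fun i _ => ?_
  rw [aug_last, aug_submatrix, Fin.val_last, pow_add]
  unfold mnr
  ring

/-- the maximal minors annihilate the columns of `Ψ`. -/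
lemma sum_mnr_mul_col (Ψ : Matrix (Fin (t + 1)) (Fin t) R) (j : Fin t) :
    ∑ i : Fin (t + 1), ((-1 : R) ^ (i : ℕ) * mnr Ψ i) * Ψ i j = 0 := by
  have h0 : (aug Ψ (fun r => Ψ r j)).det = 0 := by
    apply Matrix.det_zero_of_column_eq (i := Fin.castSucc j) (j := Fin.last t)
    · exact (Fin.castSucc_lt_last j).ne
    · intro k; simp
  rw [det_aug] at h0
  have hu : IsUnit ((-1 : R) ^ t) := (isUnit_one.neg).pow t
  exact (hu.mul_right_eq_zero).mp h0

lemma sum_mnr_mulVec (Ψ : Matrix (Fin (t + 1)) (Fin t) R) (v : Fin t → R) :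
    ∑ i : Fin (t + 1), ((-1 : R) ^ (i : ℕ) * mnr Ψ i) * (Ψ.mulVec v) i = 0 := by
  simp only [Matrix.mulVec, dotProduct, Finset.mul_sum]
  rw [Finset.sum_comm]
  refine Finset.sum_eq_zero fun j _ => ?_
  have := sum_mnr_mul_col Ψ j
  calc ∑ i : Fin (t + 1), (-1 : R) ^ (i : ℕ) * mnr Ψ i * (Ψ i j * v j)
      = (∑ i : Fin (t + 1), (-1 : R) ^ (i : ℕ) * mnr Ψ i * Ψ i j) * v j := by
        rw [Finset.sum_mul]
        refine Finset.sum_congr rfl fun i _ => ?_
        ring
    _ = 0 := by rw [this, zero_mul]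

/-- **Cramer-type relation**: a vector killed by the maximal minors is, after multiplying by any
maximal minor, in the image of `Ψ`. -/
lemma mnr_smul_mem_range (Ψ : Matrix (Fin (t + 1)) (Fin t) R) (w : Fin (t + 1) → R)
    (hw : ∑ i : Fin (t + 1), ((-1 : R) ^ (i : ℕ) * mnr Ψ i) * w i = 0) (i : Fin (t + 1)) :
    mnr Ψ i • w ∈ LinearMap.range Ψ.mulVecLin := by
  have hdet : (aug Ψ w).det = 0 := by rw [det_aug, hw, mul_zero]
  have hmul := Matrix.mul_adjugate (aug Ψ w)
  rw [hdet, zero_smul] at hmul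
  set c : Fin t → R := fun j => (aug Ψ w).adjugate (Fin.castSucc j) i with hc
  have hadj : (aug Ψ w).adjugate (Fin.last t) i = (-1) ^ ((i : ℕ) + t) * mnr Ψ i := by
    rw [Matrix.adjugate_fin_succ_eq_det_submatrix, aug_submatrix, Fin.val_last]
    rfl
  refine ⟨(-((-1 : R) ^ ((i : ℕ) + t))) • c, ?_⟩
  ext r
  have hr := congrFun (congrFun hmul r) i
  rw [Matrix.mul_apply, Fin.sum_univ_castSucc] at hr
  simp only [aug_castSucc, aug_last, Matrix.zero_apply] at hr
  rw [hadj] at hr
  simp only [Matrix.mulVecLin_apply, Pi.smul_apply, smul_eq_mul,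
    Matrix.mulVec, dotProduct]
  have hsq : ((-1 : R) ^ ((i : ℕ) + t)) * ((-1 : R) ^ ((i : ℕ) + t)) = 1 := by
    rw [← pow_add, ← two_mul, pow_mul]; simp
  have h2 : ∑ j : Fin t, Ψ r j * c j = -(w r * ((-1) ^ ((i : ℕ) + t) * mnr Ψ i)) := by
    rw [eq_neg_iff_add_eq_zero]; exact hr
  have h3 : ∑ x : Fin t, Ψ r x * (-(-1 : R) ^ ((i : ℕ) + t) * c x)
      = -(-1 : R) ^ ((i : ℕ) + t) * ∑ x : Fin t, Ψ r x * c x := by
    rw [Finset.mul_sum]
    refine Finset.sum_congr rfl fun x _ => ?_
    ring
  rw [h3, h2]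
  linear_combination (mnr Ψ i * w r) * hsq

/-- a maximal minor kills the kernel of `Ψ`. -/
lemma mnr_smul_eq_zero (Ψ : Matrix (Fin (t + 1)) (Fin t) R) (v : Fin t → R)
    (hv : Ψ.mulVec v = 0) (i : Fin (t + 1)) : mnr Ψ i • v = 0 := by
  have h1 : (Ψ.submatrix i.succAbove id).mulVec v = 0 := by
    ext r
    have := congrFun hv (i.succAbove r)
    simpa [Matrix.mulVec, dotProduct] using this
  have h2 := congrArg (fun M => M.mulVec v) (Matrix.adjugate_mul (Ψ.submatrix i.succAbove id))
  simp only [← Matrix.mulVec_mulVec, h1, Matrix.mulVec_zero, Matrix.smul_mulVec,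
    Matrix.one_mulVec] at h2
  exact h2.symm

end Aug

section Minors

variable {t : ℕ}

/-- the ideal of maximal minors is generated by the `t + 1` minors with one row deleted. -/
lemma minorIdeal_eq (Ψ : Matrix (Fin (t + 1)) (Fin t) R) :
    CAlgX.minorIdeal Ψ t = Ideal.span (Set.range (mnr Ψ)) := by
  apply le_antisymm
  · unfold CAlgX.minorIdeal
    rw [Ideal.span_le]
    rintro _ ⟨⟨f, g⟩, rfl⟩
    show (Ψ.submatrix f g).det ∈ Ideal.span (Set.range (mnr Ψ))
    by_cases hg : Function.Injective g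
    · -- `g` is a permutation
      have hgb : Function.Bijective g := Finite.injective_iff_bijective.mp hg
      let e : Equiv.Perm (Fin t) := Equiv.ofBijective g hgb
      have h1 : Ψ.submatrix f g = (Ψ.submatrix f id).submatrix id e := by
        ext r c; rfl
      rw [h1, Matrix.det_permute']
      apply Ideal.mul_mem_left
      by_cases hf : Function.Injective f
      · -- `f` misses exactly one row
        have hex : ∃ i : Fin (t + 1), i ∉ Set.range f := by
          by_contra hno
          push Not at hno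
          have hsurj : Function.Surjective f := fun i => hno i
          have := Fintype.card_le_of_surjective f hsurj
          simp at this
        obtain ⟨i, hi⟩ := hex
        have hne : ∀ j, f j ≠ i := fun j h => hi ⟨j, h⟩
        choose σ hσ using fun j => Fin.exists_succAbove_eq (hne j)
        have hσinj : Function.Injective σ := by
          intro a b hab
          apply hf
          rw [← hσ a, ← hσ b, hab]
        have hσb : Function.Bijective σ := Finite.injective_iff_bijective.mp hσinj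
        let e' : Equiv.Perm (Fin t) := Equiv.ofBijective σ hσb
        have h2 : Ψ.submatrix f id = (Ψ.submatrix i.succAbove id).submatrix e' id := by
          ext r c
          show Ψ (f r) c = Ψ (i.succAbove (σ r)) c
          rw [hσ r]
        rw [h2, Matrix.det_permute]
        exact Ideal.mul_mem_left _ _ (Ideal.subset_span ⟨i, rfl⟩)
      · -- two equal rows
        obtain ⟨a, b, hab, hne⟩ : ∃ a b, f a = f b ∧ a ≠ b := by
          unfold Function.Injective at hf
          push Not at hf
          exact hf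
        rw [Matrix.det_zero_of_row_eq hne (by ext c; simp [hab])]
        exact Submodule.zero_mem _
    · -- two equal columns
      obtain ⟨a, b, hab, hne⟩ : ∃ a b, g a = g b ∧ a ≠ b := by
        unfold Function.Injective at hg
        push Not at hg
        exact hg
      rw [Matrix.det_zero_of_column_eq hne (by intro k; simp [hab])]
      exact Submodule.zero_mem _
  · rw [Ideal.span_le]
    rintro _ ⟨i, rfl⟩
    exact Ideal.subset_span ⟨(i.succAbove, id), rfl⟩

end Minors

section Main

variable {t : ℕ}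

lemma smul_eq_zero_of_mem (Ψ : Matrix (Fin (t + 1)) (Fin t) R) (v : Fin t → R)
    (hv : Ψ.mulVec v = 0) {x : R} (hx : x ∈ CAlgX.minorIdeal Ψ t) : x • v = 0 := by
  rw [minorIdeal_eq] at hx
  induction hx using Submodule.span_induction with
  | mem y hy =>
    obtain ⟨i, rfl⟩ := hy
    exact mnr_smul_eq_zero Ψ v hv i
  | zero => simp
  | add a b _ _ ha hb => rw [add_smul, ha, hb, add_zero]
  | smul r a _ ha => rw [smul_eq_mul, mul_smul, ha, smul_zero]

lemma smul_mem_range_of_mem (Ψ : Matrix (Fin (t + 1)) (Fin t) R) (w : Fin (t + 1) → R)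
    (hw : ∑ i : Fin (t + 1), ((-1 : R) ^ (i : ℕ) * mnr Ψ i) * w i = 0)
    {x : R} (hx : x ∈ CAlgX.minorIdeal Ψ t) : x • w ∈ LinearMap.range Ψ.mulVecLin := by
  rw [minorIdeal_eq] at hx
  induction hx using Submodule.span_induction with
  | mem y hy =>
    obtain ⟨i, rfl⟩ := hy
    exact mnr_smul_mem_range Ψ w hw i
  | zero => rw [zero_smul]; exact Submodule.zero_mem _
  | add a b _ _ ha hb => rw [add_smul]; exact Submodule.add_mem _ ha hb
  | smul r a _ ha => rw [smul_eq_mul, mul_smul]; exact Submodule.smul_mem _ _ ha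

theorem ker_eq_bot (Ψ : Matrix (Fin (t + 1)) (Fin t) R) {x y : R}
    (hxy : IsPair (CAlgX.minorIdeal Ψ t) x y) : LinearMap.ker Ψ.mulVecLin = ⊥ := by
  rw [eq_bot_iff]
  intro v hv
  have hv' : Ψ.mulVec v = 0 := hv
  have := smul_eq_zero_of_mem Ψ v hv' hxy.1
  rw [Submodule.mem_bot]
  ext j
  exact hxy.2.2.1 (v j) (by simpa using congrFun this j)

theorem ker_le_range (Ψ : Matrix (Fin (t + 1)) (Fin t) R) {x y : R}
    (hxy : IsPair (CAlgX.minorIdeal Ψ t) x y) (w : Fin (t + 1) → R)
    (hw : ∑ i : Fin (t + 1), ((-1 : R) ^ (i : ℕ) * mnr Ψ i) * w i = 0) :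
    w ∈ LinearMap.range Ψ.mulVecLin := by
  obtain ⟨vx, hvx⟩ := smul_mem_range_of_mem Ψ w hw hxy.1
  obtain ⟨vy, hvy⟩ := smul_mem_range_of_mem Ψ w hw hxy.2.1
  have hker : (y • vx - x • vy) ∈ LinearMap.ker Ψ.mulVecLin := by
    rw [LinearMap.mem_ker, map_sub, map_smul, map_smul, hvx, hvy, smul_smul, smul_smul,
      mul_comm, sub_self]
  rw [ker_eq_bot Ψ hxy, Submodule.mem_bot, sub_eq_zero] at hker
  have hdvd : ∀ j, x ∣ vx j := by
    intro j
    apply hxy.2.2.2
    have := congrFun hker j
    simp only [Pi.smul_apply, smul_eq_mul] at this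
    exact ⟨vy j, this⟩
  choose v' hv' using hdvd
  refine ⟨v', ?_⟩
  have h1 : x • (Ψ.mulVecLin v') = x • w := by
    rw [← map_smul, ← hvx]
    congr 1
    ext j
    simp [hv' j]
  ext r
  have := congrFun h1 r
  simp only [Pi.smul_apply, smul_eq_mul] at this
  have h2 : x * ((Ψ.mulVecLin v') r - w r) = 0 := by rw [mul_sub, this, sub_self]
  have := hxy.2.2.1 _ h2
  exact sub_eq_zero.mp this

end Main

end Groth.Agent.H59.HBConv
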