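import Mathlib

/-!
# McCoy's theorem for non-square matrices

If `z ≠ 0` kills all maximal minors (on `m` rows, in the given column order) of an `n × m` matrix,
then the matrix has a nonzero kernel vector.
-/

set_option autoImplicit false

namespace Groth.Agent.H59.McCoy

open Matrix

variable {R : Type*} [CommRing R]

theorem exists_ker_ne_zero : ∀ (m : ℕ) {n : ℕ} (Ψ : Matrix (Fin n) (Fin m) R) (z : R), z ≠ 0 →
    (∀ f : Fin m → Fin n, z * (Ψ.submatrix f id).det = 0) →
    ∃ v : Fin m → R, v ≠ 0 ∧ Ψ.mulVec v = 0 := by
  intro m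
  induction m with
  | zero =>
    intro n Ψ z hz h
    exfalso
    have := h Fin.elim0
    rw [Matrix.det_isEmpty, mul_one] at this
    exact hz this
  | succ m ih =>
    intro n Ψ z hz h
    set Ψ' : Matrix (Fin n) (Fin m) R := Ψ.submatrix id Fin.castSucc with hΨ'
    by_cases hA : ∀ f : Fin m → Fin n, z * (Ψ'.submatrix f id).det = 0
    · obtain ⟨v', hv'0, hv'⟩ := ih Ψ' z hz hA
      refine ⟨Fin.snoc v' 0, ?_, ?_⟩
      · intro h0
        apply hv'0
        ext j
        have := congrFun h0 (Fin.castSucc j)
        simpa using this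
      · ext i
        have := congrFun hv' i
        simp only [Matrix.mulVec, dotProduct, Pi.zero_apply] at this ⊢
        rw [Fin.sum_univ_castSucc]
        simp only [Fin.snoc_castSucc, Fin.snoc_last, mul_zero, add_zero]
        exact this
    · push Not at hA
      obtain ⟨f, hf⟩ := hA
      set Af : Matrix (Fin m) (Fin (m + 1)) R := Ψ.submatrix f id with hAf
      refine ⟨fun j => z * ((-1) ^ (m + (j : ℕ)) * (Af.submatrix id j.succAbove).det), ?_, ?_⟩
      · intro h0
        apply hf
        have := congrFun h0 (Fin.last m)
        simp only [Pi.zero_apply, Fin.val_last, Fin.succAbove_last] at this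
        have hsq : ((-1 : R)) ^ (m + m) = 1 := by
          rw [← two_mul, pow_mul]; simp
        rw [hsq, one_mul] at this
        exact this
      · ext i
        have hB := h (Fin.snoc f i)
        rw [Matrix.det_succ_row _ (Fin.last m)] at hB
        simp only [Matrix.mulVec, dotProduct, Pi.zero_apply]
        rw [← hB, Finset.mul_sum]
        refine Finset.sum_congr rfl fun j _ => ?_
        have h1 : (Ψ.submatrix (Fin.snoc f i : Fin (m + 1) → Fin n) id) (Fin.last m) j = Ψ i j := by
          simp
        have h2 : (Ψ.submatrix (Fin.snoc f i : Fin (m + 1) → Fin n) id).submatrix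
            (Fin.last m).succAbove j.succAbove = Af.submatrix id j.succAbove := by
          ext r c
          simp [hAf, Fin.succAbove_last]
        rw [h1, h2, Fin.val_last]
        ring

/-- **McCoy**: an injective matrix has no nonzero annihilator of its maximal minors. -/
theorem eq_zero_of_forall_mul_minor {m n : ℕ} (Ψ : Matrix (Fin n) (Fin m) R)
    (hΨ : ∀ v : Fin m → R, Ψ.mulVec v = 0 → v = 0) (z : R)
    (h : ∀ f : Fin m → Fin n, z * (Ψ.submatrix f id).det = 0) : z = 0 := by
  by_contra hz
  obtain ⟨v, hv0, hv⟩ := exists_ker_ne_zero m Ψ z hz h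
  exact hv0 (hΨ v hv)

end Groth.Agent.H59.McCoy
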