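import Groth.Agent.H59.HBConv
import Groth.Agent.H59.McCoy
import Groth.Agent.H57.HBCore
import Groth.Agent.H15.FFR
import Groth.Agent.H15.Depth

/-!
# The Hilbert–Burch theorem (elementary proof via McCoy's theorem)
-/

set_option autoImplicit false

universe u

namespace Groth.Agent.H59.HBurch

open Matrix Groth.Agent.H59.HBConv

variable {R : Type u} [CommRing R]

section Rank

variable {m n : ℕ} (Ψ : Matrix (Fin n) (Fin m) R) (π : (Fin n → R) →ₗ[R] R)

/-- the rank count `n = m + 1`. -/
theorem rank_eq [Nontrivial R]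
    (hΨ : LinearMap.ker Ψ.mulVecLin = ⊥) (hex : LinearMap.ker π = LinearMap.range Ψ.mulVecLin)
    (s : R) (hs : s ∈ LinearMap.range π) (hs0 : ∀ z, s * z = 0 → z = 0) : n = m + 1 := by
  obtain ⟨w, hw⟩ := hs
  -- the map `(v, c) ↦ Ψ v + c w`
  let L : ((Fin m → R) × R) →ₗ[R] (Fin n → R) :=
    Ψ.mulVecLin.coprod (LinearMap.toSpanSingleton R (Fin n → R) w)
  have hLapp : ∀ v c, L (v, c) = Ψ.mulVecLin v + c • w := by
    intro v c
    simp [L, LinearMap.coprod_apply, LinearMap.toSpanSingleton_apply]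
  have hπΨ : ∀ v, π (Ψ.mulVecLin v) = 0 := by
    intro v
    have : Ψ.mulVecLin v ∈ LinearMap.ker π := by rw [hex]; exact ⟨v, rfl⟩
    exact this
  have hLinj : Function.Injective L := by
    rw [← LinearMap.ker_eq_bot, eq_bot_iff]
    rintro ⟨v, c⟩ hvc
    rw [LinearMap.mem_ker, hLapp] at hvc
    have h1 := congrArg π hvc
    rw [map_add, hπΨ, zero_add, map_smul, map_zero, hw, smul_eq_mul, mul_comm] at h1
    have hc : c = 0 := hs0 c h1
    rw [hc, zero_smul, add_zero] at hvc
    have hv : v ∈ LinearMap.ker Ψ.mulVecLin := hvc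
    rw [hΨ, Submodule.mem_bot] at hv
    rw [Submodule.mem_bot, hv, hc]
    rfl
  have h1 : m + 1 ≤ n := by
    have := LinearMap.finrank_le_finrank_of_injective hLinj
    rw [Module.finrank_prod, Module.finrank_fin_fun, Module.finrank_fin_fun,
      Module.finrank_self] at this
    exact this
  -- `s • u` lies in the range of `L`
  have hrange : ∀ u : Fin n → R, s • u ∈ LinearMap.range L := by
    intro u
    have hk : s • u - π u • w ∈ LinearMap.ker π := by
      rw [LinearMap.mem_ker, map_sub, map_smul, map_smul, hw, smul_eq_mul, smul_eq_mul, mul_comm,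
        sub_self]
    rw [hex] at hk
    obtain ⟨v, hv⟩ := hk
    refine ⟨(v, π u), ?_⟩
    rw [hLapp, hv]
    abel
  let T : (Fin n → R) →ₗ[R] LinearMap.range L :=
    LinearMap.codRestrict (LinearMap.range L) (s • LinearMap.id) (fun u => hrange u)
  have hTinj : Function.Injective T := by
    rw [← LinearMap.ker_eq_bot, eq_bot_iff]
    intro u hu
    have h0 : s • u = 0 := by
      have := congrArg Subtype.val (LinearMap.mem_ker.mp hu)
      simpa [T] using this
    rw [Submodule.mem_bot]
    ext j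
    exact hs0 _ (by simpa using congrFun h0 j)
  have h2 : n ≤ m + 1 := by
    have := LinearMap.finrank_le_finrank_of_injective hTinj
    rw [← (LinearEquiv.ofInjective L hLinj).finrank_eq, Module.finrank_prod,
      Module.finrank_fin_fun, Module.finrank_fin_fun, Module.finrank_self] at this
    exact this
  omega

end Rank

section Main

variable {t : ℕ} (Ψ : Matrix (Fin (t + 1)) (Fin t) R) (π : (Fin (t + 1) → R) →ₗ[R] R)

lemma mccoy_mnr (hΨ : ∀ v : Fin t → R, Ψ.mulVec v = 0 → v = 0) (z : R)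
    (hz : ∀ i, z * mnr Ψ i = 0) : z = 0 := by
  apply McCoy.eq_zero_of_forall_mul_minor Ψ hΨ z
  intro f
  have hmem : (Ψ.submatrix f id).det ∈ CAlgX.minorIdeal Ψ t :=
    Ideal.subset_span ⟨(f, id), rfl⟩
  rw [minorIdeal_eq] at hmem
  generalize (Ψ.submatrix f id).det = d at hmem
  induction hmem using Submodule.span_induction with
  | mem y hy =>
    obtain ⟨i, rfl⟩ := hy
    exact hz i
  | zero => simp
  | add a b _ _ ha hb => rw [mul_add, ha, hb, add_zero]
  | smul r a _ ha => rw [smul_eq_mul, mul_left_comm, ha, mul_zero]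

/-- the pair witnessing grade at least two of the ideal of maximal minors. -/
theorem exists_isPair [IsNoetherianRing R]
    (hΨ : LinearMap.ker Ψ.mulVecLin = ⊥) (hex : LinearMap.ker π = LinearMap.range Ψ.mulVecLin)
    (s : R) (hs : s ∈ LinearMap.range π) (hs0 : ∀ z, s * z = 0 → z = 0) :
    ∃ x y : R, IsPair (CAlgX.minorIdeal Ψ t) x y := by
  classical
  have hinj : ∀ v : Fin t → R, Ψ.mulVec v = 0 → v = 0 := by
    intro v hv
    have : v ∈ LinearMap.ker Ψ.mulVecLin := hv
    rwa [hΨ, Submodule.mem_bot] at this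
  set J := CAlgX.minorIdeal Ψ t with hJ
  have hmnrJ : ∀ i, mnr Ψ i ∈ J := by
    intro i
    rw [hJ, minorIdeal_eq]
    exact Ideal.subset_span ⟨i, rfl⟩
  -- a nonzerodivisor in `J`
  have hx : ∃ x ∈ J, ∀ z : R, x * z = 0 → z = 0 := by
    by_contra hno
    push Not at hno
    obtain ⟨p, hp, hJp⟩ := Groth.Agent.H57.HBCore.exists_assoc_ge (R := R) R J (fun x hx => by
      obtain ⟨z, hz, hz0⟩ := hno x hx
      exact ⟨z, hz0, hz⟩)
    obtain ⟨hpp, z, hpz⟩ := isAssociatedPrime_iff.mp hp
    have hz0 : z ≠ 0 := by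
      rintro rfl
      apply hpp.ne_top
      rw [hpz, eq_top_iff]
      intro r _
      rw [Submodule.mem_colon_singleton, smul_zero]
      exact Submodule.zero_mem _
    apply hz0
    apply mccoy_mnr Ψ hinj z
    intro i
    have : mnr Ψ i ∈ p := hJp (hmnrJ i)
    rw [hpz, Submodule.mem_colon_singleton, Submodule.mem_bot, smul_eq_mul] at this
    rw [mul_comm]; exact this
  obtain ⟨x, hxJ, hx0⟩ := hx
  -- injectivity of `Ψ` modulo `x`
  have hπΨ : ∀ v, π (Ψ.mulVecLin v) = 0 := by
    intro v
    have : Ψ.mulVecLin v ∈ LinearMap.ker π := by rw [hex]; exact ⟨v, rfl⟩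
    exact this
  have hmod : ∀ v : Fin t → R, (∀ i, x ∣ (Ψ.mulVec v) i) → ∀ j, x ∣ v j := by
    intro v hv
    choose w hw using hv
    have h1 : Ψ.mulVecLin v = x • w := by
      ext i; simp [hw i]
    have h2 : π w = 0 := by
      have := congrArg π h1
      rw [hπΨ, map_smul, smul_eq_mul] at this
      exact hx0 _ this.symm
    have h3 : w ∈ LinearMap.range Ψ.mulVecLin := by rw [← hex]; exact h2
    obtain ⟨v', hv'⟩ := h3
    have h4 : Ψ.mulVecLin (v - x • v') = 0 := by
      rw [map_sub, map_smul, hv', h1, sub_self]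
    have h5 : v - x • v' = 0 := hinj _ h4
    intro j
    have := congrFun h5 j
    simp only [Pi.sub_apply, Pi.smul_apply, smul_eq_mul, Pi.zero_apply, sub_eq_zero] at this
    exact ⟨v' j, this⟩
  -- McCoy modulo `x`
  have hmc : ∀ z : R, (∀ i, x ∣ z * mnr Ψ i) → x ∣ z := by
    intro z hz
    let A := R ⧸ Ideal.span {x}
    let q : R →+* A := Ideal.Quotient.mk (Ideal.span {x})
    have hq0 : ∀ r : R, q r = 0 ↔ x ∣ r := by
      intro r
      rw [Ideal.Quotient.eq_zero_iff_mem, Ideal.mem_span_singleton]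
    have hinjA : ∀ v : Fin t → A, (Ψ.map q).mulVec v = 0 → v = 0 := by
      intro v hv
      obtain ⟨v0, rfl⟩ : ∃ v0 : Fin t → R, (fun j => q (v0 j)) = v :=
        ⟨fun j => (Ideal.Quotient.mk_surjective (v j)).choose,
          funext fun j => (Ideal.Quotient.mk_surjective (v j)).choose_spec⟩
      have h1 : ∀ i, x ∣ (Ψ.mulVec v0) i := by
        intro i
        rw [← hq0]
        have := congrFun hv i
        simp only [Matrix.mulVec, dotProduct, Matrix.map_apply, Pi.zero_apply] at this
        simp only [Matrix.mulVec, dotProduct, map_sum, map_mul]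
        exact this
      have h2 := hmod v0 h1
      ext j
      exact (hq0 _).mpr (h2 j)
    have hzA : q z = 0 := by
      apply mccoy_mnr (Ψ.map q) hinjA (q z)
      intro i
      have hmn : mnr (Ψ.map q) i = q (mnr Ψ i) := by
        unfold mnr
        rw [RingHom.map_det]
        rfl
      rw [hmn, ← map_mul, hq0]
      exact hz i
    exact (hq0 z).mp hzA
  -- an element of `J` regular modulo `x`
  have hy : ∃ y ∈ J, ∀ z : R, x ∣ y * z → x ∣ z := by
    by_contra hno
    push Not at hno
    obtain ⟨p, hp, hJp⟩ := Groth.Agent.H57.HBCore.exists_assoc_ge (R := R)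
      (R ⧸ Ideal.span {x}) J (fun y hy => by
        obtain ⟨z, hz, hz0⟩ := hno y hy
        refine ⟨Ideal.Quotient.mk _ z, ?_, ?_⟩
        · rw [Ne, Ideal.Quotient.eq_zero_iff_mem, Ideal.mem_span_singleton]
          exact hz0
        · show y • (Ideal.Quotient.mk (Ideal.span {x}) z) = 0
          rw [← Ideal.Quotient.mk_eq_mk, ← Submodule.Quotient.mk_smul, Ideal.Quotient.mk_eq_mk,
            Ideal.Quotient.eq_zero_iff_mem, Ideal.mem_span_singleton, smul_eq_mul]
          exact hz)
    obtain ⟨hpp, zb, hpz⟩ := isAssociatedPrime_iff.mp hp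
    obtain ⟨z, rfl⟩ := Ideal.Quotient.mk_surjective zb
    have hz0 : ¬ x ∣ z := by
      intro hdvd
      apply hpp.ne_top
      rw [hpz, eq_top_iff]
      intro r _
      rw [Submodule.mem_colon_singleton, Submodule.mem_bot]
      have : Ideal.Quotient.mk (Ideal.span {x}) z = 0 := by
        rw [Ideal.Quotient.eq_zero_iff_mem, Ideal.mem_span_singleton]; exact hdvd
      rw [this, smul_zero]
    apply hz0
    apply hmc z
    intro i
    have : mnr Ψ i ∈ p := hJp (hmnrJ i)
    rw [hpz, Submodule.mem_colon_singleton, Submodule.mem_bot] at this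
    have h2 : Ideal.Quotient.mk (Ideal.span {x}) (mnr Ψ i * z) = 0 := by
      rw [← this]
      rfl
    rw [Ideal.Quotient.eq_zero_iff_mem, Ideal.mem_span_singleton] at h2
    rwa [mul_comm]
  obtain ⟨y, hyJ, hy0⟩ := hy
  exact ⟨x, y, hxJ, hyJ, hx0, hy0⟩

/-- a weak pair gives depth at least two. -/
theorem two_le_idealDepth (I : Ideal R) {x y : R} (hxy : IsPair I x y) :
    2 ≤ LocCoh.idealDepth I R := by
  have hreg : RingTheory.Sequence.IsWeaklyRegular R [x, y] := by
    rw [RingTheory.Sequence.isWeaklyRegular_cons_iff, RingTheory.Sequence.isWeaklyRegular_cons_iff]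
    refine ⟨?_, ?_, RingTheory.Sequence.IsWeaklyRegular.nil _ _⟩
    · rw [isSMulRegular_iff_right_eq_zero_of_smul]
      intro z hz
      exact hxy.2.2.1 z hz
    · rw [isSMulRegular_iff_right_eq_zero_of_smul]
      intro zb hz
      obtain ⟨z, rfl⟩ := Submodule.Quotient.mk_surjective _ zb
      rw [← Submodule.Quotient.mk_smul, Submodule.Quotient.mk_eq_zero,
        Submodule.mem_smul_pointwise_iff_exists] at hz
      obtain ⟨b, _, hb⟩ := hz
      have hdvd : x ∣ z := hxy.2.2.2 z ⟨b, hb.symm⟩
      obtain ⟨c, rfl⟩ := hdvd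
      rw [Submodule.Quotient.mk_eq_zero, Submodule.mem_smul_pointwise_iff_exists]
      exact ⟨c, trivial, rfl⟩
  have := Groth.Agent.H15.le_idealDepth I R hreg (by
    intro r hr
    simp only [List.mem_cons, List.not_mem_nil, or_false] at hr
    rcases hr with rfl | rfl
    · exact hxy.1
    · exact hxy.2.1)
  simpa using this

/-- **Hilbert–Burch**, the generators are a common multiple of the signed maximal minors. -/
theorem exists_mul_minors {x y : R} (hxy : IsPair (CAlgX.minorIdeal Ψ t) x y)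
    (hex : LinearMap.ker π = LinearMap.range Ψ.mulVecLin) :
    ∃ a : R, ∀ i, π (fun j => if i = j then 1 else 0) = a * ((-1 : R) ^ (i : ℕ) * mnr Ψ i) := by
  classical
  set g : Fin (t + 1) → R := fun i => π (fun j => if i = j then 1 else 0) with hg
  have hπ : ∀ w : Fin (t + 1) → R, π w = ∑ i, w i * g i := by
    intro w
    rw [LinearMap.pi_apply_eq_sum_univ π w]
    rfl
  set f : Fin (t + 1) → R := fun i => (-1 : R) ^ (i : ℕ) * mnr Ψ i with hf
  have hsq : ∀ i : Fin (t + 1), ((-1 : R) ^ (i : ℕ)) * ((-1 : R) ^ (i : ℕ)) = 1 := by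
    intro i
    rw [← pow_add, ← two_mul, pow_mul]; simp
  -- express `x`, `y` through the signed minors
  have hcomb : ∀ r ∈ CAlgX.minorIdeal Ψ t, ∃ c : Fin (t + 1) → R, r = ∑ i, c i * f i := by
    intro r hr
    rw [minorIdeal_eq, Submodule.mem_span_range_iff_exists_fun] at hr
    obtain ⟨c, rfl⟩ := hr
    refine ⟨fun i => c i * (-1 : R) ^ (i : ℕ), ?_⟩
    refine Finset.sum_congr rfl fun i _ => ?_
    rw [smul_eq_mul, hf]
    linear_combination (-(c i * mnr Ψ i)) * hsq i
  obtain ⟨c, hc⟩ := hcomb x hxy.1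
  obtain ⟨e, he⟩ := hcomb y hxy.2.1
  have hv : ∀ u : Fin (t + 1) → R, ∑ i, u i * f i = 0 → ∑ i, u i * g i = 0 := by
    intro u hu
    have hu' : ∑ i : Fin (t + 1), ((-1 : R) ^ (i : ℕ) * mnr Ψ i) * u i = 0 := by
      rw [← hu]
      refine Finset.sum_congr rfl fun i _ => ?_
      rw [hf]; ring
    have := ker_le_range Ψ hxy u hu'
    rw [← hex, LinearMap.mem_ker, hπ] at this
    exact this
  exact Groth.Agent.H57.HBCore.rowKer f g hv c e
    (by
      rw [← hc, mem_nonZeroDivisors_iff]
      refine ⟨fun z hz => hxy.2.2.1 z hz, fun z hz => hxy.2.2.1 z (by rw [mul_comm]; exact hz)⟩)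
    (by
      intro z hz
      rw [← hc, ← he] at *
      rw [Ideal.mem_span_singleton] at hz ⊢
      exact hxy.2.2.2 z hz)

end Main

end Groth.Agent.H59.HBurch
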