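import Mathlib
import Groth.Agent.H9.TorLES
import Groth.Agent.H9.TorNull
import Groth.Agent.H29.GlDim

/-!
# Long exact sequence consequences for `Tor` in the first variable

For a short exact sequence `0 → X₁ → X₂ → X₃ → 0` of modules and a module `N`:
* `isZero_tor_X₁`: `Tor_{n+1}(X₃, N) = 0` and `Tor_n(X₂, N) = 0` give `Tor_n(X₁, N) = 0`;
* `isZero_tor_X₃`: `Tor_{n+1}(X₂, N) = 0` and `Tor_n(X₁, N) = 0` give `Tor_{n+1}(X₃, N) = 0`;
* `nonempty_tor_shift`: `Tor_{n+2}(X₃, N) ≅ Tor_{n+1}(X₁, N)` when `X₂` is flat;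
* `isZero_tor_of_isZero`: `Tor_n(X, N) = 0` when `X = 0`.
-/

set_option autoImplicit false
universe u

namespace Groth.Agent.H59.HypPeriod

open CategoryTheory CategoryTheory.Limits Groth.Agent.H9

variable {R : Type u} [CommRing R]

theorem isZero_tor_X₁ {S : ShortComplex (ModuleCat.{u} R)} (hS : S.ShortExact)
    (N : ModuleCat.{u} R) (n : ℕ)
    (h3 : IsZero (((Tor (ModuleCat.{u} R) (n + 1)).obj S.X₃).obj N))
    (h2 : IsZero (((Tor (ModuleCat.{u} R) n).obj S.X₂).obj N)) :
    IsZero (((Tor (ModuleCat.{u} R) n).obj S.X₁).obj N) := by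
  let Q := ProjectiveResolution.of N
  have hK := tKsc_shortExact Q.complex (flat_of_projectiveResolution Q) hS
  have hex := hK.homology_exact₁ (n + 1) n (by simp)
  have z₃ : IsZero ((tK Q.complex S.X₃).homology (n + 1)) :=
    IsZero.of_iso h3 (torIsoHomology _ Q (n + 1)).symm
  have z₂ : IsZero ((tK Q.complex S.X₂).homology n) :=
    IsZero.of_iso h2 (torIsoHomology _ Q n).symm
  have z₁ : IsZero ((tK Q.complex S.X₁).homology n) :=
    hex.isZero_of_both_zeros (z₃.eq_of_src _ _) (z₂.eq_of_tgt _ _)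
  exact IsZero.of_iso z₁ (torIsoHomology _ Q n)

theorem isZero_tor_X₃ {S : ShortComplex (ModuleCat.{u} R)} (hS : S.ShortExact)
    (N : ModuleCat.{u} R) (n : ℕ)
    (h2 : IsZero (((Tor (ModuleCat.{u} R) (n + 1)).obj S.X₂).obj N))
    (h1 : IsZero (((Tor (ModuleCat.{u} R) n).obj S.X₁).obj N)) :
    IsZero (((Tor (ModuleCat.{u} R) (n + 1)).obj S.X₃).obj N) := by
  let Q := ProjectiveResolution.of N
  have hK := tKsc_shortExact Q.complex (flat_of_projectiveResolution Q) hS
  have hex := hK.homology_exact₃ (n + 1) n (by simp)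
  have z₂ : IsZero ((tK Q.complex S.X₂).homology (n + 1)) :=
    IsZero.of_iso h2 (torIsoHomology _ Q (n + 1)).symm
  have z₁ : IsZero ((tK Q.complex S.X₁).homology n) :=
    IsZero.of_iso h1 (torIsoHomology _ Q n).symm
  have z₃ : IsZero ((tK Q.complex S.X₃).homology (n + 1)) :=
    hex.isZero_of_both_zeros (z₂.eq_of_src _ _) (z₁.eq_of_tgt _ _)
  exact IsZero.of_iso z₃ (torIsoHomology _ Q (n + 1))

theorem nonempty_tor_shift {S : ShortComplex (ModuleCat.{u} R)} (hS : S.ShortExact)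
    [Module.Flat R S.X₂] (N : ModuleCat.{u} R) (n : ℕ) :
    Nonempty (((Tor (ModuleCat.{u} R) (n + 1 + 1)).obj S.X₃).obj N ≅
      ((Tor (ModuleCat.{u} R) (n + 1)).obj S.X₁).obj N) := by
  let Q := ProjectiveResolution.of N
  have hK := tKsc_shortExact Q.complex (flat_of_projectiveResolution Q) hS
  have hrel : (ComplexShape.down ℕ).Rel (n + 1 + 1) (n + 1) := by simp
  have hiso : IsIso (hK.δ (n + 1 + 1) (n + 1) hrel) :=
    hK.isIso_δ _ _ _ (isZero_homology_tK Q S.X₂ (n + 1)) (isZero_homology_tK Q S.X₂ n)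
  let e := asIso (hK.δ (n + 1 + 1) (n + 1) hrel)
  exact ⟨torIsoHomology S.X₃ Q (n + 1 + 1) ≪≫ e ≪≫ (torIsoHomology S.X₁ Q (n + 1)).symm⟩

/-- `Tor_n(X, N) = 0` when `X` is a zero object. -/
theorem isZero_tor_of_isZero (X N : ModuleCat.{u} R) (hX : IsZero X) (n : ℕ) :
    IsZero (((Tor (ModuleCat.{u} R) n).obj X).obj N) := by
  have : Subsingleton X := ModuleCat.subsingleton_of_isZero hX
  have hflat : Module.Flat R X := inferInstance
  cases n with
  | zero =>
    refine IsZero.of_iso ?_ (torZeroIso X N)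
    have : Subsingleton (TensorProduct R X N) := inferInstance
    exact ModuleCat.isZero_of_subsingleton _
  | succ n => exact isZero_tor_succ_of_flat_left X N n

end Groth.Agent.H59.HypPeriod
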