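import Mathlib
import Groth.Agent.H59.HypPeriod1
import Groth.Agent.H9.WeakDimWE

/-!
# Periodicity of `Tor` over a hypersurface (Eisenbud)

Let `R = B/(g)` with `g` a nonzerodivisor (given abstractly: `algebraMap B R` surjective with kernel
`(g)`).  If an `R`-module `Z` has tor dimension `≤ d` over `B` then
`Tor^R_q(Z, N) ≅ Tor^R_{q-2}(Z, N)` for all `q ≥ d + 2` (`nonempty_tor_iso_sub_two`).

The proof builds, for `Z` of tor dimension `≤ 1` over `B`, the four term exact sequence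
`0 → Z → R ⊗_B K → R ⊗_B B^(Z) → Z → 0` (`K` the kernel of `B^(Z) → Z`, flat over `B`), and reduces
to that case by dimension shifting with the syzygies `syz`.
-/

set_option autoImplicit false
universe u

namespace Groth.Agent.H59.HypPeriod

open CategoryTheory CategoryTheory.Limits Groth.Agent.H9 TensorProduct

section Quot

variable {B R : Type u} [CommRing B] [CommRing R] [Algebra B R]
  (hsurj : Function.Surjective (algebraMap B R)) (g : B)
  (hker : RingHom.ker (algebraMap B R) = Ideal.span {g})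
  (F : Type u) [AddCommGroup F] [Module B F]

include hsurj in
theorem exists_one_tmul (x : R ⊗[B] F) : ∃ f : F, x = (1 : R) ⊗ₜ[B] f := by
  induction x with
  | zero => exact ⟨0, by simp⟩
  | tmul r f =>
    obtain ⟨b, rfl⟩ := hsurj r
    refine ⟨b • f, ?_⟩
    rw [TensorProduct.tmul_smul, TensorProduct.smul_tmul', Algebra.smul_def, mul_one]
  | add x y hx hy =>
    obtain ⟨f, rfl⟩ := hx
    obtain ⟨f', rfl⟩ := hy
    exact ⟨f + f', by rw [TensorProduct.tmul_add]⟩

include hker in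
theorem one_tmul_smul (f : F) : (1 : R) ⊗ₜ[B] (g • f) = 0 := by
  have h0 : algebraMap B R g = 0 := by
    rw [← RingHom.mem_ker, hker]
    exact Ideal.mem_span_singleton_self g
  rw [TensorProduct.tmul_smul, TensorProduct.smul_tmul', Algebra.smul_def, mul_one, h0,
    TensorProduct.zero_tmul]

include hsurj hker in
theorem one_tmul_eq_zero_iff (f : F) : (1 : R) ⊗ₜ[B] f = 0 ↔ ∃ f', f = g • f' := by
  constructor
  · intro h
    have hex : Function.Exact (g • (LinearMap.id : B →ₗ[B] B)) (Algebra.linearMap B R) := by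
      intro b
      rw [Algebra.linearMap_apply, ← RingHom.mem_ker, hker, Ideal.mem_span_singleton']
      constructor
      · rintro ⟨c, rfl⟩
        exact ⟨c, by simp [mul_comm]⟩
      · rintro ⟨c, rfl⟩
        exact ⟨c, by simp [mul_comm]⟩
    have hex' := rTensor_exact F hex hsurj
    have h1 : (LinearMap.rTensor F (Algebra.linearMap B R)) ((1 : B) ⊗ₜ f) = 0 := by
      rw [LinearMap.rTensor_tmul, Algebra.linearMap_apply, map_one]
      exact h
    obtain ⟨y, hy⟩ := (hex' _).1 h1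
    refine ⟨TensorProduct.lid B F y, ?_⟩
    have h2 : LinearMap.rTensor F (g • (LinearMap.id : B →ₗ[B] B)) y = g • y := by
      rw [LinearMap.rTensor_smul, LinearMap.rTensor_id]
      rfl
    rw [h2] at hy
    have := congrArg (TensorProduct.lid B F) hy
    rw [map_smul, TensorProduct.lid_tmul, one_smul] at this
    exact this.symm
  · rintro ⟨f', rfl⟩
    exact one_tmul_smul g hker F f'

end Quot

/-- tor dimension `≤ d` over `B`, in `IsZero` form -/
def FdLE (B : Type u) [CommRing B] (d : ℕ) (Z : Type u) [AddCommGroup Z] [Module B Z] : Prop :=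
  ∀ (P : ModuleCat.{u} B) (i : ℕ), d < i →
    IsZero (((Tor (ModuleCat.{u} B) i).obj (ModuleCat.of B Z)).obj P)

section BaseChange

variable {B R : Type u} [CommRing B] [CommRing R] [Algebra B R]
  (hsurj : Function.Surjective (algebraMap B R)) (g : B) (hg : IsSMulRegular B g)
  (hker : RingHom.ker (algebraMap B R) = Ideal.span {g})
  (F : Type u) [AddCommGroup F] [Module B F]

include hsurj hg hker in
/-- `R ⊗_B F` has tor dimension `≤ 1` over `B` when `F` is flat and `R = B/(g)` -/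
theorem fdLE_one_baseChange [Module.Flat B F] : FdLE B 1 (R ⊗[B] F) := by
  intro P i hi
  obtain ⟨n, rfl⟩ : ∃ n, i = n + 1 := ⟨i - 1, by omega⟩
  have hreg : IsSMulRegular F g := by
    apply Module.Flat.isSMulRegular_of_isRegular
    exact ⟨hg, fun a b hab => hg (by simpa [mul_comm] using hab)⟩
  have hS := Groth.Agent.H29.GlDimL.shortExact_of_exact
    (g • (LinearMap.id : F →ₗ[B] F)) (TensorProduct.mk B R F 1) hreg
    (fun x => by
      obtain ⟨f, rfl⟩ := exists_one_tmul hsurj F x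
      exact ⟨f, rfl⟩)
    (fun f => by
      rw [TensorProduct.mk_apply, one_tmul_eq_zero_iff hsurj g hker F f]
      constructor
      · rintro ⟨f', rfl⟩
        exact ⟨f', rfl⟩
      · rintro ⟨f', rfl⟩
        exact ⟨f', rfl⟩)
  have hF : Module.Flat B (ModuleCat.of B F) := ‹_›
  refine isZero_tor_X₃ hS P n ?_ ?_
  · exact isZero_tor_succ_of_flat_left (ModuleCat.of B F) P n
  · obtain ⟨k, rfl⟩ : ∃ k, n = k + 1 := ⟨n - 1, by omega⟩
    exact isZero_tor_succ_of_flat_left (ModuleCat.of B F) P k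

end BaseChange

section Pres

variable {B R : Type u} [CommRing B] [CommRing R] [Algebra B R]
  (hsurj : Function.Surjective (algebraMap B R)) (g : B) (hg : IsSMulRegular B g)
  (hker : RingHom.ker (algebraMap B R) = Ideal.span {g})
  (Z : Type u) [AddCommGroup Z] [Module R Z] [Module B Z] [IsScalarTower B R Z]

variable (B) in
/-- the free `B`-module on `Z` mapping onto `Z` -/
noncomputable def π₀ : (Z →₀ B) →ₗ[B] Z := Finsupp.linearCombination B id

lemma π₀_surjective : Function.Surjective (π₀ B Z) :=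
  Finsupp.linearCombination_id_surjective B Z

variable (B R) in
/-- the induced surjection from the base change -/
noncomputable def p₀ : R ⊗[B] (Z →₀ B) →ₗ[R] Z := LinearMap.liftBaseChange R (π₀ B Z)

lemma p₀_one_tmul (f : Z →₀ B) : p₀ B R Z ((1 : R) ⊗ₜ[B] f) = π₀ B Z f := by
  rw [p₀, LinearMap.liftBaseChange_tmul, one_smul]

lemma p₀_surjective : Function.Surjective (p₀ B R Z) := fun z => by
  obtain ⟨f, rfl⟩ := π₀_surjective (B := B) Z z
  exact ⟨(1 : R) ⊗ₜ[B] f, p₀_one_tmul Z f⟩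

variable (B R) in
/-- the first syzygy of `Z` over `R` (for the presentation by `R ⊗_B B^(Z)`) -/
noncomputable abbrev syz : Submodule R (R ⊗[B] (Z →₀ B)) := LinearMap.ker (p₀ B R Z)

/-- `Tor^R_{n+2}(Z, N) ≅ Tor^R_{n+1}(syz Z, N)` -/
theorem nonempty_tor_syz (N : ModuleCat.{u} R) (n : ℕ) :
    Nonempty (((Tor (ModuleCat.{u} R) (n + 1 + 1)).obj (ModuleCat.of R Z)).obj N ≅
      ((Tor (ModuleCat.{u} R) (n + 1)).obj (ModuleCat.of R (syz B R Z))).obj N) := by
  let ι : ↥(syz B R Z) →ₗ[R] R ⊗[B] (Z →₀ B) := (syz B R Z).subtype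
  have hex : Function.Exact ι (p₀ B R Z) :=
    LinearMap.exact_subtype_ker_map (p₀ B R Z)
  have hinj : Function.Injective ι := Submodule.subtype_injective _
  have hS := @Groth.Agent.H29.GlDimL.shortExact_of_exact R _ ↥(syz B R Z) (R ⊗[B] (Z →₀ B)) Z
    _ _ _ _ _ _ ι (p₀ B R Z) hinj (p₀_surjective Z) hex
  have hfl : Module.Flat R (ModuleCat.of R (R ⊗[B] (Z →₀ B))) :=
    inferInstanceAs (Module.Flat R (R ⊗[B] (Z →₀ B)))
  exact @nonempty_tor_shift _ _ _ hS hfl N n

include hsurj hg hker in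
/-- the syzygy has smaller tor dimension over `B` -/
theorem fdLE_syz (e : ℕ) (he : 1 ≤ e) (hZ : FdLE B (e + 1) Z) : FdLE B e (syz B R Z) := by
  intro P i hi
  let ι : ↥(syz B R Z) →ₗ[B] R ⊗[B] (Z →₀ B) := (syz B R Z).subtype.restrictScalars B
  let p : R ⊗[B] (Z →₀ B) →ₗ[B] Z := (p₀ B R Z).restrictScalars B
  have hex : Function.Exact ι p := LinearMap.exact_subtype_ker_map (p₀ B R Z)
  have hinj : Function.Injective ι := Submodule.subtype_injective _
  have hsur : Function.Surjective p := p₀_surjective Z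
  have hS := @Groth.Agent.H29.GlDimL.shortExact_of_exact B _ ↥(syz B R Z) (R ⊗[B] (Z →₀ B)) Z
    _ _ _ _ _ _ ι p hinj hsur hex
  exact isZero_tor_X₁ hS P i (hZ P (i + 1) (by omega))
    (fdLE_one_baseChange hsurj g hg hker (Z →₀ B) P i (by omega))

/-- the kernel of the free `B`-presentation is flat when `Z` has tor dimension `≤ 1` over `B` -/
theorem flat_ker_π₀ (hZ : FdLE B 1 Z) : Module.Flat B (LinearMap.ker (π₀ B Z)) := by
  refine Groth.Agent.H9.WeakDimWE.flat_of_isZero_tor_one (LinearMap.ker (π₀ B Z)) ?_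
  intro N _ _
  let K := LinearMap.ker (π₀ B Z)
  let ι : ↥K →ₗ[B] (Z →₀ B) := K.subtype
  have hex : Function.Exact ι (π₀ B Z) := LinearMap.exact_subtype_ker_map (π₀ B Z)
  have hinj : Function.Injective ι := Submodule.subtype_injective _
  have hS := @Groth.Agent.H29.GlDimL.shortExact_of_exact B _ ↥K (Z →₀ B) Z
    _ _ _ _ _ _ ι (π₀ B Z) hinj (π₀_surjective Z) hex
  have hfl : Module.Flat B (ModuleCat.of B (Z →₀ B)) :=
    inferInstanceAs (Module.Flat B (Z →₀ B))
  exact isZero_tor_X₁ hS (ModuleCat.of B N) 1 (hZ _ 2 (by omega))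
    (isZero_tor_succ_of_flat_left (ModuleCat.of B (Z →₀ B)) (ModuleCat.of B N) 0)

section Sigma

include hker in
lemma smul_mem_ker_π₀ (f : Z →₀ B) : (g • (LinearMap.id : (Z →₀ B) →ₗ[B] (Z →₀ B))) f ∈
    LinearMap.ker (π₀ B Z) := by
  have h0 : algebraMap B R g = 0 := by
    rw [← RingHom.mem_ker, hker]
    exact Ideal.mem_span_singleton_self g
  rw [LinearMap.mem_ker, LinearMap.smul_apply, LinearMap.id_apply, map_smul,
    ← algebraMap_smul R g (π₀ B Z f), h0, zero_smul]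

/-- `f ↦ 1 ⊗ g f` -/
noncomputable def τ : (Z →₀ B) →ₗ[B] R ⊗[B] (LinearMap.ker (π₀ B Z)) :=
  (TensorProduct.mk B R (LinearMap.ker (π₀ B Z)) 1) ∘ₗ
    (LinearMap.codRestrict (LinearMap.ker (π₀ B Z))
      (g • (LinearMap.id : (Z →₀ B) →ₗ[B] (Z →₀ B))) (smul_mem_ker_π₀ g hker Z))

lemma τ_apply (f : Z →₀ B) : τ g hker Z f =
    (1 : R) ⊗ₜ[B] (⟨g • f, smul_mem_ker_π₀ g hker Z f⟩ : LinearMap.ker (π₀ B Z)) := rfl

lemma τ_eq_zero (k : Z →₀ B) (hk : k ∈ LinearMap.ker (π₀ B Z)) : τ g hker Z k = 0 := by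
  rw [τ_apply]
  have : (⟨g • k, smul_mem_ker_π₀ g hker Z k⟩ : LinearMap.ker (π₀ B Z)) =
      g • (⟨k, hk⟩ : LinearMap.ker (π₀ B Z)) := rfl
  rw [this]
  exact one_tmul_smul g hker (LinearMap.ker (π₀ B Z)) (⟨k, hk⟩ : LinearMap.ker (π₀ B Z))

/-- the map `Z → R ⊗_B K`, `π f ↦ 1 ⊗ g f`, as a `B`-linear map -/
noncomputable def σB : Z →ₗ[B] R ⊗[B] (LinearMap.ker (π₀ B Z)) :=
  ((LinearMap.ker (π₀ B Z)).liftQ (τ g hker Z) (fun k hk => τ_eq_zero g hker Z k hk)) ∘ₗ
    ((π₀ B Z).quotKerEquivOfSurjective (π₀_surjective Z)).symm.toLinearMap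

/-- the map `Z → R ⊗_B K`, `π f ↦ 1 ⊗ g f` -/
noncomputable def σ : Z →ₗ[R] R ⊗[B] (LinearMap.ker (π₀ B Z)) :=
  LinearMap.extendScalarsOfSurjective hsurj (σB g hker Z)

lemma σ_apply (f : Z →₀ B) : σ hsurj g hker Z (π₀ B Z f) =
    (1 : R) ⊗ₜ[B] (⟨g • f, smul_mem_ker_π₀ g hker Z f⟩ : LinearMap.ker (π₀ B Z)) := by
  change ((LinearMap.ker (π₀ B Z)).liftQ (τ g hker Z) (fun k hk => τ_eq_zero g hker Z k hk))
    (((π₀ B Z).quotKerEquivOfSurjective (π₀_surjective Z)).symm (π₀ B Z f)) = _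
  have h1 : ((π₀ B Z).quotKerEquivOfSurjective (π₀_surjective Z)).symm (π₀ B Z f) =
      Submodule.Quotient.mk f := by
    rw [LinearEquiv.symm_apply_eq]
    rfl
  rw [h1, Submodule.liftQ_apply, τ_apply]

include hsurj in
lemma baseChange_mem_syz (x : R ⊗[B] (LinearMap.ker (π₀ B Z))) :
    LinearMap.baseChange R (LinearMap.ker (π₀ B Z)).subtype x ∈ syz B R Z := by
  obtain ⟨k, rfl⟩ := exists_one_tmul hsurj (LinearMap.ker (π₀ B Z)) x
  rw [LinearMap.mem_ker, LinearMap.baseChange_tmul, p₀_one_tmul]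
  exact k.2

/-- the map `R ⊗_B K → syz Z` -/
noncomputable def j' : R ⊗[B] (LinearMap.ker (π₀ B Z)) →ₗ[R] syz B R Z :=
  LinearMap.codRestrict (syz B R Z) (LinearMap.baseChange R (LinearMap.ker (π₀ B Z)).subtype)
    (baseChange_mem_syz hsurj Z)

lemma j'_one_tmul (k : LinearMap.ker (π₀ B Z)) :
    ((j' hsurj Z ((1 : R) ⊗ₜ[B] k) : syz B R Z) : R ⊗[B] (Z →₀ B)) =
      (1 : R) ⊗ₜ[B] (k : Z →₀ B) := rfl

include hg in
lemma σ_injective : Function.Injective (σ hsurj g hker Z) := by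
  rw [injective_iff_map_eq_zero]
  intro z hz
  obtain ⟨f, rfl⟩ := π₀_surjective (B := B) Z z
  rw [σ_apply] at hz
  obtain ⟨k, hk⟩ := (one_tmul_eq_zero_iff hsurj g hker (LinearMap.ker (π₀ B Z)) _).1 hz
  have h1 : g • f = g • (k : Z →₀ B) := congrArg Subtype.val hk
  have hreg : IsSMulRegular (Z →₀ B) g := by
    apply Module.Flat.isSMulRegular_of_isRegular
    exact ⟨hg, fun a b hab => hg (by simpa [mul_comm] using hab)⟩
  have h2 : f = k := hreg h1
  rw [h2]
  exact k.2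

lemma j'_surjective : Function.Surjective (j' hsurj Z) := by
  rintro ⟨w, hw⟩
  obtain ⟨f, rfl⟩ := exists_one_tmul hsurj _ w
  have hf : f ∈ LinearMap.ker (π₀ B Z) := by
    rw [LinearMap.mem_ker, p₀_one_tmul] at hw
    exact hw
  refine ⟨(1 : R) ⊗ₜ[B] (⟨f, hf⟩ : LinearMap.ker (π₀ B Z)), ?_⟩
  apply Subtype.ext
  rw [j'_one_tmul]

lemma exact_σ_j' : Function.Exact (σ hsurj g hker Z) (j' hsurj Z) := by
  intro x
  obtain ⟨k, rfl⟩ := exists_one_tmul hsurj (LinearMap.ker (π₀ B Z)) x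
  constructor
  · intro h
    have h1 : (1 : R) ⊗ₜ[B] (k : Z →₀ B) = 0 := by
      rw [← j'_one_tmul hsurj Z k, h]
      rfl
    rw [one_tmul_eq_zero_iff hsurj g hker] at h1
    obtain ⟨f', hf'⟩ := h1
    refine ⟨π₀ B Z f', ?_⟩
    rw [σ_apply]
    congr 1
    apply Subtype.ext
    exact hf'.symm
  · rintro ⟨z, hz⟩
    obtain ⟨f, rfl⟩ := π₀_surjective (B := B) Z z
    rw [σ_apply] at hz
    rw [← hz]
    apply Subtype.ext
    rw [j'_one_tmul]
    exact one_tmul_smul g hker _ f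

include hsurj hg hker in
/-- `Tor^R_{n+2}(syz Z, N) ≅ Tor^R_{n+1}(Z, N)` when `Z` has tor dimension `≤ 1` over `B` -/
theorem nonempty_tor_syz' (hZ : FdLE B 1 Z) (N : ModuleCat.{u} R) (n : ℕ) :
    Nonempty (((Tor (ModuleCat.{u} R) (n + 1 + 1)).obj (ModuleCat.of R (syz B R Z))).obj N ≅
      ((Tor (ModuleCat.{u} R) (n + 1)).obj (ModuleCat.of R Z)).obj N) := by
  have hK : Module.Flat B (LinearMap.ker (π₀ B Z)) := flat_ker_π₀ Z hZ
  have hS := @Groth.Agent.H29.GlDimL.shortExact_of_exact R _ Z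
    (R ⊗[B] (LinearMap.ker (π₀ B Z))) ↥(syz B R Z)
    _ _ _ _ _ _ (σ hsurj g hker Z) (j' hsurj Z) (σ_injective hsurj g hg hker Z)
    (j'_surjective hsurj Z) (exact_σ_j' hsurj g hker Z)
  have hfl : Module.Flat R (ModuleCat.of R (R ⊗[B] (LinearMap.ker (π₀ B Z)))) :=
    inferInstanceAs (Module.Flat R (R ⊗[B] (LinearMap.ker (π₀ B Z))))
  exact @nonempty_tor_shift _ _ _ hS hfl N n

end Sigma

end Pres

section Main

variable {B R : Type u} [CommRing B] [CommRing R] [Algebra B R]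
  (hsurj : Function.Surjective (algebraMap B R)) (g : B) (hg : IsSMulRegular B g)
  (hker : RingHom.ker (algebraMap B R) = Ideal.span {g})

include hsurj hg hker in
theorem periodicity_aux : ∀ (d : ℕ), 1 ≤ d → ∀ (Z : Type u) [AddCommGroup Z] [Module R Z]
    [Module B Z] [IsScalarTower B R Z], FdLE B d Z → ∀ (N : ModuleCat.{u} R) (k : ℕ),
    Nonempty (((Tor (ModuleCat.{u} R) (d + 2 + k)).obj (ModuleCat.of R Z)).obj N ≅
      ((Tor (ModuleCat.{u} R) (d + k)).obj (ModuleCat.of R Z)).obj N) := by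
  intro d hd
  induction d, hd using Nat.le_induction with
  | base =>
    intro Z _ _ _ _ hZ N k
    have e1 : 1 + 2 + k = k + 1 + 1 + 1 := by omega
    have e2 : 1 + k = k + 1 := by omega
    rw [e1, e2]
    obtain ⟨i1⟩ := nonempty_tor_syz (B := B) Z N (k + 1)
    obtain ⟨i2⟩ := nonempty_tor_syz' hsurj g hg hker Z hZ N k
    exact ⟨i1 ≪≫ i2⟩
  | succ d hd ih =>
    intro Z _ _ _ _ hZ N k
    have hsyz : FdLE B d (syz B R Z) := fdLE_syz hsurj g hg hker Z d hd hZ
    obtain ⟨i2⟩ := ih (syz B R Z) hsyz N k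
    obtain ⟨n, hn⟩ : ∃ n, d + k = n + 1 := ⟨d + k - 1, by omega⟩
    have e1 : d + 1 + 2 + k = n + 1 + 1 + 1 + 1 := by omega
    have e2 : d + 1 + k = n + 1 + 1 := by omega
    have e3 : d + 2 + k = n + 1 + 1 + 1 := by omega
    obtain ⟨i1⟩ := nonempty_tor_syz (B := B) Z N (n + 1 + 1)
    obtain ⟨i3⟩ := nonempty_tor_syz (B := B) Z N n
    rw [e3, hn] at i2
    rw [e1, e2]
    exact ⟨i1 ≪≫ i2 ≪≫ i3.symm⟩

include hsurj hg hker in
/-- **Periodicity of `Tor` over a hypersurface**: if `R = B/(g)` with `g` regular and the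
`R`-module `Z` has tor dimension `≤ d` over `B`, then `Tor^R_q(Z, N) ≅ Tor^R_{q-2}(Z, N)` for
`q ≥ d + 2`. -/
theorem nonempty_tor_iso_sub_two (d : ℕ) (Z : Type u) [AddCommGroup Z] [Module R Z]
    [Module B Z] [IsScalarTower B R Z] (hZ : FdLE B d Z) (N : ModuleCat.{u} R) (q : ℕ)
    (hq : d + 2 ≤ q) :
    Nonempty (((Tor (ModuleCat.{u} R) q).obj (ModuleCat.of R Z)).obj N ≅
      ((Tor (ModuleCat.{u} R) (q - 2)).obj (ModuleCat.of R Z)).obj N) := by
  rcases Nat.eq_zero_or_pos d with hd | hd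
  · subst hd
    have hflat : Module.Flat B Z :=
      Groth.Agent.H9.WeakDimWE.flat_of_isZero_tor_one Z
        (fun N _ _ => hZ (ModuleCat.of B N) 1 (by omega))
    have hreg : IsSMulRegular Z g := by
      apply Module.Flat.isSMulRegular_of_isRegular
      exact ⟨hg, fun a b hab => hg (by simpa [mul_comm] using hab)⟩
    have h0 : algebraMap B R g = 0 := by
      rw [← RingHom.mem_ker, hker]
      exact Ideal.mem_span_singleton_self g
    have hsub : Subsingleton Z := by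
      refine ⟨fun a b => hreg ?_⟩
      change g • a = g • b
      rw [← algebraMap_smul R g a, ← algebraMap_smul R g b, h0, zero_smul, zero_smul]
    have hz : IsZero (ModuleCat.of R Z) := ModuleCat.isZero_of_subsingleton _
    exact ⟨(isZero_tor_of_isZero _ N hz q).iso (isZero_tor_of_isZero _ N hz (q - 2))⟩
  · obtain ⟨k, rfl⟩ : ∃ k, q = d + 2 + k := ⟨q - (d + 2), by omega⟩
    have e : d + 2 + k - 2 = d + k := by omega
    rw [e]
    exact periodicity_aux hsurj g hg hker d hd Z hZ N k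

end Main

end Groth.Agent.H59.HypPeriod
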