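import Mathlib
import Groth.Agent.H59.ExtPowAnn
import Groth.Agent.H59.HypPeriod2

/-!
# The Jacobian ideal of a hypersurface `R = B/(g)` in a smooth `A`-algebra `B`

* `ker_mapBaseChange`: the kernel of `R ⊗_B Ω_{B/A} → Ω_{R/A}` is generated by `1 ⊗ dg`.
* `evalIdeal_dgR`: the ideal of values of linear forms at `1 ⊗ dg` is generated by the `φ(dg)`.
* `annihilator_extPow_kaehler` (S14477): `Ann ⋀^n Ω_{R/A} = (φ(dg))`.
-/

set_option autoImplicit false
universe u

namespace Groth.Agent.H59.HypJac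

open TensorProduct KaehlerDifferential Groth.Agent.H59.ExtPowAnn

variable (A B R : Type u) [CommRing A] [CommRing B] [CommRing R]
  [Algebra A B] [Algebra B R] [Algebra A R] [IsScalarTower A B R]

/-- the class of `dg` in `R ⊗_B Ω_{B/A}` -/
noncomputable abbrev dgR (g : B) : R ⊗[B] Ω[B⁄A] := (1 : R) ⊗ₜ[B] D A B g

variable {B R} in
/-- the kernel of `R ⊗_B Ω_{B/A} → Ω_{R/A}` is generated by `1 ⊗ dg` -/
theorem ker_mapBaseChange (g : B) (hsurj : Function.Surjective (algebraMap B R))
    (hker : RingHom.ker (algebraMap B R) = Ideal.span {g}) :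
    LinearMap.ker (KaehlerDifferential.mapBaseChange A B R) = Submodule.span R {dgR A B R g} := by
  have hex := KaehlerDifferential.exact_kerCotangentToTensor_mapBaseChange A B R hsurj
  have hg : g ∈ RingHom.ker (algebraMap B R) := by
    rw [hker]
    exact Ideal.mem_span_singleton_self g
  apply le_antisymm
  · intro x hx
    obtain ⟨y, rfl⟩ := (hex x).1 hx
    obtain ⟨⟨z, hz⟩, rfl⟩ := Ideal.toCotangent_surjective _ y
    rw [kerCotangentToTensor_toCotangent]
    have hz' := hz
    rw [hker, Ideal.mem_span_singleton'] at hz'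
    obtain ⟨c, rfl⟩ := hz'
    change (1 : R) ⊗ₜ[B] D A B (c * g) ∈ _
    rw [Derivation.leibniz, TensorProduct.tmul_add,
      Groth.Agent.H59.HypPeriod.one_tmul_smul g hker, add_zero, TensorProduct.tmul_smul,
      ← algebraMap_smul R c ((1 : R) ⊗ₜ[B] D A B g)]
    exact Submodule.smul_mem _ _ (Submodule.mem_span_singleton_self _)
  · rw [Submodule.span_le, Set.singleton_subset_iff]
    exact (hex _).2 ⟨Ideal.toCotangent _ ⟨g, hg⟩, rfl⟩

omit [Algebra A R] [IsScalarTower A B R] in
variable {B R} in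
/-- the values of the `R`-linear forms on `R ⊗_B Ω_{B/A}` at `1 ⊗ dg` are the classes of the
`φ(dg)`, `φ` a `B`-linear form on `Ω_{B/A}` -/
theorem evalIdeal_dgR [Module.Projective B (Ω[B⁄A])] (g : B)
    (hsurj : Function.Surjective (algebraMap B R)) :
    evalIdeal (dgR A B R g) =
      Ideal.span (Set.range fun φ : Ω[B⁄A] →ₗ[B] B => algebraMap B R (φ (D A B g))) := by
  apply le_antisymm
  · intro a ha
    obtain ⟨ψ, rfl⟩ := mem_evalIdeal.1 ha
    let ψ' : Ω[B⁄A] →ₗ[B] R := (ψ.restrictScalars B) ∘ₗ (TensorProduct.mk B R (Ω[B⁄A]) 1)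
    obtain ⟨φ, hφ⟩ := Module.projective_lifting_property (Algebra.linearMap B R) ψ' hsurj
    have h1 : ψ (dgR A B R g) = algebraMap B R (φ (D A B g)) := by
      have := LinearMap.congr_fun hφ (D A B g)
      exact this.symm
    rw [h1]
    exact Ideal.subset_span ⟨φ, rfl⟩
  · rw [Ideal.span_le]
    rintro _ ⟨φ, rfl⟩
    refine mem_evalIdeal.2 ⟨LinearMap.liftBaseChange R ((Algebra.linearMap B R) ∘ₗ φ), ?_⟩
    rw [LinearMap.liftBaseChange_tmul, one_smul]
    rfl

variable {B R} in
/-- **S14477** -/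
theorem annihilator_extPow_kaehler [Algebra.Smooth A B] (n : ℕ)
    (hn : ∀ p : PrimeSpectrum B, Module.rankAtStalk (Ω[B⁄A]) p = n) (g : B)
    (hsurj : Function.Surjective (algebraMap B R))
    (hker : RingHom.ker (algebraMap B R) = Ideal.span {g}) :
    (⋀[R]^n (Ω[R⁄A])).annihilator =
      Ideal.span (Set.range fun φ : Ω[B⁄A] →ₗ[B] B => algebraMap B R (φ (D A B g))) := by
  rw [← evalIdeal_dgR A g hsurj]
  refine annihilator_extPow_eq n (fun p => ?_) (KaehlerDifferential.mapBaseChange A B R)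
    (KaehlerDifferential.mapBaseChange_surjective A B R hsurj) _
    (ker_mapBaseChange A g hsurj hker)
  rw [Module.rankAtStalk_baseChange, hn]

end Groth.Agent.H59.HypJac
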