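import Mathlib
import Groth.Prelude.Def_DRing2
import Groth.Agent.H33.TorLoc.Ring
import Groth.Agent.H35.PolyTor
import Groth.Agent.H28.TorAmpWE
import Groth.Agent.H35.TorAmpDescent
import Groth.Agent.H35.TorDimAmp

/-!
# Tor dimension of modules over a smooth algebra

`hasTorDimLE_of_smooth`: if `B` is smooth over `A` with `Ω_{B/A}` of rank `n` everywhere and the
`B`-module `M` has tor dimension `≤ m` over `A`, then `M` has tor dimension `≤ m + n` over `B`.

The proof covers `Spec B` by principal opens `D(f)` with `B_f` standard étale over a polynomial ring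
`A[x_1, …, x_n]` (Mathlib), and uses: localization of the algebra preserves tor amplitude over the
base (helper33), the polynomial step (helper35 `tavia_mvPolynomial`), the weakly étale step
(helper28 `hasTorAmplitudeIn_of_restrict`) and Zariski descent of tor amplitude (helper35).
`hasTorAmplitudeIn_chart` is the statement for one chart, for complexes.
-/

set_option autoImplicit false
universe u

attribute [local instance] HasDerivedCategory.standard

namespace Groth.Agent.H59.SmoothTorDim

open CategoryTheory CategoryTheory.Limits TensorProduct KaehlerDifferential HomologicalComplex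
  DerivedCategory Groth.Agent.H35.KF Groth.Agent.H35.KFBC Groth.Agent.H35.LT
  Groth.Agent.H35.PolyTor Groth.Agent.H33.TorLoc Groth.Agent.H35

/-- the number of variables of an étale chart equals the rank of the differentials -/
theorem card_eq_rank (A B : Type u) [CommRing A] [CommRing B] [Algebra A B]
    [Algebra.Smooth A B] (n : ℕ)
    (hn : ∀ p : PrimeSpectrum B, Module.rankAtStalk (Ω[B⁄A]) p = n) (f : B) (n' : ℕ)
    [Algebra (MvPolynomial (Fin n') A) (Localization.Away f)]
    [IsScalarTower A (MvPolynomial (Fin n') A) (Localization.Away f)]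
    [Algebra.FormallyEtale (MvPolynomial (Fin n') A) (Localization.Away f)]
    [Nontrivial (Localization.Away f)] : n' = n := by
  let T := Localization.Away f
  let P := MvPolynomial (Fin n') A
  have : Algebra.FormallyEtale B T := Algebra.FormallyEtale.of_isLocalization (Submonoid.powers f)
  let e1 : T ⊗[P] Ω[P⁄A] ≃ₗ[T] Ω[T⁄A] := tensorKaehlerEquivOfFormallyEtale A P T
  let e2 : T ⊗[B] Ω[B⁄A] ≃ₗ[T] Ω[T⁄A] := tensorKaehlerEquivOfFormallyEtale A B T
  obtain ⟨q⟩ : Nonempty (PrimeSpectrum T) := inferInstance
  have h1 : Module.rankAtStalk (Ω[T⁄A]) q = n := by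
    rw [← Module.rankAtStalk_eq_of_equiv e2, Module.rankAtStalk_baseChange, hn]
  have : Nontrivial P := (algebraMap P T).domain_nontrivial
  have h2 : Module.rankAtStalk (Ω[T⁄A]) q = n' := by
    rw [← Module.rankAtStalk_eq_of_equiv e1, Module.rankAtStalk_eq_finrank_of_free,
      Pi.natCast_apply]
    rw [Module.finrank_baseChange,
      Module.finrank_eq_card_basis (KaehlerDifferential.mvPolynomialBasis A (Fin n'))]
    simp
  omega

section Glue

variable (A B : Type u) [CommRing A] [CommRing B] [Algebra A B]
  (M : Type u) [AddCommGroup M] [Module B M] [Module A M] [IsScalarTower A B M]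

/-- the restriction of scalars of `M` is `M` -/
noncomputable def restrictEquiv :
    ((ModuleCat.restrictScalars (algebraMap A B)).obj (ModuleCat.of B M)) ≃ₗ[A] M where
  toFun x := x
  invFun x := x
  map_add' _ _ := rfl
  map_smul' a x := by
    rw [ModuleCat.restrictScalars.smul_def, RingHom.id_apply]
    exact algebraMap_smul B a (show M from x)
  left_inv _ := rfl
  right_inv _ := rfl

/-- `M[0]` over `A` as the restriction of the stalk complex of `M` over `B` -/
noncomputable def inDResLIso :
    Dual.inD A M ≅ Q.obj (resL (algebraMap A B) (sgl (ModuleCat.of B M))) :=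
  (DerivedCategory.singleFunctor (ModuleCat.{u} A) 0).mapIso
      (restrictEquiv A B M).toModuleIso.symm ≪≫
    (DerivedCategory.singleFunctorIsoCompQ (ModuleCat.{u} A) 0).app _ ≪≫
    Q.mapIso ((HomologicalComplex.singleMapHomologicalComplex
      (ModuleCat.restrictScalars (algebraMap A B)) (ComplexShape.up ℤ) 0).app
        (ModuleCat.of B M)).symm

end Glue

section Chain

variable (A B : Type u) [CommRing A] [CommRing B] [Algebra A B]

/-- one chart: a flat `B`-algebra `T` that is weakly étale over a polynomial ring in `k`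
variables over `A` -/
theorem hasTorAmplitudeIn_chart (T : Type u) [CommRing T] [Algebra B T] [Algebra A T]
    [IsScalarTower A B T] [Module.Flat B T] (k : ℕ) [Algebra (MvPolynomial (Fin k) A) T]
    [IsScalarTower A (MvPolynomial (Fin k) A) T]
    [Algebra.WeaklyEtale (MvPolynomial (Fin k) A) T]
    (K : CochainComplex (ModuleCat.{u} B) ℤ) (a b : ℤ)
    (h : DRing.HasTorAmplitudeIn A a b (Q.obj (resL (algebraMap A B) K))) :
    DRing.HasTorAmplitudeIn T (a - k) b (Q.obj (extK (algebraMap B T) K)) := by
  let φ : A →+* B := algebraMap A B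
  let β : B →+* T := algebraMap B T
  let δ : MvPolynomial (Fin k) A →+* T := algebraMap (MvPolynomial (Fin k) A) T
  let L := extK β K
  have hβ : β.Flat := (RingHom.flat_algebraMap_iff).2 inferInstance
  have h2 := hasTorAmplitudeIn_resL_resL_extK φ β hβ K a b h
  have hcomp : δ.comp MvPolynomial.C = β.comp φ := by
    ext x
    change algebraMap (MvPolynomial (Fin k) A) T (MvPolynomial.C x) =
      algebraMap B T (algebraMap A B x)
    rw [← MvPolynomial.algebraMap_eq, ← IsScalarTower.algebraMap_apply,
      ← IsScalarTower.algebraMap_apply]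
  let e34 : resL φ (resL β L) ≅ resL (δ.comp MvPolynomial.C) L :=
    ((NatIso.mapHomologicalComplex
      (ModuleCat.restrictScalarsComp' φ β (δ.comp MvPolynomial.C) hcomp)
      (ComplexShape.up ℤ)).app L).symm
  have h3 : DRing.HasTorAmplitudeIn A a b (Q.obj (resL (δ.comp MvPolynomial.C) L)) :=
    hasTorAmplitudeIn_of_iso (Q.mapIso e34) a b h2
  have h4 : TAvia (δ.comp MvPolynomial.C) a b (Q.obj L) :=
    hasTorAmplitudeIn_of_iso
      ((ModuleCat.restrictScalars (δ.comp MvPolynomial.C)).mapDerivedCategoryFactors.app L).symm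
      a b h3
  have h5 : TAvia δ (a - k) b (Q.obj L) := tavia_mvPolynomial k δ a b (Q.obj L) h4
  exact Groth.Agent.H28.TorAmpWE.hasTorAmplitudeIn_of_restrict (Q.obj L) (a - k) b h5

end Chain

section Main

variable (A B : Type u) [CommRing A] [CommRing B] [Algebra A B] [Algebra.Smooth A B]
  (M : Type u) [AddCommGroup M] [Module B M] [Module A M] [IsScalarTower A B M]

/-- **Tor dimension over a smooth algebra**: if `B` is smooth over `A` of relative dimension `n`
and the `B`-module `M` has tor dimension `≤ m` over `A`, then `M` has tor dimension `≤ m + n`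
over `B`. -/
theorem hasTorDimLE_of_smooth (n : ℕ)
    (hn : ∀ p : PrimeSpectrum B, Module.rankAtStalk (Ω[B⁄A]) p = n) (m : ℕ)
    (hM : DRing.HasTorDimLE A m M) : DRing.HasTorDimLE B (m + n) M := by
  rw [hasTorDimLE_iff_hasTorAmplitudeIn] at hM ⊢
  let K : CochainComplex (ModuleCat.{u} B) ℤ := sgl (ModuleCat.of B M)
  have h1 : DRing.HasTorAmplitudeIn A (-(m : ℤ)) 0 (Q.obj (resL (algebraMap A B) K)) :=
    hasTorAmplitudeIn_of_iso (inDResLIso A B M) _ _ hM
  have key : ∀ p : PrimeSpectrum B, ∃ f : B, f ∉ p.asIdeal ∧
      DRing.HasTorAmplitudeIn (Localization.Away f) (-(m : ℤ) - n) 0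
        (DRing.toD ((extCx (algebraMap B (Localization.Away f))).obj K)) := by
    intro p
    obtain ⟨f, hfp, n', _, _, hstd⟩ :=
      Algebra.IsSmoothAt.exists_isStandardEtale_mvPolynomial (R := A) (p := p.asIdeal)
    refine ⟨f, hfp, ?_⟩
    have hnt : Nontrivial (Localization.Away f) := by
      rw [nontrivial_iff_exists_ne (0 : Localization.Away f)]
      refine ⟨1, fun h => hfp ?_⟩
      have h' : algebraMap B (Localization.Away f) 1 = 0 := by rw [map_one, h]
      rw [IsLocalization.map_eq_zero_iff (Submonoid.powers f)] at h'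
      obtain ⟨⟨_, k, rfl⟩, hk⟩ := h'
      rw [mul_one] at hk
      have hk' : f ^ k = 0 := hk
      exact p.isPrime.mem_of_pow_mem k (by rw [hk']; exact zero_mem _)
    have hnn : n' = n := card_eq_rank A B n hn f n'
    subst hnn
    exact hasTorAmplitudeIn_chart A B (Localization.Away f) n' K _ _ h1
  choose f hfp hf using key
  have hspan : Ideal.span (Set.range f) = ⊤ := by
    by_contra H
    obtain ⟨𝔪, h𝔪, hle⟩ := Ideal.exists_le_maximal _ H
    exact hfp ⟨𝔪, h𝔪.isPrime⟩ (hle (Ideal.subset_span (Set.mem_range_self _)))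
  obtain ⟨s, hs, hs'⟩ := (Ideal.span_eq_top_iff_finite _).1 hspan
  let f' : Fin s.card → B := fun i => (s.equivFin.symm i).1
  have hrange : Set.range f' = (s : Set B) := by
    ext x
    constructor
    · rintro ⟨i, rfl⟩
      exact (s.equivFin.symm i).2
    · intro hx
      exact ⟨s.equivFin ⟨x, hx⟩, by simp [f']⟩
  have h7 : DRing.HasTorAmplitudeIn B (-(m : ℤ) - n) 0 (DRing.toD K) := by
    refine hasTorAmplitudeIn_of_localization_away_extCx f' (by rw [hrange]; exact hs') K _ _ ?_
    intro i
    obtain ⟨p, hp⟩ := hs (s.equivFin.symm i).2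
    have := hf p
    rw [hp] at this
    exact this
  have h8 : (-(((m + n : ℕ) : ℤ))) = -(m : ℤ) - n := by push_cast; ring
  rw [h8]
  exact hasTorAmplitudeIn_of_iso
    ((DerivedCategory.singleFunctorIsoCompQ (ModuleCat.{u} B) 0).app _).symm _ _ h7

end Main

end Groth.Agent.H59.SmoothTorDim
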