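import Mathlib
import Groth.Agent.H9.TorNat.First
import Groth.Agent.H59.HypPeriod2
import Groth.Agent.H59.HypJac
import Groth.Agent.H59.SmoothTorDim

/-!
# The Jacobian ideal annihilates `Tor` over a hypersurface

Let `R = B/(g)`, `g` a nonzerodivisor, and `D` an `A`-derivation of `B`.  If the `R`-module `Z`
has tor dimension `≤ d` over `B` then `D g` kills `Tor^R_q(Z, N)` for all `q ≥ d`
(`smul_id_tor_eq_zero`).  Key point (`θR_σ`): for `d ≤ 1`, with `0 → K → B^(Z) → Z → 0`,
multiplication by `D g` on `Z` factors as `Z → R ⊗_B K → Z` through a flat `R`-module, where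
`K → Z` is `k ↦ π(D k)` (coordinatewise derivative).
`tor_map_smul_id`: `Tor_k(a · 1_Z, N) = a · 1`.
-/

set_option autoImplicit false
set_option linter.unusedSectionVars false
universe u

namespace Groth.Agent.H59.HypJacTor

open CategoryTheory CategoryTheory.Limits MonoidalCategory Groth.Agent.H9 Groth.Agent.H9.TorNat
  TensorProduct Groth.Agent.H59.HypPeriod

section TorLinear

variable {R : Type u} [CommRing R]

lemma homologyMap_smul_id (P : ChainComplex (ModuleCat.{u} R) ℕ) (a : R) (i : ℕ) :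
    HomologicalComplex.homologyMap (a • 𝟙 P) i = a • 𝟙 (P.homology i) := by
  have h : (HomologicalComplex.shortComplexFunctor (ModuleCat.{u} R) (ComplexShape.down ℕ) i).map
      (a • 𝟙 P) = a • 𝟙 _ := by
    ext <;> rfl
  change ShortComplex.homologyMap
    ((HomologicalComplex.shortComplexFunctor (ModuleCat.{u} R) (ComplexShape.down ℕ) i).map
      (a • 𝟙 P)) = _
  rw [h, ShortComplex.homologyMap_smul, ShortComplex.homologyMap_id]
  rfl

/-- `Tor_k(-, N)` applied to multiplication by `a` is multiplication by `a` -/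
theorem tor_map_smul_id (Z N : ModuleCat.{u} R) (a : R) (k : ℕ) :
    ((Tor (ModuleCat.{u} R) k).map (a • 𝟙 Z)).app N =
      a • 𝟙 (((Tor (ModuleCat.{u} R) k).obj Z).obj N) := by
  let Q := ProjectiveResolution.of N
  have h := torIsoHomology_naturality₁ (a • 𝟙 Z) Q k
  have h2 : tKmap Q.complex (a • 𝟙 Z) = a • 𝟙 (tK Q.complex Z) := by
    apply HomologicalComplex.hom_ext
    intro i
    rw [tKmap_f]
    change (a • 𝟙 Z) ▷ Q.complex.X i = a • 𝟙 _
    rw [MonoidalLinear.smul_whiskerRight, id_whiskerRight]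
    rfl
  rw [h2, homologyMap_smul_id] at h
  rw [← cancel_mono (torIsoHomology Z Q k).hom, h]
  rw [Linear.comp_smul, Linear.smul_comp, Category.comp_id, Category.id_comp]

end TorLinear

section Deriv

variable {A B R : Type u} [CommRing A] [CommRing B] [CommRing R] [Algebra A B] [Algebra B R]
  (hsurj : Function.Surjective (algebraMap B R)) (g : B) (hg : IsSMulRegular B g)
  (hker : RingHom.ker (algebraMap B R) = Ideal.span {g})
  (Z : Type u) [AddCommGroup Z] [Module R Z] [Module B Z] [IsScalarTower B R Z]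
  (D : Derivation A B B)

/-- the derivation applied coordinatewise on the free module -/
noncomputable def DF : (Z →₀ B) →+ (Z →₀ B) :=
  Finsupp.mapRange.addMonoidHom (D : B →ₗ[A] B).toAddMonoidHom

lemma DF_smul (b : B) (f : Z →₀ B) : DF Z D (b • f) = D b • f + b • DF Z D f := by
  ext z
  simp only [DF, Finsupp.mapRange.addMonoidHom_apply, Finsupp.mapRange_apply, Finsupp.smul_apply,
    Finsupp.add_apply, smul_eq_mul, LinearMap.toAddMonoidHom_coe, Derivation.coeFn_coe,
    Derivation.leibniz]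
  ring

/-- the `B`-linear map `K → Z`, `k ↦ π(D k)` (second fundamental form) -/
noncomputable def θ : LinearMap.ker (π₀ B Z) →ₗ[B] Z where
  toFun k := π₀ B Z (DF Z D k.1)
  map_add' x y := by
    rw [Submodule.coe_add, map_add, map_add]
  map_smul' b k := by
    rw [Submodule.coe_smul, DF_smul, map_add, map_smul, map_smul, RingHom.id_apply]
    have : π₀ B Z k.1 = 0 := k.2
    rw [this, smul_zero, zero_add]

/-- the induced `R`-linear map `R ⊗_B K → Z` -/
noncomputable def θR : R ⊗[B] (LinearMap.ker (π₀ B Z)) →ₗ[R] Z :=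
  LinearMap.liftBaseChange R (θ Z D)

include hsurj in
/-- multiplication by `D g` on `Z` factors through the flat `R`-module `R ⊗_B K` -/
theorem θR_σ (z : Z) : θR Z D (σ hsurj g hker Z z) = algebraMap B R (D g) • z := by
  obtain ⟨f, rfl⟩ := π₀_surjective (B := B) Z z
  have h0 : algebraMap B R g = 0 := by
    rw [← RingHom.mem_ker, hker]
    exact Ideal.mem_span_singleton_self g
  rw [σ_apply, θR, LinearMap.liftBaseChange_tmul, one_smul]
  change π₀ B Z (DF Z D (g • f)) = _
  rw [DF_smul, map_add, map_smul, map_smul, ← algebraMap_smul R g (π₀ B Z (DF Z D f)), h0,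
    zero_smul, add_zero, algebraMap_smul]

include hsurj hg hker in
/-- `D g` kills `Tor^R_{j+1}(Z, N)` when `Z` has tor dimension `≤ 1` over `B` -/
theorem smul_id_tor_eq_zero_of_fdLE_one (hZ : FdLE B 1 Z) (N : ModuleCat.{u} R) (j : ℕ) :
    algebraMap B R (D g) • 𝟙 (((Tor (ModuleCat.{u} R) (j + 1)).obj (ModuleCat.of R Z)).obj N) =
      0 := by
  have hK : Module.Flat B (LinearMap.ker (π₀ B Z)) := flat_ker_π₀ Z hZ
  have hfl : Module.Flat R (ModuleCat.of R (R ⊗[B] (LinearMap.ker (π₀ B Z)))) :=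
    inferInstanceAs (Module.Flat R (R ⊗[B] (LinearMap.ker (π₀ B Z))))
  have hfac : algebraMap B R (D g) • 𝟙 (ModuleCat.of R Z) =
      ModuleCat.ofHom (σ hsurj g hker Z) ≫ ModuleCat.ofHom (θR Z D) := by
    ext z
    exact (θR_σ hsurj g hker Z D z).symm
  rw [← tor_map_smul_id, hfac, Functor.map_comp, NatTrans.comp_app]
  have hz := isZero_tor_succ_of_flat_left (ModuleCat.of R (R ⊗[B] (LinearMap.ker (π₀ B Z)))) N j
  rw [hz.eq_of_tgt (((Tor (ModuleCat.{u} R) (j + 1)).map
    (ModuleCat.ofHom (σ hsurj g hker Z))).app N) 0, zero_comp]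

lemma smul_id_eq_zero_of_iso {X Y : ModuleCat.{u} R} (e : X ≅ Y) (a : R) (h : a • 𝟙 Y = 0) :
    a • 𝟙 X = 0 := by
  have : a • 𝟙 X = e.hom ≫ (a • 𝟙 Y) ≫ e.inv := by
    rw [Linear.smul_comp, Linear.comp_smul, Category.id_comp, Iso.hom_inv_id]
  rw [this, h, zero_comp, comp_zero]

include hsurj hg hker in
theorem smul_id_tor_eq_zero_aux : ∀ (d : ℕ), 1 ≤ d → ∀ (Z : Type u) [AddCommGroup Z]
    [Module R Z] [Module B Z] [IsScalarTower B R Z], FdLE B d Z → ∀ (N : ModuleCat.{u} R)
    (q : ℕ), d ≤ q →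
    algebraMap B R (D g) • 𝟙 (((Tor (ModuleCat.{u} R) q).obj (ModuleCat.of R Z)).obj N) = 0 := by
  intro d hd
  induction d, hd using Nat.le_induction with
  | base =>
    intro Z _ _ _ _ hZ N q hq
    obtain ⟨j, rfl⟩ : ∃ j, q = j + 1 := ⟨q - 1, by omega⟩
    exact smul_id_tor_eq_zero_of_fdLE_one hsurj g hg hker Z D hZ N j
  | succ d hd ih =>
    intro Z _ _ _ _ hZ N q hq
    have hsyz : FdLE B d (syz B R Z) := fdLE_syz hsurj g hg hker Z d hd hZ
    obtain ⟨j, rfl⟩ : ∃ j, q = j + 1 + 1 := ⟨q - 2, by omega⟩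
    obtain ⟨e⟩ := nonempty_tor_syz (B := B) Z N j
    exact smul_id_eq_zero_of_iso e _ (ih (syz B R Z) hsyz N (j + 1) (by omega))

include hsurj hg hker in
/-- **`D g` kills `Tor^R_q(Z, N)` for `q ≥ fd_B Z`**, `D` a derivation of `B`. -/
theorem smul_id_tor_eq_zero (d : ℕ) (Z : Type u) [AddCommGroup Z] [Module R Z] [Module B Z]
    [IsScalarTower B R Z] (hZ : FdLE B d Z) (N : ModuleCat.{u} R) (q : ℕ) (hq : d ≤ q) :
    algebraMap B R (D g) • 𝟙 (((Tor (ModuleCat.{u} R) q).obj (ModuleCat.of R Z)).obj N) = 0 := by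
  rcases Nat.eq_zero_or_pos d with hd | hd
  · subst hd
    have hflat : Module.Flat B Z :=
      Groth.Agent.H9.WeakDimWE.flat_of_isZero_tor_one Z
        (fun N _ _ => hZ (ModuleCat.of B N) 1 (by omega))
    have hreg : IsSMulRegular Z g := by
      apply Module.Flat.isSMulRegular_of_isRegular
      exact ⟨hg, fun a b hab => hg (by simpa [mul_comm] using hab)⟩
    have h0 : algebraMap B R g = 0 := by
      rw [← RingHom.mem_ker, hker]
      exact Ideal.mem_span_singleton_self g
    have hsub : Subsingleton Z := by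
      refine ⟨fun a b => hreg ?_⟩
      change g • a = g • b
      rw [← algebraMap_smul R g a, ← algebraMap_smul R g b, h0, zero_smul, zero_smul]
    have hz : IsZero (ModuleCat.of R Z) := ModuleCat.isZero_of_subsingleton _
    exact (isZero_tor_of_isZero _ N hz q).eq_of_tgt _ _
  · exact smul_id_tor_eq_zero_aux hsurj g hg hker D d hd Z hZ N q hq

end Deriv

end Groth.Agent.H59.HypJacTor
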