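import Mathlib
import Groth.Prelude.Def_SheafNL
import Groth.Prelude.Def_LCI2

/-!
# The Jacobian determinant and the naive cotangent complex of `A[x_1..x_n]/(f_1..f_m)`

For `B = A[x_1, …, x_n]/(f_1, …, f_m)` with `m ≤ n` and `g` the image in `B` of the determinant of
`(∂f_j/∂x_i)_{i,j ≤ m}`, we construct `h : B ⊗ Ω_P → I/I²` with `h ∘ d = g`; if `n = m` also
`d ∘ h = g`.
-/

set_option autoImplicit false
set_option linter.style.haveILetI false
set_option linter.unusedSectionVars false
universe u

namespace Groth.Agent.H59.JacKill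

open Algebra Algebra.Extension MvPolynomial

variable (A : Type u) [CommRing A] (n m : ℕ) (hmn : m ≤ n) (f : Fin m → MvPolynomial (Fin n) A)

/-- the naive presentation of `A[x]/(f)` -/
noncomputable def G :
    Algebra.Generators A (MvPolynomial (Fin n) A ⧸ Ideal.span (Set.range f)) (Fin n) :=
  Algebra.Generators.naive (I := Ideal.span (Set.range f))

theorem ker_G : (G A n m f).toExtension.ker = Ideal.span (Set.range f) :=
  Algebra.Generators.ker_naive _ _

theorem aeval_val (q : MvPolynomial (Fin n) A) :
    aeval (G A n m f).val q = Ideal.Quotient.mk (Ideal.span (Set.range f)) q := by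
  rw [← (G A n m f).algebraMap_apply]
  rfl

/-- the relations as elements of the kernel -/
noncomputable def fker (j : Fin m) : (G A n m f).toExtension.ker :=
  ⟨f j, by rw [ker_G]; exact Ideal.subset_span ⟨j, rfl⟩⟩

/-- `B^m → I/I²`, `e_j ↦ f_j` -/
noncomputable def π : (Fin m → (MvPolynomial (Fin n) A ⧸ Ideal.span (Set.range f))) →ₗ[
    MvPolynomial (Fin n) A ⧸ Ideal.span (Set.range f)] (G A n m f).toExtension.Cotangent :=
  Fintype.linearCombination _ (fun j => Cotangent.mk (fker A n m f j))

theorem π_surjective : Function.Surjective (π A n m f) := by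
  rw [← LinearMap.range_eq_top, π, Fintype.range_linearCombination]
  exact Cotangent.span_eq_top_of_span_eq_ker (P := (G A n m f).toExtension) f (ker_G A n m f).symm

theorem π_single (j : Fin m) :
    π A n m f (Pi.single j 1) = Cotangent.mk (fker A n m f j) := by
  rw [π, Fintype.linearCombination_apply_single, one_smul]

/-- `B ⊗ Ω_P → B^m`, the first `m` coordinates -/
noncomputable def p : (G A n m f).toExtension.CotangentSpace →ₗ[
    MvPolynomial (Fin n) A ⧸ Ideal.span (Set.range f)]
    (Fin m → (MvPolynomial (Fin n) A ⧸ Ideal.span (Set.range f))) :=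
  (LinearMap.funLeft _ _ (Fin.castLE hmn)) ∘ₗ
    ((G A n m f).cotangentSpaceBasis.equivFun).toLinearMap

theorem p_apply (x : (G A n m f).toExtension.CotangentSpace) (i : Fin m) :
    p A n m hmn f x i = (G A n m f).cotangentSpaceBasis.repr x (Fin.castLE hmn i) := rfl

/-- the Jacobian matrix with entries in `B` -/
noncomputable def Mb : Matrix (Fin m) (Fin m) (MvPolynomial (Fin n) A ⧸ Ideal.span (Set.range f)) :=
  (Matrix.of (fun i j : Fin m => MvPolynomial.pderiv (Fin.castLE hmn i) (f j))).map
    (Ideal.Quotient.mk (Ideal.span (Set.range f)))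

theorem det_Mb : (Mb A n m hmn f).det = Ideal.Quotient.mk (Ideal.span (Set.range f))
    (Matrix.det (Matrix.of (fun i j : Fin m => MvPolynomial.pderiv (Fin.castLE hmn i) (f j)))) := by
  rw [Mb, ← RingHom.mapMatrix_apply, ← RingHom.map_det]

theorem repr_d_fker (j : Fin m) (i : Fin n) :
    (G A n m f).cotangentSpaceBasis.repr
      ((G A n m f).toExtension.cotangentComplex (Cotangent.mk (fker A n m f j))) i =
      Ideal.Quotient.mk (Ideal.span (Set.range f)) (pderiv i (f j)) := by
  rw [cotangentComplex_mk, ← aeval_val]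
  exact (Algebra.Generators.cotangentSpaceBasis_repr_tmul _ _ _ _).trans (one_mul _)

theorem p_d_π : (p A n m hmn f) ∘ₗ (G A n m f).toExtension.cotangentComplex ∘ₗ (π A n m f) =
    (Mb A n m hmn f).mulVecLin := by
  apply (Pi.basisFun _ (Fin m)).ext
  intro j
  rw [Pi.basisFun_apply]
  ext i
  rw [LinearMap.comp_apply, LinearMap.comp_apply, π_single, p_apply, repr_d_fker,
    Matrix.mulVecLin_apply, Matrix.mulVec_single_one]
  rfl

/-- the contracting map `h : B ⊗ Ω_P → I/I²` -/
noncomputable def h : (G A n m f).toExtension.CotangentSpace →ₗ[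
    MvPolynomial (Fin n) A ⧸ Ideal.span (Set.range f)] (G A n m f).toExtension.Cotangent :=
  (π A n m f) ∘ₗ (Mb A n m hmn f).adjugate.mulVecLin ∘ₗ (p A n m hmn f)

theorem h_comp_d : (h A n m hmn f) ∘ₗ (G A n m f).toExtension.cotangentComplex =
    (Mb A n m hmn f).det • LinearMap.id := by
  rw [← LinearMap.cancel_right (π_surjective A n m f)]
  have h1 : (h A n m hmn f) ∘ₗ (G A n m f).toExtension.cotangentComplex ∘ₗ (π A n m f) =
      (π A n m f) ∘ₗ (Mb A n m hmn f).adjugate.mulVecLin ∘ₗ (Mb A n m hmn f).mulVecLin := by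
    rw [← p_d_π]
    rfl
  rw [LinearMap.comp_assoc, h1, ← Matrix.mulVecLin_mul, Matrix.adjugate_mul]
  apply LinearMap.ext
  intro x
  simp only [LinearMap.comp_apply, Matrix.mulVecLin_apply,
    Matrix.one_mulVec, LinearMap.smul_apply, LinearMap.id_apply, map_smul]

theorem p_injective (hnm : n = m) : Function.Injective (p A n m hmn f) := by
  subst hnm
  have hs : Function.Surjective (Fin.castLE hmn) := fun i => ⟨i, Fin.ext rfl⟩
  exact (LinearMap.funLeft_injective_of_surjective
    (MvPolynomial (Fin n) A ⧸ Ideal.span (Set.range f))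
    (MvPolynomial (Fin n) A ⧸ Ideal.span (Set.range f)) _ hs).comp
    ((G A n n f).cotangentSpaceBasis.equivFun).injective

theorem d_comp_h (hnm : n = m) : (G A n m f).toExtension.cotangentComplex ∘ₗ (h A n m hmn f) =
    (Mb A n m hmn f).det • LinearMap.id := by
  apply LinearMap.ext
  intro x
  apply p_injective A n m hmn f hnm
  have h1 := LinearMap.congr_fun (p_d_π A n m hmn f)
    ((Mb A n m hmn f).adjugate.mulVecLin (p A n m hmn f x))
  simp only [LinearMap.comp_apply] at h1
  rw [LinearMap.comp_apply]
  change p A n m hmn f ((G A n m f).toExtension.cotangentComplex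
    (π A n m f ((Mb A n m hmn f).adjugate.mulVecLin (p A n m hmn f x)))) = _
  rw [h1, Matrix.mulVecLin_apply, Matrix.mulVecLin_apply, Matrix.mulVec_mulVec,
    Matrix.mul_adjugate, Matrix.smul_mulVec, Matrix.one_mulVec, LinearMap.smul_apply,
    LinearMap.id_apply, map_smul]

end Groth.Agent.H59.JacKill
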