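import Mathlib
import Groth.Prelude.Def_DRing2
import Groth.Agent.H59.NLHomotopy
import Groth.Agent.H35.ProjAmp

/-!
# A scalar killing `Ext¹` of a two-term complex

Let `K = [M --d--> F]` be a complex of `B`-modules in degrees `-1, 0` with `F` projective, `g : B` and
`h : F ⟶ M` with `d ≫ h = g • 𝟙 M`.  Then `g` kills every morphism `K ⟶ L` in `D(B)` with
`L ∈ D^{≤ -1}`; if moreover `h ≫ d = g • 𝟙 F`, then `g • 𝟙 K = 0` in `D(B)`.
-/

set_option autoImplicit false
set_option linter.style.haveILetI false
set_option linter.unusedSectionVars false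
universe u

namespace Groth.Agent.H59.TwoTermKill

open CategoryTheory CategoryTheory.Limits HomologicalComplex DerivedCategory
  Groth.Agent.H59.NLHomotopy

attribute [local instance] HasDerivedCategory.standard

variable {B : Type u} [CommRing B]

/-- homotopic maps become equal in the derived category -/
theorem Q_map_eq_of_homotopy {K L : CochainComplex (ModuleCat.{u} B) ℤ} {f g : K ⟶ L}
    (h : Homotopy f g) : Q.map f = Q.map g := by
  have h1 := HomotopyCategory.eq_of_homotopy f g h
  have hf := (quotientCompQhIso (ModuleCat.{u} B)).hom.naturality f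
  have hg := (quotientCompQhIso (ModuleCat.{u} B)).hom.naturality g
  simp only [Functor.comp_map] at hf hg
  rw [h1] at hf
  rw [← cancel_epi ((quotientCompQhIso (ModuleCat.{u} B)).hom.app K), ← hf, ← hg]

variable {M F : ModuleCat.{u} B} (d : M ⟶ F)

/-- If `d ≫ h = g • 𝟙` and `h ≫ d = g • 𝟙`, then `g • 𝟙` is null-homotopic on `[M → F]`. -/
theorem smul_id_eq_zero (g : B) (h : F ⟶ M) (h₁ : d ≫ h = g • 𝟙 M) (h₂ : h ≫ d = g • 𝟙 F) :
    g • 𝟙 (Q.obj (double d rel)) = 0 := by
  have H : Homotopy (g • 𝟙 (double d rel)) 0 := by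
    refine homotopyOfDouble _ _ (h ≫ (doubleXIso₀ d rel).inv) ?_ ?_
    · rw [HomologicalComplex.zero_f, add_zero, HomologicalComplex.smul_f_apply,
        HomologicalComplex.id_f, ← Category.assoc d, h₁, Linear.smul_comp, Linear.comp_smul,
        Category.id_comp, Iso.hom_inv_id]
    · rw [HomologicalComplex.zero_f, add_zero, HomologicalComplex.smul_f_apply,
        HomologicalComplex.id_f, double_d d rel ne, Category.assoc, Iso.inv_hom_id_assoc,
        ← Category.assoc h, h₂, Linear.smul_comp, Linear.comp_smul, Category.id_comp,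
        Iso.hom_inv_id]
  have := Q_map_eq_of_homotopy H
  rw [Functor.map_zero, Functor.map_smul, CategoryTheory.Functor.map_id] at this
  exact this

theorem projective_of_iso {M N : ModuleCat.{u} B} (e : M ≅ N) (h : Module.Projective B N) :
    Module.Projective B M :=
  Module.Projective.of_equiv e.toLinearEquiv.symm

theorem projective_of_isZero {M : ModuleCat.{u} B} (h : IsZero M) : Module.Projective B M := by
  haveI := ModuleCat.subsingleton_of_isZero h
  infer_instance

/-- If `d ≫ h = g • 𝟙 M` and `F` is projective, then `g` kills `Hom_{D(B)}([M → F], L)` for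
`L ∈ D^{≤ -1}`. -/
theorem smul_hom_eq_zero (g : B) (h : F ⟶ M) (h₁ : d ≫ h = g • 𝟙 M)
    (hF : Module.Projective B F) (L : Dual.D B) (hL : L.IsLE (-1))
    (φ : Q.obj (double d rel) ⟶ L) : g • φ = 0 := by
  let S : CochainComplex (ModuleCat.{u} B) ℤ :=
    (HomologicalComplex.single (ModuleCat.{u} B) (ComplexShape.up ℤ) 0).obj F
  let θ : F ⟶ F := g • 𝟙 F - h ≫ d
  have hθ : d ≫ θ = 0 := by
    simp only [θ, Preadditive.comp_sub, Linear.comp_smul, Category.comp_id]
    rw [← Category.assoc, h₁, Linear.smul_comp, Category.id_comp, sub_self]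
  let ρ : double d rel ⟶ S := mkHomToSingle ((doubleXIso₁ d rel ne).hom ≫ θ) (by
    intro i hi
    obtain rfl : i = -1 := by
      simp only [ComplexShape.up_Rel] at hi
      omega
    rw [double_d d rel ne, Category.assoc, Category.assoc, Iso.inv_hom_id_assoc, hθ,
      comp_zero])
  let incl : S ⟶ double d rel := mkHomFromSingle (doubleXIso₁ d rel ne).inv (by
    intro k hk
    obtain rfl : k = 1 := by
      simp only [ComplexShape.up_Rel] at hk
      omega
    exact (isZero_double_X d rel 1 (by decide) (by decide)).eq_of_tgt _ _)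
  have H : Homotopy (g • 𝟙 (double d rel)) (ρ ≫ incl) := by
    refine homotopyOfDouble _ _ (h ≫ (doubleXIso₀ d rel).inv) ?_ ?_
    · have hz : (ρ ≫ incl).f (-1) = 0 := by
        rw [HomologicalComplex.comp_f]
        have : IsZero (S.X (-1)) := isZero_single_obj_X _ _ _ _ (by decide)
        rw [this.eq_of_tgt (ρ.f (-1)) 0, zero_comp]
      rw [hz, add_zero, HomologicalComplex.smul_f_apply,
        HomologicalComplex.id_f, ← Category.assoc d, h₁, Linear.smul_comp, Linear.comp_smul,
        Category.id_comp, Iso.hom_inv_id]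
    · have h0 : (ρ ≫ incl).f 0 = (doubleXIso₁ d rel ne).hom ≫ θ ≫ (doubleXIso₁ d rel ne).inv := by
        rw [HomologicalComplex.comp_f, mkHomToSingle_f, mkHomFromSingle_f]
        simp only [Category.assoc, Iso.inv_hom_id_assoc]
      rw [h0, HomologicalComplex.smul_f_apply, HomologicalComplex.id_f,
        double_d d rel ne, Category.assoc, Iso.inv_hom_id_assoc]
      simp only [θ, Preadditive.sub_comp, Preadditive.comp_sub, Linear.smul_comp,
        Linear.comp_smul, Category.id_comp, Category.assoc, Iso.hom_inv_id]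
      abel
  have hQ := Q_map_eq_of_homotopy H
  rw [Functor.map_smul, CategoryTheory.Functor.map_id, Functor.map_comp] at hQ
  have hS : DRing.VanishesOutside S 0 0 := by
    intro i hi
    exact isZero_single_obj_X _ _ _ _ (by omega)
  have hproj : ∀ i : ℤ, Module.Projective B (S.X i) := by
    intro i
    by_cases hi : i = 0
    · subst hi
      exact projective_of_iso (singleObjXSelf (ComplexShape.up ℤ) 0 F) hF
    · exact projective_of_isZero (isZero_single_obj_X _ _ _ _ hi)
  have h0 : Q.map incl ≫ φ = 0 :=
    Groth.Agent.H35.hom_eq_zero_of_projective_of_isLE S 0 0 hS hproj L (by simpa using hL) _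
  calc g • φ = (g • 𝟙 (Q.obj (double d rel))) ≫ φ := by rw [Linear.smul_comp, Category.id_comp]
    _ = (Q.map ρ ≫ Q.map incl) ≫ φ := by rw [hQ]
    _ = 0 := by rw [Category.assoc, h0, comp_zero]

end Groth.Agent.H59.TwoTermKill
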