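import Mathlib
import Groth.Prelude.Def_SheafNL
import Groth.Prelude.Def_LCI2
import Groth.Agent.H59.JacKill
import Groth.Agent.H59.TwoTermKill
import Groth.Agent.H59.NLHomotopy

/-!
# The Jacobian determinant kills `Ext¹(NL_{B/A}, N)` for `B = A[x_1..x_n]/(f_1..f_m)`
-/

set_option autoImplicit false
set_option linter.style.haveILetI false
set_option linter.unusedSectionVars false
universe u

namespace Groth.Agent.H59.JacKillMain

open CategoryTheory CategoryTheory.Limits HomologicalComplex DerivedCategory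
  Groth.Agent.H59.NLHomotopy Groth.Agent.H59.JacKill

attribute [local instance] HasDerivedCategory.standard

variable (A : Type u) [CommRing A] (n m : ℕ) (hmn : m ≤ n) (f : Fin m → MvPolynomial (Fin n) A)

theorem nonempty_iso :
    Nonempty (LCI.NL A (MvPolynomial (Fin n) A ⧸ Ideal.span (Set.range f)) ≅
      Q.obj (NLCx.cx (G A n m f).toExtension)) :=
  nonempty_toD_iso
    ((Algebra.Generators.self A (MvPolynomial (Fin n) A ⧸ Ideal.span (Set.range f))).defaultHom
      (G A n m f)).toExtensionHom
    ((G A n m f).defaultHom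
      (Algebra.Generators.self A (MvPolynomial (Fin n) A ⧸ Ideal.span (Set.range f)))).toExtensionHom

theorem ofHom_comp_eq :
    ModuleCat.ofHom (G A n m f).toExtension.cotangentComplex ≫ ModuleCat.ofHom (h A n m hmn f) =
      (Mb A n m hmn f).det • 𝟙 (ModuleCat.of _ (G A n m f).toExtension.Cotangent) := by
  apply ModuleCat.hom_ext
  apply LinearMap.ext
  intro x
  exact LinearMap.congr_fun (h_comp_d A n m hmn f) x

theorem ofHom_comp_eq' (hnm : n = m) :
    ModuleCat.ofHom (h A n m hmn f) ≫ ModuleCat.ofHom (G A n m f).toExtension.cotangentComplex =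
      (Mb A n m hmn f).det • 𝟙 (ModuleCat.of _ (G A n m f).toExtension.CotangentSpace) := by
  apply ModuleCat.hom_ext
  apply LinearMap.ext
  intro x
  exact LinearMap.congr_fun (d_comp_h A n m hmn f hnm) x

theorem main :
    (∀ (N : Type u) [AddCommGroup N]
      [Module (MvPolynomial (Fin n) A ⧸ Ideal.span (Set.range f)) N]
      (φ : LCI.NL A (MvPolynomial (Fin n) A ⧸ Ideal.span (Set.range f)) ⟶
        (Dual.inD (MvPolynomial (Fin n) A ⧸ Ideal.span (Set.range f)) N)⟦(1 : ℤ)⟧),
      (Ideal.Quotient.mk (Ideal.span (Set.range f)) (Matrix.det (Matrix.of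
        (fun i j : Fin m => MvPolynomial.pderiv (Fin.castLE hmn i) (f j))))) • φ = 0) ∧
    (n = m → (Ideal.Quotient.mk (Ideal.span (Set.range f)) (Matrix.det (Matrix.of
        (fun i j : Fin m => MvPolynomial.pderiv (Fin.castLE hmn i) (f j))))) •
      𝟙 (LCI.NL A (MvPolynomial (Fin n) A ⧸ Ideal.span (Set.range f))) = 0) := by
  obtain ⟨e⟩ := nonempty_iso A n m f
  rw [← det_Mb]
  constructor
  · intro N _ _ φ
    have hF : Module.Projective (MvPolynomial (Fin n) A ⧸ Ideal.span (Set.range f))
        (ModuleCat.of (MvPolynomial (Fin n) A ⧸ Ideal.span (Set.range f))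
          (G A n m f).toExtension.CotangentSpace) :=
      Module.Projective.of_basis (R := MvPolynomial (Fin n) A ⧸ Ideal.span (Set.range f))
        (P := (G A n m f).toExtension.CotangentSpace) (G A n m f).cotangentSpaceBasis
    have hL : ((Dual.inD (MvPolynomial (Fin n) A ⧸ Ideal.span (Set.range f)) N)⟦(1 : ℤ)⟧).IsLE
        (-1) :=
      (DerivedCategory.TStructure.t : Triangulated.TStructure
        (Dual.D (MvPolynomial (Fin n) A ⧸ Ideal.span (Set.range f)))).isLE_shift _ 0 1 (-1)
        (by omega)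
    have key := Groth.Agent.H59.TwoTermKill.smul_hom_eq_zero
      (ModuleCat.ofHom (G A n m f).toExtension.cotangentComplex) (Mb A n m hmn f).det
      (ModuleCat.ofHom (h A n m hmn f)) (ofHom_comp_eq A n m hmn f) hF _ hL (e.inv ≫ φ)
    have : (Mb A n m hmn f).det • φ = e.hom ≫ ((Mb A n m hmn f).det • (e.inv ≫ φ)) := by
      rw [Linear.comp_smul, Iso.hom_inv_id_assoc]
    have key' : (Mb A n m hmn f).det • (e.inv ≫ φ) = 0 := key
    rw [this, key', comp_zero]
  · intro hnm
    have key := Groth.Agent.H59.TwoTermKill.smul_id_eq_zero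
      (ModuleCat.ofHom (G A n m f).toExtension.cotangentComplex) (Mb A n m hmn f).det
      (ModuleCat.ofHom (h A n m hmn f)) (ofHom_comp_eq A n m hmn f)
      (ofHom_comp_eq' A n m hmn f hnm)
    have : (Mb A n m hmn f).det • 𝟙 (LCI.NL A (MvPolynomial (Fin n) A ⧸ Ideal.span (Set.range f)))
        = e.hom ≫ ((Mb A n m hmn f).det • 𝟙 _) ≫ e.inv := by
      rw [Linear.smul_comp, Linear.comp_smul, Category.id_comp, Iso.hom_inv_id]
    have key' : (Mb A n m hmn f).det • 𝟙 (Q.obj (NLCx.cx (G A n m f).toExtension)) = 0 := key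
    rw [this, key', zero_comp, comp_zero]

end Groth.Agent.H59.JacKillMain
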