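import Mathlib
import Groth.Prelude.Def_CAlg
import Groth.Prelude.Def_CAlgX
import Groth.Prelude.Def_LCI2
import Groth.Agent.H59.LciH1
import Groth.Agent.H26.KoszulBC2
import Groth.Agent.H72.DepthFlat
import Groth.Agent.H47.CI.RelCIOpen
import Groth.Agent.H47.CI.FibreStalk

/-!
# Flat local complete intersections with generically smooth fibres: `H¹(L) = 0`

Relative version of `Groth.Agent.H59.LciH1`.

* `mem_sq_of_forall_depth_zero`: for a Koszul-regular ideal `I` of a Noetherian ring `S`, an element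
  of `I` lying in `I²` locally at all primes `Q ⊇ I` at which `S_Q / I S_Q` has depth zero lies in
  `I²`.
* `eq_of_le_of_comap_eq`: for a flat `A`-algebra `P` with Gorenstein fibres, a prime of `P` at which
  the local ring has depth zero is minimal in its fibre.
* `subsingleton_h1Cotangent`: the main theorem.
-/

set_option autoImplicit false
set_option linter.style.haveILetI false
universe u

open IsLocalRing

namespace Groth.Agent.H59.LciH1Rel

open Groth.Agent.H59.LciH1

section PartI

variable {S : Type u} [CommRing S]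

set_option backward.isDefEq.respectTransparency false in
/-- In a Noetherian ring `S` with a Koszul-regular ideal `I`, an element of `I` which lies in `I²`
locally at every prime `Q ⊇ I` for which `S_Q / I S_Q` has a nonzero element killed by the maximal
ideal lies in `I²`. -/
theorem mem_sq_of_forall_depth_zero [IsNoetherianRing S] (I : Ideal S)
    (hI : LCI.IsKoszulRegularIdeal I) (x : S) (hx : x ∈ I)
    (h : ∀ (Q : Ideal S) [Q.IsPrime], I ≤ Q →
      (∃ a : Localization.AtPrime Q, a ∉ I.map (algebraMap S (Localization.AtPrime Q)) ∧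
        ∀ m ∈ maximalIdeal (Localization.AtPrime Q),
          m * a ∈ I.map (algebraMap S (Localization.AtPrime Q))) →
      ∃ s, s ∉ Q ∧ s * x ∈ I ^ 2) : x ∈ I ^ 2 := by
  by_contra hx2
  let xb : S ⧸ I ^ 2 := Ideal.Quotient.mk _ x
  have hxb : xb ≠ 0 := by rwa [Ne, Ideal.Quotient.eq_zero_iff_mem]
  let N : Submodule S (S ⧸ I ^ 2) := Submodule.span S {xb}
  haveI : Nontrivial N := by
    refine ⟨⟨⟨xb, Submodule.mem_span_singleton_self xb⟩, 0, ?_⟩⟩
    intro h0
    exact hxb (congrArg Subtype.val h0)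
  obtain ⟨Q, hQ⟩ := associatedPrimes.nonempty S N
  obtain ⟨hQp, y, hy⟩ := isAssociatedPrime_iff.mp hQ
  obtain ⟨b, hb⟩ := Submodule.mem_span_singleton.mp y.2
  have hmem : ∀ a : S, a ∈ Q ↔ a * (b * x) ∈ I ^ 2 := by
    intro a
    rw [hy, Submodule.mem_colon_singleton, Submodule.mem_bot, ← Subtype.coe_inj,
      Submodule.coe_smul, ← hb, Submodule.coe_zero, ← Ideal.Quotient.eq_zero_iff_mem]
    show a • b • (Ideal.Quotient.mk (I ^ 2) x) = 0 ↔ _
    rw [map_mul, map_mul]
    rfl
  have hx' : b * x ∈ I := Ideal.mul_mem_left _ _ hx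
  have hIQ : I ≤ Q := by
    intro a ha
    rw [hmem, pow_two]
    exact Ideal.mul_mem_mul ha hx'
  -- localize at `Q`
  set R := Localization.AtPrime Q with hR
  set J : Ideal R := I.map (algebraMap S R) with hJ
  obtain ⟨c, fs, hq, hspan⟩ : ∃ (c : ℕ) (fs : Fin c → R), CAlgX.IsQuasiRegular fs ∧
      Ideal.span (Set.range fs) = J := exists_quasiRegular_atPrime I hI Q hIQ
  have hJ2 : (I ^ 2).map (algebraMap S R) = J ^ 2 := Ideal.map_pow _ _ _
  obtain ⟨a, ha⟩ : ∃ a : Fin c → R, ∑ i, a i * fs i = algebraMap S R (b * x) := by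
    apply Ideal.mem_span_range_iff_exists_fun.mp
    rw [hspan]
    exact Ideal.mem_map_of_mem _ hx'
  have hA : ∀ a₀ ∈ Q, ∀ i, algebraMap S R a₀ * a i ∈ J := by
    intro a₀ ha₀ i
    have h1 : algebraMap S R (a₀ * (b * x)) ∈ J ^ 2 := by
      rw [← hJ2]
      exact Ideal.mem_map_of_mem _ ((hmem a₀).mp ha₀)
    have h2 : ∑ i, (algebraMap S R a₀ * a i) * fs i ∈ Ideal.span (Set.range fs) ^ 2 := by
      rw [hspan]
      have : ∑ i, (algebraMap S R a₀ * a i) * fs i = algebraMap S R (a₀ * (b * x)) := by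
        rw [map_mul, ← ha, Finset.mul_sum]
        exact Finset.sum_congr rfl (fun i _ => by ring)
      rw [this]
      exact h1
    have := coeff_mem_of_isQuasiRegular fs hq _ h2 i
    rwa [hspan] at this
  have hB : ∃ i, a i ∉ J := by
    by_contra hall
    push Not at hall
    have h1 : algebraMap S R (b * x) ∈ (I ^ 2).map (algebraMap S R) := by
      rw [hJ2, ← ha, pow_two]
      refine Ideal.sum_mem _ (fun i _ => Ideal.mul_mem_mul (hall i) ?_)
      rw [← hspan]
      exact Ideal.subset_span ⟨i, rfl⟩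
    obtain ⟨⟨⟨p, hp⟩, ⟨s, hs⟩⟩, hps⟩ :=
      (IsLocalization.mem_map_algebraMap_iff Q.primeCompl R).mp h1
    simp only at hps
    rw [← map_mul] at hps
    obtain ⟨⟨t, ht⟩, hts⟩ := (IsLocalization.eq_iff_exists Q.primeCompl R).mp hps
    simp only at hts
    have h2 : (t * s) * (b * x) ∈ I ^ 2 := by
      have : (t * s) * (b * x) = t * p := by rw [← hts]; ring
      rw [this]
      exact Ideal.mul_mem_left _ _ hp
    have h3 := (hmem (t * s)).mpr h2
    rcases hQp.mem_or_mem h3 with h4 | h4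
    · exact ht h4
    · exact hs h4
  obtain ⟨i, hi⟩ := hB
  have hkill : ∀ m ∈ maximalIdeal R, m * a i ∈ J := by
    have hle : Q.map (algebraMap S R) ≤ J.colon {a i} := by
      rw [Ideal.map_le_iff_le_comap]
      intro a₀ ha₀
      rw [Ideal.mem_comap, Submodule.mem_colon_singleton]
      exact hA a₀ ha₀ i
    intro m hm
    rw [← Localization.AtPrime.map_eq_maximalIdeal] at hm
    have := hle hm
    rwa [Submodule.mem_colon_singleton] at this
  obtain ⟨s, hsQ, hsx⟩ := h Q hIQ ⟨a i, hi, hkill⟩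
  apply hsQ
  rw [hmem]
  have : s * (b * x) = b * (s * x) := by ring
  rw [this]
  exact Ideal.mul_mem_left _ _ hsx

end PartI

section Transfer

variable {S P : Type u} [CommRing S] [CommRing P] (f : S →+* P) (hf : Function.Surjective f)
  (𝔓 : Ideal P) [𝔓.IsPrime]

include hf in
theorem localRingHom_surjective :
    Function.Surjective (Localization.localRingHom (𝔓.comap f) 𝔓 f rfl) := by
  intro y
  obtain ⟨b, t, rfl⟩ := IsLocalization.exists_mk'_eq 𝔓.primeCompl y
  obtain ⟨s, rfl⟩ := hf b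
  obtain ⟨t', ht'⟩ := hf (t : P)
  have ht'mem : t' ∈ (𝔓.comap f).primeCompl := by
    intro h
    apply t.2
    rw [← ht']
    exact h
  refine ⟨IsLocalization.mk' _ s ⟨t', ht'mem⟩, ?_⟩
  rw [Localization.localRingHom_mk']
  congr 1
  exact Subtype.ext ht'

include hf in
theorem ker_localRingHom :
    RingHom.ker (Localization.localRingHom (𝔓.comap f) 𝔓 f rfl) =
      (RingHom.ker f).map (algebraMap S (Localization.AtPrime (𝔓.comap f))) := by
  apply le_antisymm
  · intro x hx
    rw [RingHom.mem_ker] at hx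
    obtain ⟨s, t, rfl⟩ := IsLocalization.exists_mk'_eq (𝔓.comap f).primeCompl x
    rw [Localization.localRingHom_mk', IsLocalization.mk'_eq_zero_iff] at hx
    obtain ⟨u, hu⟩ := hx
    obtain ⟨u', hu'⟩ := hf (u : P)
    have hu'mem : u' ∈ (𝔓.comap f).primeCompl := by
      intro h
      apply u.2
      rw [← hu']
      exact h
    have hmem : u' * s ∈ RingHom.ker f := by
      rw [RingHom.mem_ker, map_mul, hu']
      exact hu
    have : IsLocalization.mk' (Localization.AtPrime (𝔓.comap f)) s t =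
        IsLocalization.mk' _ (u' * s) (⟨u', hu'mem⟩ * t) := by
      rw [IsLocalization.mk'_eq_iff_eq]
      simp only [Submonoid.coe_mul]
      congr 1
      ring
    rw [this, IsLocalization.mk'_eq_mul_mk'_one]
    exact Ideal.mul_mem_right _ _ (Ideal.mem_map_of_mem _ hmem)
  · rw [Ideal.map_le_iff_le_comap]
    intro x hx
    rw [Ideal.mem_comap, RingHom.mem_ker, Localization.localRingHom_to_map,
      (RingHom.mem_ker).mp hx, map_zero]

include hf in
/-- A depth zero witness for `S_Q / (ker f) S_Q` gives one for `P_𝔓`. -/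
theorem exists_killed_of_exists
    (h : ∃ a : Localization.AtPrime (𝔓.comap f),
      a ∉ (RingHom.ker f).map (algebraMap S (Localization.AtPrime (𝔓.comap f))) ∧
      ∀ m ∈ maximalIdeal (Localization.AtPrime (𝔓.comap f)),
        m * a ∈ (RingHom.ker f).map (algebraMap S (Localization.AtPrime (𝔓.comap f)))) :
    ∃ z : Localization.AtPrime 𝔓, z ≠ 0 ∧ ∀ m ∈ maximalIdeal (Localization.AtPrime 𝔓), m * z = 0 := by
  obtain ⟨a, ha, hkill⟩ := h
  set ψ := Localization.localRingHom (𝔓.comap f) 𝔓 f rfl with hψ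
  have hker := ker_localRingHom f hf 𝔓
  have hsurj := localRingHom_surjective f hf 𝔓
  refine ⟨ψ a, ?_, ?_⟩
  · intro h0
    apply ha
    rw [← hker]
    exact h0
  · intro m' hm'
    obtain ⟨m, rfl⟩ := hsurj m'
    have hm : m ∈ maximalIdeal (Localization.AtPrime (𝔓.comap f)) := by
      rw [mem_maximalIdeal, mem_nonunits_iff]
      intro hu
      rw [mem_maximalIdeal, mem_nonunits_iff] at hm'
      exact hm' (hu.map ψ)
    have := hkill m hm
    rw [← hker, RingHom.mem_ker, map_mul] at this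
    exact this

end Transfer

section PartII

variable (A P : Type u) [CommRing A] [CommRing P] [Algebra A P] [IsNoetherianRing A]
  [IsNoetherianRing P] [Module.Flat A P]

set_option backward.isDefEq.respectTransparency false in
/-- For a flat algebra with Gorenstein fibres, a prime at which the local ring has depth zero is
minimal among the primes of its fibre. -/
theorem eq_of_le_of_comap_eq
    (hfib : ∀ (𝔭 : Ideal A) [𝔭.IsPrime], LocCoh.IsGorensteinRing (𝔭.Fiber P))
    (𝔓 : Ideal P) [𝔓.IsPrime] (z : Localization.AtPrime 𝔓) (hz : z ≠ 0)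
    (hkill : ∀ m ∈ maximalIdeal (Localization.AtPrime 𝔓), m * z = 0)
    (𝔔 : Ideal P) [𝔔.IsPrime] (hle : 𝔔 ≤ 𝔓)
    (hc : 𝔔.comap (algebraMap A P) = 𝔓.comap (algebraMap A P)) : 𝔔 = 𝔓 := by
  set 𝔭 : Ideal A := 𝔓.under A with h𝔭
  haveI : 𝔓.LiesOver 𝔭 := ⟨rfl⟩
  let R := Localization.AtPrime 𝔭
  let S := Localization.AtPrime 𝔓
  letI alg : Algebra R S := Localization.AtPrime.algebraOfLiesOver 𝔭 𝔓
  haveI : IsLocalHom (algebraMap R S) :=
    Localization.isLocalHom_localRingHom 𝔭 𝔓 (algebraMap A P) Ideal.LiesOver.over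
  haveI : IsNoetherianRing R := IsLocalization.isNoetherianRing 𝔭.primeCompl R inferInstance
  haveI : IsNoetherianRing S := IsLocalization.isNoetherianRing 𝔓.primeCompl S inferInstance
  haveI : Module.Flat R S := by
    have hfl : (algebraMap A P).Flat := RingHom.flat_algebraMap_iff.mpr inferInstance
    exact RingHom.Flat.localRingHom hfl 𝔓 𝔭 Ideal.LiesOver.over
  -- depth of `S` is zero
  have hne : maximalIdeal S • (⊤ : Submodule S S) ≠ ⊤ :=
    Groth.Agent.H72.DepthFlat.smul_top_ne_top_of_nontrivial (A := S) S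
  have hd0 : LocCoh.depth S S = 0 :=
    Groth.Agent.H72.DepthFlat.idealDepth_eq_zero_of_killed (maximalIdeal S) S hne z hz
      (fun a ha => by simpa [smul_eq_mul] using hkill a ha)
  have hd1 : LocCoh.depth S (TensorProduct R S R) = 0 := by
    rw [← hd0]
    exact Groth.Agent.H15.idealDepth_congr (TensorProduct.AlgebraTensorModule.rid R S S) _
  have hform := Groth.Agent.H72.DepthFlat.depth_tensor_eq_add_quotient (R := R) (S := S) S R
  rw [hd1] at hform
  have hd2 : LocCoh.depth S (S ⧸ (Ideal.map (algebraMap R S) (maximalIdeal R)) •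
      (⊤ : Submodule S S)) = 0 := (add_eq_zero.mp hform.symm).2
  set K : Ideal S := Ideal.map (algebraMap R S) (maximalIdeal R) with hK
  have hKtop : (K • (⊤ : Submodule S S)) = K := by
    rw [smul_eq_mul, Ideal.mul_top]
  obtain ⟨tb, htb, htk⟩ := Groth.Agent.H72.DepthFlat.exists_killed_of_idealDepth_eq_zero
    (maximalIdeal S) _ hd2
  obtain ⟨t, rfl⟩ := Submodule.mkQ_surjective _ tb
  have htK : t ∉ K := by
    intro h1
    apply htb
    rw [Submodule.mkQ_apply, Submodule.Quotient.mk_eq_zero, hKtop]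
    exact h1
  have htkill : ∀ a ∈ maximalIdeal S, a * t ∈ K := by
    intro a ha
    have h1 := htk a ha
    rw [← map_smul, Submodule.mkQ_apply, Submodule.Quotient.mk_eq_zero, hKtop] at h1
    exact h1
  have hK' : K = 𝔭.map (algebraMap A S) := by
    rw [hK, ← Localization.AtPrime.map_eq_maximalIdeal, Ideal.map_map,
      ← IsScalarTower.algebraMap_eq]
  -- the fibre local ring is Gorenstein
  obtain ⟨Q, hQp, hQ⟩ := Groth.Agent.H47.CI.exists_fibre_prime A P 𝔭 𝔓
  obtain ⟨e⟩ := Groth.Agent.H47.CI.nonempty_ringEquiv_fiber_atPrime 𝔭 Q 𝔓 hQ S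
  have hG : LocCoh.IsGorensteinLocalRing (S ⧸ 𝔭.map (algebraMap A S)) :=
    Groth.Agent.H26.GorRegHom.isGorensteinLocalRing_of_ringEquiv e
      ((hfib 𝔭).isGorensteinLocalRing_localization Q)
  have hGR := Groth.Agent.H26.GorFieldLocal.isGorensteinRing_of_isGorensteinLocalRing _ hG
  have hCM : ∀ (P' : Ideal (S ⧸ 𝔭.map (algebraMap A S))) [P'.IsPrime],
      LocCoh.IsCohenMacaulayLocalRing (Localization.AtPrime P') := fun P' _ =>
    @Groth.Agent.H2.GorensteinCM.isCohenMacaulayLocalRing _ _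
      (hGR.isGorensteinLocalRing_localization P')
  rw [hK'] at htK htkill
  have hass : maximalIdeal S ∈ associatedPrimes S (S ⧸ 𝔭.map (algebraMap A S)) := by
    refine isAssociatedPrime_iff.mpr ⟨inferInstance, Ideal.Quotient.mk _ t, ?_⟩
    apply le_antisymm
    · intro a ha
      rw [Submodule.mem_colon_singleton, Submodule.mem_bot]
      show Ideal.Quotient.mk _ (a * t) = 0
      rw [Ideal.Quotient.eq_zero_iff_mem]
      exact htkill a ha
    · apply IsLocalRing.le_maximalIdeal
      intro htop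
      have h1 : (1 : S) ∈ (⊥ : Submodule S (S ⧸ 𝔭.map (algebraMap A S))).colon
          {Ideal.Quotient.mk _ t} := by
        rw [htop]; trivial
      rw [Submodule.mem_colon_singleton, Submodule.mem_bot, one_smul,
        Ideal.Quotient.eq_zero_iff_mem] at h1
      exact htK h1
  have hmin := Groth.Agent.H81.Liaison.mem_minimalPrimes_of_mem_associatedPrimes_quotient
    (𝔭.map (algebraMap A S)) hCM (maximalIdeal S) hass
  -- the prime `𝔔 S`
  have hdisj : Disjoint (𝔓.primeCompl : Set P) (𝔔 : Set P) := by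
    rw [Set.disjoint_left]
    intro a ha ha'
    exact ha (hle ha')
  have hQprime : (𝔔.map (algebraMap P S)).IsPrime :=
    IsLocalization.isPrime_of_isPrime_disjoint 𝔓.primeCompl S 𝔔 inferInstance hdisj
  have hKQ : 𝔭.map (algebraMap A S) ≤ 𝔔.map (algebraMap P S) := by
    rw [IsScalarTower.algebraMap_eq A P S, ← Ideal.map_map]
    apply Ideal.map_mono
    rw [Ideal.map_le_iff_le_comap, h𝔭]
    show 𝔓.comap (algebraMap A P) ≤ _
    rw [← hc]
  have hQle : 𝔔.map (algebraMap P S) ≤ maximalIdeal S :=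
    IsLocalRing.le_maximalIdeal hQprime.ne_top
  have heq : 𝔔.map (algebraMap P S) = maximalIdeal S :=
    le_antisymm hQle (hmin.2 ⟨hQprime, hKQ⟩ hQle)
  have h1 : (𝔔.map (algebraMap P S)).comap (algebraMap P S) = 𝔔 :=
    IsLocalization.under_map_of_isPrime_disjoint 𝔓.primeCompl S inferInstance hdisj
  rw [← h1, heq]
  exact Localization.AtPrime.under_maximalIdeal

end PartII

section Main

set_option backward.isDefEq.respectTransparency false in
/-- A flat local complete intersection algebra over a Noetherian ring whose fibres are generically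
smooth has vanishing `H¹` of the naive cotangent complex. -/
theorem subsingleton_h1Cotangent (A : Type u) [CommRing A] [IsNoetherianRing A]
    (P : Type u) [CommRing P] [Algebra A P] [Module.Flat A P] (hlci : LCI.IsLCI A P)
    (hgs : ∀ 𝔓 : PrimeSpectrum P,
      (∀ 𝔔 : PrimeSpectrum P, 𝔔 ≤ 𝔓 →
          𝔔.asIdeal.comap (algebraMap A P) = 𝔓.asIdeal.comap (algebraMap A P) → 𝔔 = 𝔓) →
        𝔓 ∈ Algebra.smoothLocus A P) :
    Subsingleton (Algebra.H1Cotangent A P) := by
  haveI hft : Algebra.FiniteType A P := hlci.1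
  haveI : IsNoetherianRing P := Algebra.FiniteType.isNoetherianRing A P
  have hfib : ∀ (𝔭 : Ideal A) [𝔭.IsPrime], LocCoh.IsGorensteinRing (𝔭.Fiber P) := by
    intro 𝔭 _
    have h1 := Groth.Agent.H26.KoszulBC2.isGorensteinRing_tensor_of_flat_isLCI A P hlci
      𝔭.ResidueField (Groth.Agent.H26.GorFieldAny.isGorensteinRing_of_isRegularRing _)
    exact Groth.Agent.H26.GorRegHom.isGorensteinRing_of_ringEquiv
      (Algebra.TensorProduct.comm A P 𝔭.ResidueField).toRingEquiv h1
  obtain ⟨-, n, f, hf, hI⟩ := hlci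
  let E : Algebra.Extension A P := Algebra.Extension.ofSurjective f hf
  haveI : Algebra.FormallySmooth A E.Ring :=
    inferInstanceAs (Algebra.FormallySmooth A (MvPolynomial (Fin n) A))
  haveI : IsNoetherianRing (MvPolynomial (Fin n) A) := inferInstance
  rw [← E.equivH1CotangentOfFormallySmooth.subsingleton_congr]
  have hker : E.ker = RingHom.ker f.toRingHom := rfl
  refine ⟨fun y₁ y₂ => ?_⟩
  suffices H : ∀ y : E.H1Cotangent, y = 0 by rw [H y₁, H y₂]
  intro y
  obtain ⟨x, hx⟩ := Algebra.Extension.Cotangent.mk_surjective y.1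
  apply Subtype.ext
  rw [← hx]
  show Algebra.Extension.Cotangent.mk x = 0
  rw [Algebra.Extension.Cotangent.mk_eq_zero_iff]
  refine mem_sq_of_forall_depth_zero (S := MvPolynomial (Fin n) A) (RingHom.ker f.toRingHom) hI
    x.1 x.2 ?_
  intro Q hQp hIQ hw
  have hfs : Function.Surjective f.toRingHom := hf
  obtain ⟨𝔓, h𝔓, hcomap⟩ : ∃ 𝔓 : Ideal P, 𝔓.IsPrime ∧ 𝔓.comap f.toRingHom = Q := by
    refine ⟨Q.map f.toRingHom, Ideal.map_isPrime_of_surjective hfs hIQ, ?_⟩
    rw [Ideal.comap_map_of_surjective' f.toRingHom hfs, sup_eq_left]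
    exact hIQ
  subst hcomap
  obtain ⟨z, hz, hzk⟩ := exists_killed_of_exists f.toRingHom hfs 𝔓 hw
  have hmin : ∀ 𝔔 : PrimeSpectrum P, 𝔔 ≤ ⟨𝔓, h𝔓⟩ →
      𝔔.asIdeal.comap (algebraMap A P) = 𝔓.comap (algebraMap A P) → 𝔔 = ⟨𝔓, h𝔓⟩ := by
    intro 𝔔 hle hc
    apply PrimeSpectrum.ext
    exact eq_of_le_of_comap_eq A P hfib 𝔓 z hz hzk 𝔔.asIdeal hle hc
  have hsm : Algebra.FormallySmooth A (Localization.AtPrime 𝔓) := hgs ⟨𝔓, h𝔓⟩ hmin
  let y' : Algebra.H1Cotangent A P := E.equivH1CotangentOfFormallySmooth y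
  have h0 : Algebra.H1Cotangent.map A A P (Localization.AtPrime 𝔓) y' = 0 :=
    Subsingleton.elim _ _
  obtain ⟨⟨c, hc⟩, hcy⟩ := (IsLocalizedModule.eq_zero_iff 𝔓.primeCompl
    (Algebra.H1Cotangent.map A A P (Localization.AtPrime 𝔓))).mp h0
  have hcy' : c • y = 0 := by
    have h1 : c • y' = 0 := hcy
    apply E.equivH1CotangentOfFormallySmooth.injective
    rw [map_smul, map_zero]
    exact h1
  obtain ⟨s, rfl⟩ := hf c
  refine ⟨s, fun hs => hc hs, ?_⟩
  have h2 : (f s • y).1 = 0 := by rw [hcy']; rfl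
  let s' : E.Ring := s
  have h3 : (f s • y).1 = Algebra.Extension.Cotangent.mk (s' • x) := by
    rw [map_smul, hx]
    show f s • y.1 = s' • y.1
    exact algebraMap_smul P s' y.1
  rw [h3, Algebra.Extension.Cotangent.mk_eq_zero_iff] at h2
  exact h2

end Main

end Groth.Agent.H59.LciH1Rel
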