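import Mathlib
import Groth.Agent.H59.LciH1Rel

/-!
# Relative version of the fibre-minimality lemma

For a flat `A`-algebra `P` with Gorenstein fibres and an ideal `J` of `A`, a prime `𝔓` of `P` at which
`P_𝔓 / J P_𝔓` has depth zero is minimal among the primes of its fibre.
-/

set_option autoImplicit false
set_option linter.style.haveILetI false
universe u

open IsLocalRing

namespace Groth.Agent.H59.LciH1RelJ

variable (A P : Type u) [CommRing A] [CommRing P] [Algebra A P] [IsNoetherianRing A]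
  [IsNoetherianRing P] [Module.Flat A P]

set_option backward.isDefEq.respectTransparency false in
/-- For a flat algebra with Gorenstein fibres, a prime `𝔓` at which `P_𝔓 / J P_𝔓` has depth zero is
minimal among the primes of its fibre. -/
theorem eq_of_le_of_comap_eq_rel
    (hfib : ∀ (𝔭 : Ideal A) [𝔭.IsPrime], LocCoh.IsGorensteinRing (𝔭.Fiber P))
    (J : Ideal A)
    (𝔓 : Ideal P) [𝔓.IsPrime] (z : Localization.AtPrime 𝔓)
    (hz : z ∉ J.map (algebraMap A (Localization.AtPrime 𝔓)))
    (hkill : ∀ m ∈ maximalIdeal (Localization.AtPrime 𝔓),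
      m * z ∈ J.map (algebraMap A (Localization.AtPrime 𝔓)))
    (𝔔 : Ideal P) [𝔔.IsPrime] (hle : 𝔔 ≤ 𝔓)
    (hc : 𝔔.comap (algebraMap A P) = 𝔓.comap (algebraMap A P)) : 𝔔 = 𝔓 := by
  set 𝔭 : Ideal A := 𝔓.under A with h𝔭
  haveI : 𝔓.LiesOver 𝔭 := ⟨rfl⟩
  let R := Localization.AtPrime 𝔭
  let S := Localization.AtPrime 𝔓
  letI alg : Algebra R S := Localization.AtPrime.algebraOfLiesOver 𝔭 𝔓
  haveI : IsLocalHom (algebraMap R S) :=
    Localization.isLocalHom_localRingHom 𝔭 𝔓 (algebraMap A P) Ideal.LiesOver.over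
  haveI : IsNoetherianRing R := IsLocalization.isNoetherianRing 𝔭.primeCompl R inferInstance
  haveI : IsNoetherianRing S := IsLocalization.isNoetherianRing 𝔓.primeCompl S inferInstance
  haveI : Module.Flat R S := by
    have hfl : (algebraMap A P).Flat := RingHom.flat_algebraMap_iff.mpr inferInstance
    exact RingHom.Flat.localRingHom hfl 𝔓 𝔭 Ideal.LiesOver.over
  -- depth of `S / J S` is zero
  set JR : Ideal R := J.map (algebraMap A R) with hJR
  have hJS : JR.map (algebraMap R S) = J.map (algebraMap A S) := by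
    rw [hJR, Ideal.map_map, ← IsScalarTower.algebraMap_eq]
  have htopJ : (JR.map (algebraMap R S) • (⊤ : Submodule S S)) = JR.map (algebraMap R S) := by
    rw [smul_eq_mul, Ideal.mul_top]
  let T := S ⧸ (JR.map (algebraMap R S) • (⊤ : Submodule S S))
  let eT : T ≃ₗ[S] TensorProduct R S (R ⧸ JR) :=
    Groth.Agent.H72.DepthFlat.quotEquivTensorQuot (S := S) S JR
  let zT : T := Submodule.mkQ _ z
  have hzT : zT ≠ 0 := by
    intro h0
    apply hz
    rw [← hJS, ← htopJ]
    exact (Submodule.Quotient.mk_eq_zero _).mp h0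
  haveI : Nontrivial T := ⟨⟨zT, 0, hzT⟩⟩
  have hne : maximalIdeal S • (⊤ : Submodule S T) ≠ ⊤ :=
    Groth.Agent.H72.DepthFlat.smul_top_ne_top_of_nontrivial (A := S) T
  have hd0 : LocCoh.depth S T = 0 :=
    Groth.Agent.H72.DepthFlat.idealDepth_eq_zero_of_killed (maximalIdeal S) T hne zT hzT
      (fun a ha => by
        show a • Submodule.mkQ _ z = 0
        rw [← map_smul, Submodule.mkQ_apply, Submodule.Quotient.mk_eq_zero, htopJ, hJS,
          smul_eq_mul]
        exact hkill a ha)
  have hd1 : LocCoh.depth S (TensorProduct R S (R ⧸ JR)) = 0 := by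
    rw [← hd0]
    exact (Groth.Agent.H15.idealDepth_congr eT _).symm
  have hform := Groth.Agent.H72.DepthFlat.depth_tensor_eq_add_quotient (R := R) (S := S) S (R ⧸ JR)
  rw [hd1] at hform
  have hd2 : LocCoh.depth S (S ⧸ (Ideal.map (algebraMap R S) (maximalIdeal R)) •
      (⊤ : Submodule S S)) = 0 := (add_eq_zero.mp hform.symm).2
  set K : Ideal S := Ideal.map (algebraMap R S) (maximalIdeal R) with hK
  have hKtop : (K • (⊤ : Submodule S S)) = K := by
    rw [smul_eq_mul, Ideal.mul_top]
  obtain ⟨tb, htb, htk⟩ := Groth.Agent.H72.DepthFlat.exists_killed_of_idealDepth_eq_zero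
    (maximalIdeal S) _ hd2
  obtain ⟨t, rfl⟩ := Submodule.mkQ_surjective _ tb
  have htK : t ∉ K := by
    intro h1
    apply htb
    rw [Submodule.mkQ_apply, Submodule.Quotient.mk_eq_zero, hKtop]
    exact h1
  have htkill : ∀ a ∈ maximalIdeal S, a * t ∈ K := by
    intro a ha
    have h1 := htk a ha
    rw [← map_smul, Submodule.mkQ_apply, Submodule.Quotient.mk_eq_zero, hKtop] at h1
    exact h1
  have hK' : K = 𝔭.map (algebraMap A S) := by
    rw [hK, ← Localization.AtPrime.map_eq_maximalIdeal, Ideal.map_map,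
      ← IsScalarTower.algebraMap_eq]
  -- the fibre local ring is Gorenstein
  obtain ⟨Q, hQp, hQ⟩ := Groth.Agent.H47.CI.exists_fibre_prime A P 𝔭 𝔓
  obtain ⟨e⟩ := Groth.Agent.H47.CI.nonempty_ringEquiv_fiber_atPrime 𝔭 Q 𝔓 hQ S
  have hG : LocCoh.IsGorensteinLocalRing (S ⧸ 𝔭.map (algebraMap A S)) :=
    Groth.Agent.H26.GorRegHom.isGorensteinLocalRing_of_ringEquiv e
      ((hfib 𝔭).isGorensteinLocalRing_localization Q)
  have hGR := Groth.Agent.H26.GorFieldLocal.isGorensteinRing_of_isGorensteinLocalRing _ hG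
  have hCM : ∀ (P' : Ideal (S ⧸ 𝔭.map (algebraMap A S))) [P'.IsPrime],
      LocCoh.IsCohenMacaulayLocalRing (Localization.AtPrime P') := fun P' _ =>
    @Groth.Agent.H2.GorensteinCM.isCohenMacaulayLocalRing _ _
      (hGR.isGorensteinLocalRing_localization P')
  rw [hK'] at htK htkill
  have hass : maximalIdeal S ∈ associatedPrimes S (S ⧸ 𝔭.map (algebraMap A S)) := by
    refine isAssociatedPrime_iff.mpr ⟨inferInstance, Ideal.Quotient.mk _ t, ?_⟩
    apply le_antisymm
    · intro a ha
      rw [Submodule.mem_colon_singleton, Submodule.mem_bot]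
      show Ideal.Quotient.mk _ (a * t) = 0
      rw [Ideal.Quotient.eq_zero_iff_mem]
      exact htkill a ha
    · apply IsLocalRing.le_maximalIdeal
      intro htop
      have h1 : (1 : S) ∈ (⊥ : Submodule S (S ⧸ 𝔭.map (algebraMap A S))).colon
          {Ideal.Quotient.mk _ t} := by
        rw [htop]; trivial
      rw [Submodule.mem_colon_singleton, Submodule.mem_bot, one_smul,
        Ideal.Quotient.eq_zero_iff_mem] at h1
      exact htK h1
  have hmin := Groth.Agent.H81.Liaison.mem_minimalPrimes_of_mem_associatedPrimes_quotient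
    (𝔭.map (algebraMap A S)) hCM (maximalIdeal S) hass
  -- the prime `𝔔 S`
  have hdisj : Disjoint (𝔓.primeCompl : Set P) (𝔔 : Set P) := by
    rw [Set.disjoint_left]
    intro a ha ha'
    exact ha (hle ha')
  have hQprime : (𝔔.map (algebraMap P S)).IsPrime :=
    IsLocalization.isPrime_of_isPrime_disjoint 𝔓.primeCompl S 𝔔 inferInstance hdisj
  have hKQ : 𝔭.map (algebraMap A S) ≤ 𝔔.map (algebraMap P S) := by
    rw [IsScalarTower.algebraMap_eq A P S, ← Ideal.map_map]
    apply Ideal.map_mono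
    rw [Ideal.map_le_iff_le_comap, h𝔭]
    show 𝔓.comap (algebraMap A P) ≤ _
    rw [← hc]
  have hQle : 𝔔.map (algebraMap P S) ≤ maximalIdeal S :=
    IsLocalRing.le_maximalIdeal hQprime.ne_top
  have heq : 𝔔.map (algebraMap P S) = maximalIdeal S :=
    le_antisymm hQle (hmin.2 ⟨hQprime, hKQ⟩ hQle)
  have h1 : (𝔔.map (algebraMap P S)).comap (algebraMap P S) = 𝔔 :=
    IsLocalization.under_map_of_isPrime_disjoint 𝔓.primeCompl S inferInstance hdisj
  rw [← h1, heq]
  exact Localization.AtPrime.under_maximalIdeal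

end Groth.Agent.H59.LciH1RelJ
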