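import Mathlib
import Groth.Prelude.Def_SheafNL
import Groth.Agent.H59.NLBC4

/-!
# The base change map on `H^{-1}` of naive cotangent complexes

Properties of `NLCx.bcH1Map`: independence of the map of extensions, compatibility with
composition, and surjectivity over a pushout square.
-/

set_option autoImplicit false
set_option linter.style.haveILetI false
set_option linter.unusedSectionVars false
universe u

namespace Groth.Agent.H59.NLBC5

open CategoryTheory TensorProduct MvPolynomial Groth.Agent.H59.NLBC
  Groth.Agent.H59.NLBC2 Groth.Agent.H59.NLBC3 Groth.Agent.H59.NLBC4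

variable {R S R' S' : Type u} [CommRing R] [CommRing S] [CommRing R'] [CommRing S']
  [Algebra R S] [Algebra R' S'] [Algebra R R'] [Algebra S S'] [Algebra R S']
  [IsScalarTower R R' S'] [IsScalarTower R S S']
variable {P : Algebra.Extension.{u} R S} {P' P'' : Algebra.Extension.{u} R' S'}

theorem bcH1Map_val (f : P.Hom P') (x : NLCx.bcH1 P S') :
    (NLCx.bcH1Map f x).1 =
      LinearMap.liftBaseChange S' (Algebra.Extension.Cotangent.map f) x.1 := rfl

/-- the square `d' ∘ L₀ = L₁ ∘ (d ⊗ 1)` -/
theorem cotangentComplex_lift (f : P.Hom P') (x : S' ⊗[S] P.Cotangent) :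
    P'.cotangentComplex (LinearMap.liftBaseChange S' (Algebra.Extension.Cotangent.map f) x) =
      LinearMap.liftBaseChange S' (Algebra.Extension.CotangentSpace.map f)
        (P.cotangentComplex.baseChange S' x) := by
  induction x using TensorProduct.induction_on with
  | zero => simp
  | tmul s m =>
    simp [(Algebra.Extension.CotangentSpace.map_cotangentComplex f m).symm]
  | add x y hx hy => simp only [map_add, hx, hy]

/-- `bcH1Map` does not depend on the map of extensions. -/
theorem bcH1Map_eq (f g : P.Hom P') : NLCx.bcH1Map f = NLCx.bcH1Map g := by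
  apply LinearMap.ext
  intro x
  apply Subtype.ext
  rw [bcH1Map_val, bcH1Map_val]
  have hx : P.cotangentComplex.baseChange S' x.1 = 0 := x.2
  have key : ∀ y : S' ⊗[S] P.Cotangent,
      LinearMap.liftBaseChange S' (Algebra.Extension.Cotangent.map f) y -
        LinearMap.liftBaseChange S' (Algebra.Extension.Cotangent.map g) y =
      LinearMap.liftBaseChange S' (f.sub g) (P.cotangentComplex.baseChange S' y) := by
    intro y
    induction y using TensorProduct.induction_on with
    | zero => simp
    | tmul s m =>
      have := LinearMap.congr_fun (Algebra.Extension.Cotangent.map_sub_map f g) m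
      simp only [LinearMap.sub_apply, LinearMap.coe_comp, Function.comp_apply] at this
      simp [← this, smul_sub]
    | add x y hx hy =>
      simp only [map_add, ← hx, ← hy]
      abel
  have := key x.1
  rw [hx, map_zero, sub_eq_zero] at this
  exact this

theorem bcH1Map_comp (f : P.Hom P') (g : P'.Hom P'') (x : NLCx.bcH1 P S') :
    NLCx.bcH1Map (g.comp f) x = Algebra.Extension.H1Cotangent.map g (NLCx.bcH1Map f x) := by
  apply Subtype.ext
  rw [bcH1Map_val]
  change _ = Algebra.Extension.Cotangent.map g (NLCx.bcH1Map f x).1
  rw [bcH1Map_val]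
  generalize x.1 = y
  induction y using TensorProduct.induction_on with
  | zero => simp
  | tmul s m => simp [Algebra.Extension.Cotangent.map_comp]
  | add x y hx hy => simp only [map_add, hx, hy]

/-- `bcH1Map f` is surjective if `f` is surjective on base-changed conormal modules and injective
on base-changed cotangent spaces. -/
theorem bcH1Map_surjective_of (f : P.Hom P')
    (h₀ : Function.Surjective
      (LinearMap.liftBaseChange S' (Algebra.Extension.Cotangent.map f)))
    (h₁ : Function.Injective
      (LinearMap.liftBaseChange S' (Algebra.Extension.CotangentSpace.map f))) :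
    Function.Surjective (NLCx.bcH1Map f) := by
  intro ξ'
  obtain ⟨ξ, hξ⟩ := h₀ ξ'.1
  have hmem : ξ ∈ NLCx.bcH1 P S' := by
    change P.cotangentComplex.baseChange S' ξ = 0
    apply h₁
    rw [← cotangentComplex_lift, hξ, map_zero]
    exact ξ'.2
  exact ⟨⟨ξ, hmem⟩, Subtype.ext hξ⟩

section Pushout

variable [Algebra.IsPushout R R' S S']

/-- Over a pushout square, `H^{-1}(NL(G) ⊗_S S') → H^{-1}(NL(G'))` is surjective for presentations
on the same variables. -/
theorem bcH1Map_surjective_sameVars {ι : Type u} (G : Algebra.Generators R S ι)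
    (G' : Algebra.Generators R' S' ι) (f : G.Hom G') (hf : ∀ i, f.val i = MvPolynomial.X i)
    (h : ∀ i, G'.val i = algebraMap S S' (G.val i)) :
    Function.Surjective (NLCx.bcH1Map f.toExtensionHom) :=
  bcH1Map_surjective_of _ (bc_cotangent_surjective_of_isPushout G G' f hf h)
    (bc_cotangentSpace_bijective G G' f hf).1

/-- Over a pushout square, `H^{-1}(NL_{S/R} ⊗_S S') → H^{-1}(NL_{S'/R'})` is surjective. -/
theorem bcH1Map_surjective_self (f : (Algebra.Generators.self R S).toExtension.Hom
    (Algebra.Generators.self R' S').toExtension) :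
    Function.Surjective (NLCx.bcH1Map f) := by
  let G'' := baseChangeGens (R' := R') (Algebra.Generators.self R S) S'
  let a := (selfToBC R S R' S').toExtensionHom
  let b := (G''.defaultHom (Algebra.Generators.self R' S')).toExtensionHom
  let b' := ((Algebra.Generators.self R' S').defaultHom G'').toExtensionHom
  rw [bcH1Map_eq f (b.comp a)]
  intro ξ'
  obtain ⟨ξ, hξ⟩ := bcH1Map_surjective_sameVars (Algebra.Generators.self R S) G''
    (selfToBC R S R' S') (fun _ => rfl) (fun _ => rfl)
    ((Algebra.Extension.H1Cotangent.equiv b b').symm ξ')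
  refine ⟨ξ, ?_⟩
  rw [bcH1Map_comp]
  change Algebra.Extension.H1Cotangent.map b (NLCx.bcH1Map a ξ) = ξ'
  rw [hξ]
  exact (Algebra.Extension.H1Cotangent.equiv b b').apply_symm_apply ξ'

end Pushout

end Groth.Agent.H59.NLBC5
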