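import Mathlib
import Groth.Prelude.Def_SheafNL
import Groth.Prelude.Def_LCI2
import Groth.Agent.H59.NLBC5
import Groth.Agent.H59.ConormalProj

/-!
# The kernel of `H^{-1}(NL_{B/A} ⊗_B B') → H^{-1}(NL_{B'/A'})` for local complete intersections

* `retract`, `projective_cotangent`, `finite_cotangent`: for two extensions `P₁, P₂` of `S` over `R`
  with maps in both directions, `P₁.Cotangent` is a retract of `P₁.CotangentSpace × P₂.Cotangent`.
* `bcH1MapSame`, `bcH1EquivSame`: functoriality and homotopy invariance of `NLCx.bcH1 P S'` in `P`.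
* `ker_bcH1Map_finite_projective_of`, `ker_bcH1Map_finite_projective_transfer`, `main`.
-/

set_option autoImplicit false
set_option linter.style.haveILetI false
set_option linter.unusedSectionVars false
universe u

open Algebra Algebra.Extension TensorProduct

namespace Groth.Agent.H59.NLBC8

section Retract

variable {R S : Type u} [CommRing R] [CommRing S] [Algebra R S]
variable {P₁ P₂ : Algebra.Extension.{u} R S}

theorem retract (f : P₁.Hom P₂) (g : P₂.Hom P₁) :
    (LinearMap.coprod (-((g.comp f).sub (Hom.id P₁))) (Cotangent.map g)) ∘ₗ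
      (LinearMap.prod P₁.cotangentComplex (Cotangent.map f)) = LinearMap.id := by
  have h := Cotangent.map_sub_map (g.comp f) (Hom.id P₁)
  rw [Cotangent.map_comp, Cotangent.map_id] at h
  apply LinearMap.ext
  intro x
  have hx := LinearMap.congr_fun h x
  simp only [LinearMap.sub_apply, LinearMap.coe_comp, Function.comp_apply,
    LinearMap.coe_restrictScalars, LinearMap.id_coe, id_eq] at hx
  change -(((g.comp f).sub (Hom.id P₁)) (P₁.cotangentComplex x)) +
    (Cotangent.map g) ((Cotangent.map f) x) = x
  rw [← hx]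
  abel

theorem projective_cotangent (f : P₁.Hom P₂) (g : P₂.Hom P₁)
    [Module.Projective S P₁.CotangentSpace] [Module.Projective S P₂.Cotangent] :
    Module.Projective S P₁.Cotangent :=
  Module.Projective.of_split _ _ (retract f g)

theorem finite_cotangent (f : P₁.Hom P₂) (g : P₂.Hom P₁)
    [Module.Finite S P₁.CotangentSpace] [Module.Finite S P₂.Cotangent] :
    Module.Finite S P₁.Cotangent := by
  refine Module.Finite.of_surjective
    (LinearMap.coprod (-((g.comp f).sub (Hom.id P₁))) (Cotangent.map g)) ?_
  intro x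
  exact ⟨_, LinearMap.congr_fun (retract f g) x⟩

end Retract

section
variable {R S : Type u} [CommRing R] [CommRing S] [Algebra R S]
variable {P Q : Algebra.Extension.{u} R S} (S' : Type u) [CommRing S'] [Algebra S S']

theorem cc_baseChange_map (g : P.Hom Q) (x : S' ⊗[S] P.Cotangent) :
    Q.cotangentComplex.baseChange S' ((Cotangent.map g).baseChange S' x) =
      (CotangentSpace.map g).baseChange S' (P.cotangentComplex.baseChange S' x) := by
  induction x using TensorProduct.induction_on with
  | zero => simp
  | tmul s m =>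
    simp [(Algebra.Extension.CotangentSpace.map_cotangentComplex g m).symm]
  | add x y hx hy => simp only [map_add, hx, hy]

/-- the induced map on `H^{-1}(NL(P) ⊗ S')` for a map of extensions of the same ring -/
noncomputable def bcH1MapSame (g : P.Hom Q) : NLCx.bcH1 P S' →ₗ[S'] NLCx.bcH1 Q S' :=
  ((Cotangent.map g).baseChange S').restrict (p := NLCx.bcH1 P S') (q := NLCx.bcH1 Q S')
    (fun x hx => by
      simp only [NLCx.bcH1, LinearMap.mem_ker] at hx ⊢
      rw [cc_baseChange_map, hx, map_zero])

theorem bcH1MapSame_val (g : P.Hom Q) (x : NLCx.bcH1 P S') :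
    (bcH1MapSame S' g x).1 = (Cotangent.map g).baseChange S' x.1 := rfl

end

section
variable {R S : Type u} [CommRing R] [CommRing S] [Algebra R S]
variable {P Q : Algebra.Extension.{u} R S} (S' : Type u) [CommRing S'] [Algebra S S']

theorem map_sub_self_baseChange (k : P.Hom P) (y : S' ⊗[S] P.Cotangent) :
    (Cotangent.map k).baseChange S' y - y =
      (k.sub (Hom.id P)).baseChange S' (P.cotangentComplex.baseChange S' y) := by
  have h := Cotangent.map_sub_map k (Hom.id P)
  rw [Cotangent.map_id] at h
  induction y using TensorProduct.induction_on with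
  | zero => simp
  | tmul s m =>
    have := LinearMap.congr_fun h m
    simp only [LinearMap.sub_apply, LinearMap.coe_comp, Function.comp_apply,
      LinearMap.id_coe, id_eq] at this
    simp [← this, tmul_sub]
  | add x y hx hy =>
    simp only [map_add, ← hx, ← hy]
    abel

theorem map_comp_baseChange (g : P.Hom Q) (h : Q.Hom P) (y : S' ⊗[S] P.Cotangent) :
    (Cotangent.map (h.comp g)).baseChange S' y =
      (Cotangent.map h).baseChange S' ((Cotangent.map g).baseChange S' y) := by
  induction y using TensorProduct.induction_on with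
  | zero => simp
  | tmul s m => simp [Cotangent.map_comp]
  | add x y hx hy => simp only [map_add, hx, hy]

theorem bcH1MapSame_comp_self (g : P.Hom Q) (h : Q.Hom P) (x : NLCx.bcH1 P S') :
    bcH1MapSame S' h (bcH1MapSame S' g x) = x := by
  apply Subtype.ext
  rw [bcH1MapSame_val, bcH1MapSame_val, ← map_comp_baseChange, ← sub_eq_zero,
    map_sub_self_baseChange]
  have hx : P.cotangentComplex.baseChange S' x.1 = 0 := x.2
  rw [hx, map_zero]

/-- maps of extensions in both directions induce an equivalence on `H^{-1}(NL ⊗ S')` -/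
noncomputable def bcH1EquivSame (g : P.Hom Q) (h : Q.Hom P) :
    NLCx.bcH1 P S' ≃ₗ[S'] NLCx.bcH1 Q S' :=
  { bcH1MapSame S' g with
    invFun := bcH1MapSame S' h
    left_inv := bcH1MapSame_comp_self S' g h
    right_inv := bcH1MapSame_comp_self S' h g }

theorem bcH1EquivSame_apply (g : P.Hom Q) (h : Q.Hom P) (x : NLCx.bcH1 P S') :
    bcH1EquivSame S' g h x = bcH1MapSame S' g x := rfl

end

section
open Groth.Agent.H59.NLBC5
variable {R S R' S' : Type u} [CommRing R] [CommRing S] [CommRing R'] [CommRing S']
  [Algebra R S] [Algebra R' S'] [Algebra R R'] [Algebra S S'] [Algebra R S']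
  [IsScalarTower R R' S'] [IsScalarTower R S S']
variable {P Q : Algebra.Extension.{u} R S} {P' : Algebra.Extension.{u} R' S'}

theorem bcH1Map_comp_same (g : P.Hom Q) (f : Q.Hom P') (x : NLCx.bcH1 P S') :
    NLCx.bcH1Map (f.comp g) x = NLCx.bcH1Map f (bcH1MapSame S' g x) := by
  apply Subtype.ext
  rw [bcH1Map_val, bcH1Map_val, bcH1MapSame_val]
  generalize x.1 = y
  induction y using TensorProduct.induction_on with
  | zero => simp
  | tmul s m => simp [Algebra.Extension.Cotangent.map_comp]
  | add x y hx hy => simp only [map_add, hx, hy]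

end

section
open Groth.Agent.H59.NLBC5 Groth.Agent.H59.NLBC4 Groth.Agent.H59.NLBC3
variable {R S R' S' : Type u} [CommRing R] [CommRing S] [CommRing R'] [CommRing S']
  [Algebra R S] [Algebra R' S'] [Algebra R R'] [Algebra S S'] [Algebra R S']
  [IsScalarTower R R' S'] [IsScalarTower R S S']
variable {P : Algebra.Extension.{u} R S} {P' : Algebra.Extension.{u} R' S'}

/-- If `L₀ : S' ⊗ I/I² → I'/I'²` is surjective onto a projective module, `L₁` is injective and
`S' ⊗ I/I²` is finite projective, then the kernel of `bcH1Map f` is finite projective. -/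
theorem ker_bcH1Map_finite_projective_of (f : P.Hom P')
    (h₀ : Function.Surjective
      (LinearMap.liftBaseChange S' (Algebra.Extension.Cotangent.map f)))
    (h₁ : Function.Injective
      (LinearMap.liftBaseChange S' (Algebra.Extension.CotangentSpace.map f)))
    [Module.Finite S P.Cotangent] [Module.Projective S P.Cotangent]
    [Module.Projective S' P'.Cotangent] :
    Module.Finite S' (LinearMap.ker (NLCx.bcH1Map f)) ∧
      Module.Projective S' (LinearMap.ker (NLCx.bcH1Map f)) := by
  set L₀ := LinearMap.liftBaseChange S' (Algebra.Extension.Cotangent.map f) with hL₀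
  obtain ⟨σ, hσ⟩ := Module.projective_lifting_property L₀ LinearMap.id h₀
  let ρ₀ : S' ⊗[S] P.Cotangent →ₗ[S'] S' ⊗[S] P.Cotangent := LinearMap.id - σ ∘ₗ L₀
  have h1 : ∀ y, L₀ (ρ₀ y) = 0 := by
    intro y
    have := LinearMap.congr_fun hσ (L₀ y)
    simp only [LinearMap.coe_comp, Function.comp_apply, LinearMap.id_coe, id_eq] at this
    simp only [ρ₀, LinearMap.sub_apply, LinearMap.id_coe, id_eq, LinearMap.coe_comp,
      Function.comp_apply, map_sub, this, sub_self]
  have h2 : ∀ y, ρ₀ y ∈ NLCx.bcH1 P S' := by
    intro y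
    change P.cotangentComplex.baseChange S' (ρ₀ y) = 0
    apply h₁
    rw [← cotangentComplex_lift, map_zero]
    change P'.cotangentComplex (L₀ (ρ₀ y)) = 0
    rw [h1, map_zero]
  let ρ₁ : S' ⊗[S] P.Cotangent →ₗ[S'] NLCx.bcH1 P S' := ρ₀.codRestrict _ h2
  have h3 : ∀ y, ρ₁ y ∈ LinearMap.ker (NLCx.bcH1Map f) := by
    intro y
    rw [LinearMap.mem_ker]
    apply Subtype.ext
    rw [bcH1Map_val]
    exact h1 y
  let ρ₂ : S' ⊗[S] P.Cotangent →ₗ[S'] LinearMap.ker (NLCx.bcH1Map f) := ρ₁.codRestrict _ h3
  let i' : LinearMap.ker (NLCx.bcH1Map f) →ₗ[S'] S' ⊗[S] P.Cotangent :=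
    (NLCx.bcH1 P S').subtype ∘ₗ (LinearMap.ker (NLCx.bcH1Map f)).subtype
  have hri : ρ₂ ∘ₗ i' = LinearMap.id := by
    apply LinearMap.ext
    intro x
    apply Subtype.ext
    apply Subtype.ext
    change ρ₀ x.1.1 = x.1.1
    have hx : L₀ x.1.1 = 0 := by
      have := x.2
      rw [LinearMap.mem_ker] at this
      have h' := congrArg Subtype.val this
      rw [bcH1Map_val] at h'
      exact h'
    simp only [ρ₀, LinearMap.sub_apply, LinearMap.id_coe, id_eq, LinearMap.coe_comp,
      Function.comp_apply, hx, map_zero, sub_zero]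
  constructor
  · refine Module.Finite.of_surjective ρ₂ ?_
    intro x
    exact ⟨i' x, LinearMap.congr_fun hri x⟩
  · exact Module.Projective.of_split i' ρ₂ hri

end

section
open Groth.Agent.H59.NLBC5 Groth.Agent.H59.NLBC4 Groth.Agent.H59.NLBC3
variable {R S R' S' : Type u} [CommRing R] [CommRing S] [CommRing R'] [CommRing S']
  [Algebra R S] [Algebra R' S'] [Algebra R R'] [Algebra S S'] [Algebra R S']
  [IsScalarTower R R' S'] [IsScalarTower R S S']
variable {P Q : Algebra.Extension.{u} R S} {P' Q' : Algebra.Extension.{u} R' S'}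

theorem ker_bcH1Map_eq_comap (fP : P.Hom P') (fQ : Q.Hom Q') (g : P.Hom Q) (h : Q.Hom P)
    (g' : Q'.Hom P') (h' : P'.Hom Q') :
    LinearMap.ker (NLCx.bcH1Map fP) =
      (LinearMap.ker (NLCx.bcH1Map fQ)).comap (bcH1EquivSame S' g h).toLinearMap := by
  ext x
  rw [Submodule.mem_comap, LinearMap.mem_ker, LinearMap.mem_ker,
    bcH1Map_eq fP (g'.comp (fQ.comp g)), bcH1Map_comp, bcH1Map_comp_same]
  change Algebra.Extension.H1Cotangent.equiv g' h' _ = 0 ↔ _
  rw [LinearEquiv.map_eq_zero_iff]
  rfl

theorem ker_bcH1Map_finite_projective_transfer (fP : P.Hom P') (fQ : Q.Hom Q') (g : P.Hom Q)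
    (h : Q.Hom P) (g' : Q'.Hom P') (h' : P'.Hom Q')
    (hQ : Module.Finite S' (LinearMap.ker (NLCx.bcH1Map fQ)) ∧
      Module.Projective S' (LinearMap.ker (NLCx.bcH1Map fQ))) :
    Module.Finite S' (LinearMap.ker (NLCx.bcH1Map fP)) ∧
      Module.Projective S' (LinearMap.ker (NLCx.bcH1Map fP)) := by
  rw [ker_bcH1Map_eq_comap fP fQ g h g' h']
  obtain ⟨hfin, hproj⟩ := hQ
  let e := LinearEquiv.ofSubmodule' (bcH1EquivSame S' g h) (LinearMap.ker (NLCx.bcH1Map fQ))
  exact ⟨Module.Finite.equiv e.symm, Module.Projective.of_equiv e.symm⟩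

end

section Main

open Groth.Agent.H59.NLBC5 Groth.Agent.H59.NLBC4 Groth.Agent.H59.NLBC3

/-- A finite presentation on `ULift (Fin n)` whose conormal module is finite projective, for a local
complete intersection. -/
theorem exists_generators_of_isLCI {A B : Type u} [CommRing A] [CommRing B] [Algebra A B]
    (hB : LCI.IsLCI A B) :
    ∃ (n : ℕ) (G : Algebra.Generators A B (ULift.{u} (Fin n))),
      Module.Finite B G.toExtension.Cotangent ∧ Module.Projective B G.toExtension.Cotangent := by
  obtain ⟨-, n, φ, hφ, hK⟩ := hB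
  have hfe : MvPolynomial.aeval (R := A) (fun i : Fin n => φ (MvPolynomial.X i)) = φ := by
    apply MvPolynomial.algHom_ext
    intro i
    simp
  let G₀ : Algebra.Generators A B (Fin n) :=
    Algebra.Generators.ofSurjective (fun i => φ (MvPolynomial.X i)) (by rw [hfe]; exact hφ)
  have hker : G₀.toExtension.ker = RingHom.ker φ.toRingHom := by
    change G₀.ker = _
    rw [Algebra.Generators.ker_eq_ker_aeval_val]
    change RingHom.ker (MvPolynomial.aeval (R := A) (fun i : Fin n => φ (MvPolynomial.X i))) = _
    rw [hfe]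
    rfl
  obtain ⟨hfin, hproj⟩ := Groth.Agent.H59.ConormalProj.finite_projective_cotangent G₀.toExtension
    (by rw [hker]; exact hK)
  let G : Algebra.Generators A B (ULift.{u} (Fin n)) := G₀.reindex Equiv.ulift
  haveI : Module.Finite B G.toExtension.CotangentSpace :=
    Module.Finite.of_basis G.cotangentSpaceBasis
  refine ⟨n, G, ?_, ?_⟩
  · exact finite_cotangent (G.defaultHom G₀).toExtensionHom (G₀.defaultHom G).toExtensionHom
  · exact projective_cotangent (G.defaultHom G₀).toExtensionHom (G₀.defaultHom G).toExtensionHom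

theorem main (A B A' B' : Type u) [CommRing A] [CommRing B]
    [CommRing A'] [CommRing B'] [Algebra A B] [Algebra A' B'] [Algebra A A'] [Algebra B B']
    [Algebra A B'] [IsScalarTower A A' B'] [IsScalarTower A B B'] [Algebra.IsPushout A A' B B']
    (hB : LCI.IsLCI A B) (hB' : LCI.IsLCI A' B') :
    Module.Finite B' (LinearMap.ker (NLCx.bcH1Map
        ((Algebra.Generators.self A B).defaultHom (Algebra.Generators.self A' B')).toExtensionHom)) ∧
      Module.Projective B' (LinearMap.ker (NLCx.bcH1Map
        ((Algebra.Generators.self A B).defaultHom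
          (Algebra.Generators.self A' B')).toExtensionHom)) := by
  obtain ⟨n, G, hGfin, hGproj⟩ := exists_generators_of_isLCI hB
  obtain ⟨n', H, -, hHproj⟩ := exists_generators_of_isLCI hB'
  let G' : Algebra.Generators A' B' (ULift.{u} (Fin n)) := baseChangeGens (R' := A') G B'
  let f : G.Hom G' := NLCx.sameVarsHom G G' (fun _ => rfl)
  haveI : Module.Projective B' G'.toExtension.Cotangent :=
    projective_cotangent (G'.defaultHom H).toExtensionHom (H.defaultHom G').toExtensionHom
  have hQ := ker_bcH1Map_finite_projective_of f.toExtensionHom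
    (bc_cotangent_surjective_of_isPushout G G' f (fun _ => rfl) (fun _ => rfl))
    (bc_cotangentSpace_bijective G G' f (fun _ => rfl)).1
  exact ker_bcH1Map_finite_projective_transfer _ f.toExtensionHom
    ((Algebra.Generators.self A B).defaultHom G).toExtensionHom
    (G.defaultHom (Algebra.Generators.self A B)).toExtensionHom
    (G'.defaultHom (Algebra.Generators.self A' B')).toExtensionHom
    ((Algebra.Generators.self A' B').defaultHom G').toExtensionHom hQ

end Main

end Groth.Agent.H59.NLBC8
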