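import Mathlib
import Groth.Prelude.Def_DRing2
import Groth.Agent.H29.TorPd
import Groth.Agent.H29.GlDim
import Groth.Agent.H9.WeakDimWE
import Groth.Agent.H35.PerfectHomPres

/-!
# Finite Tor-dimension gives finite projective dimension (Noetherian case)

* `hasProjectiveDimensionLT_of_isZero_tor`: over a Noetherian ring, a finite module whose `Tor_j`
  vanish for `j > i` has projective dimension `≤ i`.
* `hasTorDimLE_mvPolynomial`: if `B` has Tor-dimension `≤ d` over `A`, it has Tor-dimension
  `≤ d + n` over `A[x_1, …, x_n]` for any `A`-algebra map `A[x_1, …, x_n] → B`.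
* `hasProjectiveDimensionLT_ker`: the kernel of a surjection `A[x_1, …, x_n] → B` has finite
  projective dimension when `A` is Noetherian and `B` has finite Tor-dimension over `A`.
-/

set_option autoImplicit false
set_option linter.style.haveILetI false
set_option linter.unusedSectionVars false
universe u

namespace Groth.Agent.H59.NLVasc1

open CategoryTheory CategoryTheory.Limits

section Pd

variable {R : Type u} [CommRing R] [IsNoetherianRing R]

theorem hasProjectiveDimensionLT_of_isZero_tor : ∀ (i : ℕ) (M : Type u) [AddCommGroup M]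
    [Module R M] [Module.Finite R M],
    (∀ j : ℕ, i + 1 ≤ j → ∀ N : ModuleCat.{u} R,
      IsZero (((Tor (ModuleCat.{u} R) j).obj (ModuleCat.of R M)).obj N)) →
    HasProjectiveDimensionLT (ModuleCat.of R M) (i + 1) := by
  intro i
  induction i with
  | zero =>
    intro M _ _ _ h
    have hflat : Module.Flat R M :=
      Groth.Agent.H9.WeakDimWE.flat_of_isZero_tor_one M fun N _ _ => h 1 le_rfl (ModuleCat.of R N)
    haveI : Module.FinitePresentation R M := Module.finitePresentation_of_finite R M
    have hproj : Module.Projective R M := Module.Flat.projective_of_finitePresentation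
    have : Projective (ModuleCat.of R M) := (IsProjective.iff_projective _).mp hproj
    infer_instance
  | succ i ih =>
    intro M _ _ _ h
    obtain ⟨n, f, hf⟩ := Module.Finite.exists_fin' R M
    let K := LinearMap.ker f
    have hexact : Function.Exact K.subtype f := LinearMap.exact_subtype_ker_map f
    have hinj : Function.Injective K.subtype := Subtype.val_injective
    have hS := Groth.Agent.H29.GlDimL.shortExact_of_exact K.subtype f hinj hf hexact
    have hproj : Projective (ModuleCat.of R (Fin n → R)) :=
      (IsProjective.iff_projective _).mp inferInstance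
    have hFflatB : Module.Flat R
        (ModuleCat.shortComplexOfCompEqZero K.subtype f hexact.linearMap_comp_eq_zero).X₂ :=
      inferInstanceAs (Module.Flat R (Fin n → R))
    rw [hS.hasProjectiveDimensionLT_X₃_iff i hproj]
    refine ih K ?_
    intro j hj N
    obtain ⟨j', rfl⟩ : ∃ j', j = j' + 1 := ⟨j - 1, by omega⟩
    exact (Groth.Agent.H29.TorPd.isZero_tor_shift hS N j').mp (h (j' + 1 + 1) (by omega) N)

theorem hasProjectiveDimensionLT_of_hasTorDimLE (d : ℕ) (M : Type u) [AddCommGroup M]
    [Module R M] [Module.Finite R M] (h : DRing.HasTorDimLE R d M) :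
    HasProjectiveDimensionLT (ModuleCat.of R M) (d + 1) := by
  apply hasProjectiveDimensionLT_of_isZero_tor
  intro j hj N
  haveI := h N j (by omega)
  exact ModuleCat.isZero_of_subsingleton _

end Pd

section Poly

open Groth.Agent.H35.PolyTor Groth.Agent.H35.KF

attribute [local instance] HasDerivedCategory.standard

variable (A B : Type u) [CommRing A] [CommRing B] [Algebra A B]

theorem hasTorDimLE_mvPolynomial (n : ℕ) (φ : MvPolynomial (Fin n) A →ₐ[A] B) (d : ℕ)
    (hd : DRing.HasTorDimLE A d B) :
    letI := φ.toRingHom.toAlgebra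
    DRing.HasTorDimLE (MvPolynomial (Fin n) A) (d + n) B := by
  letI : Algebra (MvPolynomial (Fin n) A) B := φ.toRingHom.toAlgebra
  rw [hasTorDimLE_iff_hasTorAmplitudeIn] at hd ⊢
  have h1 : TAvia (algebraMap A B) (-(d : ℤ)) 0 (Dual.inD B B) :=
    hasTorAmplitudeIn_of_iso (restrictInDIso A B).symm _ _ hd
  have h2 : (φ.toRingHom).comp MvPolynomial.C = algebraMap A B := by
    ext a
    change φ (MvPolynomial.C a) = _
    rw [← MvPolynomial.algebraMap_eq, AlgHom.commutes]
  have h3 : TAvia φ.toRingHom (-(d : ℤ) - n) 0 (Dual.inD B B) :=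
    tavia_mvPolynomial n φ.toRingHom _ _ _ (by rw [h2]; exact h1)
  have h4 := hasTorAmplitudeIn_of_iso (restrictInDIso (MvPolynomial (Fin n) A) B) _ _ h3
  have h5 : -(((d + n : ℕ) : ℤ)) = -(d : ℤ) - n := by push_cast; ring
  rw [h5]
  exact h4

theorem hasProjectiveDimensionLT_ker [IsNoetherianRing A] (n : ℕ)
    (φ : MvPolynomial (Fin n) A →ₐ[A] B) (hφ : Function.Surjective φ) (d : ℕ)
    (hd : DRing.HasTorDimLE A d B) :
    HasProjectiveDimensionLT
      (ModuleCat.of (MvPolynomial (Fin n) A) (RingHom.ker φ.toRingHom)) (d + n + 1) := by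
  letI : Algebra (MvPolynomial (Fin n) A) B := φ.toRingHom.toAlgebra
  have h1 := hasTorDimLE_mvPolynomial A B n φ d hd
  have hsurj : Function.Surjective (Algebra.linearMap (MvPolynomial (Fin n) A) B) := hφ
  haveI : Module.Finite (MvPolynomial (Fin n) A) B := Module.Finite.of_surjective _ hsurj
  have h2 := hasProjectiveDimensionLT_of_hasTorDimLE (d + n) B h1
  set I : Ideal (MvPolynomial (Fin n) A) := RingHom.ker φ.toRingHom with hI
  have hexact : Function.Exact (Submodule.subtype I)
      (Algebra.linearMap (MvPolynomial (Fin n) A) B) := by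
    intro y
    constructor
    · intro hy
      exact ⟨⟨y, hy⟩, rfl⟩
    · rintro ⟨x, rfl⟩
      exact x.2
  have hS := Groth.Agent.H29.GlDimL.shortExact_of_exact (Submodule.subtype I)
    (Algebra.linearMap (MvPolynomial (Fin n) A) B) Subtype.val_injective hsurj hexact
  have hproj : Projective (ModuleCat.of (MvPolynomial (Fin n) A) (MvPolynomial (Fin n) A)) :=
    (IsProjective.iff_projective _).mp inferInstance
  rw [← hS.hasProjectiveDimensionLT_X₃_iff (d + n) hproj]
  exact hasProjectiveDimensionLT_of_ge _ (d + n + 1) (d + n + 2) (by omega)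

end Poly

end Groth.Agent.H59.NLVasc1
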