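import Mathlib
import Groth.Prelude.Def_SheafNL
import Groth.Prelude.Def_LCI2
import Groth.Agent.H59.NLBC7
import Groth.Agent.H59.NLBC8
import Groth.Agent.H10.UnivInjLocal

/-!
# Tor-amplitude `[-1,0]` of `NL_{B/A}` makes conormal modules flat

* `flat_cotangent_self`, `flat_cotangent`: if `NL_{B/A}` has tor-amplitude in `[-1,0]`, the conormal
  module of any extension with flat cotangent space (e.g. a polynomial presentation) is flat.
* `projective_ideal_cotangent`: transfer to `I/I²` as a module over `P ⧸ I`.
-/

set_option autoImplicit false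
set_option linter.style.haveILetI false
set_option linter.unusedSectionVars false
universe u

namespace Groth.Agent.H59.NLVasc2

open CategoryTheory CategoryTheory.Limits Algebra Algebra.Extension TensorProduct
  Groth.Agent.H59.NLHomotopy

attribute [local instance] HasDerivedCategory.standard

variable {A B : Type u} [CommRing A] [CommRing B] [Algebra A B]

theorem flat_cotangent_self (hTor : DRing.HasTorAmplitudeIn B (-1) 0 (LCI.NL A B)) :
    Module.Flat B (Algebra.Generators.self A B).toExtension.Cotangent := by
  let P := (Algebra.Generators.self A B).toExtension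
  have hF0 : Module.Flat B ((NLCx.cx P).X 0) := by
    haveI : Module.Free B P.CotangentSpace :=
      Module.Free.of_basis (Algebra.Generators.self A B).cotangentSpaceBasis
    exact Groth.Agent.H59.NLBC7.flat_of_iso B (xIso₁ P)
      (inferInstanceAs (Module.Flat B P.CotangentSpace))
  haveI hFm1 : Module.Flat B ((NLCx.cx P).X (-1)) :=
    Groth.Agent.H59.TwoTermFlat.flat_X_neg_one_of_hasTorAmplitudeIn (NLCx.cx P)
      (fun i h₀ h₁ => isZero_X P i h₀ h₁) hF0 hTor
  exact Module.Flat.of_linearEquiv (xIso₀ P).symm.toLinearEquiv

theorem flat_cotangent (hTor : DRing.HasTorAmplitudeIn B (-1) 0 (LCI.NL A B))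
    (P : Algebra.Extension.{u} A B) (f : P.Hom (Algebra.Generators.self A B).toExtension)
    (g : (Algebra.Generators.self A B).toExtension.Hom P) [Module.Flat B P.CotangentSpace] :
    Module.Flat B P.Cotangent := by
  haveI := flat_cotangent_self hTor
  haveI : Module.Flat B
      (P.CotangentSpace × (Algebra.Generators.self A B).toExtension.Cotangent) :=
    Groth.Agent.H10.flat_prod B _ _
  exact Module.Flat.of_retract _ _ (Groth.Agent.H59.NLBC8.retract f g)

section Transfer

variable (P : Algebra.Extension.{u} A B)

/-- `B ≃ P.Ring ⧸ P.ker`. -/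
noncomputable def quotEquiv : B ≃+* P.Ring ⧸ P.ker :=
  (RingHom.quotientKerEquivOfSurjective P.algebraMap_surjective).symm

theorem quotEquiv_apply (b : B) : quotEquiv P b = Ideal.Quotient.mk P.ker (P.σ b) := by
  unfold quotEquiv
  rw [RingEquiv.symm_apply_eq]
  change b = algebraMap P.Ring B (P.σ b)
  rw [P.algebraMap_σ]

theorem projective_ideal_cotangent [Module.Projective B P.Cotangent] :
    Module.Projective (P.Ring ⧸ P.ker) P.ker.Cotangent := by
  haveI := RingHomInvPair.of_ringEquiv (quotEquiv P)
  haveI := RingHomInvPair.of_ringEquiv_symm (quotEquiv P)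
  let e : P.Cotangent ≃ₛₗ[(quotEquiv P : B →+* P.Ring ⧸ P.ker)] P.ker.Cotangent :=
    { toFun := Cotangent.val
      invFun := Cotangent.of
      map_add' := Cotangent.val_add
      map_smul' := by
        intro b x
        change (b • x).val = quotEquiv P b • x.val
        rw [quotEquiv_apply, Cotangent.val_smul''', ← Ideal.Quotient.algebraMap_eq,
          algebraMap_smul]
        rfl
      left_inv := fun _ => rfl
      right_inv := fun _ => rfl }
  exact Module.Projective.of_equiv e

end Transfer

end Groth.Agent.H59.NLVasc2
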