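import Mathlib
import Groth.Prelude.Def_SheafNL
import Groth.Prelude.Def_LCI2
import Groth.Agent.H59.NLVasc1
import Groth.Agent.H59.NLVasc2
import Groth.Agent.H29.Vasc7
import Groth.Agent.H79.KoszulCone

/-!
# `NL_{B/A}` of tor-amplitude `[-1,0]` and `B` of finite Tor-dimension over Noetherian `A` ⇒ lci

Via Vasconcelos' theorem (`Groth.Agent.H29.Vasc.main`).
-/

set_option autoImplicit false
set_option linter.style.haveILetI false
set_option linter.unusedSectionVars false
universe u

namespace Groth.Agent.H59.NLVasc3

open CategoryTheory CategoryTheory.Limits Algebra Algebra.Extension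

attribute [local instance] HasDerivedCategory.standard

variable {A B : Type u} [CommRing A] [CommRing B] [Algebra A B]

theorem isLCI_of_torAmplitude [IsNoetherianRing A] [hft : Algebra.FiniteType A B]
    (hB : DRing.HasFiniteTorDim A B)
    (hTor : DRing.HasTorAmplitudeIn B (-1) 0 (LCI.NL A B)) : LCI.IsLCI A B := by
  obtain ⟨d, hd⟩ := hB
  obtain ⟨n, φ, hφ⟩ := Algebra.FiniteType.iff_quotient_mvPolynomial''.mp hft
  have hfe : MvPolynomial.aeval (R := A) (fun i : Fin n => φ (MvPolynomial.X i)) = φ := by
    apply MvPolynomial.algHom_ext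
    intro i
    simp
  let G : Algebra.Generators A B (Fin n) :=
    Algebra.Generators.ofSurjective (fun i => φ (MvPolynomial.X i)) (by rw [hfe]; exact hφ)
  have hker : G.toExtension.ker = RingHom.ker φ.toRingHom := by
    change G.ker = _
    rw [Algebra.Generators.ker_eq_ker_aeval_val]
    change RingHom.ker (MvPolynomial.aeval (R := A) (fun i : Fin n => φ (MvPolynomial.X i))) = _
    rw [hfe]
    rfl
  let P : Algebra.Extension.{u} A B := G.toExtension
  haveI : IsNoetherianRing B := Algebra.FiniteType.isNoetherianRing A B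
  haveI hPn : IsNoetherianRing P.Ring :=
    (inferInstance : IsNoetherianRing (MvPolynomial (Fin n) A))
  haveI : Module.Free B P.CotangentSpace := Module.Free.of_basis G.cotangentSpaceBasis
  have hflat : Module.Flat B P.Cotangent :=
    Groth.Agent.H59.NLVasc2.flat_cotangent hTor P
      (G.defaultHom (Algebra.Generators.self A B)).toExtensionHom
      ((Algebra.Generators.self A B).defaultHom G).toExtensionHom
  haveI : Module.Finite P.Ring P.Cotangent :=
    Module.Finite.of_surjective Cotangent.mk Cotangent.mk_surjective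
  haveI : Module.Finite B P.Cotangent := Module.Finite.of_restrictScalars_finite P.Ring B _
  haveI : Module.FinitePresentation B P.Cotangent := Module.finitePresentation_of_finite B _
  haveI : Module.Projective B P.Cotangent := Module.Flat.projective_of_finitePresentation
  haveI := Groth.Agent.H59.NLVasc2.projective_ideal_cotangent P
  have hpd : HasProjectiveDimensionLT (ModuleCat.of P.Ring P.ker) (d + n + 1) := by
    have := Groth.Agent.H59.NLVasc1.hasProjectiveDimensionLT_ker A B n φ hφ d hd
    rw [← hker] at this
    exact this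
  refine ⟨hft, n, φ, hφ, ?_⟩
  rw [← hker]
  intro 𝔭 h𝔭
  have hprime : Ideal.IsPrime (𝔭.asIdeal : Ideal P.Ring) := 𝔭.isPrime
  obtain ⟨g, hg, rs, hreg, hof⟩ :=
    @Groth.Agent.H29.Vasc.main P.Ring _ hPn P.ker (d + n + 1) hpd _ 𝔭.asIdeal hprime h𝔭
  refine ⟨g, hg, rs, ?_, ?_⟩
  · exact fun i hi =>
      Groth.Agent.H79.KoszulCone.isZero_homology_of_isWeaklyRegular rs hreg.toIsWeaklyRegular i hi
  · exact hof.symm

end Groth.Agent.H59.NLVasc3
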