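import Mathlib
import Groth.Prelude.Def_SheafNL
import Groth.Prelude.Def_LCI2
import Groth.Prelude.Def_RegImm
import Groth.Agent.H59.NLVasc3
import Groth.Agent.H59.NLBC7
import Groth.Agent.H35.LBaseChangeLib
import Groth.Agent.H35.TorAmpCone
import Groth.Agent.H46.SyntLCI
import Groth.Agent.H46.LCISynt
import Groth.Agent.H47.Synt.Fibres

/-!
# `NL_{B/A}` of tor-amplitude `[-1,0]` for `A → B` flat of finite presentation ⇒ lci

By fibres: flat base change of `NL` (S7222), the Noetherian case over the residue fields, and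
"syntomic ⇒ lci" (`Groth.Agent.H46.SyntLCI.isLCI_of_isSyntomic`).
-/

set_option autoImplicit false
set_option linter.style.haveILetI false
set_option linter.unusedSectionVars false
universe u

namespace Groth.Agent.H59.NLVasc4

open CategoryTheory CategoryTheory.Limits TensorProduct

attribute [local instance] HasDerivedCategory.standard
attribute [local instance] Algebra.TensorProduct.rightAlgebra

/-- Over a field every module has Tor-dimension `0`. -/
theorem hasFiniteTorDim_field (k : Type u) [Field k] (M : Type u) [AddCommGroup M] [Module k M] :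
    DRing.HasFiniteTorDim k M := by
  refine ⟨0, ?_⟩
  intro N _ _ p hp
  obtain ⟨q, rfl⟩ : ∃ q, p = q + 1 := ⟨p - 1, by omega⟩
  haveI : Projective (ModuleCat.of k N) := (IsProjective.iff_projective _).mp inferInstance
  have hz : IsZero (((Tor (ModuleCat.{u} k) (q + 1)).obj (ModuleCat.of k M)).obj
      (ModuleCat.of k N)) :=
    Functor.isZero_leftDerived_obj_projective_succ _ q (ModuleCat.of k N)
  exact ModuleCat.subsingleton_of_isZero hz

variable {A B : Type u} [CommRing A] [CommRing B] [Algebra A B]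

theorem isLCIOver_fiber [Module.Flat A B] [Algebra.FinitePresentation A B]
    (hTor : DRing.HasTorAmplitudeIn B (-1) 0 (LCI.NL A B)) (p : PrimeSpectrum A) :
    Synt.IsLCIOver p.asIdeal.ResidueField (p.asIdeal.Fiber B) := by
  set k := p.asIdeal.ResidueField
  haveI : DRing.HasLBaseChange (algebraMap B (k ⊗[A] B)) :=
    Groth.Agent.H35.LT.hasLBaseChange _
  obtain ⟨e⟩ := Groth.Agent.H59.NLBC7.nonempty_LBaseChange_iso A B k (k ⊗[A] B) hTor
  have hTor' : DRing.HasTorAmplitudeIn (k ⊗[A] B) (-1) 0 (LCI.NL k (k ⊗[A] B)) :=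
    Groth.Agent.H35.KF.hasTorAmplitudeIn_of_iso e _ _
      (Groth.Agent.H35.LT.hasTorAmplitudeIn_LBaseChange _ _ _ _ hTor)
  have hlci : LCI.IsLCI k (k ⊗[A] B) :=
    Groth.Agent.H59.NLVasc3.isLCI_of_torAmplitude (hasFiniteTorDim_field k _) hTor'
  have hsynt : Synt.IsSyntomic k (k ⊗[A] B) :=
    Groth.Agent.H46.LCISynt.isSyntomic_of_flat_of_isLCI k (k ⊗[A] B) inferInstance hlci
  exact Groth.Agent.H47.Synt.isLCIOver_of_isSyntomic_field hsynt

theorem isLCI_of_torAmplitude_of_flat [Module.Flat A B] [Algebra.FinitePresentation A B]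
    (hTor : DRing.HasTorAmplitudeIn B (-1) 0 (LCI.NL A B)) : LCI.IsLCI A B :=
  Groth.Agent.H46.SyntLCI.isLCI_of_isSyntomic A B
    ⟨inferInstance, inferInstance, fun p => isLCIOver_fiber hTor p⟩

end Groth.Agent.H59.NLVasc4
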