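import Mathlib

/-!
# Triangularisation of nilpotent matrices over a field

`NilTri.exists_mul_mul_adjugate`: a nilpotent square matrix `A` over a field can be written
`A = P * L * adjugate P` with `L` strictly lower triangular.
-/

set_option autoImplicit false

namespace Groth.Agent.H59.NilTri

open Module

variable {k : Type*} [Field k]

/-- A nilpotent endomorphism of a finite-dimensional space has a basis `b` with
`f (b j) ∈ span {b i | j < i}`. -/
theorem exists_basis_of_isNilpotent :
    ∀ (n : ℕ) (V : Type _) [AddCommGroup V] [Module k V] [FiniteDimensional k V]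
      (_ : finrank k V = n) (f : V →ₗ[k] V) (_ : IsNilpotent f),
      ∃ b : Basis (Fin n) k V, ∀ j, f (b j) ∈ Submodule.span k (b '' {i | j < i}) := by
  intro n
  induction n with
  | zero =>
    intro V _ _ _ hV f _
    exact ⟨Module.finBasisOfFinrankEq k V hV, fun j => j.elim0⟩
  | succ n ih =>
    intro V _ _ _ hV f hf
    have hnt : Nontrivial V := Module.nontrivial_of_finrank_pos (R := k) (by omega)
    -- range f is a proper subspace
    have hrange : LinearMap.range f < ⊤ := by
      rw [lt_top_iff_ne_top]
      intro htop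
      obtain ⟨m, hm⟩ := hf
      have hsurj : Function.Surjective f := LinearMap.range_eq_top.mp htop
      have hsurjm : Function.Surjective (f ^ m) := by
        rw [Module.End.coe_pow]
        exact Function.Surjective.iterate hsurj m
      rw [hm] at hsurjm
      obtain ⟨x, y, hxy⟩ := exists_pair_ne V
      obtain ⟨x', hx'⟩ := hsurjm x
      obtain ⟨y', hy'⟩ := hsurjm y
      simp at hx' hy'
      exact hxy (hx'.symm.trans hy')
    obtain ⟨g, hg0, hgle⟩ := Submodule.exists_le_ker_of_lt_top _ hrange
    set H : Submodule k V := LinearMap.ker g with hH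
    have hHrank : finrank k H = n := by
      have h1 := Module.Dual.finrank_ker_add_one_of_ne_zero hg0
      rw [hV] at h1
      change finrank k (LinearMap.ker g) = n
      omega
    have hfH : ∀ x ∈ H, f x ∈ H := fun x _ => hgle (LinearMap.mem_range_self f x)
    have hnil : IsNilpotent (f.restrict hfH) := Module.End.isNilpotent.restrict hfH hf
    obtain ⟨bH, hbH⟩ := ih H hHrank (f.restrict hfH) hnil
    obtain ⟨y, hy⟩ : ∃ y, g y ≠ 0 := by
      by_contra h
      push Not at h
      exact hg0 (LinearMap.ext h)
    have hli : ∀ (c : k), ∀ x ∈ H, c • y + x = 0 → c = 0 := by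
      intro c x hx hc
      have := congrArg g hc
      rw [map_add, map_smul, LinearMap.mem_ker.mp hx, add_zero, map_zero, smul_eq_mul] at this
      exact (mul_eq_zero.mp this).resolve_right hy
    have hsp : ∀ z : V, ∃ c : k, z + c • y ∈ H := by
      intro z
      refine ⟨-(g z / g y), ?_⟩
      rw [hH, LinearMap.mem_ker, map_add, map_smul, smul_eq_mul]
      field_simp
      ring
    refine ⟨Basis.mkFinCons y bH hli hsp, ?_⟩
    have hcoe : (Basis.mkFinCons y bH hli hsp : Fin (n + 1) → V) = Fin.cons y ((↑) ∘ bH) :=
      Basis.coe_mkFinCons _ _ _ _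
    intro j
    rw [hcoe]
    refine Fin.cases ?_ (fun j' => ?_) j
    · -- `f y ∈ H = span (bH i)`
      simp only [Fin.cons_zero]
      have h1 : f y ∈ H := hgle (LinearMap.mem_range_self f y)
      have h2 : (⟨f y, h1⟩ : H) ∈ Submodule.span k (Set.range bH) := by
        rw [bH.span_eq]; trivial
      have h3 := Submodule.mem_map_of_mem (f := H.subtype) h2
      rw [Submodule.map_span] at h3
      refine Submodule.span_mono ?_ h3
      rintro _ ⟨_, ⟨i, rfl⟩, rfl⟩
      exact ⟨i.succ, Fin.succ_pos i, by simp⟩
    · simp only [Fin.cons_succ, Function.comp_apply]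
      have h2 := hbH j'
      have h3 := Submodule.mem_map_of_mem (f := H.subtype) h2
      rw [Submodule.map_span] at h3
      have h4 : H.subtype ((f.restrict hfH) (bH j')) = f (bH j') := rfl
      rw [h4] at h3
      refine Submodule.span_mono ?_ h3
      rintro _ ⟨_, ⟨i, hi, rfl⟩, rfl⟩
      exact ⟨i.succ, Fin.succ_lt_succ_iff.mpr hi, by simp⟩

/-- A nilpotent matrix over a field is `P * L * adjugate P` with `L` strictly lower
triangular. -/
theorem exists_mul_mul_adjugate (n : ℕ) (A : Matrix (Fin n) (Fin n) k) (hA : IsNilpotent A) :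
    ∃ P L : Matrix (Fin n) (Fin n) k, (∀ i j, i ≤ j → L i j = 0) ∧ P * L * P.adjugate = A := by
  classical
  set f : (Fin n → k) →ₗ[k] (Fin n → k) := Matrix.toLin' A with hf
  have hfn : IsNilpotent f := by
    have := hA.map (Matrix.toLinAlgEquiv' (R := k) (n := Fin n))
    exact this
  obtain ⟨b, hb⟩ := exists_basis_of_isNilpotent n (Fin n → k) (Module.finrank_fin_fun k) f hfn
  set E := Pi.basisFun k (Fin n)
  set P := E.toMatrix b with hP
  set Q := b.toMatrix E with hQ
  set L0 := LinearMap.toMatrix b b f with hL0
  have hPQ : P * Q = 1 := Basis.toMatrix_mul_toMatrix_flip E b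
  have hA' : P * L0 * Q = A := by
    rw [hP, hQ, hL0, basis_toMatrix_mul_linearMap_toMatrix_mul_basis_toMatrix,
      LinearMap.toMatrix_eq_toMatrix', hf, LinearMap.toMatrix'_toLin']
  have hadj : P.adjugate = P.det • Q := by
    calc P.adjugate = P.adjugate * (P * Q) := by rw [hPQ, mul_one]
      _ = (P.adjugate * P) * Q := by rw [mul_assoc]
      _ = P.det • Q := by rw [Matrix.adjugate_mul, Matrix.smul_mul, one_mul]
  have hdet : P.det ≠ 0 := by
    intro h0
    have := congrArg Matrix.det hPQ
    rw [Matrix.det_mul, h0, zero_mul, Matrix.det_one] at this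
    exact zero_ne_one this
  refine ⟨P, (P.det)⁻¹ • L0, ?_, ?_⟩
  · intro i j hij
    have h1 := Basis.repr_support_subset_of_mem_span b {i' | j < i'} (hb j)
    have h2 : (b.repr (f (b j))) i = 0 := by
      by_contra hne
      have : i ∈ (b.repr (f (b j))).support := Finsupp.mem_support_iff.mpr hne
      have := h1 this
      exact absurd (show j < i from this) (by omega)
    simp [hL0, LinearMap.toMatrix_apply, h2]
  · rw [hadj, Matrix.mul_smul, Matrix.mul_smul, Matrix.smul_mul, smul_smul,
      mul_inv_cancel₀ hdet, one_smul, hA']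

end Groth.Agent.H59.NilTri
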