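import Mathlib
import Groth.Agent.H59.NilTri

/-!
# The nilpotent cone: radical of the ideal of charpoly coefficients is prime
-/

set_option autoImplicit false

namespace Groth.Agent.H59.NilCone

open MvPolynomial Matrix

variable (k : Type*) [Field k] (n : ℕ)

/-- index type of the parametrising polynomial ring -/
abbrev Tau := (Fin n × Fin n) ⊕ (Fin n × Fin n)

/-- generic matrix `G` -/
noncomputable def Gm : Matrix (Fin n) (Fin n) (MvPolynomial (Tau n) k) :=
  Matrix.of fun i j => X (Sum.inl (i, j))

/-- generic strictly lower triangular matrix -/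
noncomputable def Lm : Matrix (Fin n) (Fin n) (MvPolynomial (Tau n) k) :=
  Matrix.of fun i j => if j < i then X (Sum.inr (i, j)) else 0

/-- `G * L * adj G` -/
noncomputable def Mm : Matrix (Fin n) (Fin n) (MvPolynomial (Tau n) k) :=
  Gm k n * Lm k n * (Gm k n).adjugate

/-- the parametrisation `X ↦ G L adj(G)` -/
noncomputable def phi : MvPolynomial (Fin n × Fin n) k →ₐ[k] MvPolynomial (Tau n) k :=
  aeval fun p : Fin n × Fin n => Mm k n p.1 p.2

/-- the ideal of the nilpotent cone -/
noncomputable def nilIdeal : Ideal (MvPolynomial (Fin n × Fin n) k) :=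
  Ideal.span (Set.range (fun i : Fin n =>
      (Matrix.charpoly (Matrix.mvPolynomialX (Fin n) (Fin n) k)).coeff (i : ℕ)))

theorem phi_mapMatrix :
    (phi k n).mapMatrix (mvPolynomialX (Fin n) (Fin n) k) = Mm k n :=
  mvPolynomialX_mapMatrix_aeval k (Mm k n)

/-- a strictly lower triangular matrix has charpoly `X^n`. -/
theorem charpoly_of_strictLower {R : Type*} [CommRing R] (L : Matrix (Fin n) (Fin n) R)
    (hL : ∀ i j, i ≤ j → L i j = 0) : L.charpoly = Polynomial.X ^ n := by
  have hbt : Lᵀ.IsUpperTriangular := by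
    intro i j hij
    exact hL j i (le_of_lt hij)
  rw [← Matrix.charpoly_transpose, Matrix.charpoly_of_isUpperTriangular Lᵀ hbt]
  simp [hL _ _ le_rfl]

theorem pow_of_strictLower {R : Type*} [CommRing R] (L : Matrix (Fin n) (Fin n) R)
    (hL : ∀ i j, i ≤ j → L i j = 0) : L ^ n = 0 := by
  have := Matrix.aeval_self_charpoly L
  rwa [charpoly_of_strictLower n L hL, map_pow, Polynomial.aeval_X] at this

theorem Lm_strict : ∀ i j, i ≤ j → Lm k n i j = 0 := by
  intro i j hij
  simp [Lm, not_lt.mpr hij]

theorem Mm_pow_succ (m : ℕ) :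
    (Mm k n) ^ (m + 1) =
      ((Gm k n).det ^ m) • (Gm k n * (Lm k n) ^ (m + 1) * (Gm k n).adjugate) := by
  induction m with
  | zero => simp [Mm]
  | succ m ih =>
    rw [pow_succ, ih, Mm]
    have h1 : (Gm k n * Lm k n ^ (m + 1) * (Gm k n).adjugate) *
        (Gm k n * Lm k n * (Gm k n).adjugate) =
        (Gm k n).det • (Gm k n * (Lm k n) ^ (m + 1 + 1) * (Gm k n).adjugate) := by
      calc _ = Gm k n * Lm k n ^ (m + 1) * ((Gm k n).adjugate * Gm k n) * Lm k n *
            (Gm k n).adjugate := by simp only [mul_assoc]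
        _ = _ := by
          rw [Matrix.adjugate_mul, Matrix.mul_smul, Matrix.smul_mul, Matrix.smul_mul, mul_one,
            pow_succ (Lm k n) (m + 1)]
          simp only [mul_assoc]
    rw [Matrix.smul_mul, h1, smul_smul, pow_succ ((Gm k n).det)]

theorem Mm_isNilpotent : IsNilpotent (Mm k n) := by
  refine ⟨n + 1, ?_⟩
  rw [Mm_pow_succ, pow_succ, pow_of_strictLower n _ (Lm_strict k n)]
  simp

theorem Mm_charpoly : (Mm k n).charpoly = Polynomial.X ^ n := by
  have h := Matrix.isNilpotent_charpoly_sub_pow_of_isNilpotent (Mm_isNilpotent k n)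
  rw [Fintype.card_fin] at h
  exact sub_eq_zero.mp (h.eq_zero)

theorem nilIdeal_le_ker : nilIdeal k n ≤ RingHom.ker (phi k n) := by
  rw [nilIdeal, Ideal.span_le]
  rintro _ ⟨i, rfl⟩
  rw [SetLike.mem_coe, RingHom.mem_ker]
  have h1 : ((mvPolynomialX (Fin n) (Fin n) k).map (phi k n)).charpoly =
      (mvPolynomialX (Fin n) (Fin n) k).charpoly.map (phi k n).toRingHom :=
    Matrix.charpoly_map _ (phi k n).toRingHom
  have h2 : (mvPolynomialX (Fin n) (Fin n) k).map (phi k n) = Mm k n := phi_mapMatrix k n
  rw [h2, Mm_charpoly] at h1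
  have h3 := congrArg (fun p => p.coeff (i : ℕ)) h1
  simp only [Polynomial.coeff_map, Polynomial.coeff_X_pow] at h3
  rw [if_neg (by omega)] at h3
  exact h3.symm

/-- evaluating `phi f` at a point `(P, L)` is evaluating `f` at `P * L' * adj P`. -/
theorem eval_phi (P L : Matrix (Fin n) (Fin n) k) (hL : ∀ i j, i ≤ j → L i j = 0)
    (f : MvPolynomial (Fin n × Fin n) k) :
    eval (Sum.elim (fun p : Fin n × Fin n => P p.1 p.2) (fun p : Fin n × Fin n => L p.1 p.2))
      (phi k n f) = eval (fun p : Fin n × Fin n => (P * L * P.adjugate) p.1 p.2) f := by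
  set q : Tau n → k :=
    Sum.elim (fun p : Fin n × Fin n => P p.1 p.2) (fun p : Fin n × Fin n => L p.1 p.2) with hq
  have hG : (Gm k n).map (eval q) = P := by
    ext i j; simp [Gm, hq]
  have hLm : (Lm k n).map (eval q) = L := by
    ext i j
    by_cases hji : j < i
    · simp [Lm, hq, hji]
    · simp [Lm, hji, hL i j (not_lt.mp hji)]
  have hM : (Mm k n).map (eval q) = P * L * P.adjugate := by
    have h1 : (Mm k n).map (eval q) = (eval q).mapMatrix (Mm k n) := rfl
    rw [h1, Mm, map_mul, map_mul, RingHom.map_adjugate]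
    change (Gm k n).map (eval q) * (Lm k n).map (eval q) * ((Gm k n).map (eval q)).adjugate = _
    rw [hG, hLm]
  have hcomp : (eval q).comp (phi k n).toRingHom =
      eval (fun p : Fin n × Fin n => (P * L * P.adjugate) p.1 p.2) := by
    apply MvPolynomial.ringHom_ext
    · intro c
      simp [phi]
    · intro p
      have : (eval q) (Mm k n p.1 p.2) = (P * L * P.adjugate) p.1 p.2 := by
        rw [← hM]; rfl
      simp [phi, this]
  exact congrArg (fun g => g f) hcomp

variable [IsAlgClosed k]

theorem ker_le_radical : RingHom.ker (phi k n) ≤ (nilIdeal k n).radical := by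
  intro f hf
  rw [RingHom.mem_ker] at hf
  rw [← MvPolynomial.vanishingIdeal_zeroLocus_eq_radical (K := k), mem_vanishingIdeal_iff]
  intro p hp
  rw [mem_zeroLocus_iff] at hp
  -- the matrix of the point
  set A : Matrix (Fin n) (Fin n) k := Matrix.of fun i j => p (i, j) with hA
  have hAmap : (mvPolynomialX (Fin n) (Fin n) k).map (eval p) = A := by
    ext i j; simp [hA]
  have hchar : A.charpoly = Polynomial.X ^ n := by
    have h1 : A.charpoly = (mvPolynomialX (Fin n) (Fin n) k).charpoly.map (eval p) := by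
      rw [← hAmap]; exact Matrix.charpoly_map _ (eval p)
    have hmonic := Matrix.charpoly_monic A
    have hdeg : A.charpoly.natDegree = n := by
      rw [Matrix.charpoly_natDegree_eq_dim, Fintype.card_fin]
    ext j
    rw [Polynomial.coeff_X_pow]
    rcases lt_trichotomy j n with hj | hj | hj
    · rw [if_neg (by omega), h1, Polynomial.coeff_map]
      have := hp ((mvPolynomialX (Fin n) (Fin n) k).charpoly.coeff j)
        (Ideal.subset_span ⟨⟨j, hj⟩, rfl⟩)
      simpa [MvPolynomial.aeval_eq_eval] using this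
    · rw [if_pos hj]
      have := hmonic.coeff_natDegree
      rw [hdeg] at this
      rw [hj]; exact this
    · rw [if_neg (by omega)]
      exact Polynomial.coeff_eq_zero_of_natDegree_lt (by omega)
  have hAn : A ^ n = 0 := by
    have := Matrix.aeval_self_charpoly A
    rwa [hchar, map_pow, Polynomial.aeval_X] at this
  obtain ⟨P, L, hL, hPL⟩ := NilTri.exists_mul_mul_adjugate n A ⟨n, hAn⟩
  have h2 := eval_phi k n P L hL f
  rw [hf, map_zero, hPL] at h2
  have h3 : (fun q : Fin n × Fin n => A q.1 q.2) = p := by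
    funext q; simp [hA]
  rw [h3] at h2
  rw [MvPolynomial.aeval_eq_eval]
  exact h2.symm

theorem radical_eq_ker : (nilIdeal k n).radical = RingHom.ker (phi k n) := by
  refine le_antisymm ?_ (ker_le_radical k n)
  have hprime : (RingHom.ker (phi k n)).IsPrime := RingHom.ker_isPrime _
  exact hprime.radical_le_iff.mpr (nilIdeal_le_ker k n)

theorem radical_isPrime : (nilIdeal k n).radical.IsPrime := by
  rw [radical_eq_ker]
  exact RingHom.ker_isPrime _

end Groth.Agent.H59.NilCone
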