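import Mathlib
import Groth.Agent.H59.NilCone
import Groth.Agent.H14.DimTrdeg

/-!
# The nilpotent cone: dimension `n^2 - n` and irreducibility
-/

set_option autoImplicit false
set_option linter.style.haveILetI false

universe u

namespace Groth.Agent.H59.NilCone

open MvPolynomial Matrix

variable (k : Type u) [Field k] (n : ℕ)

/-- the maximal ideal of the origin -/
noncomputable def m0 : Ideal (MvPolynomial (Fin n × Fin n) k) :=
  RingHom.ker (eval (0 : Fin n × Fin n → k))

instance m0_isMaximal : (m0 k n).IsMaximal :=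
  RingHom.ker_isMaximal_of_surjective _ (fun c => ⟨C c, by simp⟩)

theorem nilIdeal_le_m0 : nilIdeal k n ≤ m0 k n := by
  rw [nilIdeal, Ideal.span_le]
  rintro _ ⟨i, rfl⟩
  rw [SetLike.mem_coe, m0, RingHom.mem_ker]
  have h1 : ((mvPolynomialX (Fin n) (Fin n) k).map (eval (0 : Fin n × Fin n → k))).charpoly =
      (mvPolynomialX (Fin n) (Fin n) k).charpoly.map (eval (0 : Fin n × Fin n → k)) :=
    Matrix.charpoly_map _ _
  have h2 : (mvPolynomialX (Fin n) (Fin n) k).map (eval (0 : Fin n × Fin n → k)) = 0 := by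
    ext i j; simp
  rw [h2, Matrix.charpoly_zero, Fintype.card_fin] at h1
  have h3 := congrArg (fun p => p.coeff (i : ℕ)) h1
  simp only [Polynomial.coeff_map, Polynomial.coeff_X_pow] at h3
  rw [if_neg (by omega)] at h3
  exact h3.symm

theorem height_m0 : ((m0 k n).height : WithBot ℕ∞) = ((n ^ 2 : ℕ) : WithBot ℕ∞) := by
  rw [Groth.Agent.H14.height_of_isMaximal_of_finiteType_domain k
    (MvPolynomial (Fin n × Fin n) k) (m0 k n), MvPolynomial.ringKrullDim_of_isNoetherianRing,
    ringKrullDim_eq_zero_of_field, zero_add]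
  simp [pow_two]

theorem spanFinrank_nilIdeal_le : (nilIdeal k n).spanFinrank ≤ n := by
  rw [nilIdeal]
  refine le_trans (Submodule.spanFinrank_span_le_ncard_of_finite (Set.finite_range _)) ?_
  calc (Set.range _).ncard ≤ Nat.card (Fin n) := by
        rw [← Set.image_univ]
        refine le_trans (Set.ncard_image_le (Set.finite_univ)) ?_
        simp [Set.ncard_univ]
    _ = n := by simp

theorem le_dim : ((n ^ 2 : ℕ) : WithBot ℕ∞) ≤
    ringKrullDim (MvPolynomial (Fin n × Fin n) k ⧸ nilIdeal k n) + (n : ℕ) := by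
  have h := height_le_ringKrullDim_quotient_add_spanFinrank (nilIdeal_le_m0 k n)
  rw [height_m0] at h
  refine le_trans h ?_
  gcongr
  exact_mod_cast spanFinrank_nilIdeal_le k n

/-- a matrix whose characteristic polynomial has vanishing lower coefficients is nilpotent. -/
theorem pow_eq_zero_of_coeff {Q : Type*} [CommRing Q] (D : Matrix (Fin n) (Fin n) Q)
    (hD : ∀ j < n, D.charpoly.coeff j = 0) : D ^ n = 0 := by
  rcases subsingleton_or_nontrivial Q with hQ | hQ
  · exact Subsingleton.elim _ _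
  have hchar : D.charpoly = Polynomial.X ^ n := by
    have hmonic := Matrix.charpoly_monic D
    have hdeg : D.charpoly.natDegree = n := by
      rw [Matrix.charpoly_natDegree_eq_dim, Fintype.card_fin]
    ext j
    rw [Polynomial.coeff_X_pow]
    rcases lt_trichotomy j n with hj | hj | hj
    · rw [if_neg (by omega), hD j hj]
    · rw [if_pos hj]
      have := hmonic.coeff_natDegree
      rw [hdeg] at this
      rw [hj]; exact this
    · rw [if_neg (by omega)]
      exact Polynomial.coeff_eq_zero_of_natDegree_lt (by omega)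
  have := Matrix.aeval_self_charpoly D
  rwa [hchar, map_pow, Polynomial.aeval_X] at this

/-- if a ring hom kills `nilIdeal` and the off-diagonal variables, the diagonal variables
become nilpotent. -/
theorem isNilpotent_map_X {Q : Type*} [CommRing Q] (π : MvPolynomial (Fin n × Fin n) k →+* Q)
    (hI : ∀ a ∈ nilIdeal k n, π a = 0) (hoff : ∀ i j : Fin n, i ≠ j → π (X (i, j)) = 0)
    (p : Fin n × Fin n) : IsNilpotent (π (X p)) := by
  obtain ⟨i, j⟩ := p
  by_cases hij : i = j
  swap
  · rw [hoff i j hij]; exact IsNilpotent.zero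
  subst hij
  set D : Matrix (Fin n) (Fin n) Q := (mvPolynomialX (Fin n) (Fin n) k).map π with hD
  have hdiag : D = Matrix.diagonal (fun i => π (X (i, i))) := by
    ext a b
    by_cases hab : a = b
    · subst hab; simp [hD]
    · simp [hD, Matrix.diagonal_apply_ne _ hab, hoff a b hab]
  have hcoef : ∀ j < n, D.charpoly.coeff j = 0 := by
    intro j hj
    have h1 : D.charpoly = (mvPolynomialX (Fin n) (Fin n) k).charpoly.map π :=
      Matrix.charpoly_map _ π
    rw [h1, Polynomial.coeff_map]
    exact hI _ (Ideal.subset_span ⟨⟨j, hj⟩, rfl⟩)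
  have hpow := pow_eq_zero_of_coeff n D hcoef
  rw [hdiag, Matrix.diagonal_pow] at hpow
  refine ⟨n, ?_⟩
  have := congrFun (congrFun hpow i) i
  simpa using this

/-- a quotient of a polynomial ring over a field in which all variables are nilpotent has
Krull dimension `≤ 0`. -/
theorem krullDimLE_zero_of_nilpotent {σ : Type*} {Q : Type*} [CommRing Q]
    (π : MvPolynomial σ k →+* Q) (hπ : Function.Surjective π)
    (hnil : ∀ p, IsNilpotent (π (X p))) : Ring.KrullDimLE 0 Q := by
  refine Ring.KrullDimLE.mk₀ (fun q hq => ?_)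
  set ρ : MvPolynomial σ k →+* Q ⧸ q := (Ideal.Quotient.mk q).comp π with hρ
  have hρsurj : Function.Surjective ρ := Ideal.Quotient.mk_surjective.comp hπ
  have hρX : ∀ p, ρ (X p) = 0 := by
    intro p
    rw [hρ, RingHom.comp_apply, Ideal.Quotient.eq_zero_iff_mem]
    obtain ⟨m, hm⟩ := hnil p
    exact hq.mem_of_pow_mem m (by rw [hm]; exact q.zero_mem)
  have hρeq : ρ = ρ.comp (C.comp (eval (0 : σ → k))) := by
    apply MvPolynomial.ringHom_ext
    · intro c; simp
    · intro p; simp [hρX]
  have hnt : Nontrivial (Q ⧸ q) := Ideal.Quotient.nontrivial_iff.mpr hq.ne_top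
  refine Ideal.Quotient.maximal_of_isField _ ⟨exists_pair_ne _, mul_comm, ?_⟩
  intro x hx
  obtain ⟨f, rfl⟩ := hρsurj x
  have hfe : ρ f = ρ (C (eval (0 : σ → k) f)) := by
    conv_lhs => rw [hρeq]
    rfl
  have hc : eval (0 : σ → k) f ≠ 0 := by
    intro h0
    rw [hfe, h0, map_zero, map_zero] at hx
    exact hx rfl
  refine ⟨ρ (C (eval (0 : σ → k) f)⁻¹), ?_⟩
  rw [hfe, ← map_mul, ← map_mul, mul_inv_cancel₀ hc, map_one, map_one]

variable [IsAlgClosed k]

set_option backward.isDefEq.respectTransparency false in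
theorem dim_le : ringKrullDim (MvPolynomial (Fin n × Fin n) k ⧸ nilIdeal k n) ≤
    ((n ^ 2 - n : ℕ) : WithBot ℕ∞) := by
  have hP : ((nilIdeal k n).radical).IsPrime := radical_isPrime k n
  have hdim : ringKrullDim (MvPolynomial (Fin n × Fin n) k ⧸ nilIdeal k n) =
      ringKrullDim (MvPolynomial (Fin n × Fin n) k ⧸ (nilIdeal k n).radical) := by
    rw [ringKrullDim_quotient, ringKrullDim_quotient, PrimeSpectrum.zeroLocus_radical]
  rw [hdim]
  haveI : IsDomain (MvPolynomial (Fin n × Fin n) k ⧸ (nilIdeal k n).radical) :=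
    (Ideal.Quotient.isDomain_iff_prime _).mpr hP
  have hPm0 : (nilIdeal k n).radical ≤ m0 k n :=
    (m0_isMaximal k n).isPrime.radical_le_iff.mpr (nilIdeal_le_m0 k n)
  let psi : MvPolynomial (Fin n × Fin n) k ⧸ (nilIdeal k n).radical →+* k :=
    Ideal.Quotient.lift _ (eval (0 : Fin n × Fin n → k)) (fun a ha => hPm0 ha)
  have hpsi : Function.Surjective psi :=
    fun c => ⟨Ideal.Quotient.mk _ (C c), by simp [psi]⟩
  set m := RingHom.ker psi with hm
  haveI : m.IsMaximal := RingHom.ker_isMaximal_of_surjective _ hpsi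
  have hht := Groth.Agent.H14.height_of_isMaximal_of_finiteType_domain k
    (MvPolynomial (Fin n × Fin n) k ⧸ (nilIdeal k n).radical) m
  rw [← hht]
  set s : Set (MvPolynomial (Fin n × Fin n) k ⧸ (nilIdeal k n).radical) :=
    (fun p => Ideal.Quotient.mk _ (X p)) '' {p : Fin n × Fin n | p.1 ≠ p.2} with hs_def
  have hs : s ⊆ m := by
    rintro _ ⟨p, -, rfl⟩
    rw [SetLike.mem_coe, hm, RingHom.mem_ker]
    simp [psi]
  have h1 := Ideal.height_le_ringKrullDim_quotient_add_encard s hs
  have h2 : ringKrullDim ((MvPolynomial (Fin n × Fin n) k ⧸ (nilIdeal k n).radical) ⧸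
      Ideal.span s) ≤ 0 := by
    have hsurj : Function.Surjective
        ((Ideal.Quotient.mk (Ideal.span s)).comp (Ideal.Quotient.mk (nilIdeal k n).radical)) := by
      rw [RingHom.coe_comp]
      exact Ideal.Quotient.mk_surjective.comp Ideal.Quotient.mk_surjective
    have hK : Ring.KrullDimLE 0 ((MvPolynomial (Fin n × Fin n) k ⧸ (nilIdeal k n).radical) ⧸
        Ideal.span s) := by
      refine krullDimLE_zero_of_nilpotent k (σ := Fin n × Fin n)
        (Q := (MvPolynomial (Fin n × Fin n) k ⧸ (nilIdeal k n).radical) ⧸ Ideal.span s)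
        ((Ideal.Quotient.mk (Ideal.span s)).comp (Ideal.Quotient.mk (nilIdeal k n).radical))
        hsurj ?_
      intro p
      refine isNilpotent_map_X k n
        (Q := (MvPolynomial (Fin n × Fin n) k ⧸ (nilIdeal k n).radical) ⧸ Ideal.span s)
        ((Ideal.Quotient.mk (Ideal.span s)).comp (Ideal.Quotient.mk (nilIdeal k n).radical))
        ?_ ?_ p
      · intro a ha
        rw [RingHom.comp_apply, Ideal.Quotient.eq_zero_iff_mem.mpr (Ideal.le_radical ha), map_zero]
      · intro i j hij
        rw [RingHom.comp_apply, Ideal.Quotient.eq_zero_iff_mem]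
        exact Ideal.subset_span ⟨(i, j), hij, rfl⟩
    exact_mod_cast Ring.krullDimLE_iff.mp hK
  have h3 : s.encard ≤ ((n ^ 2 - n : ℕ) : ℕ∞) := by
    refine le_trans (Set.encard_image_le _ _) ?_
    have : {p : Fin n × Fin n | p.1 ≠ p.2} = ((Finset.univ : Finset (Fin n)).offDiag : Set _) := by
      ext p; simp
    rw [this, Set.encard_coe_eq_coe_finsetCard, Finset.offDiag_card]
    simp [pow_two]
  calc (m.height : WithBot ℕ∞) ≤ _ + (s.encard : WithBot ℕ∞) := h1
    _ ≤ 0 + ((n ^ 2 - n : ℕ) : WithBot ℕ∞) :=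
      add_le_add h2 (by
        have : ((s.encard : ℕ∞) : WithBot ℕ∞) ≤ (((n ^ 2 - n : ℕ) : ℕ∞) : WithBot ℕ∞) :=
          WithBot.coe_le_coe.mpr h3
        exact this)
    _ = _ := zero_add _

theorem dim_eq : ringKrullDim (MvPolynomial (Fin n × Fin n) k ⧸ nilIdeal k n) =
    ((n ^ 2 - n : ℕ) : WithBot ℕ∞) := by
  have h1 := le_dim k n
  have h2 := dim_le k n
  have hnt : Nontrivial (MvPolynomial (Fin n × Fin n) k ⧸ nilIdeal k n) :=
    Ideal.Quotient.nontrivial_iff.mpr (fun h => (m0_isMaximal k n).ne_top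
      (top_le_iff.mp (h ▸ nilIdeal_le_m0 k n)))
  have h0 : (0 : WithBot ℕ∞) ≤ ringKrullDim (MvPolynomial (Fin n × Fin n) k ⧸ nilIdeal k n) :=
    ringKrullDim_nonneg_of_nontrivial
  generalize ringKrullDim (MvPolynomial (Fin n × Fin n) k ⧸ nilIdeal k n) = d at h0 h1 h2 ⊢
  induction d using WithBot.recBotCoe with
  | bot => exact absurd h0 (by simp)
  | coe x =>
    induction x using ENat.recTopCoe with
    | top =>
      exfalso
      have : ((⊤ : ℕ∞) : WithBot ℕ∞) ≤ (((n ^ 2 - n : ℕ) : ℕ∞) : WithBot ℕ∞) := h2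
      rw [WithBot.coe_le_coe] at this
      simp at this
    | coe e =>
      have h2' : e ≤ n ^ 2 - n := by
        have : (((e : ℕ) : ℕ∞) : WithBot ℕ∞) ≤ (((n ^ 2 - n : ℕ) : ℕ∞) : WithBot ℕ∞) := h2
        rw [WithBot.coe_le_coe] at this
        exact_mod_cast this
      have h1' : n ^ 2 ≤ e + n := by
        have : (((n ^ 2 : ℕ) : ℕ∞) : WithBot ℕ∞) ≤ (((e + n : ℕ) : ℕ∞) : WithBot ℕ∞) := by
          refine le_trans h1 (le_of_eq ?_)
          push_cast
          rfl
        rw [WithBot.coe_le_coe] at this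
        exact_mod_cast this
      have : e = n ^ 2 - n := by omega
      rw [this]; rfl

theorem irreducibleSpace :
    IrreducibleSpace (PrimeSpectrum (MvPolynomial (Fin n × Fin n) k ⧸ nilIdeal k n)) := by
  rw [PrimeSpectrum.irreducibleSpace_iff_isPrime_nilradical]
  have hP : ((nilIdeal k n).radical).IsPrime := radical_isPrime k n
  have hnil : nilradical (MvPolynomial (Fin n × Fin n) k ⧸ nilIdeal k n) =
      ((nilIdeal k n).radical).map (Ideal.Quotient.mk (nilIdeal k n)) := by
    ext x
    obtain ⟨a, rfl⟩ := Ideal.Quotient.mk_surjective x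
    rw [mem_nilradical]
    constructor
    · rintro ⟨m, hm⟩
      rw [← map_pow, Ideal.Quotient.eq_zero_iff_mem] at hm
      exact Ideal.mem_map_of_mem _ ⟨m, hm⟩
    · intro hx
      rw [Ideal.mem_map_iff_of_surjective _ Ideal.Quotient.mk_surjective] at hx
      obtain ⟨b, ⟨m, hb⟩, hab⟩ := hx
      refine ⟨m, ?_⟩
      rw [← hab, ← map_pow, Ideal.Quotient.eq_zero_iff_mem]
      exact hb
  rw [hnil]
  exact Ideal.isPrime_map_quotientMk_of_isPrime Ideal.le_radical

end Groth.Agent.H59.NilCone
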