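import Groth.Agent.H59.PtsRes

/-!
# The vanishing ideal of finitely many points of the projective plane has a length-one resolution
-/

set_option autoImplicit false

universe u

namespace Groth.Agent.H59.PtsP2

open MvPolynomial Groth.Agent.H59.PtsRes

variable {k : Type u} [Field k]

/-- restriction to the line through the origin and `p`. -/
noncomputable def ev (p : Fin 3 → k) : MvPolynomial (Fin 3) k →ₐ[k] Polynomial k :=
  MvPolynomial.aeval (fun i => Polynomial.C (p i) * Polynomial.X)

theorem ev_X (p : Fin 3 → k) (i : Fin 3) : ev p (X i) = Polynomial.C (p i) * Polynomial.X := by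
  simp [ev]

theorem ev_C (p : Fin 3 → k) (a : k) : ev p (C a) = Polynomial.C a := by
  simp [ev]

theorem coeff_ev (p : Fin 3 → k) (f : MvPolynomial (Fin 3) k) (j : ℕ) :
    (ev p f).coeff j = MvPolynomial.eval p (homogeneousComponent j f) := by
  induction f using MvPolynomial.induction_on' with
  | monomial d a =>
    have h1 : ev p (monomial d a) =
        Polynomial.C (a * d.prod fun i e => p i ^ e) * Polynomial.X ^ d.degree := by
      rw [ev, aeval_monomial]
      have : (d.prod fun i e => (Polynomial.C (p i) * Polynomial.X : Polynomial k) ^ e) =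
          Polynomial.C (d.prod fun i e => p i ^ e) * Polynomial.X ^ d.degree := by
        simp only [mul_pow, Finsupp.prod_mul]
        congr 1
        · rw [map_finsuppProd]
          simp only [map_pow]
        · rw [Finsupp.prod, Finset.prod_pow_eq_pow_sum, Finsupp.degree_apply]
      rw [this, Polynomial.algebraMap_eq, ← mul_assoc, ← map_mul]
    rw [h1, Polynomial.coeff_C_mul_X_pow,
      homogeneousComponent_of_mem (show monomial d a ∈ homogeneousSubmodule (Fin 3) k d.degree from
        isHomogeneous_monomial _ rfl)]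
    split_ifs with h
    · rw [eval_monomial]
    · rw [map_zero]
  | add f g hf hg => rw [map_add, Polynomial.coeff_add, hf, hg, map_add, map_add]

theorem ev_eq_zero_iff (p : Fin 3 → k) (f : MvPolynomial (Fin 3) k) :
    ev p f = 0 ↔ ∀ j : ℕ, MvPolynomial.eval p (homogeneousComponent j f) = 0 := by
  constructor
  · intro h j
    rw [← coeff_ev, h, Polynomial.coeff_zero]
  · intro h
    ext j
    rw [coeff_ev, h, Polynomial.coeff_zero]

theorem ev_surjective (p : Fin 3 → k) (c : Fin 3) (hc : p c ≠ 0) :
    Function.Surjective (ev p) := by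
  rw [← AlgHom.range_eq_top, eq_top_iff, ← Polynomial.adjoin_X, Algebra.adjoin_le_iff]
  rintro _ rfl
  refine ⟨C (p c)⁻¹ * X c, ?_⟩
  show ev p (C (p c)⁻¹ * X c) = Polynomial.X
  rw [map_mul, ev_C, ev_X, ← mul_assoc, ← map_mul, inv_mul_cancel₀ hc, map_one, one_mul]

section auto

variable (p : Fin 3 → k) (c : Fin 3)

/-- a linear automorphism straightening the point `p`. -/
noncomputable def sg : MvPolynomial (Fin 3) k →ₐ[k] MvPolynomial (Fin 3) k :=
  MvPolynomial.aeval (fun i => if i = c then X c else C (p c) * X i - C (p i) * X c)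

/-- its inverse. -/
noncomputable def tg : MvPolynomial (Fin 3) k →ₐ[k] MvPolynomial (Fin 3) k :=
  MvPolynomial.aeval (fun i => if i = c then X c else C (p c)⁻¹ * (X i + C (p i) * X c))

theorem sg_X_self : sg p c (X c) = X c := by simp [sg]

theorem sg_X_of_ne {i : Fin 3} (hi : i ≠ c) :
    sg p c (X i) = C (p c) * X i - C (p i) * X c := by simp [sg, hi]

theorem tg_X_self : tg p c (X c) = X c := by simp [tg]

theorem tg_X_of_ne {i : Fin 3} (hi : i ≠ c) :
    tg p c (X i) = C (p c)⁻¹ * (X i + C (p i) * X c) := by simp [tg, hi]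

variable {p c}

theorem CC_inv (hc : p c ≠ 0) : (C (p c)⁻¹ * C (p c) : MvPolynomial (Fin 3) k) = 1 := by
  rw [← map_mul, inv_mul_cancel₀ hc, map_one]

theorem sg_tg (hc : p c ≠ 0) (f : MvPolynomial (Fin 3) k) : sg p c (tg p c f) = f := by
  have : (sg p c).comp (tg p c) = AlgHom.id k _ := by
    apply MvPolynomial.algHom_ext
    intro i
    rw [AlgHom.comp_apply, AlgHom.id_apply]
    by_cases hi : i = c
    · subst hi; rw [tg_X_self, sg_X_self]
    · rw [tg_X_of_ne p c hi, map_mul, map_add, map_mul, sg_X_of_ne p c hi, sg_X_self]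
      have h1 : sg p c (C (p c)⁻¹) = C (p c)⁻¹ := by simp [sg]
      have h2 : sg p c (C (p i)) = C (p i) := by simp [sg]
      rw [h1, h2]
      linear_combination (X i) * CC_inv hc
  exact congrArg (fun g : MvPolynomial (Fin 3) k →ₐ[k] MvPolynomial (Fin 3) k => g f) this

theorem tg_sg (hc : p c ≠ 0) (f : MvPolynomial (Fin 3) k) : tg p c (sg p c f) = f := by
  have : (tg p c).comp (sg p c) = AlgHom.id k _ := by
    apply MvPolynomial.algHom_ext
    intro i
    rw [AlgHom.comp_apply, AlgHom.id_apply]
    by_cases hi : i = c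
    · subst hi; rw [sg_X_self, tg_X_self]
    · rw [sg_X_of_ne p c hi, map_sub, map_mul, map_mul, tg_X_of_ne p c hi, tg_X_self]
      have h1 : tg p c (C (p c)) = C (p c) := by simp [tg]
      have h2 : tg p c (C (p i)) = C (p i) := by simp [tg]
      rw [h1, h2]
      linear_combination (X i + C (p i) * X c) * CC_inv hc
  exact congrArg (fun g : MvPolynomial (Fin 3) k →ₐ[k] MvPolynomial (Fin 3) k => g f) this

variable (p c)

/-- the two linear forms cutting out the point `p`. -/
noncomputable def ell (j : Fin 2) : MvPolynomial (Fin 3) k := sg p c (X (c.succAbove j))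

variable {p c}

theorem ev_ell (j : Fin 2) : ev p (ell p c j) = 0 := by
  rw [ell, sg_X_of_ne p c (Fin.succAbove_ne c j), map_sub, map_mul, map_mul, ev_C, ev_C, ev_X,
    ev_X]
  ring

theorem kos_X {a b : Fin 3} (hab : a ≠ b) (u1 u2 : MvPolynomial (Fin 3) k)
    (h : u1 * X a + u2 * X b = 0) : ∃ w, u1 = w * X b ∧ u2 = -(w * X a) := by
  have hdvd : (X a : MvPolynomial (Fin 3) k) ∣ u2 * X b := ⟨-u1, by linear_combination h⟩
  rcases (X_prime (R := k) (i := a)).dvd_or_dvd hdvd with h1 | h1
  · obtain ⟨w', rfl⟩ := h1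
    refine ⟨-w', ?_, by ring⟩
    have hX : (X a : MvPolynomial (Fin 3) k) ≠ 0 := X_ne_zero a
    have : X a * (u1 + w' * X b) = 0 := by linear_combination h
    rcases mul_eq_zero.mp this with h2 | h2
    · exact absurd h2 hX
    · linear_combination h2
  · exact absurd (X_dvd_X.mp h1) hab

theorem kos_ell (hc : p c ≠ 0) (u1 u2 : MvPolynomial (Fin 3) k)
    (h : u1 * ell p c 0 + u2 * ell p c 1 = 0) :
    ∃ w, u1 = w * ell p c 1 ∧ u2 = -(w * ell p c 0) := by
  have hab : c.succAbove (0 : Fin 2) ≠ c.succAbove 1 := by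
    intro h01
    have := Fin.succAbove_right_injective h01
    exact absurd this (by decide)
  have h' : tg p c u1 * X (c.succAbove 0) + tg p c u2 * X (c.succAbove 1) = 0 := by
    have := congrArg (tg p c) h
    rw [map_add, map_mul, map_mul, ell, ell, tg_sg hc, tg_sg hc, map_zero] at this
    exact this
  obtain ⟨w, hw1, hw2⟩ := kos_X hab _ _ h'
  refine ⟨sg p c w, ?_, ?_⟩
  · have := congrArg (sg p c) hw1
    rw [sg_tg hc, map_mul] at this
    exact this
  · have := congrArg (sg p c) hw2
    rw [sg_tg hc, map_neg, map_mul] at this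
    exact this

theorem ell_ne_zero (hc : p c ≠ 0) (j : Fin 2) : ell p c j ≠ 0 := by
  intro h
  have := congrArg (tg p c) h
  rw [ell, tg_sg hc, map_zero] at this
  exact X_ne_zero _ this

/-- the projection onto `k[X_c]`. -/
noncomputable def rho (c : Fin 3) : MvPolynomial (Fin 3) k →ₐ[k] MvPolynomial (Fin 3) k :=
  MvPolynomial.aeval (fun i => if i = c then X c else 0)

theorem sub_rho_mem (c : Fin 3) (g : MvPolynomial (Fin 3) k) :
    g - rho c g ∈ Ideal.span {(X (c.succAbove 0) : MvPolynomial (Fin 3) k), X (c.succAbove 1)} := by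
  induction g using MvPolynomial.induction_on with
  | C a => simp [rho]
  | add f g hf hg =>
    rw [map_add]
    have : f + g - (rho c f + rho c g) = (f - rho c f) + (g - rho c g) := by ring
    rw [this]
    exact Ideal.add_mem _ hf hg
  | mul_X f i hf =>
    rw [map_mul]
    by_cases hi : i = c
    · subst hi
      have h1 : rho i (X i : MvPolynomial (Fin 3) k) = X i := by simp [rho]
      rw [h1, ← sub_mul]
      exact Ideal.mul_mem_right _ _ hf
    · have h1 : rho c (X i : MvPolynomial (Fin 3) k) = 0 := by simp [rho, hi]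
      rw [h1, mul_zero, sub_zero]
      apply Ideal.mul_mem_left
      obtain ⟨j, rfl⟩ := Fin.exists_succAbove_eq hi
      fin_cases j
      · exact Ideal.subset_span (by simp)
      · exact Ideal.subset_span (by simp)

theorem rho_eq (hc : p c ≠ 0) (g : MvPolynomial (Fin 3) k) :
    rho c g = Polynomial.aeval (C (p c)⁻¹ * X c : MvPolynomial (Fin 3) k) (ev p (sg p c g)) := by
  have : rho c = ((Polynomial.aeval (C (p c)⁻¹ * X c : MvPolynomial (Fin 3) k)).comp
      (ev p)).comp (sg p c) := by
    apply MvPolynomial.algHom_ext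
    intro i
    rw [AlgHom.comp_apply, AlgHom.comp_apply]
    by_cases hi : i = c
    · subst hi
      have h1 : rho i (X i : MvPolynomial (Fin 3) k) = X i := by simp [rho]
      rw [h1, sg_X_self, ev_X, map_mul, Polynomial.aeval_C, Polynomial.aeval_X]
      rw [MvPolynomial.algebraMap_eq]
      linear_combination (-(X i : MvPolynomial (Fin 3) k)) * CC_inv hc
    · have h1 : rho c (X i : MvPolynomial (Fin 3) k) = 0 := by simp [rho, hi]
      obtain ⟨j, rfl⟩ := Fin.exists_succAbove_eq hi
      have h2 := ev_ell (p := p) (c := c) j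
      rw [ell] at h2
      rw [h1, h2, map_zero]
  rw [this]
  rfl

theorem ker_ev (hc : p c ≠ 0) :
    RingHom.ker (ev p) = Ideal.span {ell p c 0, ell p c 1} := by
  apply le_antisymm
  · intro f hf
    rw [RingHom.mem_ker] at hf
    have h1 : rho c (tg p c f) = 0 := by
      rw [rho_eq hc, sg_tg hc, hf, map_zero]
    have h2 := sub_rho_mem c (tg p c f)
    rw [h1, sub_zero] at h2
    have h3 : sg p c (tg p c f) ∈ Ideal.map (sg p c)
        (Ideal.span {(X (c.succAbove 0) : MvPolynomial (Fin 3) k), X (c.succAbove 1)}) :=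
      Ideal.mem_map_of_mem _ h2
    rw [sg_tg hc, Ideal.map_span, Set.image_pair] at h3
    exact h3
  · rw [Ideal.span_le]
    intro f hf
    rcases hf with rfl | rfl
    · exact ev_ell 0
    · exact ev_ell 1

end auto

section main

/-- adding one point. -/
theorem hasRes_inf_ker {I : Ideal (MvPolynomial (Fin 3) k)} (hI : HasRes I) (p : Fin 3 → k)
    (hp : p ≠ 0) : HasRes (I ⊓ RingHom.ker (ev p)) := by
  classical
  obtain ⟨c, hc⟩ : ∃ c, p c ≠ 0 := by
    by_contra hno
    push Not at hno
    exact hp (funext hno)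
  by_cases hIJ : I ≤ RingHom.ker (ev p)
  · rw [inf_eq_left.mpr hIJ]
    exact hI
  have hsurj := ev_surjective p c hc
  set M : Ideal (Polynomial k) := Ideal.map (ev p) I with hM
  have hprinc : M = Ideal.span {Submodule.IsPrincipal.generator M} :=
    (Ideal.span_singleton_generator M).symm
  set gb := Submodule.IsPrincipal.generator M with hgb
  have hgbM : gb ∈ M := Submodule.IsPrincipal.generator_mem M
  obtain ⟨h, hhI, hhg⟩ := (Ideal.mem_map_iff_of_surjective (ev p) hsurj).mp hgbM
  have hgb0 : gb ≠ 0 := by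
    intro h0
    apply hIJ
    intro f hf
    have : ev p f ∈ M := Ideal.mem_map_of_mem _ hf
    rw [hprinc, h0, Ideal.mem_span_singleton'] at this
    obtain ⟨a, ha⟩ := this
    rw [RingHom.mem_ker, ← ha, mul_zero]
  refine HasRes.inf hI (ell p c 0) (ell p c 1) (ker_ev hc) (kos_ell hc) ?_ h hhI ?_ ?_
  · intro w hw
    rcases mul_eq_zero.mp hw with h1 | h1
    · exact h1
    · exact absurd h1 (ell_ne_zero hc 1)
  · intro f hf
    have : ev p f ∈ M := Ideal.mem_map_of_mem _ hf
    rw [hprinc, Ideal.mem_span_singleton'] at this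
    obtain ⟨a, ha⟩ := this
    obtain ⟨a', rfl⟩ := hsurj a
    refine ⟨a', ?_⟩
    rw [RingHom.mem_ker, map_sub, map_mul, hhg, ha, sub_self]
  · intro s hs
    rw [RingHom.mem_ker, map_mul, hhg] at hs
    rcases mul_eq_zero.mp hs with h1 | h1
    · exact h1
    · exact absurd h1 hgb0

/-- the vanishing ideal of a finite set of points. -/
theorem hasRes_iInf (Z : Finset (Fin 3 → k)) (hZ : ∀ p ∈ Z, p ≠ 0) :
    HasRes (⨅ p ∈ Z, RingHom.ker (ev p) : Ideal (MvPolynomial (Fin 3) k)) := by
  classical
  induction Z using Finset.induction_on with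
  | empty =>
    simp only [Finset.notMem_empty, iInf_false, iInf_top]
    exact HasRes.top
  | insert p Z hpZ ih =>
    rw [Finset.iInf_insert, inf_comm]
    exact hasRes_inf_ker (ih fun q hq => hZ q (Finset.mem_insert_of_mem hq)) p
      (hZ p (Finset.mem_insert_self p Z))

theorem exists_resolution (Z : Finset (Fin 3 → k)) (hZ : ∀ p ∈ Z, p ≠ 0)
    (I : Ideal (MvPolynomial (Fin 3) k))
    (hI : ∀ f : MvPolynomial (Fin 3) k, f ∈ I ↔
      ∀ p ∈ Z, ∀ j : ℕ, MvPolynomial.eval p (MvPolynomial.homogeneousComponent j f) = 0) :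
    ∃ (t : ℕ) (Ψ : Matrix (Fin (t + 1)) (Fin t) (MvPolynomial (Fin 3) k))
      (π : (Fin (t + 1) → MvPolynomial (Fin 3) k) →ₗ[MvPolynomial (Fin 3) k]
        MvPolynomial (Fin 3) k),
      LinearMap.ker Ψ.mulVecLin = ⊥ ∧ LinearMap.ker π = LinearMap.range Ψ.mulVecLin ∧
        LinearMap.range π = I := by
  have hIeq : I = (⨅ p ∈ Z, RingHom.ker (ev p) : Ideal (MvPolynomial (Fin 3) k)) := by
    ext f
    rw [hI]
    simp only [Ideal.mem_iInf, RingHom.mem_ker, ev_eq_zero_iff]
  rw [hIeq]
  exact (hasRes_iInf Z hZ).toFin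

end main

end Groth.Agent.H59.PtsP2
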