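import Mathlib

/-!
# Length-one free resolutions of ideals: adding a "point"

Elementary lemmas on ideals `I` of a commutative ring `S` possessing a resolution
`0 → S^κ → S^ι → I → 0` with `|ι| = |κ| + 1`, and their intersection with an ideal `J = (ℓ₁, ℓ₂)`
generated by a regular sequence.
-/

set_option autoImplicit false

universe u

namespace Groth.Agent.H59.PtsRes

variable {S : Type u} [CommRing S]

/-- a free resolution `0 → S^κ → S^ι → I → 0`. -/
structure Res (ι κ : Type) [Fintype ι] [DecidableEq ι] (I : Ideal S) where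
  Ψ : (κ → S) →ₗ[S] (ι → S)
  π : (ι → S) →ₗ[S] S
  inj : Function.Injective Ψ
  exact : LinearMap.ker π = LinearMap.range Ψ
  range_eq : LinearMap.range π = I

/-- existence of a length-one resolution, with flexible index types. -/
def HasRes (I : Ideal S) : Prop :=
  ∃ (ι κ : Type) (_ : Fintype ι) (_ : DecidableEq ι) (_ : Fintype κ) (_ : DecidableEq κ),
    Fintype.card ι = Fintype.card κ + 1 ∧ Nonempty (Res ι κ I)

section prep

variable {ι κ : Type} [Fintype ι] [DecidableEq ι] [Fintype κ] [DecidableEq κ] {I : Ideal S}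

/-- add a generator `h ∈ I` and subtract multiples of it from the others. -/
theorem Res.prep (R : Res ι κ I) (h : S) (hh : h ∈ I) (c : ι → S) :
    ∃ R' : Res (Option ι) (Option κ) I, R'.π (Pi.single none 1) = h ∧
      ∀ i, R'.π (Pi.single (some i) 1) = R.π (Pi.single i 1) - c i * h := by
  classical
  obtain ⟨η, hη⟩ : ∃ η, R.π η = h := by
    have : h ∈ LinearMap.range R.π := by rw [R.range_eq]; exact hh
    exact this
  let cd : (Option ι → S) →ₗ[S] S := ∑ i, c i • LinearMap.proj (some i)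
  have hcd : ∀ w, cd w = ∑ i, c i * w (some i) := by
    intro w; simp [cd, LinearMap.sum_apply]
  let π' : (Option ι → S) →ₗ[S] S :=
    (LinearMap.proj none - cd).smulRight h + R.π.comp (LinearMap.funLeft S S some)
  have hπ' : ∀ w, π' w = (w none - ∑ i, c i * w (some i)) * h + R.π (fun i => w (some i)) := by
    intro w
    simp only [π', LinearMap.add_apply, LinearMap.smulRight_apply, LinearMap.sub_apply,
      LinearMap.proj_apply, hcd, smul_eq_mul, LinearMap.comp_apply]
    rfl
  let Y : (Option κ → S) →ₗ[S] (ι → S) :=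
    R.Ψ.comp (LinearMap.funLeft S S some) - (LinearMap.proj none).smulRight η
  have hY : ∀ x, Y x = R.Ψ (fun j => x (some j)) - x none • η := by
    intro x
    simp only [Y, LinearMap.sub_apply, LinearMap.comp_apply, LinearMap.smulRight_apply,
      LinearMap.proj_apply]
    rfl
  let cY : (Option κ → S) →ₗ[S] S := ∑ i, c i • (LinearMap.proj i).comp Y
  have hcY : ∀ x, cY x = ∑ i, c i * Y x i := by
    intro x; simp [cY, LinearMap.sum_apply]
  let Ψ' : (Option κ → S) →ₗ[S] (Option ι → S) :=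
    LinearMap.pi (fun o => match o with
      | none => LinearMap.proj none + cY
      | some i => (LinearMap.proj i).comp Y)
  have hΨn : ∀ x, Ψ' x none = x none + ∑ i, c i * Y x i := by
    intro x; simp [Ψ', hcY]
  have hΨs : ∀ x i, Ψ' x (some i) = Y x i := by
    intro x i; simp [Ψ']
  have hπΨ : ∀ v, R.π (R.Ψ v) = 0 := by
    intro v
    have : R.Ψ v ∈ LinearMap.ker R.π := by rw [R.exact]; exact ⟨v, rfl⟩
    exact this
  refine ⟨⟨Ψ', π', ?_, ?_, ?_⟩, ?_, ?_⟩
  · -- injectivity
    rw [← LinearMap.ker_eq_bot, eq_bot_iff]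
    intro x hx
    rw [LinearMap.mem_ker] at hx
    have hs : ∀ i, Y x i = 0 := fun i => by rw [← hΨs, hx]; rfl
    have hn : x none = 0 := by
      have := hΨn x
      rw [hx] at this
      simpa [hs] using this.symm
    have hv : R.Ψ (fun j => x (some j)) = 0 := by
      have : Y x = 0 := funext hs
      rw [hY, hn, zero_smul, sub_zero] at this
      exact this
    have hv0 : (fun j => x (some j)) = 0 := by
      apply R.inj
      rw [hv, map_zero]
    rw [Submodule.mem_bot]
    funext o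
    cases o with
    | none => exact hn
    | some j => exact congrFun hv0 j
  · -- exactness
    apply le_antisymm
    · intro w hw
      rw [LinearMap.mem_ker, hπ'] at hw
      set r := w none - ∑ i, c i * w (some i) with hr
      have hk : r • η + (fun i => w (some i)) ∈ LinearMap.ker R.π := by
        rw [LinearMap.mem_ker, map_add, map_smul, hη, smul_eq_mul]
        exact hw
      rw [R.exact] at hk
      obtain ⟨v, hv⟩ := hk
      refine ⟨fun o => match o with | none => r | some j => v j, ?_⟩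
      have hYx : Y (fun o => match o with | none => r | some j => v j) = fun i => w (some i) := by
        rw [hY]
        simp only
        rw [hv]
        abel
      funext o
      cases o with
      | none =>
        rw [hΨn, hYx]
        simp only [hr]
        ring
      | some i => rw [hΨs, hYx]
    · rintro _ ⟨x, rfl⟩
      rw [LinearMap.mem_ker, hπ']
      have h1 : (fun i => Ψ' x (some i)) = Y x := funext fun i => hΨs x i
      rw [h1, hΨn]
      simp only [hΨs]
      rw [hY, map_sub, hπΨ, map_smul, hη, smul_eq_mul]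
      ring
  · -- range
    apply le_antisymm
    · rintro _ ⟨w, rfl⟩
      rw [hπ']
      refine I.add_mem (I.mul_mem_left _ hh) ?_
      have : R.π (fun i => w (some i)) ∈ LinearMap.range R.π := ⟨_, rfl⟩
      rwa [R.range_eq] at this
    · intro x hx
      rw [← R.range_eq] at hx
      obtain ⟨w₀, rfl⟩ := hx
      refine ⟨fun o => match o with | none => ∑ i, c i * w₀ i | some i => w₀ i, ?_⟩
      rw [hπ']
      simp
  · rw [hπ']
    simp
    exact map_zero R.π
  · intro i
    rw [hπ']
    have : (fun i' => (Pi.single (some i) (1 : S) : Option ι → S) (some i')) = Pi.single i 1 := by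
      funext i'
      simp [Pi.single_apply]
    rw [this]
    simp [Pi.single_apply]
    ring

end prep

section core

variable {ι κ : Type} [Fintype ι] [DecidableEq ι] [Fintype κ] [DecidableEq κ] {I : Ideal S}

/-- intersect with an ideal `J = (ℓ₁, ℓ₂)` generated by a regular sequence, when the first
generator is regular modulo `J` and all the others lie in `J`. -/
theorem Res.core (R : Res (Option ι) κ I) (J : Ideal S) (ℓ1 ℓ2 : S)
    (hJ : J = Ideal.span {ℓ1, ℓ2})
    (hK : ∀ u1 u2 : S, u1 * ℓ1 + u2 * ℓ2 = 0 → ∃ w, u1 = w * ℓ2 ∧ u2 = -(w * ℓ1))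
    (hℓ2 : ∀ w : S, w * ℓ2 = 0 → w = 0)
    (hg : ∀ i, R.π (Pi.single (some i) 1) ∈ J)
    (hreg : ∀ s : S, s * R.π (Pi.single none 1) ∈ J → s ∈ J) :
    Nonempty (Res (Fin 2 ⊕ ι) (κ ⊕ Unit) (I ⊓ J)) := by
  classical
  set h := R.π (Pi.single none 1) with hh
  set g : ι → S := fun i => R.π (Pi.single (some i) 1) with hgdef
  have hsingle : ∀ {α : Type} [DecidableEq α] (o : α),
      (fun j => if o = j then (1 : S) else 0) = Pi.single o 1 := by
    intro α _ o
    funext j
    rw [Pi.single_apply]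
    simp only [eq_comm]
  have hπ : ∀ w, R.π w = w none * h + ∑ i, w (some i) * g i := by
    intro w
    rw [LinearMap.pi_apply_eq_sum_univ R.π w, Fintype.sum_option]
    simp only [hsingle, smul_eq_mul]
    rfl
  have hℓ1J : ℓ1 ∈ J := by rw [hJ]; exact Ideal.subset_span (by simp)
  have hℓ2J : ℓ2 ∈ J := by rw [hJ]; exact Ideal.subset_span (by simp)
  have hmemI : ∀ w, R.π w ∈ I := fun w => by
    have : R.π w ∈ LinearMap.range R.π := ⟨w, rfl⟩
    rwa [R.range_eq] at this
  have hπΨ : ∀ v, R.π (R.Ψ v) = 0 := by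
    intro v
    have : R.Ψ v ∈ LinearMap.ker R.π := by rw [R.exact]; exact ⟨v, rfl⟩
    exact this
  have hnoneJ : ∀ w, R.π w ∈ J → w none ∈ J := by
    intro w hw
    apply hreg
    have : w none * h = R.π w - ∑ i, w (some i) * g i := by rw [hπ]; ring
    rw [this]
    exact J.sub_mem hw (J.sum_mem fun i _ => J.mul_mem_left _ (hg i))
  have hΨnone : ∀ j : κ, ∃ a b : S, (R.Ψ (Pi.single j 1)) none = a * ℓ1 + b * ℓ2 := by
    intro j
    have : (R.Ψ (Pi.single j 1)) none ∈ J := hnoneJ _ (by rw [hπΨ]; exact J.zero_mem)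
    rw [hJ, Ideal.mem_span_pair] at this
    obtain ⟨a, b, hab⟩ := this
    exact ⟨a, b, hab.symm⟩
  choose a b hab using hΨnone
  let A : (κ → S) →ₗ[S] S := ∑ j, a j • LinearMap.proj j
  let B : (κ → S) →ₗ[S] S := ∑ j, b j • LinearMap.proj j
  have hA : ∀ v, A v = ∑ j, a j * v j := by intro v; simp [A, LinearMap.sum_apply]
  have hB : ∀ v, B v = ∑ j, b j * v j := by intro v; simp [B, LinearMap.sum_apply]
  have hΨv : ∀ v, (R.Ψ v) none = A v * ℓ1 + B v * ℓ2 := by
    intro v
    rw [LinearMap.pi_apply_eq_sum_univ R.Ψ v, Finset.sum_apply, hA, hB, Finset.sum_mul,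
      Finset.sum_mul, ← Finset.sum_add_distrib]
    refine Finset.sum_congr rfl fun j _ => ?_
    rw [hsingle, Pi.smul_apply, hab, smul_eq_mul]
    ring
  let θ : (Fin 2 ⊕ ι → S) →ₗ[S] (Option ι → S) :=
    LinearMap.pi (fun o => match o with
      | none => ℓ1 • LinearMap.proj (Sum.inl 0) + ℓ2 • LinearMap.proj (Sum.inl 1)
      | some i => LinearMap.proj (Sum.inr i))
  have hθn : ∀ z, θ z none = ℓ1 * z (Sum.inl 0) + ℓ2 * z (Sum.inl 1) := by
    intro z; simp [θ]
  have hθs : ∀ z i, θ z (some i) = z (Sum.inr i) := by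
    intro z i; simp [θ]
  let V : (κ ⊕ Unit → S) →ₗ[S] (κ → S) := LinearMap.funLeft S S Sum.inl
  have hV : ∀ x j, V x j = x (Sum.inl j) := fun x j => rfl
  let Ψ₂ : (κ ⊕ Unit → S) →ₗ[S] (Fin 2 ⊕ ι → S) :=
    LinearMap.pi (fun o => match o with
      | Sum.inl k => if k = 0 then A.comp V + ℓ2 • LinearMap.proj (Sum.inr ())
          else B.comp V - ℓ1 • LinearMap.proj (Sum.inr ())
      | Sum.inr i => (LinearMap.proj (some i)).comp (R.Ψ.comp V))
  have hΨ0 : ∀ x, Ψ₂ x (Sum.inl 0) = A (V x) + ℓ2 * x (Sum.inr ()) := by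
    intro x; simp [Ψ₂]
  have hΨ1 : ∀ x, Ψ₂ x (Sum.inl 1) = B (V x) - ℓ1 * x (Sum.inr ()) := by
    intro x; simp [Ψ₂]
  have hΨr : ∀ x i, Ψ₂ x (Sum.inr i) = R.Ψ (V x) (some i) := by
    intro x i; simp [Ψ₂]
  have hθΨ : ∀ x, θ (Ψ₂ x) = R.Ψ (V x) := by
    intro x
    funext o
    cases o with
    | none => rw [hθn, hΨ0, hΨ1, hΨv]; ring
    | some i => rw [hθs, hΨr]
  refine ⟨⟨Ψ₂, R.π.comp θ, ?_, ?_, ?_⟩⟩
  · rw [← LinearMap.ker_eq_bot, eq_bot_iff]
    intro x hx
    rw [LinearMap.mem_ker] at hx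
    have h1 : R.Ψ (V x) = 0 := by rw [← hθΨ, hx, map_zero]
    have h2 : V x = 0 := R.inj (by rw [h1, map_zero])
    have h3 : x (Sum.inr ()) = 0 := by
      apply hℓ2
      have := hΨ0 x
      rw [hx, h2, map_zero, zero_add] at this
      rw [mul_comm]
      exact this.symm
    rw [Submodule.mem_bot]
    funext o
    cases o with
    | inl j => exact congrFun h2 j
    | inr u => exact h3
  · apply le_antisymm
    · intro z hz
      rw [LinearMap.mem_ker, LinearMap.comp_apply] at hz
      have hk : θ z ∈ LinearMap.ker R.π := hz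
      rw [R.exact] at hk
      obtain ⟨v, hv⟩ := hk
      have h0 := congrFun hv none
      rw [hΨv, hθn] at h0
      obtain ⟨w, hw1, hw2⟩ := hK (z (Sum.inl 0) - A v) (z (Sum.inl 1) - B v) (by
        linear_combination -h0)
      refine ⟨Sum.elim v (fun _ => w), ?_⟩
      have hVx : V (Sum.elim v (fun _ => w)) = v := by
        funext j; rw [hV]; rfl
      funext o
      cases o with
      | inl k =>
        fin_cases k
        · show Ψ₂ _ (Sum.inl 0) = z (Sum.inl 0)
          rw [hΨ0, hVx]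
          simp only [Sum.elim_inr]
          linear_combination -hw1
        · show Ψ₂ _ (Sum.inl 1) = z (Sum.inl 1)
          rw [hΨ1, hVx]
          simp only [Sum.elim_inr]
          linear_combination -hw2
      | inr i =>
        rw [hΨr, hVx, hv, hθs]
    · rintro _ ⟨x, rfl⟩
      rw [LinearMap.mem_ker, LinearMap.comp_apply, hθΨ, hπΨ]
  · apply le_antisymm
    · rintro _ ⟨z, rfl⟩
      rw [LinearMap.comp_apply]
      refine ⟨hmemI _, ?_⟩
      rw [hπ]
      refine J.add_mem (J.mul_mem_right _ ?_) (J.sum_mem fun i _ => J.mul_mem_left _ (hg i))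
      rw [hθn]
      exact J.add_mem (J.mul_mem_right _ hℓ1J) (J.mul_mem_right _ hℓ2J)
    · rintro x ⟨hxI, hxJ⟩
      have hxI' : x ∈ LinearMap.range R.π := by rw [R.range_eq]; exact hxI
      obtain ⟨w, rfl⟩ := hxI'
      have := hnoneJ w hxJ
      rw [hJ, Ideal.mem_span_pair] at this
      obtain ⟨c, d, hcd⟩ := this
      refine ⟨Sum.elim ![c, d] (fun i => w (some i)), ?_⟩
      rw [LinearMap.comp_apply]
      congr 1
      funext o
      cases o with
      | none =>
        rw [hθn]
        simp only [Sum.elim_inl, Matrix.cons_val_zero, Matrix.cons_val_one]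
        rw [← hcd]; ring
      | some i => rw [hθs]; rfl

end core

section assemble

/-- the unit ideal. -/
theorem HasRes.top : HasRes (⊤ : Ideal S) := by
  refine ⟨Fin 1, Fin 0, inferInstance, inferInstance, inferInstance, inferInstance, by simp,
    ⟨⟨0, LinearMap.proj 0, ?_, ?_, ?_⟩⟩⟩
  · intro x y _
    exact Subsingleton.elim _ _
  · rw [LinearMap.range_zero, eq_bot_iff]
    intro w hw
    rw [Submodule.mem_bot]
    funext i
    have : i = 0 := Subsingleton.elim _ _
    rw [this]
    exact hw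
  · rw [eq_top_iff]
    intro x _
    exact ⟨fun _ => x, rfl⟩

/-- intersection with an ideal generated by a regular sequence of length two. -/
theorem HasRes.inf {I J : Ideal S} (hI : HasRes I) (ℓ1 ℓ2 : S)
    (hJ : J = Ideal.span {ℓ1, ℓ2})
    (hK : ∀ u1 u2 : S, u1 * ℓ1 + u2 * ℓ2 = 0 → ∃ w, u1 = w * ℓ2 ∧ u2 = -(w * ℓ1))
    (hℓ2 : ∀ w : S, w * ℓ2 = 0 → w = 0)
    (h : S) (hh : h ∈ I) (hgen : ∀ f ∈ I, ∃ c : S, f - c * h ∈ J)
    (hreg : ∀ s : S, s * h ∈ J → s ∈ J) : HasRes (I ⊓ J) := by
  classical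
  obtain ⟨ι, κ, _, _, _, _, hcard, ⟨R⟩⟩ := hI
  have hmemI : ∀ w, R.π w ∈ I := fun w => by
    have : R.π w ∈ LinearMap.range R.π := ⟨w, rfl⟩
    rwa [R.range_eq] at this
  choose c hc using fun i : ι => hgen (R.π (Pi.single i 1)) (hmemI _)
  obtain ⟨R', h1, h2⟩ := R.prep h hh c
  have := R'.core J ℓ1 ℓ2 hJ hK hℓ2 (fun i => by rw [h2]; exact hc i) (by rw [h1]; exact hreg)
  refine ⟨Fin 2 ⊕ ι, Option κ ⊕ Unit, inferInstance, inferInstance, inferInstance, inferInstance,
    ?_, this⟩
  simp only [Fintype.card_sum, Fintype.card_fin, Fintype.card_option, Fintype.card_unit]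
  omega

/-- conversion to matrices indexed by `Fin`. -/
theorem HasRes.toFin {I : Ideal S} (hI : HasRes I) :
    ∃ (t : ℕ) (Ψ : Matrix (Fin (t + 1)) (Fin t) S) (π : (Fin (t + 1) → S) →ₗ[S] S),
      LinearMap.ker Ψ.mulVecLin = ⊥ ∧ LinearMap.ker π = LinearMap.range Ψ.mulVecLin ∧
        LinearMap.range π = I := by
  classical
  obtain ⟨ι, κ, _, _, _, _, hcard, ⟨R⟩⟩ := hI
  let t := Fintype.card κ
  let e₁ : ι ≃ Fin (t + 1) := Fintype.equivFinOfCardEq hcard
  let e₂ : κ ≃ Fin t := Fintype.equivFin κ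
  let E₁ : (ι → S) ≃ₗ[S] (Fin (t + 1) → S) := LinearEquiv.funCongrLeft S S e₁.symm
  let E₂ : (Fin t → S) ≃ₗ[S] (κ → S) := LinearEquiv.funCongrLeft S S e₂
  let L : (Fin t → S) →ₗ[S] (Fin (t + 1) → S) := E₁.toLinearMap ∘ₗ R.Ψ ∘ₗ E₂.toLinearMap
  have hL : (LinearMap.toMatrix' L).mulVecLin = L := by
    rw [← Matrix.toLin'_apply', Matrix.toLin'_toMatrix']
  have hLapp : ∀ v, L v = E₁ (R.Ψ (E₂ v)) := fun v => rfl
  refine ⟨t, LinearMap.toMatrix' L, R.π ∘ₗ E₁.symm.toLinearMap, ?_, ?_, ?_⟩
  · rw [hL, LinearMap.ker_eq_bot]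
    intro x y hxy
    rw [hLapp, hLapp] at hxy
    exact E₂.injective (R.inj (E₁.injective hxy))
  · rw [hL]
    ext w
    rw [LinearMap.mem_ker, LinearMap.comp_apply]
    constructor
    · intro hw
      have : E₁.symm w ∈ LinearMap.ker R.π := hw
      rw [R.exact] at this
      obtain ⟨v, hv⟩ := this
      refine ⟨E₂.symm v, ?_⟩
      rw [hLapp, LinearEquiv.apply_symm_apply, hv]
      exact E₁.apply_symm_apply w
    · rintro ⟨v, rfl⟩
      rw [hLapp]
      show R.π (E₁.symm (E₁ (R.Ψ (E₂ v)))) = 0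
      rw [LinearEquiv.symm_apply_apply]
      have : R.Ψ (E₂ v) ∈ LinearMap.ker R.π := by rw [R.exact]; exact ⟨_, rfl⟩
      exact this
  · refine Eq.trans ?_ R.range_eq
    apply le_antisymm
    · rintro _ ⟨w, rfl⟩
      exact ⟨_, rfl⟩
    · rintro _ ⟨w, rfl⟩
      exact ⟨E₁ w, by simp⟩

end assemble

end Groth.Agent.H59.PtsRes
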