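import Mathlib

/-!
# Quadrics in the square of an ideal of `κ[x, y]`
-/

set_option autoImplicit false

universe u v

namespace Groth.Agent.H59.QuadSq

section abs

variable {R : Type u} [CommRing R]

theorem mul_decomp (G L : R) (I I₁ : Ideal R)
    (hdec : ∀ u ∈ I, ∃ c, ∃ r ∈ I₁, u = c * G + L * r) :
    ∀ z ∈ I * I, ∃ A, ∃ B ∈ I₁, ∃ C ∈ I₁ * I₁, z = A * G ^ 2 + G * L * B + L ^ 2 * C := by
  intro z hz
  refine Submodule.mul_induction_on hz ?_ ?_
  · intro u hu v hv
    obtain ⟨c, r, hr, rfl⟩ := hdec u hu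
    obtain ⟨c', r', hr', rfl⟩ := hdec v hv
    refine ⟨c * c', c * r' + c' * r, I₁.add_mem (I₁.mul_mem_left _ hr') (I₁.mul_mem_left _ hr),
      r * r', Ideal.mul_mem_mul hr hr', ?_⟩
    ring
  · intro x y hx hy
    obtain ⟨A, B, hB, C, hC, rfl⟩ := hx
    obtain ⟨A', B', hB', C', hC', rfl⟩ := hy
    exact ⟨A + A', B + B', I₁.add_mem hB hB', C + C', (I₁ * I₁).add_mem hC hC', by ring⟩

/-- if `R/(L)` is a principal ideal domain, then `L² ∈ I²` forces `L ∈ I`. -/
theorem mem_of_sq_mem_sq [IsDomain R] {D : Type v} [CommRing D] [IsDomain D]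
    [IsPrincipalIdealRing D] (ε : R →+* D) (hε : Function.Surjective ε) (L : R) (hL0 : L ≠ 0)
    (hker : RingHom.ker ε = Ideal.span {L}) (I : Ideal R) (h : L ^ 2 ∈ I ^ 2) : L ∈ I := by
  classical
  set I₁ : Ideal R := Submodule.comap (LinearMap.mulLeft R L) I with hI₁
  have hmem₁ : ∀ r, r ∈ I₁ ↔ L * r ∈ I := fun r => by
    rw [hI₁, Submodule.mem_comap, LinearMap.mulLeft_apply]
  have hII₁ : I ≤ I₁ := fun u hu => (hmem₁ u).mpr (I.mul_mem_left L hu)
  have hsq₁ : I₁ * I₁ ≤ I₁ := Ideal.mul_le_left
  have hεL : ε L = 0 := by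
    have : L ∈ RingHom.ker ε := by rw [hker]; exact Ideal.mem_span_singleton_self L
    exact this
  have hkerel : ∀ x, ε x = 0 → ∃ y, x = y * L := by
    intro x hx
    have : x ∈ RingHom.ker ε := hx
    rw [hker, Ideal.mem_span_singleton'] at this
    obtain ⟨y, hy⟩ := this
    exact ⟨y, hy.symm⟩
  have hconcl : (1 : R) ∈ I₁ → L ∈ I := fun h1 => by
    have := (hmem₁ 1).mp h1
    rwa [mul_one] at this
  rw [sq I] at h
  set M := Ideal.map ε I with hM
  obtain ⟨gb, hgb⟩ : ∃ gb, M = Ideal.span {gb} :=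
    ⟨_, (Ideal.span_singleton_generator M).symm⟩
  have hgbM : gb ∈ M := by rw [hgb]; exact Ideal.mem_span_singleton_self gb
  obtain ⟨G, hGI, hGg⟩ := (Ideal.mem_map_iff_of_surjective ε hε).mp hgbM
  by_cases hgb0 : gb = 0
  · -- `I ⊆ (L)`
    have hdec : ∀ u ∈ I, ∃ c, ∃ r ∈ I₁, u = c * (0 : R) + L * r := by
      intro u hu
      have : ε u ∈ M := Ideal.mem_map_of_mem _ hu
      rw [hgb, hgb0, Ideal.mem_span_singleton'] at this
      obtain ⟨a, ha⟩ := this
      rw [mul_zero] at ha
      obtain ⟨r, hr⟩ := hkerel u ha.symm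
      refine ⟨0, r, ?_, by rw [hr]; ring⟩
      rw [hmem₁, mul_comm, ← hr]
      exact hu
    obtain ⟨A, B, _, C, hC, hz⟩ := mul_decomp 0 L I I₁ hdec _ h
    have h1 : L ^ 2 * (1 - C) = 0 := by linear_combination hz
    rcases mul_eq_zero.mp h1 with h2 | h2
    · exact absurd (pow_eq_zero_iff two_ne_zero |>.mp h2) hL0
    · apply hconcl
      have : C = 1 := by linear_combination -h2
      rw [← this]
      exact hsq₁ hC
  · have hdec : ∀ u ∈ I, ∃ c, ∃ r ∈ I₁, u = c * G + L * r := by
      intro u hu
      have : ε u ∈ M := Ideal.mem_map_of_mem _ hu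
      rw [hgb, Ideal.mem_span_singleton'] at this
      obtain ⟨cb, hcb⟩ := this
      obtain ⟨c, rfl⟩ := hε cb
      have hk : ε (u - c * G) = 0 := by rw [map_sub, map_mul, hGg, hcb, sub_self]
      obtain ⟨r, hr⟩ := hkerel _ hk
      refine ⟨c, r, ?_, by linear_combination hr⟩
      rw [hmem₁, mul_comm, ← hr]
      exact I.sub_mem hu (I.mul_mem_left _ hGI)
    obtain ⟨A, B, hB, C, hC, hz⟩ := mul_decomp G L I I₁ hdec _ h
    -- first reduction
    have hA : ε A = 0 := by
      have := congrArg ε hz
      simp only [map_add, map_mul, map_pow, hεL, hGg] at this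
      have h0 : ε A * gb ^ 2 = 0 := by
        linear_combination -this
      rcases mul_eq_zero.mp h0 with h1 | h1
      · exact h1
      · exact absurd (pow_eq_zero_iff two_ne_zero |>.mp h1) hgb0
    obtain ⟨A', rfl⟩ := hkerel A hA
    have h1 : L = A' * G ^ 2 + G * B + L * C := by
      have : L * (L - (A' * G ^ 2 + G * B + L * C)) = 0 := by linear_combination hz
      rcases mul_eq_zero.mp this with h2 | h2
      · exact absurd h2 hL0
      · linear_combination h2
    have hAB : ε (A' * G + B) = 0 := by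
      have := congrArg ε h1
      simp only [map_add, map_mul, map_pow, hεL, hGg] at this
      have h0 : gb * (ε A' * gb + ε B) = 0 := by
        linear_combination -this
      rcases mul_eq_zero.mp h0 with h2 | h2
      · exact absurd h2 hgb0
      · rw [map_add, map_mul, hGg]; exact h2
    obtain ⟨B', hB'⟩ := hkerel _ hAB
    have h2 : (1 : R) = G * B' + C := by
      have : L * (1 - (G * B' + C)) = 0 := by linear_combination h1 + G * hB'
      rcases mul_eq_zero.mp this with h3 | h3
      · exact absurd h3 hL0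
      · linear_combination h3
    apply hconcl
    rw [h2]
    exact I₁.add_mem (I₁.mul_mem_right _ (hII₁ hGI)) (hsq₁ hC)

end abs

section linform

open MvPolynomial

variable {K : Type u} [Field K]

/-- an affine-linear form in two variables. -/
noncomputable def aff (α : K) (w : Fin 2 → K) : MvPolynomial (Fin 2) K :=
  C α + C (w 0) * X 0 + C (w 1) * X 1

theorem aff_eq (α : K) (w : Fin 2 → K) (i₀ : Fin 2) :
    aff α w = C α + C (w i₀) * X i₀ + C (w i₀.rev) * X i₀.rev := by
  fin_cases i₀
  · rfl
  · show aff α w = C α + C (w 1) * X 1 + C (w 0) * X 0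
    rw [aff]; ring

theorem other_eq (i₀ i : Fin 2) (hi : i ≠ i₀) : i = i₀.rev := by
  fin_cases i₀ <;> fin_cases i <;> simp_all

theorem rev_ne (i₀ : Fin 2) : i₀.rev ≠ i₀ := by
  fin_cases i₀ <;> decide

/-- `L² ∈ I²` forces `L ∈ I` for a nonconstant affine-linear form `L`. -/
theorem aff_mem_of_sq_mem_sq (α : K) (w : Fin 2 → K) (hw : w ≠ 0)
    (I : Ideal (MvPolynomial (Fin 2) K)) (h : aff α w ^ 2 ∈ I ^ 2) : aff α w ∈ I := by
  classical
  obtain ⟨i₀, hi₀⟩ : ∃ i₀, w i₀ ≠ 0 := by
    by_contra hno
    push Not at hno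
    exact hw (funext hno)
  set i₁ := i₀.rev with hi₁
  have h10 : i₁ ≠ i₀ := rev_ne i₀
  set a0 : K := -α / w i₀ with ha0
  set a1 : K := -(w i₁) / w i₀ with ha1
  have e1 : w i₀ * a0 = -α := by rw [ha0]; field_simp
  have e2 : w i₀ * a1 = -(w i₁) := by rw [ha1]; field_simp
  set L := aff α w with hL
  have hLeq : L = C α + C (w i₀) * X i₀ + C (w i₁) * X i₁ := aff_eq α w i₀
  let ε : MvPolynomial (Fin 2) K →ₐ[K] Polynomial K :=
    aeval (fun i => if i = i₀ then (Polynomial.C a0 + Polynomial.C a1 * Polynomial.X)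
      else Polynomial.X)
  let ρ : MvPolynomial (Fin 2) K →ₐ[K] MvPolynomial (Fin 2) K :=
    aeval (fun i => if i = i₀ then (C a0 + C a1 * X i₁) else X i)
  let ι : Polynomial K →ₐ[K] MvPolynomial (Fin 2) K :=
    Polynomial.aeval (X i₁ : MvPolynomial (Fin 2) K)
  have hε0 : ε (X i₀) = Polynomial.C a0 + Polynomial.C a1 * Polynomial.X := by simp [ε]
  have hε1 : ε (X i₁) = Polynomial.X := by simp [ε, h10]
  have hεC : ∀ a, ε (C a) = Polynomial.C a := by intro a; simp [ε]
  have hρ0 : ρ (X i₀) = C a0 + C a1 * X i₁ := by simp [ρ]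
  have hρ1 : ∀ i, i ≠ i₀ → ρ (X i) = X i := by intro i hi; simp [ρ, hi]
  have hεL : ε L = 0 := by
    rw [hLeq, map_add, map_add, map_mul, map_mul, hεC, hεC, hεC, hε0, hε1]
    have : Polynomial.C α + Polynomial.C (w i₀) * (Polynomial.C a0 + Polynomial.C a1 * Polynomial.X)
        + Polynomial.C (w i₁) * Polynomial.X =
        Polynomial.C (α + w i₀ * a0) + Polynomial.C (w i₀ * a1 + w i₁) * Polynomial.X := by
      simp only [map_add, map_mul]; ring
    rw [this, e1, e2]
    simp
  have hρι : ∀ F, ρ F = ι (ε F) := by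
    have : ρ = ι.comp ε := by
      apply MvPolynomial.algHom_ext
      intro i
      rw [AlgHom.comp_apply]
      by_cases hi : i = i₀
      · subst hi
        rw [hρ0, hε0]
        simp [ι]
      · rw [hρ1 i hi]
        have : i = i₁ := other_eq i₀ i hi
        subst this
        rw [hε1]
        simp [ι]
    intro F
    rw [this]; rfl
  have hsub : ∀ F, F - ρ F ∈ Ideal.span {L} := by
    intro F
    induction F using MvPolynomial.induction_on with
    | C a => simp [ρ]
    | add f g hf hg =>
      rw [map_add]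
      have : f + g - (ρ f + ρ g) = (f - ρ f) + (g - ρ g) := by ring
      rw [this]
      exact Ideal.add_mem _ hf hg
    | mul_X f i hf =>
      rw [map_mul]
      by_cases hi : i = i₀
      · subst hi
        have h1 : X i - ρ (X i) = C (1 / w i) * L := by
          rw [hρ0, hLeq]
          have h2 : (C (1 / w i) * C (w i) : MvPolynomial (Fin 2) K) = 1 := by
            rw [← map_mul, one_div, inv_mul_cancel₀ hi₀, map_one]
          have h3 : (C a0 : MvPolynomial (Fin 2) K) = -(C (1 / w i) * C α) := by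
            rw [← map_mul, ← map_neg, ha0]; congr 1; field_simp
          have h4 : (C a1 : MvPolynomial (Fin 2) K) = -(C (1 / w i) * C (w i₁)) := by
            rw [← map_mul, ← map_neg, ha1]; congr 1; field_simp
          rw [h3, h4]
          linear_combination (-(X i : MvPolynomial (Fin 2) K)) * h2
        have : f * X i - ρ f * ρ (X i) = (f - ρ f) * X i + ρ f * (X i - ρ (X i)) := by ring
        rw [this, h1]
        refine Ideal.add_mem _ (Ideal.mul_mem_right _ _ hf) ?_
        exact Ideal.mul_mem_left _ _ (Ideal.mul_mem_left _ _ (Ideal.mem_span_singleton_self L))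
      · rw [hρ1 i hi, ← sub_mul]
        exact Ideal.mul_mem_right _ _ hf
  have hker : RingHom.ker (ε : MvPolynomial (Fin 2) K →+* Polynomial K) = Ideal.span {L} := by
    apply le_antisymm
    · intro F hF
      have hF' : ε F = 0 := hF
      have := hsub F
      rwa [hρι, hF', map_zero, sub_zero] at this
    · rw [Ideal.span_le]
      intro F hF
      rw [Set.mem_singleton_iff] at hF
      subst hF
      exact hεL
  have hsurj : Function.Surjective (ε : MvPolynomial (Fin 2) K →+* Polynomial K) := by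
    have : Function.Surjective ε := by
      rw [← AlgHom.range_eq_top, eq_top_iff, ← Polynomial.adjoin_X, Algebra.adjoin_le_iff]
      rintro _ rfl
      exact ⟨X i₁, hε1⟩
    exact this
  have hL0 : L ≠ 0 := by
    intro h0
    have h4 := congrArg (MvPolynomial.eval (fun i => if i = i₀ then (1 - α) / w i₀ else 0)) h0
    rw [hLeq] at h4
    simp only [map_add, map_mul, eval_C, eval_X, if_true, if_neg h10, mul_zero, add_zero,
      map_zero] at h4
    have h5 : w i₀ * ((1 - α) / w i₀) = 1 - α := by field_simp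
    rw [h5] at h4
    have : (1 : K) = 0 := by linear_combination h4
    exact one_ne_zero this
  exact mem_of_sq_mem_sq (ε : MvPolynomial (Fin 2) K →+* Polynomial K) hsurj L hL0 hker I h

end linform

section functional

open MvPolynomial

variable {κ : Type u} {K : Type v} [Field κ] [Field K] [Algebra κ K] {σ : Type}

/-- apply a `κ`-linear functional coefficientwise. -/
noncomputable def cmap (φ : K →ₗ[κ] κ) (F : MvPolynomial σ K) : MvPolynomial σ κ :=
  AddMonoidAlgebra.map φ.toAddMonoidHom F

theorem coeff_cmap (φ : K →ₗ[κ] κ) (F : MvPolynomial σ K) (m : σ →₀ ℕ) :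
    coeff m (cmap φ F) = φ (coeff m F) := rfl

theorem cmap_add (φ : K →ₗ[κ] κ) (F F' : MvPolynomial σ K) :
    cmap φ (F + F') = cmap φ F + cmap φ F' := by
  ext m
  rw [coeff_add, coeff_cmap, coeff_cmap, coeff_cmap, coeff_add, map_add]

theorem cmap_zero (φ : K →ₗ[κ] κ) : cmap φ (0 : MvPolynomial σ K) = 0 := by
  ext m
  rw [coeff_cmap, coeff_zero, coeff_zero, map_zero]

theorem cmap_monomial (φ : K →ₗ[κ] κ) (d : σ →₀ ℕ) (a : K) :
    cmap φ (monomial d a) = monomial d (φ a) := by
  classical
  ext m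
  rw [coeff_cmap, coeff_monomial, coeff_monomial]
  split_ifs
  · rfl
  · exact map_zero φ

theorem cmap_mul_map (φ : K →ₗ[κ] κ) (F : MvPolynomial σ K) (g : MvPolynomial σ κ) :
    cmap φ (F * MvPolynomial.map (algebraMap κ K) g) = cmap φ F * g := by
  classical
  ext m
  rw [coeff_cmap, coeff_mul, coeff_mul, map_sum]
  refine Finset.sum_congr rfl fun x _ => ?_
  rw [coeff_map, coeff_cmap, mul_comm (coeff x.1 F), ← Algebra.smul_def, map_smul, smul_eq_mul,
    mul_comm]

theorem cmap_mem (φ : K →ₗ[κ] κ) (I : Ideal (MvPolynomial σ κ)) (F : MvPolynomial σ K)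
    (hF : F ∈ Ideal.map (MvPolynomial.map (algebraMap κ K)) I) : cmap φ F ∈ I := by
  have key : ∀ F' : MvPolynomial σ K, cmap φ (F' * F) ∈ I := by
    rw [Ideal.map] at hF
    induction hF using Submodule.span_induction with
    | mem x hx =>
      obtain ⟨g, hg, rfl⟩ := hx
      intro F'
      show cmap φ (F' * MvPolynomial.map (algebraMap κ K) g) ∈ I
      rw [cmap_mul_map]
      exact I.mul_mem_left _ hg
    | zero => intro F'; rw [mul_zero, cmap_zero]; exact I.zero_mem
    | add x y _ _ hx hy => intro F'; rw [mul_add, cmap_add]; exact I.add_mem (hx F') (hy F')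
    | smul a x _ hx =>
      intro F'
      rw [smul_eq_mul, ← mul_assoc]
      exact hx (F' * a)
  have := key 1
  rwa [one_mul] at this

end functional

section plane

open MvPolynomial

variable {κ : Type u} [Field κ]

/-- derivations send `I²` into `I`. -/
theorem deriv_mem {A : Type v} {R : Type u} [CommRing A] [CommRing R] [Algebra A R]
    (D : Derivation A R R) (I : Ideal R) (z : R)
    (hz : z ∈ I * I) : D z ∈ I := by
  refine Submodule.mul_induction_on hz ?_ ?_
  · intro u hu v hv
    rw [Derivation.leibniz]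
    exact I.add_mem (I.mul_mem_right _ hu) (I.mul_mem_right _ hv)
  · intro x y hx hy
    rw [map_add]
    exact I.add_mem hx hy

/-- the quotient by an ideal containing `x - α`, `y - β` has dimension at most one. -/
theorem small_of_two (I : Ideal (MvPolynomial (Fin 2) κ)) (α β : κ)
    (hx : X 0 - C α ∈ I) (hy : X 1 - C β ∈ I) :
    Module.Finite κ (MvPolynomial (Fin 2) κ ⧸ I) ∧
      Module.finrank κ (MvPolynomial (Fin 2) κ ⧸ I) ≤ 1 := by
  have hsub : ∀ F : MvPolynomial (Fin 2) κ, F - C (eval ![α, β] F) ∈ I := by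
    intro F
    induction F using MvPolynomial.induction_on with
    | C a => simp
    | add f g hf hg =>
      rw [map_add, map_add]
      have : f + g - (C (eval ![α, β] f) + C (eval ![α, β] g)) =
          (f - C (eval ![α, β] f)) + (g - C (eval ![α, β] g)) := by ring
      rw [this]
      exact I.add_mem hf hg
    | mul_X f i hf =>
      rw [map_mul, map_mul, eval_X]
      have : f * X i - C (eval ![α, β] f) * C (![α, β] i) =
          (f - C (eval ![α, β] f)) * X i + C (eval ![α, β] f) * (X i - C (![α, β] i)) := by ring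
      rw [this]
      refine I.add_mem (I.mul_mem_right _ hf) (I.mul_mem_left _ ?_)
      fin_cases i
      · exact hx
      · exact hy
  have hsurj : Function.Surjective (Algebra.linearMap κ (MvPolynomial (Fin 2) κ ⧸ I)) := by
    intro z
    obtain ⟨F, rfl⟩ := Ideal.Quotient.mk_surjective z
    refine ⟨eval ![α, β] F, ?_⟩
    rw [Algebra.linearMap_apply]
    show Ideal.Quotient.mk I (C (eval ![α, β] F)) = Ideal.Quotient.mk I F
    exact (Ideal.Quotient.eq.mpr (hsub F)).symm
  have hfin : Module.Finite κ (MvPolynomial (Fin 2) κ ⧸ I) := Module.Finite.of_surjective _ hsurj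
  refine ⟨hfin, ?_⟩
  have h1 := LinearMap.finrank_range_le (Algebra.linearMap κ (MvPolynomial (Fin 2) κ ⧸ I))
  rw [LinearMap.range_eq_top.mpr hsurj, finrank_top, Module.finrank_self] at h1
  exact h1

variable (I : Ideal (MvPolynomial (Fin 2) κ))
  (hI : ¬ (Module.Finite κ (MvPolynomial (Fin 2) κ ⧸ I) ∧
    Module.finrank κ (MvPolynomial (Fin 2) κ ⧸ I) ≤ 1))

include hI

theorem const_not_mem (r : κ) (hr : r ≠ 0) : (C r : MvPolynomial (Fin 2) κ) ∉ I := by
  intro hmem
  apply hI
  have htop : I = ⊤ := by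
    rw [Ideal.eq_top_iff_one]
    have : (1 : MvPolynomial (Fin 2) κ) = C r⁻¹ * C r := by
      rw [← map_mul, inv_mul_cancel₀ hr, map_one]
    rw [this]
    exact I.mul_mem_left _ hmem
  exact small_of_two I 0 0 (by rw [htop]; trivial) (by rw [htop]; trivial)

/-- two affine-linear forms in `I` are proportional. -/
theorem minors_zero {g h i g' h' i' : κ}
    (hℓ : (C g + C h * X 0 + C i * X 1 : MvPolynomial (Fin 2) κ) ∈ I)
    (hℓ' : (C g' + C h' * X 0 + C i' * X 1 : MvPolynomial (Fin 2) κ) ∈ I) :
    h * i' - h' * i = 0 ∧ g * h' - g' * h = 0 ∧ g * i' - g' * i = 0 := by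
  have hD : h * i' - h' * i = 0 := by
    by_contra hD
    apply hI
    have h1 : (C (g * i' - g' * i) + C (h * i' - h' * i) * X 0 : MvPolynomial (Fin 2) κ) ∈ I := by
      have := I.sub_mem (I.mul_mem_left (C i') hℓ) (I.mul_mem_left (C i) hℓ')
      convert this using 1
      simp only [map_sub, map_mul]; ring
    have h2 : (C (g' * h - g * h') + C (h * i' - h' * i) * X 1 : MvPolynomial (Fin 2) κ) ∈ I := by
      have := I.sub_mem (I.mul_mem_left (C h) hℓ') (I.mul_mem_left (C h') hℓ)
      convert this using 1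
      simp only [map_sub, map_mul]; ring
    have hinv : (C (h * i' - h' * i)⁻¹ * C (h * i' - h' * i) : MvPolynomial (Fin 2) κ) = 1 := by
      rw [← map_mul, inv_mul_cancel₀ hD, map_one]
    refine small_of_two I (-((h * i' - h' * i)⁻¹ * (g * i' - g' * i)))
      (-((h * i' - h' * i)⁻¹ * (g' * h - g * h'))) ?_ ?_
    · have := I.mul_mem_left (C (h * i' - h' * i)⁻¹) h1
      convert this using 1
      simp only [map_neg, map_mul]
      linear_combination (-(X 0 : MvPolynomial (Fin 2) κ)) * hinv
    · have := I.mul_mem_left (C (h * i' - h' * i)⁻¹) h2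
      convert this using 1
      simp only [map_neg, map_mul]
      linear_combination (-(X 1 : MvPolynomial (Fin 2) κ)) * hinv
  refine ⟨hD, ?_, ?_⟩
  · by_contra hne
    apply const_not_mem I hI _ hne
    have := I.sub_mem (I.mul_mem_left (C h') hℓ) (I.mul_mem_left (C h) hℓ')
    convert this using 1
    have hD' : (C (h * i') : MvPolynomial (Fin 2) κ) = C (h' * i) := by
      congr 1; linear_combination hD
    simp only [map_sub, map_mul] at hD' ⊢
    linear_combination (X 1 : MvPolynomial (Fin 2) κ) * hD'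
  · by_contra hne
    apply const_not_mem I hI _ hne
    have := I.sub_mem (I.mul_mem_left (C i') hℓ) (I.mul_mem_left (C i) hℓ')
    convert this using 1
    have hD' : (C (h * i') : MvPolynomial (Fin 2) κ) = C (h' * i) := by
      congr 1; linear_combination hD
    simp only [map_sub, map_mul] at hD' ⊢
    linear_combination (-(X 0 : MvPolynomial (Fin 2) κ)) * hD'

end plane

section mainthm

open MvPolynomial

variable {κ : Type u} [Field κ]

/-- the general polynomial of degree at most two. -/
noncomputable def quad (a b c d e f : κ) : MvPolynomial (Fin 2) κ :=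
  C a + C b * X 0 + C c * X 1 + C d * X 0 ^ 2 + C e * X 0 * X 1 + C f * X 1 ^ 2

theorem quad_eq (j g h i a b c d e f : κ) (ha : a = j * g ^ 2) (hb : b = 2 * j * g * h)
    (hc : c = 2 * j * g * i) (hd : d = j * h ^ 2) (he : e = 2 * j * h * i) (hf : f = j * i ^ 2) :
    quad a b c d e f = C j * (C g + C h * X 0 + C i * X 1) ^ 2 := by
  subst ha hb hc hd he hf
  simp only [quad, map_mul, map_pow, map_ofNat]
  ring

theorem pderiv0_quad (a b c d e f : κ) :
    pderiv 0 (quad a b c d e f) = C b + C (2 * d) * X 0 + C e * X 1 := by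
  simp only [quad, map_add, Derivation.leibniz, pderiv_C, pderiv_X_self, Derivation.leibniz_pow,
    pderiv_X_of_ne (show (1 : Fin 2) ≠ 0 by decide), smul_eq_mul, map_mul, map_ofNat]
  ring

theorem pderiv1_quad (a b c d e f : κ) :
    pderiv 1 (quad a b c d e f) = C c + C e * X 0 + C (2 * f) * X 1 := by
  simp only [quad, map_add, Derivation.leibniz, pderiv_C, pderiv_X_self, Derivation.leibniz_pow,
    pderiv_X_of_ne (show (0 : Fin 2) ≠ 1 by decide), smul_eq_mul, map_mul, map_ofNat]
  ring

theorem prop_of_minors {K : Type v} [Field K] [Algebra κ K] (lam mu : K) (hlam : lam ≠ 0)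
    (H : ∀ φ φ' : K →ₗ[κ] κ, φ mu * φ' lam - φ' mu * φ lam = 0) : ∃ g : κ, mu = g • lam := by
  obtain ⟨φ₀, hφ₀⟩ := Module.Projective.exists_dual_ne_zero κ hlam
  refine ⟨φ₀ mu / φ₀ lam, ?_⟩
  rw [← sub_eq_zero, ← Module.forall_dual_apply_eq_zero_iff κ]
  intro φ
  rw [map_sub, map_smul, smul_eq_mul]
  have := H φ φ₀
  field_simp
  linear_combination this

variable (I : Ideal (MvPolynomial (Fin 2) κ))
  (hI : ¬ (Module.Finite κ (MvPolynomial (Fin 2) κ ⧸ I) ∧
    Module.finrank κ (MvPolynomial (Fin 2) κ ⧸ I) ≤ 1))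

include hI

/-- the characteristic two case. -/
theorem char_two_case (h2 : (2 : κ) = 0) (a d f : κ) (hne : ¬ (a = 0 ∧ d = 0 ∧ f = 0))
    (hmem : quad a 0 0 d 0 f ∈ I ^ 2) :
    ∃ j g h i : κ, a = j * g ^ 2 ∧ d = j * h ^ 2 ∧ f = j * i ^ 2 := by
  classical
  let K := AlgebraicClosure κ
  have hinj : Function.Injective (algebraMap κ K) := (algebraMap κ K).injective
  obtain ⟨α, hα⟩ := IsAlgClosed.exists_pow_nat_eq (algebraMap κ K a) (show 0 < 2 by norm_num)
  obtain ⟨β, hβ⟩ := IsAlgClosed.exists_pow_nat_eq (algebraMap κ K d) (show 0 < 2 by norm_num)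
  obtain ⟨γ, hγ⟩ := IsAlgClosed.exists_pow_nat_eq (algebraMap κ K f) (show 0 < 2 by norm_num)
  have h2K : (2 : MvPolynomial (Fin 2) K) = 0 := by
    have h1 : (2 : K) = 0 := by
      rw [← map_ofNat (algebraMap κ K) 2, h2, map_zero]
    rw [← map_ofNat (C : K →+* MvPolynomial (Fin 2) K) 2, h1, map_zero]
  set L' := aff α ![β, γ] with hL'
  have hL'eq : L' = C α + C β * X 0 + C γ * X 1 := by
    rw [hL', aff]; simp
  have hsq : L' ^ 2 = MvPolynomial.map (algebraMap κ K) (quad a 0 0 d 0 f) := by
    have h1 : MvPolynomial.map (algebraMap κ K) (quad a 0 0 d 0 f) =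
        C (α ^ 2) + C (β ^ 2) * X 0 ^ 2 + C (γ ^ 2) * X 1 ^ 2 := by
      rw [hα, hβ, hγ]
      simp [quad]
    rw [h1, hL'eq]
    simp only [map_pow]
    linear_combination (C α * C β * X 0 + C α * C γ * X 1 + C β * C γ * X 0 * X 1) * h2K
  set I' := Ideal.map (MvPolynomial.map (algebraMap κ K)) I with hI'
  have hmem' : L' ^ 2 ∈ I' ^ 2 := by
    rw [hsq, hI', ← Ideal.map_pow]
    exact Ideal.mem_map_of_mem _ hmem
  have hqI : quad a 0 0 d 0 f ∈ I := Ideal.pow_le_self two_ne_zero hmem
  have hw : (![β, γ] : Fin 2 → K) ≠ 0 := by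
    intro hw0
    have hβ0 : β = 0 := by simpa using congrFun hw0 0
    have hγ0 : γ = 0 := by simpa using congrFun hw0 1
    have hd0 : d = 0 := by
      apply hinj
      rw [← hβ, hβ0, map_zero]; ring
    have hf0 : f = 0 := by
      apply hinj
      rw [← hγ, hγ0, map_zero]; ring
    have ha0 : a ≠ 0 := fun h => hne ⟨h, hd0, hf0⟩
    apply const_not_mem I hI a ha0
    have : quad a 0 0 d 0 f = C a := by
      rw [hd0, hf0]; simp [quad]
    rwa [this] at hqI
  have hL'I : L' ∈ I' := aff_mem_of_sq_mem_sq α ![β, γ] hw I' hmem'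
  have hφ : ∀ φ : K →ₗ[κ] κ,
      (C (φ α) + C (φ β) * X 0 + C (φ γ) * X 1 : MvPolynomial (Fin 2) κ) ∈ I := by
    intro φ
    have := cmap_mem φ I L' hL'I
    rw [hL'eq, C_mul_X_eq_monomial, C_mul_X_eq_monomial, ← monomial_zero', cmap_add, cmap_add,
      cmap_monomial, cmap_monomial, cmap_monomial] at this
    rw [C_mul_X_eq_monomial, C_mul_X_eq_monomial, ← monomial_zero']
    exact this
  have hmin := fun φ φ' => minors_zero I hI (hφ φ) (hφ φ')
  by_cases hβ0 : β = 0
  · have hγ0 : γ ≠ 0 := by
      intro hγ0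
      apply hw
      funext i
      fin_cases i
      · exact hβ0
      · exact hγ0
    obtain ⟨g, hg⟩ := prop_of_minors γ α hγ0 (fun φ φ' => (hmin φ φ').2.2)
    refine ⟨f, g, 0, 1, ?_, ?_, by ring⟩
    · apply hinj
      rw [← hα, hg, map_mul, map_pow, ← hγ, Algebra.smul_def]; ring
    · apply hinj
      rw [← hβ, hβ0, map_mul, map_pow, map_zero]; ring
  · obtain ⟨g, hg⟩ := prop_of_minors β α hβ0 (fun φ φ' => (hmin φ φ').2.1)
    obtain ⟨i, hi⟩ := prop_of_minors β γ hβ0 (fun φ φ' => by
      have := (hmin φ φ').1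
      linear_combination -this)
    refine ⟨d, g, 1, i, ?_, by ring, ?_⟩
    · apply hinj
      rw [← hα, hg, map_mul, map_pow, ← hβ, Algebra.smul_def]; ring
    · apply hinj
      rw [← hγ, hi, map_mul, map_pow, ← hβ, Algebra.smul_def]; ring

/-- **Main theorem**: a nonzero polynomial of degree at most two lying in `I²`, where `I` has
colength at least two, is a scalar multiple of the square of an affine-linear form. -/
theorem quadric_sq (a b c d e f : κ) (hne : (a, b, c, d, e, f) ≠ (0, 0, 0, 0, 0, 0))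
    (hmem : quad a b c d e f ∈ I ^ 2) :
    ∃ j g h i : κ, quad a b c d e f = C j * (C g + C h * X 0 + C i * X 1) ^ 2 := by
  have hmem' : quad a b c d e f ∈ I * I := by rwa [sq] at hmem
  have hq : quad a b c d e f ∈ I := Ideal.pow_le_self two_ne_zero hmem
  have hqx : (C b + C (2 * d) * X 0 + C e * X 1 : MvPolynomial (Fin 2) κ) ∈ I := by
    rw [← pderiv0_quad a b c d e f]
    exact deriv_mem _ I _ hmem'
  have hqy : (C c + C e * X 0 + C (2 * f) * X 1 : MvPolynomial (Fin 2) κ) ∈ I := by
    rw [← pderiv1_quad a b c d e f]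
    exact deriv_mem _ I _ hmem'
  have hE : (C (2 * a) + C b * X 0 + C c * X 1 : MvPolynomial (Fin 2) κ) ∈ I := by
    have := I.sub_mem (I.sub_mem (I.mul_mem_left (C 2) hq) (I.mul_mem_left (X 0) hqx))
      (I.mul_mem_left (X 1) hqy)
    convert this using 1
    simp only [quad, map_mul, map_ofNat]
    ring
  obtain ⟨m1, m2, m3⟩ := minors_zero I hI hE hqx
  obtain ⟨m4, m5, m6⟩ := minors_zero I hI hE hqy
  obtain ⟨m7, m8, m9⟩ := minors_zero I hI hqx hqy
  by_cases h2 : (2 : κ) = 0
  · have hb : b = 0 := by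
      have : b * b = 0 := by linear_combination (2 * a * d) * h2 - m2
      exact mul_self_eq_zero.mp this
    have hc : c = 0 := by
      have : c * c = 0 := by linear_combination (2 * a * f) * h2 - m6
      exact mul_self_eq_zero.mp this
    have he : e = 0 := by
      have : e * e = 0 := by linear_combination (2 * d * f) * h2 - m7
      exact mul_self_eq_zero.mp this
    subst hb hc he
    obtain ⟨j, g, h, i, ha, hd, hf⟩ := char_two_case I hI h2 a d f (by
      rintro ⟨rfl, rfl, rfl⟩
      exact hne rfl) hmem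
    refine ⟨j, g, h, i, quad_eq j g h i _ _ _ _ _ _ ha ?_ ?_ hd ?_ hf⟩
    · rw [h2]; ring
    · rw [h2]; ring
    · rw [h2]; ring
  · have h4 : (4 : κ) ≠ 0 := by
      have : (4 : κ) = 2 * 2 := by norm_num
      rw [this]
      exact mul_ne_zero h2 h2
    by_cases ha : a ≠ 0
    · refine ⟨1 / (4 * a), 2 * a, b, c, quad_eq _ _ _ _ _ _ _ _ _ _ ?_ ?_ ?_ ?_ ?_ ?_⟩
      · field_simp; ring
      · field_simp; ring
      · field_simp; ring
      · field_simp; linear_combination m2
      · field_simp; linear_combination 2 * m3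
      · field_simp; linear_combination m6
    push Not at ha
    by_cases hd : d ≠ 0
    · refine ⟨1 / (4 * d), b, 2 * d, e, quad_eq _ _ _ _ _ _ _ _ _ _ ?_ ?_ ?_ ?_ ?_ ?_⟩
      · field_simp; linear_combination m2
      · field_simp; ring
      · field_simp; linear_combination (-2) * m1
      · field_simp; ring
      · field_simp; ring
      · field_simp; linear_combination m7
    push Not at hd
    by_cases hf : f ≠ 0
    · refine ⟨1 / (4 * f), c, e, 2 * f, quad_eq _ _ _ _ _ _ _ _ _ _ ?_ ?_ ?_ ?_ ?_ ?_⟩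
      · field_simp; linear_combination m6
      · field_simp; linear_combination 2 * m4
      · field_simp; ring
      · field_simp; linear_combination m7
      · field_simp; ring
      · field_simp; ring
    push Not at hf
    exfalso
    subst ha hd hf
    have hb : b = 0 := by
      have : b * b = 0 := by linear_combination -m2
      exact mul_self_eq_zero.mp this
    have hc : c = 0 := by
      have : c * c = 0 := by linear_combination -m6
      exact mul_self_eq_zero.mp this
    have he : e = 0 := by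
      have : e * e = 0 := by linear_combination -m7
      exact mul_self_eq_zero.mp this
    subst hb hc he
    exact hne rfl

end mainthm

end Groth.Agent.H59.QuadSq
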