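import Mathlib

/-!
# Exchange of elements in regular sequences over a Noetherian local ring

If `J` is generated by a regular sequence in a Noetherian local ring `A`, `I ≤ J` and
`I ∩ 𝔪 J ≤ 𝔪 I`, then `J` is generated by a regular sequence `xs ++ ys` with `xs` generating `I`.
-/

set_option autoImplicit false
set_option linter.style.haveILetI false
set_option linter.unusedSectionVars false
universe u

namespace Groth.Agent.H59.RegExchange

open IsLocalRing RingTheory.Sequence

variable {A : Type u} [CommRing A]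

theorem ofList_perm {l₁ l₂ : List A} (h : l₁.Perm l₂) : Ideal.ofList l₁ = Ideal.ofList l₂ := by
  unfold Ideal.ofList
  congr 1
  ext r
  exact h.mem_iff

/-- an element of `ofList ys` either lies in `𝔪 • ofList ys` or has a unit coefficient -/
theorem exists_split_unit [IsLocalRing A] : ∀ (ys : List A) (v : A), v ∈ Ideal.ofList ys →
    v ∈ maximalIdeal A * Ideal.ofList ys ∨
    ∃ (ys₁ : List A) (y : A) (ys₂ : List A) (b : A), ys = ys₁ ++ y :: ys₂ ∧ IsUnit b ∧
      v - b * y ∈ Ideal.ofList (ys₁ ++ ys₂) := by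
  intro ys
  induction ys with
  | nil =>
    intro v hv
    left
    rw [Ideal.ofList_nil, Ideal.mem_bot] at hv
    rw [hv]
    exact Ideal.zero_mem _
  | cons y ys ih =>
    intro v hv
    rw [Ideal.ofList_cons] at hv
    obtain ⟨z, hz, v', hv', rfl⟩ := Submodule.mem_sup.mp hv
    obtain ⟨c, rfl⟩ := Ideal.mem_span_singleton'.mp hz
    by_cases hc : IsUnit c
    · right
      refine ⟨[], y, ys, c, rfl, hc, ?_⟩
      simpa using hv'
    · have hcm : c ∈ maximalIdeal A := (mem_maximalIdeal c).mpr hc
      have h1 : c * y ∈ maximalIdeal A * Ideal.ofList (y :: ys) := by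
        refine Ideal.mul_mem_mul hcm ?_
        rw [Ideal.ofList_cons]
        exact Ideal.mem_sup_left (Ideal.mem_span_singleton_self y)
      rcases ih v' hv' with h | ⟨ys₁, y', ys₂, b, rfl, hb, h⟩
      · left
        refine Ideal.add_mem _ h1 ?_
        refine Ideal.mul_mono_right ?_ h
        rw [Ideal.ofList_cons]
        exact le_sup_right
      · right
        refine ⟨y :: ys₁, y', ys₂, b, rfl, hb, ?_⟩
        rw [List.cons_append, Ideal.ofList_cons]
        have : c * y + v' - b * y' = c * y + (v' - b * y') := by ring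
        rw [this]
        exact Ideal.add_mem _
          (Ideal.mem_sup_left (Ideal.mul_mem_left _ _ (Ideal.mem_span_singleton_self y)))
          (Ideal.mem_sup_right h)

/-- replacing the last element `y` of a regular sequence by `x ≡ b y` (`b` a unit) modulo the
previous ones -/
theorem isRegular_append_singleton_of_sub_mem (pre : List A) (x y b : A) (hb : IsUnit b)
    (hxy : x - b * y ∈ Ideal.ofList pre) (h : IsRegular A (pre ++ [y])) :
    IsRegular A (pre ++ [x]) ∧ Ideal.ofList (pre ++ [x]) = Ideal.ofList (pre ++ [y]) := by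
  have hof : Ideal.ofList (pre ++ [x]) = Ideal.ofList (pre ++ [y]) := by
    rw [Ideal.ofList_append, Ideal.ofList_append, Ideal.ofList_singleton, Ideal.ofList_singleton]
    apply le_antisymm
    · refine sup_le le_sup_left ?_
      rw [Ideal.span_singleton_le_iff_mem]
      have : x = (x - b * y) + b * y := by ring
      rw [this]
      exact Ideal.add_mem _ (Ideal.mem_sup_left hxy)
        (Ideal.mem_sup_right (Ideal.mul_mem_left _ _ (Ideal.mem_span_singleton_self y)))
    · refine sup_le le_sup_left ?_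
      rw [Ideal.span_singleton_le_iff_mem]
      obtain ⟨u, rfl⟩ := hb
      have : y = ↑u⁻¹ * x - ↑u⁻¹ * (x - ↑u * y) := by
        have h1 : (↑u⁻¹ : A) * (↑u * y) = y := by rw [← mul_assoc, Units.inv_mul, one_mul]
        rw [mul_sub, h1]; ring
      rw [this]
      exact Ideal.sub_mem _
        (Ideal.mem_sup_right (Ideal.mul_mem_left _ _ (Ideal.mem_span_singleton_self x)))
        (Ideal.mem_sup_left (Ideal.mul_mem_left _ _ hxy))
  refine ⟨⟨?_, ?_⟩, hof⟩
  · have h1 := (isWeaklyRegular_append_iff A pre [y]).mp h.toIsWeaklyRegular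
    rw [isWeaklyRegular_append_iff]
    refine ⟨h1.1, ?_⟩
    have h2 := (isWeaklyRegular_singleton_iff _ y).mp h1.2
    rw [isWeaklyRegular_singleton_iff]
    have hkill : ∀ (k : A), k ∈ Ideal.ofList pre →
        ∀ q : A ⧸ (Ideal.ofList pre • ⊤ : Submodule A A), k • q = 0 := by
      intro k hk q
      obtain ⟨a, rfl⟩ := Submodule.Quotient.mk_surjective _ q
      rw [← Submodule.Quotient.mk_smul, Submodule.Quotient.mk_eq_zero]
      exact Submodule.smul_mem_smul hk Submodule.mem_top
    have hx : ∀ q : A ⧸ (Ideal.ofList pre • ⊤ : Submodule A A), x • q = b • (y • q) := by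
      intro q
      have : x = (x - b * y) + b * y := by ring
      rw [this, add_smul, hkill _ hxy, zero_add, mul_smul]
    intro q₁ q₂ hq
    change x • q₁ = x • q₂ at hq
    rw [hx, hx] at hq
    exact h2 (hb.smul_left_cancel.mp hq)
  · rw [hof]
    exact h.top_ne_smul

variable [IsLocalRing A] [IsNoetherianRing A]

/-- exchange: in a regular sequence `xs ++ ys₁ ++ y :: ys₂`, the element `y` can be replaced by
any `x ≡ b y` (`b` a unit) modulo the others, and moved right after `xs` -/
theorem exchange (xs ys₁ ys₂ : List A) (x y b : A) (hb : IsUnit b)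
    (hxy : x - b * y ∈ Ideal.ofList (xs ++ (ys₁ ++ ys₂)))
    (h : IsRegular A (xs ++ (ys₁ ++ y :: ys₂))) :
    IsRegular A ((xs ++ [x]) ++ (ys₁ ++ ys₂)) ∧
      Ideal.ofList ((xs ++ [x]) ++ (ys₁ ++ ys₂)) = Ideal.ofList (xs ++ (ys₁ ++ y :: ys₂)) := by
  have hp1 : (xs ++ (ys₁ ++ y :: ys₂)).Perm ((xs ++ (ys₁ ++ ys₂)) ++ [y]) := by
    rw [List.append_assoc xs (ys₁ ++ ys₂) [y], List.append_assoc ys₁ ys₂ [y]]
    refine List.Perm.append_left xs (List.Perm.append_left ys₁ ?_)
    exact (List.perm_append_singleton y ys₂).symm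
  have h1 : IsRegular A ((xs ++ (ys₁ ++ ys₂)) ++ [y]) := IsLocalRing.isRegular_of_perm h hp1
  obtain ⟨h2, h3⟩ := isRegular_append_singleton_of_sub_mem _ x y b hb hxy h1
  have hp2 : ((xs ++ (ys₁ ++ ys₂)) ++ [x]).Perm ((xs ++ [x]) ++ (ys₁ ++ ys₂)) := by
    rw [List.append_assoc xs (ys₁ ++ ys₂) [x], List.append_assoc xs [x] (ys₁ ++ ys₂)]
    exact List.Perm.append_left xs List.perm_append_comm
  refine ⟨IsLocalRing.isRegular_of_perm h2 hp2, ?_⟩
  rw [← ofList_perm hp2, h3, ← ofList_perm hp1]

/-- **Main exchange theorem.** -/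
theorem main (I J : Ideal A) (hIJ : I ≤ J)
    (hS : ∀ x ∈ I, x ∈ maximalIdeal A * J → x ∈ maximalIdeal A * I) :
    ∀ (n : ℕ) (xs ys : List A), ys.length = n → (∀ x ∈ xs, x ∈ I) →
      Ideal.ofList (xs ++ ys) = J → IsRegular A (xs ++ ys) →
      ∃ xs' ys' : List A, Ideal.ofList xs' = I ∧ Ideal.ofList (xs' ++ ys') = J ∧
        IsRegular A (xs' ++ ys') := by
  intro n
  induction n with
  | zero =>
    intro xs ys hlen hxs hJ hreg
    rw [List.length_eq_zero_iff] at hlen
    subst hlen
    rw [List.append_nil] at hJ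
    refine ⟨xs, [], ?_, by rw [List.append_nil]; exact hJ, hreg⟩
    apply le_antisymm
    · rw [Ideal.ofList, Ideal.span_le]; exact fun x hx => hxs x hx
    · rw [hJ]; exact hIJ
  | succ n ih =>
    intro xs ys hlen hxs hJ hreg
    have hxsI : Ideal.ofList xs ≤ I := by
      rw [Ideal.ofList, Ideal.span_le]; exact fun x hx => hxs x hx
    by_cases hI : Ideal.ofList xs = I
    · exact ⟨xs, ys, hI, hJ, hreg⟩
    · -- an element of `I` outside `ofList xs ⊔ 𝔪 I`
      have h1 : ¬ I ≤ Ideal.ofList xs ⊔ maximalIdeal A • I := by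
        intro hle
        apply hI
        refine le_antisymm hxsI ?_
        exact Submodule.le_of_le_smul_of_le_jacobson_bot (IsNoetherian.noetherian I)
          (maximalIdeal_le_jacobson ⊥) hle
      obtain ⟨x, hxI, hx⟩ := Set.not_subset.mp h1
      have hxJ : x ∈ Ideal.ofList xs ⊔ Ideal.ofList ys := by
        rw [← Ideal.ofList_append, hJ]; exact hIJ hxI
      obtain ⟨u, hu, v, hv, huv⟩ := Submodule.mem_sup.mp hxJ
      have hysJ : Ideal.ofList ys ≤ J := by
        rw [← hJ, Ideal.ofList_append]; exact le_sup_right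
      rcases exists_split_unit ys v hv with hvm | ⟨ys₁, y, ys₂, b, rfl, hb, hvb⟩
      · exfalso
        apply hx
        have hvI : v ∈ I := by
          have : v = x - u := by rw [← huv]; ring
          rw [this]
          exact Ideal.sub_mem _ hxI (hxsI hu)
        have hvmJ : v ∈ maximalIdeal A * J := Ideal.mul_mono_right hysJ hvm
        have := hS v hvI hvmJ
        rw [← huv]
        exact Submodule.add_mem _ (Submodule.mem_sup_left hu) (Submodule.mem_sup_right this)
      · have hxy : x - b * y ∈ Ideal.ofList (xs ++ (ys₁ ++ ys₂)) := by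
          rw [Ideal.ofList_append]
          have : x - b * y = u + (v - b * y) := by rw [← huv]; ring
          rw [this]
          exact Ideal.add_mem _ (Ideal.mem_sup_left hu) (Ideal.mem_sup_right hvb)
        obtain ⟨h2, h3⟩ := exchange xs ys₁ ys₂ x y b hb hxy hreg
        refine ih (xs ++ [x]) (ys₁ ++ ys₂) ?_ ?_ (h3.trans hJ) h2
        · simp only [List.length_append, List.length_cons] at hlen ⊢
          omega
        · intro z hz
          rcases List.mem_append.mp hz with hz | hz
          · exact hxs z hz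
          · rw [List.mem_singleton] at hz
            rw [hz]; exact hxI

theorem final (I J : Ideal A) (hIJ : I ≤ J) (hJ : J ≠ ⊤)
    (hS : ∀ x ∈ I, x ∈ maximalIdeal A * J → x ∈ maximalIdeal A * I)
    (hJreg : ∃ rs : List A, Ideal.ofList rs = J ∧ IsRegular A rs) :
    (∃ rs : List A, Ideal.ofList rs = I ∧ IsRegular A rs) ∧
      ∃ rs' : List (A ⧸ I), Ideal.ofList rs' = J.map (Ideal.Quotient.mk I) ∧
        IsRegular (A ⧸ I) rs' := by
  obtain ⟨rs, hrsJ, hrs⟩ := hJreg
  obtain ⟨xs, ys, hxs, hxy, hreg⟩ := main I J hIJ hS rs.length [] rs rfl (by simp)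
    (by simpa using hrsJ) (by simpa using hrs)
  have hw := (isWeaklyRegular_append_iff A xs ys).mp hreg.toIsWeaklyRegular
  have hmapJ : J.map (Ideal.Quotient.mk I) ≠ ⊤ := by
    intro h
    apply hJ
    rw [Ideal.eq_top_iff_one]
    have h1 : (1 : A ⧸ I) ∈ J.map (Ideal.Quotient.mk I) := by rw [h]; trivial
    obtain ⟨j, hj, hj1⟩ := (Ideal.mem_map_iff_of_surjective _ Ideal.Quotient.mk_surjective).mp h1
    have h2 : j - 1 ∈ I := by
      rw [← Ideal.Quotient.eq_zero_iff_mem, map_sub, hj1, map_one, sub_self]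
    have : (1 : A) = j - (j - 1) := by ring
    rw [this]
    exact Ideal.sub_mem _ hj (hIJ h2)
  refine ⟨⟨xs, hxs, hw.1, ?_⟩, ys.map (Ideal.Quotient.mk I), ?_, ?_, ?_⟩
  · -- `⊤ ≠ ofList xs • ⊤`
    intro h
    apply hreg.top_ne_smul
    apply le_antisymm _ le_top
    calc (⊤ : Submodule A A) = Ideal.ofList xs • ⊤ := h
      _ ≤ Ideal.ofList (xs ++ ys) • ⊤ :=
        Submodule.smul_mono (by rw [Ideal.ofList_append]; exact le_sup_left) le_rfl
  · rw [← Ideal.map_ofList, ← hxy, Ideal.ofList_append, Ideal.map_sup, hxs,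
      Ideal.map_quotient_self, bot_sup_eq]
  · -- weakly regular over `A ⧸ I`
    have hsm : (Ideal.ofList xs • ⊤ : Submodule A A) = I := by
      rw [smul_eq_mul, Ideal.mul_top, hxs]
    let e : (A ⧸ (Ideal.ofList xs • ⊤ : Submodule A A)) ≃ₗ[A] (A ⧸ I) :=
      Submodule.quotEquivOfEq _ _ hsm
    refine (AddEquiv.isWeaklyRegular_congr (e := e.toAddEquiv) ?_).mp hw.2
    refine List.forall₂_map_right_iff.mpr (List.forall₂_same.mpr fun r _ x => ?_)
    change e (r • x) = Ideal.Quotient.mk I r * e x
    rw [map_smul, Algebra.smul_def]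
    rfl
  · -- `⊤ ≠ ofList rs' • ⊤`
    rw [smul_eq_mul, Ideal.mul_top, ← Ideal.map_ofList]
    intro h
    apply hmapJ
    rw [← hxy, Ideal.ofList_append, Ideal.map_sup, hxs, Ideal.map_quotient_self, bot_sup_eq]
    exact h.symm

end Groth.Agent.H59.RegExchange
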