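import Mathlib
import Groth.Prelude.Def_DRing2
import Groth.Agent.H59.CurvedKill
import Groth.Agent.H59.NLVasc1

/-!
# `I ∩ 𝔪 J = 𝔪 I` when `A/J` has finite projective dimension over `A/I` (for S2199)
-/

set_option autoImplicit false
set_option linter.style.haveILetI false
set_option linter.unusedSectionVars false
universe u

namespace Groth.Agent.H59.SmallExt

open CategoryTheory IsLocalRing

variable {A : Type u} [CommRing A] [IsNoetherianRing A] [IsLocalRing A]

/-- a maximal ideal `I'` between `𝔪 I` and `I` avoiding `x` -/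
theorem exists_hyperplane (I : Ideal A) (x : A) (hx : x ∈ I) (hxm : x ∉ maximalIdeal A * I) :
    ∃ I' : Ideal A, maximalIdeal A * I ≤ I' ∧ I' ≤ I ∧ x ∉ I' ∧ I ≤ I' ⊔ Ideal.span {x} := by
  let S : Set (Ideal A) := {K | maximalIdeal A * I ≤ K ∧ K ≤ I ∧ x ∉ K}
  have hS : S.Nonempty := ⟨maximalIdeal A * I, le_rfl, Ideal.mul_le_right, hxm⟩
  obtain ⟨I', hI'S, hmax⟩ := set_has_maximal_iff_noetherian.mpr
    (inferInstance : IsNoetherian A A) S hS
  obtain ⟨h1, h2, h3⟩ := hI'S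
  refine ⟨I', h1, h2, h3, ?_⟩
  intro y hy
  by_cases hyI' : y ∈ I'
  · exact Ideal.mem_sup_left hyI'
  · -- `I' ⊔ (y)` is strictly bigger, so contains `x`
    have h4 : x ∈ I' ⊔ Ideal.span {y} := by
      by_contra h5
      have h6 : I' ⊔ Ideal.span {y} ∈ S :=
        ⟨h1.trans le_sup_left, sup_le h2 ((Ideal.span_singleton_le_iff_mem _).mpr hy), h5⟩
      have h7 : ¬ I' < I' ⊔ Ideal.span {y} := hmax _ h6
      apply h7
      refine lt_of_le_of_ne le_sup_left ?_
      intro h8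
      apply hyI'
      rw [h8]
      exact Ideal.mem_sup_right (Ideal.mem_span_singleton_self y)
    obtain ⟨i', hi', z, hz, hxz⟩ := Submodule.mem_sup.mp h4
    obtain ⟨c, rfl⟩ := Ideal.mem_span_singleton'.mp hz
    by_cases hc : c ∈ maximalIdeal A
    · exfalso
      apply h3
      rw [← hxz]
      exact Ideal.add_mem _ hi' (h1 (Ideal.mul_mem_mul hc hy))
    · have hcu : IsUnit c := by
        by_contra h
        exact hc ((mem_maximalIdeal c).mpr h)
      obtain ⟨u, rfl⟩ := hcu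
      have h9 : y = (↑u⁻¹ : A) * x - ↑u⁻¹ * i' := by
        rw [← hxz]
        have : (↑u⁻¹ : A) * (↑u * y) = y := by rw [← mul_assoc, Units.inv_mul, one_mul]
        rw [mul_add, this]; ring
      rw [h9]
      refine Ideal.sub_mem _ ?_ ?_
      · exact Ideal.mem_sup_right (Ideal.mul_mem_left _ _ (Ideal.mem_span_singleton_self x))
      · exact Ideal.mem_sup_left (Ideal.mul_mem_left _ _ hi')

theorem mem_mul_of_hasProjectiveDimensionLT (I J : Ideal A) (hIJ : I ≤ J) (hJ : J ≠ ⊤)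
    [Algebra (A ⧸ I) (A ⧸ J)] [IsScalarTower A (A ⧸ I) (A ⧸ J)] (i : ℕ)
    (hpd : HasProjectiveDimensionLT (ModuleCat.of (A ⧸ I) (A ⧸ J)) (2 * i))
    (x : A) (hx : x ∈ I) (hxm : x ∈ maximalIdeal A * J) : x ∈ maximalIdeal A * I := by
  by_contra hxmI
  obtain ⟨I', h1, h2, h3, h4⟩ := exists_hyperplane I x hx hxmI
  have hJm : J ≤ maximalIdeal A := le_maximalIdeal hJ
  -- the tower `A ⧸ I' → A ⧸ I`
  letI algQ : Algebra (A ⧸ I') (A ⧸ I) := (Ideal.Quotient.factor h2).toAlgebra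
  have halgQ : ∀ a : A, algebraMap (A ⧸ I') (A ⧸ I) (Ideal.Quotient.mk I' a) =
      Ideal.Quotient.mk I a := fun a => rfl
  have hsurj : Function.Surjective (algebraMap (A ⧸ I') (A ⧸ I)) :=
    Ideal.Quotient.factor_surjective h2
  have hker : RingHom.ker (algebraMap (A ⧸ I') (A ⧸ I)) =
      Ideal.span {Ideal.Quotient.mk I' x} := by
    change RingHom.ker (Ideal.Quotient.factor h2) = _
    rw [Ideal.Quotient.factor_ker]
    apply le_antisymm
    · rw [Ideal.map_le_iff_le_comap]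
      intro y hy
      obtain ⟨i', hi', z, hz, rfl⟩ := Submodule.mem_sup.mp (h4 hy)
      obtain ⟨c, rfl⟩ := Ideal.mem_span_singleton'.mp hz
      rw [Ideal.mem_comap, map_add, Ideal.Quotient.eq_zero_iff_mem.mpr hi', zero_add, map_mul]
      exact Ideal.mul_mem_left _ _ (Ideal.mem_span_singleton_self _)
    · rw [Ideal.span_singleton_le_iff_mem]
      exact Ideal.mem_map_of_mem _ hx
  set 𝔫 : Ideal (A ⧸ I') := (maximalIdeal A).map (Ideal.Quotient.mk I') with h𝔫
  have h𝔫f : ∀ y ∈ 𝔫, y * Ideal.Quotient.mk I' x = 0 := by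
    intro y hy
    obtain ⟨c, hc, rfl⟩ := (Ideal.mem_map_iff_of_surjective _ Ideal.Quotient.mk_surjective).mp hy
    rw [← map_mul, Ideal.Quotient.eq_zero_iff_mem]
    exact h1 (Ideal.mul_mem_mul hc hx)
  have hann : ∀ y, y * Ideal.Quotient.mk I' x = 0 → y ∈ 𝔫 := by
    intro y hy
    obtain ⟨c, rfl⟩ := Ideal.Quotient.mk_surjective y
    rw [← map_mul, Ideal.Quotient.eq_zero_iff_mem] at hy
    apply Ideal.mem_map_of_mem
    by_contra hc
    have hcu : IsUnit c := by
      by_contra h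
      exact hc ((mem_maximalIdeal c).mpr h)
    obtain ⟨u, rfl⟩ := hcu
    apply h3
    have : x = ↑u⁻¹ * (↑u * x) := by rw [← mul_assoc, Units.inv_mul, one_mul]
    rw [this]
    exact Ideal.mul_mem_left _ _ hy
  -- generators of `J`
  obtain ⟨m, y, hy⟩ := (Submodule.fg_iff_exists_fin_generating_family).mp
    ((isNoetherianRing_iff_ideal_fg A).mp inferInstance J)
  have hyJ : ∀ j, y j ∈ J := fun j => by
    rw [← hy]; exact Submodule.subset_span ⟨j, rfl⟩
  have hxm' : x ∈ maximalIdeal A • Submodule.span A (Set.range y) := by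
    rw [hy]; exact hxm
  obtain ⟨c, hc, hcx⟩ := (Submodule.mem_ideal_smul_span_iff_exists_sum _ _ _).mp hxm'
  have hcx' : ∑ j, c j * y j = x := by
    rw [← hcx, Finsupp.sum_fintype]
    · rfl
    · intro j; exact zero_smul _ _
  have hr : ∀ j, Ideal.Quotient.mk I' (c j) ∈ 𝔫 := fun j => Ideal.mem_map_of_mem _ (hc j)
  have hsum : ∑ j, Ideal.Quotient.mk I' (c j) * Ideal.Quotient.mk I' (y j) =
      Ideal.Quotient.mk I' x * 1 := by
    rw [mul_one, ← hcx', map_sum]
    simp only [map_mul]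
  have htower : ∀ a : A, algebraMap (A ⧸ I) (A ⧸ J) (Ideal.Quotient.mk I a) =
      Ideal.Quotient.mk J a := by
    intro a
    have := IsScalarTower.algebraMap_apply A (A ⧸ I) (A ⧸ J) a
    exact this.symm
  have hm₀ : ∀ j, algebraMap (A ⧸ I') (A ⧸ I) (Ideal.Quotient.mk I' (y j)) • (1 : A ⧸ J) = 0 := by
    intro j
    rw [halgQ, Algebra.smul_def, mul_one, htower, Ideal.Quotient.eq_zero_iff_mem]
    exact hyJ j
  have key := Groth.Agent.H59.CurvedKill.main hsurj (Ideal.Quotient.mk I' x) 1 hker 𝔫 h𝔫f hann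
    (fun j => Ideal.Quotient.mk I' (y j)) (fun j => Ideal.Quotient.mk I' (c j)) hr hsum
    (A ⧸ J) 1 hm₀ i hpd
  rw [one_pow, map_one, one_smul] at key
  -- `1 ∈ 𝔪 (A ⧸ J)`, contradiction
  have h5 : ∀ b ∈ (𝔫.map (algebraMap (A ⧸ I') (A ⧸ I))) • (⊤ : Submodule (A ⧸ I) (A ⧸ J)),
      b ∈ (maximalIdeal A).map (Ideal.Quotient.mk J) := by
    intro b hb
    refine Submodule.smul_induction_on hb ?_ ?_
    · intro c' hc' z _
      obtain ⟨c₁, hc₁, rfl⟩ := (Ideal.mem_map_iff_of_surjective _ hsurj).mp hc'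
      obtain ⟨c'', hc'', rfl⟩ :=
        (Ideal.mem_map_iff_of_surjective _ Ideal.Quotient.mk_surjective).mp hc₁
      rw [Algebra.smul_def, halgQ, htower]
      exact Ideal.mul_mem_right _ _ (Ideal.mem_map_of_mem _ hc'')
    · intro b₁ b₂ hb₁ hb₂
      exact Ideal.add_mem _ hb₁ hb₂
  have h6 := h5 _ key
  obtain ⟨c₀, hc₀, hc₀'⟩ := (Ideal.mem_map_iff_of_surjective _ Ideal.Quotient.mk_surjective).mp h6
  have h7 : c₀ - 1 ∈ J := by
    rw [← Ideal.Quotient.eq_zero_iff_mem, map_sub, hc₀', map_one, sub_self]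
  have h8 : (1 : A) ∈ maximalIdeal A := by
    have : (1 : A) = c₀ - (c₀ - 1) := by ring
    rw [this]
    exact Ideal.sub_mem _ hc₀ (hJm h7)
  exact (Ideal.ne_top_iff_one _).mp (maximalIdeal.isMaximal A).ne_top h8

end Groth.Agent.H59.SmallExt
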