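import Mathlib
import Groth.Prelude.Def_DRing2
import Groth.Agent.H59.FlatRegFibrePd
import Groth.Agent.H59.SmallExt
import Groth.Agent.H59.RegExchange
import Groth.Agent.H47.TransReg.Gen
import Groth.Agent.H47.CIField.Descent
import Groth.Agent.H47.CohenAlg
import Groth.Agent.H35.FTDLocal
import Groth.Agent.H35.RegSeqPerfect
import Groth.Agent.H35.TorDimAmp

/-!
# Regular sequences relative to a flat local homomorphism with regular closed fibre
-/

set_option autoImplicit false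
set_option linter.style.haveILetI false
set_option linter.unusedSectionVars false
universe u

namespace Groth.Agent.H59.RegSeqRel

open IsLocalRing RingTheory.Sequence CategoryTheory

section Descent

variable {R S : Type u} [CommRing R] [CommRing S] [IsNoetherianRing S] [IsLocalRing R]
  [IsLocalRing S] [Algebra R S] [IsLocalHom (algebraMap R S)] [Module.Flat R S]

/-- Descent of "generated by a regular sequence" along a flat local homomorphism. -/
theorem exists_isRegular_of_map (I : Ideal R)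
    (h : ∃ rs : List S, Ideal.ofList rs = I.map (algebraMap R S) ∧ IsRegular S rs) :
    ∃ rs : List R, Ideal.ofList rs = I ∧ IsRegular R rs := by
  obtain ⟨rs, hrs, hreg⟩ := h
  haveI : Module.FaithfullyFlat R S := Module.FaithfullyFlat.of_flat_of_isLocalHom
  obtain ⟨hs, -, hmem, hreg', hof⟩ :=
    Groth.Agent.H47.TransReg.exists_list_of_isRegular_gen I S (algebraMap R S) rs hreg hrs.symm
  refine ⟨hs, ?_, Groth.Agent.H47.CIField.isRegular_of_faithfullyFlat hreg'⟩
  have h1 : (Ideal.ofList hs).map (algebraMap R S) = I.map (algebraMap R S) := by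
    rw [Ideal.map_ofList]
    exact hof
  have := congrArg (Ideal.comap (algebraMap R S)) h1
  rwa [Ideal.comap_map_eq_self_of_faithfullyFlat, Ideal.comap_map_eq_self_of_faithfullyFlat]
    at this

end Descent

section Main

variable {R S : Type u} [CommRing R] [CommRing S] [IsNoetherianRing R] [IsNoetherianRing S]
  [IsLocalRing R] [IsLocalRing S] [Algebra R S] [IsLocalHom (algebraMap R S)] [Module.Flat R S]
  (I : Ideal R) (J : Ideal S)

/-- the maximal ideal of a quotient of a local ring -/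
theorem map_mk_maximalIdeal (hI : I ≠ ⊤) [IsLocalRing (R ⧸ I)] :
    (maximalIdeal R).map (Ideal.Quotient.mk I) = maximalIdeal (R ⧸ I) := by
  have hIm : I ≤ maximalIdeal R := IsLocalRing.le_maximalIdeal hI
  rcases Ideal.map_eq_top_or_isMaximal_of_surjective (Ideal.Quotient.mk I)
    Ideal.Quotient.mk_surjective (maximalIdeal.isMaximal R) with h | h
  · exfalso
    have h1 := congrArg (Ideal.comap (Ideal.Quotient.mk I)) h
    rw [Ideal.comap_map_of_surjective _ Ideal.Quotient.mk_surjective, ← RingHom.ker_eq_comap_bot,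
      Ideal.mk_ker, sup_eq_left.mpr hIm, Ideal.comap_top] at h1
    exact (maximalIdeal.isMaximal R).ne_top h1
  · exact IsLocalRing.eq_maximalIdeal h

/-- the closed fibre of `R/I → S/IS` is the closed fibre of `R → S`. -/
theorem isRegularLocalRing_fibre_quotient
    [IsRegularLocalRing (S ⧸ (maximalIdeal R).map (algebraMap R S))] (hI : I ≠ ⊤)
    [IsLocalRing (R ⧸ I)] :
    IsRegularLocalRing ((S ⧸ I.map (algebraMap R S)) ⧸
      (maximalIdeal (R ⧸ I)).map (algebraMap (R ⧸ I) (S ⧸ I.map (algebraMap R S)))) := by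
  set IS := I.map (algebraMap R S) with hIS
  set 𝔫 := (maximalIdeal R).map (algebraMap R S) with h𝔫
  have hIm : I ≤ maximalIdeal R := IsLocalRing.le_maximalIdeal hI
  have hle : IS ≤ 𝔫 := Ideal.map_mono hIm
  have hK : (maximalIdeal (R ⧸ I)).map (algebraMap (R ⧸ I) (S ⧸ IS)) =
      𝔫.map (Ideal.Quotient.mk IS) := by
    rw [← map_mk_maximalIdeal I hI, Ideal.map_map, h𝔫, Ideal.map_map]
    congr 1
  rw [hK]
  let e : ((S ⧸ IS) ⧸ 𝔫.map (Ideal.Quotient.mk IS)) ≃+* (S ⧸ 𝔫) :=
    (DoubleQuot.quotQuotEquivQuotSup IS 𝔫).trans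
      (Ideal.quotEquivOfEq (sup_eq_right.mpr hle))
  exact IsRegularLocalRing.of_ringEquiv e.symm

section WithAlg

variable (hI : I ≠ ⊤) (hJ : J ≠ ⊤) (hIJ : I.map (algebraMap R S) ≤ J)
  [Algebra (R ⧸ I) (S ⧸ J)] [IsScalarTower R (R ⧸ I) (S ⧸ J)]

include hI hJ hIJ in
set_option backward.isDefEq.respectTransparency false in
/-- `(2) ⇒ (3)` -/
theorem p3_of_tor_vanishing
    [IsRegularLocalRing (S ⧸ (maximalIdeal R).map (algebraMap R S))]
    (hJreg : ∃ rs : List S, Ideal.ofList rs = J ∧ IsRegular S rs) (n : ℕ)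
    (h : ∀ p : ℕ, n < p → Subsingleton (DRing.Tor (R ⧸ I) p (S ⧸ J)
      ((R ⧸ I) ⧸ (maximalIdeal R).map (Ideal.Quotient.mk I)))) :
    (∃ rs : List R, Ideal.ofList rs = I ∧ IsRegular R rs) ∧
      ∃ rs' : List (S ⧸ I.map (algebraMap R S)),
        Ideal.ofList rs' = J.map (Ideal.Quotient.mk (I.map (algebraMap R S))) ∧
          IsRegular (S ⧸ I.map (algebraMap R S)) rs' := by
  set IS := I.map (algebraMap R S) with hISdef
  have hIS : IS ≠ ⊤ := fun h0 => hJ (top_le_iff.mp (h0 ▸ hIJ))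
  haveI : Nontrivial (R ⧸ I) := Ideal.Quotient.nontrivial_iff.mpr hI
  haveI : IsLocalRing (R ⧸ I) :=
    IsLocalRing.of_surjective' (Ideal.Quotient.mk I) Ideal.Quotient.mk_surjective
  haveI : Nontrivial (S ⧸ IS) := Ideal.Quotient.nontrivial_iff.mpr hIS
  haveI : IsLocalRing (S ⧸ IS) :=
    IsLocalRing.of_surjective' (Ideal.Quotient.mk IS) Ideal.Quotient.mk_surjective
  haveI : Module.Flat (R ⧸ I) (S ⧸ IS) := Groth.Agent.H47.CohenAlg.flat_quotient I
  letI algQ : Algebra (S ⧸ IS) (S ⧸ J) := (Ideal.Quotient.factor hIJ).toAlgebra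
  haveI tower1 : IsScalarTower S (S ⧸ IS) (S ⧸ J) :=
    IsScalarTower.of_algebraMap_eq (fun x => rfl)
  haveI tower2 : IsScalarTower (R ⧸ I) (S ⧸ IS) (S ⧸ J) := by
    apply IsScalarTower.of_algebraMap_eq
    intro x
    obtain ⟨r, rfl⟩ := Ideal.Quotient.mk_surjective x
    have h1 : algebraMap (R ⧸ I) (S ⧸ J) (Ideal.Quotient.mk I r) =
        algebraMap R (S ⧸ J) r := (IsScalarTower.algebraMap_apply R (R ⧸ I) (S ⧸ J) r).symm
    rw [h1]
    rfl
  haveI : Module.Finite (S ⧸ IS) (S ⧸ J) :=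
    Module.Finite.of_surjective (Algebra.linearMap (S ⧸ IS) (S ⧸ J))
      (Ideal.Quotient.factor_surjective hIJ)
  haveI regfib := isRegularLocalRing_fibre_quotient (S := S) I hI
  have hK := map_mk_maximalIdeal I hI
  rw [hK] at h
  obtain ⟨m, hm⟩ := Groth.Agent.H59.FlatRegFibrePd.exists_hasProjectiveDimensionLT
    (R := R ⧸ I) (S := S ⧸ IS) (S ⧸ J) n h
  have hpd : HasProjectiveDimensionLT (ModuleCat.of (S ⧸ IS) (S ⧸ J)) (2 * m) :=
    hasProjectiveDimensionLT_of_ge _ m _ (by omega)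
  have hSm : ∀ x ∈ IS, x ∈ maximalIdeal S * J → x ∈ maximalIdeal S * IS := fun x hx hxm =>
    Groth.Agent.H59.SmallExt.mem_mul_of_hasProjectiveDimensionLT IS J hIJ hJ m hpd x hx hxm
  obtain ⟨h1, h2⟩ := Groth.Agent.H59.RegExchange.final IS J hIJ hJ hSm hJreg
  exact ⟨exists_isRegular_of_map I h1, h2⟩

include hJ hIJ in
set_option backward.isDefEq.respectTransparency false in
/-- `(3) ⇒ (1)` -/
theorem jreg_and_hasFiniteTorDim_of_p3
    (h1 : ∃ rs : List R, Ideal.ofList rs = I ∧ IsRegular R rs)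
    (h2 : ∃ rs' : List (S ⧸ I.map (algebraMap R S)),
        Ideal.ofList rs' = J.map (Ideal.Quotient.mk (I.map (algebraMap R S))) ∧
          IsRegular (S ⧸ I.map (algebraMap R S)) rs') :
    (∃ rs : List S, Ideal.ofList rs = J ∧ IsRegular S rs) ∧
      DRing.HasFiniteTorDim (R ⧸ I) (S ⧸ J) := by
  set IS := I.map (algebraMap R S) with hISdef
  obtain ⟨rs, hrsI, hrs⟩ := h1
  obtain ⟨rs', hrs'J, hrs'⟩ := h2
  obtain ⟨l', hl'⟩ := (Ideal.Quotient.mk_surjective (I := IS)).list_map rs'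
  have hof1 : Ideal.ofList (rs.map (algebraMap R S)) = IS := by
    rw [← Ideal.map_ofList, hrsI]
  have hofL : Ideal.ofList (rs.map (algebraMap R S) ++ l') = J := by
    rw [Ideal.ofList_append, hof1]
    have h3 : (Ideal.ofList l').map (Ideal.Quotient.mk IS) = J.map (Ideal.Quotient.mk IS) := by
      rw [Ideal.map_ofList, hl', hrs'J]
    have h4 := congrArg (Ideal.comap (Ideal.Quotient.mk IS)) h3
    rw [Ideal.comap_map_of_surjective _ Ideal.Quotient.mk_surjective,
      Ideal.comap_map_of_surjective _ Ideal.Quotient.mk_surjective, ← RingHom.ker_eq_comap_bot,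
      Ideal.mk_ker] at h4
    rw [sup_comm, h4, sup_eq_left.mpr hIJ]
  refine ⟨⟨rs.map (algebraMap R S) ++ l', hofL, ?_⟩, ?_⟩
  · refine ⟨?_, ?_⟩
    · rw [isWeaklyRegular_append_iff]
      refine ⟨hrs.toIsWeaklyRegular.of_flat, ?_⟩
      have e : (S ⧸ (Ideal.ofList (rs.map (algebraMap R S)) • ⊤ : Submodule S S)) ≃ₗ[S]
          (S ⧸ IS) := Submodule.quotEquivOfEq _ _ (by rw [hof1, smul_eq_mul, Ideal.mul_top])
      rw [e.isWeaklyRegular_congr]
      have h5 : IsWeaklyRegular (S ⧸ IS) (l'.map (algebraMap S (S ⧸ IS))) := by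
        rw [Ideal.Quotient.algebraMap_eq, hl']
        exact hrs'.toIsWeaklyRegular
      exact (isWeaklyRegular_map_algebraMap_iff (S ⧸ IS) (S ⧸ IS) l').mp h5
    · rw [hofL, smul_eq_mul, Ideal.mul_top]
      exact hJ.symm
  · haveI : Module.Flat (R ⧸ I) (S ⧸ IS) := Groth.Agent.H47.CohenAlg.flat_quotient I
    have hft1 : DRing.HasFiniteTorDim (R ⧸ I) (S ⧸ IS) :=
      ⟨0, (Groth.Agent.H35.KF.hasTorDimLE_zero_iff_flat _).mpr inferInstance⟩
    letI algQ : Algebra (S ⧸ IS) (S ⧸ J) := (Ideal.Quotient.factor hIJ).toAlgebra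
    haveI tower2 : IsScalarTower (R ⧸ I) (S ⧸ IS) (S ⧸ J) := by
      apply IsScalarTower.of_algebraMap_eq
      intro x
      obtain ⟨r, rfl⟩ := Ideal.Quotient.mk_surjective x
      have h1 : algebraMap (R ⧸ I) (S ⧸ J) (Ideal.Quotient.mk I r) =
          algebraMap R (S ⧸ J) r := (IsScalarTower.algebraMap_apply R (R ⧸ I) (S ⧸ J) r).symm
      rw [h1]
      rfl
    have hperf : DRing.IsPerfectModule (S ⧸ IS) (S ⧸ IS) :=
      Groth.Agent.H35.RegSeqPerf.isPerfectModule_of_finite_projective _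
    have hperf2 := Groth.Agent.H35.RegSeqPerf.isPerfectModule_quot_of_isWeaklyRegular
      (M := S ⧸ IS) hrs'.toIsWeaklyRegular hperf
    have hsurj : Function.Surjective (Algebra.linearMap (S ⧸ IS) (S ⧸ J)) :=
      Ideal.Quotient.factor_surjective hIJ
    have hker : LinearMap.ker (Algebra.linearMap (S ⧸ IS) (S ⧸ J)) =
        (Ideal.ofList rs' • ⊤ : Submodule (S ⧸ IS) (S ⧸ IS)) := by
      rw [smul_eq_mul, Ideal.mul_top, hrs'J, ← Ideal.Quotient.factor_ker hIJ]
      rfl
    let e : ((S ⧸ IS) ⧸ (Ideal.ofList rs' • ⊤ : Submodule (S ⧸ IS) (S ⧸ IS))) ≃ₗ[S ⧸ IS]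
        (S ⧸ J) :=
      (Submodule.quotEquivOfEq _ _ hker.symm).trans
        ((Algebra.linearMap (S ⧸ IS) (S ⧸ J)).quotKerEquivOfSurjective hsurj)
    have hft2 : DRing.HasFiniteTorDim (S ⧸ IS) (S ⧸ J) :=
      (Groth.Agent.H35.RegSeqPerf.pc_and_ftd_of_isPerfectModule _
        (Groth.Agent.H35.RegSeqPerf.isPerfectModule_of_linearEquiv e hperf2)).2
    exact Groth.Agent.H35.FTDLocal.hasFiniteTorDim_trans hft1 hft2

end WithAlg

end Main

end Groth.Agent.H59.RegSeqRel
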