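import Mathlib
import Groth.Prelude.Def_DRing2
import Groth.Agent.H59.CurvedKill
import Groth.Agent.H59.NLVasc1

/-!
# Infinite Tor-dimension from a relation that does not lift (for S6532)
-/

set_option autoImplicit false
set_option linter.style.haveILetI false
set_option linter.unusedSectionVars false
universe u

namespace Groth.Agent.H59.RelLift

open CategoryTheory

/-- if `φ : P → B` is a surjective ring map with kernel `I` and `B` is a `P`-module through `φ`,
then an element `φ x` lying in `J • ⊤` forces `x ∈ I ⊔ J` -/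
theorem mem_sup_of_mem_smul_top {P B : Type u} [CommRing P] [CommRing B] [Algebra P B]
    (hsurj : Function.Surjective (algebraMap P B)) (I J : Ideal P)
    (hker : RingHom.ker (algebraMap P B) = I)
    (b : B) (hb : b ∈ J • (⊤ : Submodule P B)) :
    ∀ x : P, algebraMap P B x = b → x ∈ I ⊔ J := by
  refine Submodule.smul_induction_on hb ?_ ?_
  · intro c hc z _ x hx
    obtain ⟨z', rfl⟩ := hsurj z
    rw [Algebra.smul_def, ← map_mul] at hx
    have h1 : x - c * z' ∈ I := by
      rw [← hker, RingHom.mem_ker, map_sub, hx, sub_self]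
    have : x = (x - c * z') + c * z' := by ring
    rw [this]
    exact Ideal.add_mem _ (Ideal.mem_sup_left h1) (Ideal.mem_sup_right (Ideal.mul_mem_right _ _ hc))
  · intro b₁ b₂ h₁ h₂ x hx
    obtain ⟨x₁, rfl⟩ := hsurj b₁
    have h3 : algebraMap P B (x - x₁) = b₂ := by
      rw [map_sub, hx]; ring
    have : x = x₁ + (x - x₁) := by ring
    rw [this]
    exact Ideal.add_mem _ (h₁ x₁ rfl) (h₂ _ h3)

theorem main_generic {R' R : Type u} [CommRing R'] [CommRing R]
    [IsNoetherianRing R] (π : R' →+* R) (hπ : Function.Surjective π)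
    (f : R') (hker : RingHom.ker π = Ideal.span {f}) (hf : f * f = 0)
    {n m : ℕ} (fs r : Fin m → MvPolynomial (Fin n) R)
    (h1 : ∀ (j : Fin m) (d : Fin n →₀ ℕ),
      MvPolynomial.coeff d (r j) ∈ ((Ideal.span {f}).annihilator).map π)
    (r' f' : Fin m → MvPolynomial (Fin n) R') (g : MvPolynomial (Fin n) R')
    (hr' : ∀ j, MvPolynomial.map π (r' j) = r j) (hf' : ∀ j, MvPolynomial.map π (f' j) = fs j)
    (hsum : ∑ j, r' j * f' j = MvPolynomial.C f * g)
    (hg : ¬ IsNilpotent (Ideal.Quotient.mk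
      (Ideal.span (Set.range fs) ⊔ (((Ideal.span {f}).annihilator).map π).map MvPolynomial.C)
      (MvPolynomial.map π g)))
    (B : Type u) [CommRing B] [Algebra R B] (φ : MvPolynomial (Fin n) R →ₐ[R] B)
    (hφ : Function.Surjective φ) (hkerφ : RingHom.ker φ.toRingHom = Ideal.span (Set.range fs)) :
    ¬ DRing.HasFiniteTorDim R B := by
  rintro ⟨dd, hTor⟩
  set I : Ideal (MvPolynomial (Fin n) R) := Ideal.span (Set.range fs) with hI
  set 𝔞 : Ideal R' := (Ideal.span {f}).annihilator with h𝔞
  have h𝔞mem : ∀ c : R', c ∈ 𝔞 ↔ f * c = 0 := by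
    intro c
    rw [h𝔞, Ideal.span, Submodule.mem_annihilator_span_singleton, smul_eq_mul, mul_comm]
  letI algP : Algebra (MvPolynomial (Fin n) R') (MvPolynomial (Fin n) R) :=
    (MvPolynomial.map π).toAlgebra
  have halgP : ∀ x, algebraMap (MvPolynomial (Fin n) R') (MvPolynomial (Fin n) R) x =
      MvPolynomial.map π x := fun x => rfl
  have hsurj : Function.Surjective
      (algebraMap (MvPolynomial (Fin n) R') (MvPolynomial (Fin n) R)) :=
    MvPolynomial.map_surjective π hπ
  have hkerP : RingHom.ker (algebraMap (MvPolynomial (Fin n) R') (MvPolynomial (Fin n) R)) =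
      Ideal.span {MvPolynomial.C f} := by
    change RingHom.ker (MvPolynomial.map π) = _
    rw [MvPolynomial.ker_map, hker, Ideal.map_span, Set.image_singleton]
  set 𝔫 : Ideal (MvPolynomial (Fin n) R') := 𝔞.map MvPolynomial.C with h𝔫
  have h𝔫f : ∀ y ∈ 𝔫, y * MvPolynomial.C f = 0 := by
    intro y hy
    rw [h𝔫, MvPolynomial.mem_map_C_iff] at hy
    ext d
    rw [mul_comm, MvPolynomial.coeff_C_mul, MvPolynomial.coeff_zero]
    exact (h𝔞mem _).mp (hy d)
  have hann : ∀ y, y * MvPolynomial.C f = 0 → y ∈ 𝔫 := by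
    intro y hy
    rw [h𝔫, MvPolynomial.mem_map_C_iff]
    intro d
    rw [h𝔞mem]
    have := congrArg (MvPolynomial.coeff d) hy
    rwa [mul_comm, MvPolynomial.coeff_C_mul, MvPolynomial.coeff_zero] at this
  have hr : ∀ j, r' j ∈ 𝔫 := by
    intro j
    rw [h𝔫, MvPolynomial.mem_map_C_iff]
    intro d
    have h2 := h1 j d
    rw [← hr', MvPolynomial.coeff_map] at h2
    obtain ⟨c, hc, hc'⟩ := (Ideal.mem_map_iff_of_surjective π hπ).mp h2
    have h3 : MvPolynomial.coeff d (r' j) - c ∈ RingHom.ker π := by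
      rw [RingHom.mem_ker, map_sub, hc', sub_self]
    rw [hker, Ideal.mem_span_singleton'] at h3
    obtain ⟨t, ht⟩ := h3
    rw [h𝔞mem]
    have h4 : MvPolynomial.coeff d (r' j) = c + t * f := by rw [ht]; ring
    rw [h4, mul_add, (h𝔞mem c).mp hc, zero_add, mul_comm t f, ← mul_assoc, hf, zero_mul]
  -- projective dimension
  have hTor' := Groth.Agent.H59.NLVasc1.hasTorDimLE_mvPolynomial R B n φ dd hTor
  letI algB : Algebra (MvPolynomial (Fin n) R) B := φ.toRingHom.toAlgebra
  have halgB : ∀ c, algebraMap (MvPolynomial (Fin n) R) B c = φ c := fun c => rfl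
  have hφsurj : Function.Surjective (Algebra.linearMap (MvPolynomial (Fin n) R) B) := hφ
  haveI : Module.Finite (MvPolynomial (Fin n) R) B := Module.Finite.of_surjective _ hφsurj
  have hpd := Groth.Agent.H59.NLVasc1.hasProjectiveDimensionLT_of_hasTorDimLE (dd + n) B hTor'
  have hpd' : HasProjectiveDimensionLT (ModuleCat.of (MvPolynomial (Fin n) R) B)
      (2 * (dd + n + 1)) :=
    hasProjectiveDimensionLT_of_ge _ (dd + n + 1) _ (by omega)
  have hfsI : ∀ j, φ (fs j) = 0 := by
    intro j
    have : fs j ∈ RingHom.ker φ.toRingHom := by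
      rw [hkerφ]; exact Ideal.subset_span ⟨j, rfl⟩
    exact this
  have hm₀ : ∀ j, algebraMap (MvPolynomial (Fin n) R') (MvPolynomial (Fin n) R) (f' j) •
      (1 : B) = 0 := by
    intro j
    rw [halgP, hf', Algebra.smul_def, halgB, mul_one, hfsI]
  have key := Groth.Agent.H59.CurvedKill.main hsurj (MvPolynomial.C f) g hkerP 𝔫 h𝔫f hann
    f' r' hr hsum B 1 hm₀ (dd + n + 1) hpd'
  have hone : ∀ a : MvPolynomial (Fin n) R, a • (1 : B) = algebraMap (MvPolynomial (Fin n) R) B a :=
    fun a => by rw [Algebra.smul_def, mul_one]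
  rw [hone, halgP] at key
  have h5 := mem_sup_of_mem_smul_top (P := MvPolynomial (Fin n) R) (B := B) hφ I _ hkerφ _ key _ rfl
  have h6 : Ideal.map (algebraMap (MvPolynomial (Fin n) R') (MvPolynomial (Fin n) R)) 𝔫 =
      (𝔞.map π).map MvPolynomial.C := by
    change Ideal.map (MvPolynomial.map π) _ = _
    rw [h𝔫, Ideal.map_map, Ideal.map_map]
    congr 1
    ext c
    simp
  rw [h6, map_pow] at h5
  apply hg
  refine ⟨dd + n + 1, ?_⟩
  rw [← map_pow, Ideal.Quotient.eq_zero_iff_mem]
  exact h5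

end Groth.Agent.H59.RelLift
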