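import Mathlib

/-!
# Sorting a tuple of pairwise comparable elements into a chain
-/

set_option autoImplicit false

namespace Groth.Agent.H59.SortChain

variable {L : Type*} [PartialOrder L] (key : L → ℕ) (hkey : StrictMono key)

include hkey in
/-- a tuple of pairwise comparable elements can be rearranged into an antitone tuple. -/
theorem exists_perm_antitone {m : ℕ} (g : Fin m → L) (hcomp : ∀ i j, g i ≤ g j ∨ g j ≤ g i) :
    ∃ σ : Equiv.Perm (Fin m), Antitone (g ∘ σ) := by
  refine ⟨Tuple.sort (fun i => OrderDual.toDual (key (g i))), ?_⟩
  have hmono := Tuple.monotone_sort (fun i => OrderDual.toDual (key (g i)))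
  intro i j hij
  have h1 : key (g (Tuple.sort (fun i => OrderDual.toDual (key (g i))) j))
      ≤ key (g (Tuple.sort (fun i => OrderDual.toDual (key (g i))) i)) := hmono hij
  simp only [Function.comp_apply]
  rcases hcomp (Tuple.sort (fun i => OrderDual.toDual (key (g i))) j)
    (Tuple.sort (fun i => OrderDual.toDual (key (g i))) i) with h | h
  · exact h
  · rcases eq_or_lt_of_le h with h2 | h2
    · exact le_of_eq h2.symm
    · exact absurd (hkey h2) (not_lt.mpr h1)

end Groth.Agent.H59.SortChain
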