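import Mathlib
import Groth.Agent.H59.HibiWeights
import Groth.Agent.H59.ShapeLemma
import Groth.Agent.H59.SortChain

/-!
# The concave weight filtration on the coordinate ring of a Schubert variety
-/

set_option autoImplicit false

namespace Groth.Agent.H59.SRW

open W4bk4grassmannian MvPolynomial Groth.Agent.H59.SMTIndep Groth.Agent.H59.SMT
open Groth.Agent.H59.Straighten Groth.Agent.H59.HibiW Groth.Agent.H59.Shape

section weights

variable {d n : ℕ}

/-- the concave weight of an index. -/
def ωs (θ : Idx d n) : ℕ := (d * n) ^ 2 + 1 - (esum θ) ^ 2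

theorem esum_sq_le (θ : Idx d n) : esum θ ^ 2 ≤ (d * n) ^ 2 :=
  Nat.pow_le_pow_left (esum_le θ) 2

theorem esum_strictMono : StrictMono (esum : Idx d n → ℕ) := by
  intro a b hab
  unfold esum
  apply Finset.sum_lt_sum
  · intro t _
    exact Fin.le_def.mp (hab.le t)
  · by_contra hcon
    push Not at hcon
    apply hab.not_ge
    intro t
    exact Fin.le_def.mpr (hcon t (Finset.mem_univ t))

theorem ωs_lt {τ φ α β : Idx d n} (h1 : esum α + esum β = esum τ + esum φ)
    (h2 : esum τ < esum α) (h3 : esum φ < esum α) : ωs α + ωs β < ωs τ + ωs φ := by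
  unfold ωs
  have e1 := esum_sq_le τ
  have e2 := esum_sq_le φ
  have e3 := esum_sq_le α
  have e4 := esum_sq_le β
  have key : esum τ ^ 2 + esum φ ^ 2 < esum α ^ 2 + esum β ^ 2 := by
    zify at h1 h2 h3 ⊢
    nlinarith [mul_pos (sub_pos.mpr h2) (sub_pos.mpr h3)]
  omega

theorem ωs_pos (θ : Idx d n) : 0 < ωs θ := by
  unfold ωs
  have := esum_sq_le θ
  omega

end weights

section lemmaM

variable (K : Type*) [Field K] [Infinite K] {d n : ℕ} (w : Idx d n) (hd : 0 < d) (hdn : d ≤ n)

/-- the concave weight of a standard chain. -/
def ωse (e : StdC w) : ℕ := ∑ k, ωs (e.2.1 k)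

/-- the class of a polynomial in the coordinate ring. -/
noncomputable abbrev mkw : PlRing K d n →+* AA K w := Ideal.Quotient.mk (schubertVanishing K d n w)

omit [Infinite K] in
theorem mkw_smul (a : K) (f : PlRing K d n) : mkw K w (a • f) = a • mkw K w f :=
  map_smul (Ideal.Quotient.mkₐ K (schubertVanishing K d n w)) a f

include hdn in
/-- every monomial lies in the step of the filtration given by its weight. -/
theorem monomial_mem (N : ℕ) : ∀ (m : ℕ) (g : Fin m → Idx d n), ∑ k, ωs (g k) = N →
    mkw K w (∏ k, X (g k)) ∈ Rees.F (stdBasis K w hd) (ωse w) N := by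
  classical
  induction N using Nat.strong_induction_on with
  | _ N IH =>
  intro m g hN
  by_cases hall : ∀ k, g k ≤ w
  · by_cases hcomp : ∀ i j, g i ≤ g j ∨ g j ≤ g i
    · -- a chain, after sorting
      obtain ⟨σ, hσ⟩ := SortChain.exists_perm_antitone esum esum_strictMono g hcomp
      have he : mkw K w (∏ k, X (g k))
          = stdBasis K w hd ⟨m, g ∘ σ, hσ, fun k => hall (σ k)⟩ := by
        rw [stdBasis_apply]
        unfold chainMon
        congr 1
        exact (Equiv.prod_comp σ (fun k => (X (g k) : PlRing K d n))).symm
      rw [he]
      have hω : ωse w ⟨m, g ∘ σ, hσ, fun k => hall (σ k)⟩ = N := by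
        rw [← hN]
        unfold ωse
        exact Equiv.sum_comp σ (fun k => ωs (g k))
      rw [← hω]
      exact Rees.basis_mem_F _ _ _
    · -- an incomparable pair
      push Not at hcomp
      obtain ⟨i, j, hij, hji⟩ := hcomp
      have hne : i ≠ j := by
        rintro rfl
        exact hij (le_refl _)
      obtain ⟨T, l, -, hT2, hTsum, hTle, hTmem⟩ := exists_shape K hd hdn (g i) (g j)
      -- the remaining product
      set P0 : PlRing K d n := ∏ k ∈ (Finset.univ \ {j}) \ {i}, X (g k) with hP0
      set S0 : ℕ := ∑ k ∈ (Finset.univ \ {j}) \ {i}, ωs (g k) with hS0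
      have hi_mem : i ∈ (Finset.univ : Finset (Fin m)) \ {j} := by
        rw [Finset.mem_sdiff, Finset.mem_singleton]
        exact ⟨Finset.mem_univ _, hne⟩
      have hprod : ∀ (a b : Idx d n),
          ∏ k, (X (Function.update (Function.update g i a) j b k) : PlRing K d n)
            = X b * (X a * P0) := by
        intro a b
        have h1 : (fun k => (X (Function.update (Function.update g i a) j b k) : PlRing K d n))
            = Function.update (Function.update (fun k => (X (g k) : PlRing K d n)) i (X a)) j
              (X b) := by
          funext k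
          by_cases hkj : k = j
          · subst hkj
            rw [Function.update_self, Function.update_self]
          · rw [Function.update_of_ne hkj, Function.update_of_ne hkj]
            by_cases hki : k = i
            · subst hki
              rw [Function.update_self, Function.update_self]
            · rw [Function.update_of_ne hki, Function.update_of_ne hki]
        rw [h1, Finset.prod_update_of_mem (Finset.mem_univ j),
          Finset.prod_update_of_mem hi_mem]
      have hsum : ∀ (a b : Idx d n),
          ∑ k, ωs (Function.update (Function.update g i a) j b k) = ωs b + (ωs a + S0) := by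
        intro a b
        have h1 : (fun k => ωs (Function.update (Function.update g i a) j b k))
            = Function.update (Function.update (fun k => ωs (g k)) i (ωs a)) j (ωs b) := by
          funext k
          by_cases hkj : k = j
          · subst hkj
            rw [Function.update_self, Function.update_self]
          · rw [Function.update_of_ne hkj, Function.update_of_ne hkj]
            by_cases hki : k = i
            · subst hki
              rw [Function.update_self, Function.update_self]
            · rw [Function.update_of_ne hki, Function.update_of_ne hki]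
        rw [h1, Finset.sum_update_of_mem (Finset.mem_univ j),
          Finset.sum_update_of_mem hi_mem]
      have hg : Function.update (Function.update g i (g i)) j (g j) = g := by
        rw [Function.update_eq_self, Function.update_eq_self]
      have hprod0 : ∏ k, (X (g k) : PlRing K d n) = X (g j) * (X (g i) * P0) := by
        have := hprod (g i) (g j)
        rwa [hg] at this
      have hsum0 : N = ωs (g j) + (ωs (g i) + S0) := by
        have := hsum (g i) (g j)
        rw [hg] at this
        rw [← hN, this]
      -- expand
      have hexp : mkw K w (∏ k, X (g k))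
          = ∑ c ∈ T, l c • mkw K w (chainMon K c.2.1 * P0) := by
        have h1 : mkw K w (X (g i) * X (g j))
            = mkw K w (∑ c ∈ T, l c • chainMon K c.2.1) :=
          Ideal.Quotient.eq.mpr (vanishing_le K w hTmem)
        have h2 : ∏ k, (X (g k) : PlRing K d n) = (X (g i) * X (g j)) * P0 := by
          rw [hprod0]
          ring
        rw [h2, map_mul, h1, ← map_mul, Finset.sum_mul, map_sum]
        refine Finset.sum_congr rfl fun c _ => ?_
        rw [smul_mul_assoc, mkw_smul]
      rw [hexp]
      apply Submodule.sum_mem
      intro c hc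
      apply Submodule.smul_mem
      -- the chain `c` has length two
      have hc2 := hT2 c hc
      have hcsum := hTsum c hc
      have hcle := hTle c hc
      obtain ⟨m', c, hcanti⟩ := c
      simp only at hc2
      subst hc2
      simp only at hcsum hcle
      rw [Fin.sum_univ_two] at hcsum
      have hle0 : ∀ k, c k ≤ c 0 := fun k => hcanti (Fin.zero_le k)
      obtain ⟨hτ, hφ⟩ := hcle (c 0) hle0
      have hτlt : esum (g i) < esum (c 0) := by
        apply esum_strictMono
        apply lt_of_le_of_ne hτ
        intro heq
        exact hji (heq ▸ hφ)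
      have hφlt : esum (g j) < esum (c 0) := by
        apply esum_strictMono
        apply lt_of_le_of_ne hφ
        intro heq
        exact hij (heq ▸ hτ)
      have hωlt := ωs_lt hcsum hτlt hφlt
      have hmon : chainMon K c * P0
          = ∏ k, (X (Function.update (Function.update g i (c 0)) j (c 1) k) : PlRing K d n) := by
        rw [hprod]
        unfold chainMon
        rw [Fin.prod_univ_two]
        ring
      show mkw K w (chainMon K c * P0) ∈ _
      rw [hmon]
      have hlt : ωs (c 1) + (ωs (c 0) + S0) < N := by
        rw [hsum0]
        omega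
      exact Rees.F_mono _ _ (le_of_lt hlt)
        (IH _ hlt m (Function.update (Function.update g i (c 0)) j (c 1)) (hsum (c 0) (c 1)))
  · push Not at hall
    obtain ⟨k, hk⟩ := hall
    have hzero : mkw K w (∏ k, X (g k)) = 0 := by
      rw [Ideal.Quotient.eq_zero_iff_mem]
      have := X_mem_schubertVanishing K w (g k) hk
      rw [← Finset.mul_prod_erase Finset.univ _ (Finset.mem_univ k)]
      exact Ideal.mul_mem_right _ _ this
    rw [hzero]
    exact zero_mem _

include hdn in
theorem adapted : Rees.Adapted (stdBasis K w hd) (ωse w) where
  one_mem := by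
    have := monomial_mem K w hd hdn 0 0 (fun k => k.elim0) (by simp)
    simpa using this
  mul_mem := by
    intro c c'
    rw [stdBasis_apply, stdBasis_apply, ← map_mul]
    have e : chainMon K c.2.1 * chainMon K c'.2.1
        = ∏ k, X (Fin.append c.2.1 c'.2.1 k) := by
      unfold chainMon
      rw [Fin.prod_univ_add]
      simp only [Fin.append_left, Fin.append_right]
    rw [e]
    apply monomial_mem K w hd hdn
    rw [Fin.sum_univ_add]
    simp only [Fin.append_left, Fin.append_right]
    rfl

include hdn in
/-- a product of two incomparable coordinates lies in a lower step of the filtration. -/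
theorem pair_mem (τ φ : Idx d n) (h1 : ¬ τ ≤ φ) (h2 : ¬ φ ≤ τ) :
    ∃ j, j < ωs τ + ωs φ ∧ mkw K w (X τ * X φ) ∈ Rees.F (stdBasis K w hd) (ωse w) j := by
  classical
  refine ⟨ωs τ + ωs φ - 1, by have := ωs_pos τ; omega, ?_⟩
  obtain ⟨T, l, -, hT2, hTsum, hTle, hTmem⟩ := exists_shape K hd hdn τ φ
  have h0 : mkw K w (X τ * X φ) = mkw K w (∑ c ∈ T, l c • chainMon K c.2.1) :=
    Ideal.Quotient.eq.mpr (vanishing_le K w hTmem)
  rw [h0, map_sum]
  apply Submodule.sum_mem
  intro c hc
  rw [mkw_smul]
  apply Submodule.smul_mem
  have hc2 := hT2 c hc
  have hcsum := hTsum c hc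
  have hcle := hTle c hc
  obtain ⟨m', c, hcanti⟩ := c
  simp only at hc2
  subst hc2
  simp only at hcsum hcle
  rw [Fin.sum_univ_two] at hcsum
  have hle0 : ∀ k, c k ≤ c 0 := fun k => hcanti (Fin.zero_le k)
  obtain ⟨hτ, hφ⟩ := hcle (c 0) hle0
  have hτlt : esum τ < esum (c 0) := by
    apply esum_strictMono
    apply lt_of_le_of_ne hτ
    intro heq
    exact h2 (heq ▸ hφ)
  have hφlt : esum φ < esum (c 0) := by
    apply esum_strictMono
    apply lt_of_le_of_ne hφ
    intro heq
    exact h1 (heq ▸ hτ)
  have hωlt := ωs_lt hcsum hτlt hφlt
  show mkw K w (chainMon K c) ∈ _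
  have := monomial_mem K w hd hdn (ωs (c 0) + ωs (c 1)) 2 c (by rw [Fin.sum_univ_two])
  exact Rees.F_mono _ _ (by omega) this

end lemmaM

end Groth.Agent.H59.SRW
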