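import Mathlib
import Groth.Agent.H59.SRWeights
import Groth.Agent.H59.HibiFamily

/-!
# The degeneration of the cone over a Schubert variety to the Stanley–Reisner ring
-/

set_option autoImplicit false

namespace Groth.Agent.H59.SRW

open W4bk4grassmannian MvPolynomial Groth.Agent.H59.SMTIndep Groth.Agent.H59.SMT
open Groth.Agent.H59.Straighten Groth.Agent.H59.HibiW Groth.Agent.H59.Shape

section family

variable (K : Type*) [Field K] [Infinite K] {d n : ℕ} (w : Idx d n) (hd : 0 < d) (hdn : d ≤ n)

include hdn in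
theorem xbar_mem (θ : Idx d n) :
    mkw K w (X θ) ∈ Rees.F (stdBasis K w hd) (ωse w) (ωs θ) := by
  have := monomial_mem K w hd hdn (ωs θ) 1 (fun _ => θ) (by simp)
  simpa using this

/-- the generators of the Rees algebra. -/
noncomputable def xel (θ : Below w) : Rees.rees (adapted K w hd hdn) :=
  Rees.elt (adapted K w hd hdn) (ωs θ.1) (mkw K w (X θ.1)) (xbar_mem K w hd hdn θ.1)

theorem relation_mem (a b : Below w) (h1 : ¬ a ≤ b) (h2 : ¬ b ≤ a) :
    xel K w hd hdn a * xel K w hd hdn b ∈ Rees.I₀ (adapted K w hd hdn) := by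
  obtain ⟨j, hj, hmem⟩ := pair_mem K w hd hdn a.1 b.1 h1 h2
  have h3 := Rees.mk_elt_eq_zero_of_lt (adapted K w hd hdn) hj _ hmem
  rw [Ideal.Quotient.eq_zero_iff_mem] at h3
  have : xel K w hd hdn a * xel K w hd hdn b
      = Rees.elt (adapted K w hd hdn) (ωs a.1 + ωs b.1) (mkw K w (X a.1 * X b.1))
        (Rees.F_mono _ _ (le_of_lt hj) hmem) := by
    apply Subtype.ext
    rw [MulMemClass.coe_mul]
    unfold xel
    rw [Rees.elt_val, Rees.elt_val, Rees.elt_val, Polynomial.monomial_mul_monomial,
      map_mul (mkw K w)]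
  rw [this]
  exact h3

/-- the map from the polynomial ring on `H(w)` to the fibre at `0`. -/
noncomputable def g₀ : MvPolynomial (Below w) K →ₐ[K]
    (Rees.rees (adapted K w hd hdn) ⧸ Rees.I₀ (adapted K w hd hdn)) :=
  aeval fun θ => Ideal.Quotient.mk (Rees.I₀ (adapted K w hd hdn)) (xel K w hd hdn θ)

theorem g₀_sr (f : MvPolynomial (Below w) K) (hf : f ∈ srIdeal K w) : g₀ K w hd hdn f = 0 := by
  have hle : srIdeal K w ≤ RingHom.ker (g₀ K w hd hdn).toRingHom := by
    unfold srIdeal
    rw [Ideal.span_le]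
    rintro f ⟨a, b, h1, h2, rfl⟩
    rw [SetLike.mem_coe, RingHom.mem_ker]
    show g₀ K w hd hdn (X a * X b) = 0
    unfold g₀
    rw [map_mul, aeval_X, aeval_X, ← map_mul, Ideal.Quotient.eq_zero_iff_mem]
    exact relation_mem K w hd hdn a b h1 h2
  exact hle hf

/-- the map from the Stanley–Reisner ring to the fibre at `0`. -/
noncomputable def g : (MvPolynomial (Below w) K ⧸ srIdeal K w) →ₐ[K]
    (Rees.rees (adapted K w hd hdn) ⧸ Rees.I₀ (adapted K w hd hdn)) :=
  Ideal.Quotient.liftₐ (srIdeal K w) (g₀ K w hd hdn) (g₀_sr K w hd hdn)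

theorem prod_xel (c : HC w) :
    ∏ k, xel K w hd hdn (c.2.1 k) = Rees.β (adapted K w hd hdn) (toStd w c) := by
  apply Subtype.ext
  unfold xel
  rw [Rees.prod_elt_val]
  unfold Rees.β
  rw [Rees.elt_val]
  congr 1
  rw [stdBasis_apply]
  unfold chainMon
  rw [map_prod]
  rfl

theorem g_mon (c : HC w) :
    g K w hd hdn (Ideal.Quotient.mk (srIdeal K w) (Hibi.mon K c.2.1))
      = Rees.β₀ (adapted K w hd hdn) (toStd w c) := by
  show g₀ K w hd hdn (Hibi.mon K c.2.1) = _
  unfold Hibi.mon g₀
  rw [map_prod]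
  simp only [aeval_X]
  rw [← map_prod, prod_xel]
  rfl

omit [Infinite K] in
theorem sr_monomial {m : ℕ} (f : Fin m → Below w) :
    Ideal.Quotient.mk (srIdeal K w) (Hibi.mon K f) ∈
      Submodule.span K (Set.range fun c : HC w =>
        Ideal.Quotient.mk (srIdeal K w) (Hibi.mon K c.2.1)) := by
  classical
  by_cases hcomp : ∀ i j, f i ≤ f j ∨ f j ≤ f i
  · have hkey : StrictMono (fun a : Below w => esum a.1) := fun a b hab => esum_strictMono hab
    obtain ⟨σ, hσ⟩ := SortChain.exists_perm_antitone _ hkey f hcomp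
    have e : Hibi.mon K f = Hibi.mon K (f ∘ σ) := by
      unfold Hibi.mon
      exact (Equiv.prod_comp σ (fun k => (X (f k) : MvPolynomial (Below w) K))).symm
    rw [e]
    exact Submodule.subset_span ⟨⟨m, f ∘ σ, hσ⟩, rfl⟩
  · push Not at hcomp
    obtain ⟨i, j, hij, hji⟩ := hcomp
    have hne : j ≠ i := by
      rintro rfl
      exact hij (le_refl _)
    have hmem : Hibi.mon K f ∈ srIdeal K w := by
      unfold Hibi.mon
      rw [← Finset.mul_prod_erase Finset.univ _ (Finset.mem_univ i),
        ← Finset.mul_prod_erase (Finset.univ.erase i) _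
          (Finset.mem_erase.mpr ⟨hne, Finset.mem_univ j⟩), ← mul_assoc]
      exact Ideal.mul_mem_right _ _ (Ideal.subset_span ⟨f i, f j, hij, hji, rfl⟩)
    rw [Ideal.Quotient.eq_zero_iff_mem.mpr hmem]
    exact zero_mem _

omit [Infinite K] in
theorem sr_span :
    Submodule.span K (Set.range fun c : HC w =>
      Ideal.Quotient.mk (srIdeal K w) (Hibi.mon K c.2.1)) = ⊤ := by
  rw [eq_top_iff]
  rintro x -
  obtain ⟨f, rfl⟩ := Ideal.Quotient.mk_surjective x
  have key : ∀ (m : ℕ) (g : Fin m → Below w),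
      Ideal.Quotient.mk (srIdeal K w) (f * Hibi.mon K g) ∈
      Submodule.span K (Set.range fun c : HC w =>
        Ideal.Quotient.mk (srIdeal K w) (Hibi.mon K c.2.1)) := by
    induction f using MvPolynomial.induction_on with
    | C a =>
      intro m g
      have h2 : Ideal.Quotient.mk (srIdeal K w) (C a * Hibi.mon K g)
          = a • Ideal.Quotient.mk (srIdeal K w) (Hibi.mon K g) := by
        rw [← smul_eq_C_mul]
        exact map_smul (Ideal.Quotient.mkₐ K (srIdeal K w)) _ _
      rw [h2]
      exact Submodule.smul_mem _ _ (sr_monomial K w g)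
    | add p q hp hq =>
      intro m g
      rw [add_mul, map_add]
      exact Submodule.add_mem _ (hp m g) (hq m g)
    | mul_X p θ hp =>
      intro m g
      rw [mul_assoc, ← Hibi.mon_cons]
      exact hp (m + 1) _
  have := key 0 (fun a => a.elim0)
  have h1 : Hibi.mon K (fun a : Fin 0 => a.elim0 : Fin 0 → Below w) = 1 := by
    unfold Hibi.mon
    simp
  rwa [h1, mul_one] at this

theorem g_bijective : Function.Bijective (g K w hd hdn) := by
  constructor
  · rw [injective_iff_map_eq_zero]
    intro x hx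
    have hxs : x ∈ Submodule.span K (Set.range fun c : HC w =>
        Ideal.Quotient.mk (srIdeal K w) (Hibi.mon K c.2.1)) := by
      rw [sr_span]
      exact Submodule.mem_top
    rw [Finsupp.mem_span_range_iff_exists_finsupp] at hxs
    obtain ⟨l, rfl⟩ := hxs
    have hli : LinearIndependent K
        (fun c : HC w => Rees.β₀ (adapted K w hd hdn) (toStd w c)) :=
      (Rees.linearIndependent_β₀ (adapted K w hd hdn)).comp _ (toStd_injective w)
    rw [linearIndependent_iff] at hli
    have hl : l = 0 := by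
      apply hli
      rw [← hx, Finsupp.linearCombination_apply, Finsupp.sum, Finsupp.sum, map_sum]
      refine Finset.sum_congr rfl fun c _ => ?_
      rw [map_smul, g_mon]
    rw [hl]
    simp
  · intro y
    have hy : y ∈ Submodule.span K (Set.range (Rees.β₀ (adapted K w hd hdn))) := by
      rw [Rees.span_β₀]
      exact Submodule.mem_top
    have hle : Submodule.span K (Set.range (Rees.β₀ (adapted K w hd hdn)))
        ≤ LinearMap.range (g K w hd hdn).toLinearMap := by
      rw [Submodule.span_le]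
      rintro z ⟨e, rfl⟩
      refine ⟨Ideal.Quotient.mk (srIdeal K w) (Hibi.mon K
        (fun k => (⟨e.2.1 k, e.2.2.2 k⟩ : Below w))), ?_⟩
      have := g_mon K w hd hdn ⟨e.1, fun k => (⟨e.2.1 k, e.2.2.2 k⟩ : Below w),
        fun _ _ hab => e.2.2.1 hab⟩
      exact this
    obtain ⟨x, hx⟩ := hle hy
    exact ⟨x, hx⟩

end family

section main

universe u

/-- the degeneration to the Stanley–Reisner ring. -/
theorem exists_family (K : Type u) [Field K] [Infinite K] (d n : ℕ) (hd : 0 < d) (hdn : d ≤ n)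
    (w : Idx d n) :
    ∃ (R : Type u) (_ : CommRing R) (_ : Algebra K R) (_ : Algebra (Polynomial K) R)
      (_ : IsScalarTower K (Polynomial K) R),
      Module.Free (Polynomial K) R ∧
      Nonempty ((R ⧸ Ideal.span {algebraMap (Polynomial K) R Polynomial.X}) ≃ₐ[K]
        (MvPolynomial (Below w) K ⧸ srIdeal K w)) ∧
      ∀ c : K, c ≠ 0 →
        Nonempty ((R ⧸ Ideal.span {algebraMap (Polynomial K) R
          (Polynomial.X - Polynomial.C c)}) ≃ₐ[K]
          (PlRing K d n ⧸ schubertVanishing K d n w)) :=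
  ⟨Rees.rees (adapted K w hd hdn), inferInstance, inferInstance, Rees.instAlgebra _,
    Rees.instTower _, Rees.free _,
    ⟨(AlgEquiv.ofBijective (g K w hd hdn) (g_bijective K w hd hdn)).symm⟩,
    fun c hc => ⟨Rees.fibreEquiv _ c hc⟩⟩

end main

end Groth.Agent.H59.SRW
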