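import Mathlib
import Groth.Agent.H44.FormallySmoothOmega

/-!
# `φ^*Ω_Y ⟶ Ω_X` is a monomorphism for dominant separable `φ` (helper59)

Pure algebra: if `A → B → K` with `A → K` formally étale, `B → K` injective and `Ω[A/R]` flat over `A`,
then `B ⊗[A] Ω[A/R] → Ω[B/R]` is injective.
-/

set_option autoImplicit false
set_option linter.style.haveILetI false
universe u
open CategoryTheory Limits Opposite AlgebraicGeometry TopologicalSpace TensorProduct

namespace Groth.Agent.H59.SepMono

section Algebra
variable (R A B K : Type u) [CommRing R] [CommRing A] [CommRing B] [CommRing K]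
  [Algebra R A] [Algebra A B] [Algebra R B] [IsScalarTower R A B]
  [Algebra A K] [Algebra B K] [Algebra R K] [IsScalarTower A B K] [IsScalarTower R A K]
  [IsScalarTower R B K]

/-- the two ways from `B ⊗[A] Ω[A/R]` to `Ω[K/R]` agree -/
theorem map_mapBaseChange (x : B ⊗[A] Ω[A⁄R]) :
    KaehlerDifferential.map R R B K (KaehlerDifferential.mapBaseChange R A B x) =
      KaehlerDifferential.mapBaseChange R A K
        (LinearMap.rTensor Ω[A⁄R] (IsScalarTower.toAlgHom A B K).toLinearMap x) := by
  induction x using TensorProduct.induction_on with
  | zero => simp
  | add x y hx hy => rw [map_add, map_add, hx, hy, map_add, map_add]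
  | tmul b ω =>
    rw [LinearMap.rTensor_tmul, KaehlerDifferential.mapBaseChange_tmul,
      KaehlerDifferential.mapBaseChange_tmul]
    have hω : ω ∈ Submodule.span A (Set.range (KaehlerDifferential.D R A)) := by
      rw [KaehlerDifferential.span_range_derivation]; trivial
    induction hω using Submodule.span_induction generalizing b with
    | mem ω hω =>
      obtain ⟨a, rfl⟩ := hω
      rw [KaehlerDifferential.map_D, KaehlerDifferential.map_D]
      change KaehlerDifferential.map R R B K (b • KaehlerDifferential.D R B (algebraMap A B a)) =
        (algebraMap B K b) • KaehlerDifferential.D R K (algebraMap A K a)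
      rw [LinearMap.map_smul_of_tower, KaehlerDifferential.map_D,
        ← IsScalarTower.algebraMap_apply A B K, algebraMap_smul]
    | zero => simp
    | add x y _ _ hx hy => simp only [map_add, smul_add, hx, hy]
    | smul r x _ hx =>
      have h1 : KaehlerDifferential.map R R A B (r • x) =
          algebraMap A B r • KaehlerDifferential.map R R A B x := by
        rw [LinearMap.map_smul, algebraMap_smul]
      have h2 : KaehlerDifferential.map R R A K (r • x) =
          algebraMap A K r • KaehlerDifferential.map R R A K x := by
        rw [LinearMap.map_smul, algebraMap_smul]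
      rw [h1, h2, smul_smul, hx, smul_smul]
      congr 1
      change algebraMap B K (b * algebraMap A B r) = algebraMap B K b * algebraMap A K r
      rw [map_mul, ← IsScalarTower.algebraMap_apply A B K]

/-- **Pure algebra**: `B ⊗[A] Ω[A/R] → Ω[B/R]` is injective as soon as some `B`-algebra `K` into which `B`
injects is formally étale over `A` and `Ω[A/R]` is flat. -/
theorem mapBaseChange_injective_of_formallyEtale [Algebra.FormallyEtale A K]
    [Module.Flat A Ω[A⁄R]] (hinj : Function.Injective (algebraMap B K)) :
    Function.Injective (KaehlerDifferential.mapBaseChange R A B) := by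
  rw [injective_iff_map_eq_zero]
  intro x hx
  have h1 := map_mapBaseChange R A B K x
  rw [hx, map_zero] at h1
  have h2 : Function.Injective (KaehlerDifferential.mapBaseChange R A K) :=
    (KaehlerDifferential.tensorKaehlerEquivOfFormallyEtale R A K).injective
  have h3 : Function.Injective
      (LinearMap.rTensor Ω[A⁄R] (IsScalarTower.toAlgHom A B K).toLinearMap) := by
    apply Module.Flat.rTensor_preserves_injective_linearMap
    exact hinj
  apply h3
  apply h2
  rw [← h1, map_zero, map_zero]

end Algebra

end Groth.Agent.H59.SepMono
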