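import Mathlib
import Groth.Agent.H59.SepMono

/-!
# `φ^*Ω_Y ⟶ Ω_X` is a monomorphism for dominant separable `φ`: the scheme part (helper59)
-/

set_option autoImplicit false
set_option linter.style.haveILetI false
universe u
open CategoryTheory Limits Opposite AlgebraicGeometry TopologicalSpace TensorProduct

namespace Groth.Agent.H59.SepMono

section Generic
variable {X Y : Scheme.{u}}

/-- a dominant morphism of irreducible schemes maps the generic point to the generic point -/
theorem map_genericPoint [IrreducibleSpace X] [IrreducibleSpace Y] (φ : X ⟶ Y)
    (hdom : DenseRange φ.base) : φ.base (genericPoint X) = genericPoint Y := by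
  apply ((genericPoint_spec Y).eq _).symm
  have h := (genericPoint_spec X).image φ.continuous
  rw [Set.image_univ, hdom.closure_eq] at h
  exact h

/-- evaluation at the generic point of an integral scheme is injective -/
theorem evaluation_genericPoint_injective [IsIntegral X] (U : X.Opens)
    (hU : genericPoint X ∈ U) : Function.Injective (X.evaluation U (genericPoint X) hU) := by
  have h1 : Function.Injective (X.presheaf.germ U (genericPoint X) hU) :=
    germ_injective_of_isIntegral X _ hU
  have h2 : Function.Injective (X.residue (genericPoint X)) := by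
    letI : Field (X.presheaf.stalk (genericPoint X)) := inferInstanceAs (Field X.functionField)
    exact (X.residue (genericPoint X)).hom.injective
  intro a b hab
  apply h1
  apply h2
  exact hab

/-- evaluation at the generic point of an integral scheme, from an affine open, is formally étale -/
theorem formallyEtale_evaluation [IsIntegral Y] (y : Y) (hy : y = genericPoint Y) (U : Y.Opens)
    (hU : IsAffineOpen U) (hyU : y ∈ U) :
    letI := (Y.evaluation U y hyU).hom.toAlgebra
    Algebra.FormallyEtale Γ(Y, U) (Y.residueField y) := by
  subst hy
  letI alg := (Y.evaluation U (genericPoint Y) hyU).hom.toAlgebra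
  haveI : Nonempty U := ⟨⟨_, hyU⟩⟩
  haveI := functionField_isFractionRing_of_isAffineOpen Y U hU
  haveI : Algebra.FormallyEtale Γ(Y, U) Y.functionField :=
    Algebra.FormallyEtale.of_isLocalization (nonZeroDivisors Γ(Y, U))
  have hbij : Function.Bijective (Y.residue (genericPoint Y)).hom :=
    ⟨(Y.residue (genericPoint Y)).hom.injective, Y.residue_surjective _⟩
  let e₀ : Y.functionField ≃+* Y.residueField (genericPoint Y) :=
    RingEquiv.ofBijective (Y.residue (genericPoint Y)).hom hbij
  let e : Y.functionField ≃ₐ[Γ(Y, U)] Y.residueField (genericPoint Y) :=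
    { e₀ with commutes' := fun a => rfl }
  exact Algebra.FormallyEtale.of_equiv e

/-- evaluation is natural for `appLE` -/
theorem appLE_evaluation (φ : X ⟶ Y) (U : Y.Opens) (U' : X.Opens) (le : U' ≤ φ ⁻¹ᵁ U) (x : X)
    (hx : x ∈ U') (a : Γ(Y, U)) :
    X.evaluation U' x hx (φ.appLE U U' le a) =
      φ.residueFieldMap x (Y.evaluation U (φ.base x) (le hx) a) := by
  rw [Scheme.evaluation_naturality_apply]
  unfold Scheme.evaluation
  rw [Scheme.Hom.appLE]
  simp only [CommRingCat.comp_apply]
  congr 1
  exact (TopCat.Presheaf.germ_res_apply X.presheaf (homOfLE le) x hx _).symm ▸ rfl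

end Generic

end Groth.Agent.H59.SepMono
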