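import Mathlib
import Groth.Agent.H59.SepMonoSch

/-!
# `φ^*Ω_Y ⟶ Ω_X` is a monomorphism for dominant separable `φ`: main theorem (helper59)
-/

set_option autoImplicit false
set_option linter.style.haveILetI false
universe u
open CategoryTheory Limits Opposite AlgebraicGeometry TopologicalSpace TensorProduct

namespace Groth.Agent.H59.SepMono

section Main
variable {X Y S : Scheme.{u}} (pY : Y ⟶ S) (φ : X ⟶ Y)
  [IsIntegral X] [IsIntegral Y] [Smooth pY]
  (hdom : DenseRange φ.base)
  (hsep : letI := (φ.residueFieldMap (genericPoint X)).hom.toAlgebra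
      Algebra.IsSeparable (Y.residueField (φ.base (genericPoint X))) (X.residueField (genericPoint X)))
  {ΩY : Y.Modules} (dY : OmegaSh.Der pY ΩY) (hY : OmegaSh.IsUniversal dY)
  {ΩX : X.Modules} (dX : OmegaSh.Der (φ ≫ pY) ΩX) (hX : OmegaSh.IsUniversal dX)
  (c : (Scheme.Modules.pullback φ).obj ΩY ⟶ ΩX) (hc : OmegaSh.IsDiffCompat φ dY dX c)

include hdom hsep hY hX hc in
/-- **For a dominant morphism `φ` of integral schemes with `Y` smooth over `S` whose generic residue
field extension is separable algebraic, `φ^*Ω_{Y/S} ⟶ Ω_{X/S}` is a monomorphism.** -/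
theorem mono_of_separable : Mono c := by
  refine H44.mono_of_injective_on_basis c
    (fun t : {t : H44.TripleChart φ pY // genericPoint X ∈ t.U'} => t.1.U') ?_ fun ⟨t, hη⟩ => ?_
  · rw [Opens.isBasis_iff_nbhd]
    intro W x hxW
    obtain ⟨t, hxt, htW⟩ := H44.exists_tripleChart φ pY x W hxW
    have hη : genericPoint X ∈ t.U' :=
      ((genericPoint_spec X).mem_open_set_iff t.U'.isOpen).mpr ⟨x, trivial, hxt⟩
    exact ⟨_, ⟨⟨t, hη⟩, rfl⟩, hxt, htW⟩
  · change Function.Injective (c.app t.U')
    have hηU : φ.base (genericPoint X) ∈ t.U := t.le hη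
    letI algRA : Algebra Γ(S, t.V) Γ(Y, t.U) := (pY.appLE t.V t.U t.e).hom.toAlgebra
    letI algRA' : Algebra Γ(S, t.V) Γ(X, t.U') :=
      ((φ ≫ pY).appLE t.V t.U' (t.le' φ pY)).hom.toAlgebra
    letI algAA' : Algebra Γ(Y, t.U) Γ(X, t.U') := (φ.appLE t.U t.U' t.le).hom.toAlgebra
    haveI : IsScalarTower Γ(S, t.V) Γ(Y, t.U) Γ(X, t.U') := IsScalarTower.of_algebraMap_eq' (by
      change ((φ ≫ pY).appLE t.V t.U' (t.le' φ pY)).hom =
        (φ.appLE t.U t.U' t.le).hom.comp (pY.appLE t.V t.U t.e).hom
      rw [← CommRingCat.hom_comp, Scheme.Hom.appLE_comp_appLE])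
    -- the field `K`
    letI algBK : Algebra Γ(X, t.U') (X.residueField (genericPoint X)) :=
      (X.evaluation t.U' (genericPoint X) hη).hom.toAlgebra
    letI algAK : Algebra Γ(Y, t.U) (X.residueField (genericPoint X)) :=
      ((algebraMap Γ(X, t.U') (X.residueField (genericPoint X))).comp
        (algebraMap Γ(Y, t.U) Γ(X, t.U'))).toAlgebra
    letI algRK : Algebra Γ(S, t.V) (X.residueField (genericPoint X)) :=
      ((algebraMap Γ(X, t.U') (X.residueField (genericPoint X))).comp
        (algebraMap Γ(S, t.V) Γ(X, t.U'))).toAlgebra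
    haveI : IsScalarTower Γ(Y, t.U) Γ(X, t.U') (X.residueField (genericPoint X)) :=
      IsScalarTower.of_algebraMap_eq' rfl
    haveI : IsScalarTower Γ(S, t.V) Γ(X, t.U') (X.residueField (genericPoint X)) :=
      IsScalarTower.of_algebraMap_eq' rfl
    haveI : IsScalarTower Γ(S, t.V) Γ(Y, t.U) (X.residueField (genericPoint X)) :=
      IsScalarTower.of_algebraMap_eq' (by
        change (algebraMap Γ(X, t.U') (X.residueField (genericPoint X))).comp
            (algebraMap Γ(S, t.V) Γ(X, t.U')) =
          ((algebraMap Γ(X, t.U') (X.residueField (genericPoint X))).comp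
            (algebraMap Γ(Y, t.U) Γ(X, t.U'))).comp (algebraMap Γ(S, t.V) Γ(Y, t.U))
        rw [RingHom.comp_assoc]
        congr 1
        exact IsScalarTower.algebraMap_eq Γ(S, t.V) Γ(Y, t.U) Γ(X, t.U'))
    -- the intermediate field `L`
    letI algAL : Algebra Γ(Y, t.U) (Y.residueField (φ.base (genericPoint X))) :=
      (Y.evaluation t.U (φ.base (genericPoint X)) hηU).hom.toAlgebra
    letI algLK : Algebra (Y.residueField (φ.base (genericPoint X)))
        (X.residueField (genericPoint X)) := (φ.residueFieldMap (genericPoint X)).hom.toAlgebra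
    haveI : IsScalarTower Γ(Y, t.U) (Y.residueField (φ.base (genericPoint X)))
        (X.residueField (genericPoint X)) := IsScalarTower.of_algebraMap_eq (fun a => by
      exact appLE_evaluation φ t.U t.U' t.le (genericPoint X) hη a)
    haveI hAL : Algebra.FormallyEtale Γ(Y, t.U) (Y.residueField (φ.base (genericPoint X))) :=
      formallyEtale_evaluation (φ.base (genericPoint X)) (map_genericPoint φ hdom) t.U t.hU hηU
    haveI : Algebra.IsSeparable (Y.residueField (φ.base (genericPoint X)))
        (X.residueField (genericPoint X)) := hsep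
    haveI hLK : Algebra.FormallyEtale (Y.residueField (φ.base (genericPoint X)))
        (X.residueField (genericPoint X)) := Algebra.FormallyEtale.of_isSeparable _ _
    haveI hAK : Algebra.FormallyEtale Γ(Y, t.U) (X.residueField (genericPoint X)) :=
      Algebra.FormallyEtale.comp Γ(Y, t.U) (Y.residueField (φ.base (genericPoint X))) _
    haveI : Algebra.FormallySmooth Γ(S, t.V) Γ(Y, t.U) := by
      have h1 : (pY.appLE t.V t.U t.e).hom.Smooth := Smooth.smooth_appLE pY t.hV t.hU t.e
      have h2 : Algebra.Smooth Γ(S, t.V) Γ(Y, t.U) := h1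
      exact h2.formallySmooth
    have hinj : Function.Injective (algebraMap Γ(X, t.U') (X.residueField (genericPoint X))) :=
      evaluation_genericPoint_injective t.U' hη
    obtain ⟨E, Φ', -, hμ⟩ := H44.exists_chart_description φ dY dX c hc t.hU t.hU' t.le hY hX
      t.hV t.hV t.e (t.le' φ pY)
    have h1 := hμ (KaehlerDifferential.mapBaseChange Γ(S, t.V) Γ(Y, t.U) Γ(X, t.U'))
      (fun a' s => by
        rw [KaehlerDifferential.mapBaseChange_tmul, KaehlerDifferential.map_D]
        rfl)
    intro x y hxy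
    apply E.injective
    apply mapBaseChange_injective_of_formallyEtale Γ(S, t.V) Γ(Y, t.U) Γ(X, t.U')
      (X.residueField (genericPoint X)) hinj
    rw [← h1, ← h1, hxy]

end Main

end Groth.Agent.H59.SepMono
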