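import Mathlib
import Groth.Agent.H59.ShapeLemma

/-!
# The order-reversing symmetry of the Plücker algebra
-/

set_option autoImplicit false

namespace Groth.Agent.H59.Shape

open W4bk4grassmannian MvPolynomial Groth.Agent.H59.SMTIndep Groth.Agent.H59.SMT
open Groth.Agent.H59.Straighten

section rev

variable {d n : ℕ}

/-- the order-reversing involution of `I(d,n)`. -/
def rev (θ : Idx d n) : Idx d n :=
  ⟨fun t => Fin.rev (θ.1 (Fin.rev t)), fun a b hab => by
    apply Fin.rev_lt_rev.mpr
    exact θ.2 (Fin.rev_lt_rev.mpr hab)⟩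

theorem rev_rev (θ : Idx d n) : rev (rev θ) = θ := by
  apply Subtype.ext
  funext t
  show Fin.rev (Fin.rev (θ.1 (Fin.rev (Fin.rev t)))) = θ.1 t
  rw [Fin.rev_rev, Fin.rev_rev]

theorem rev_le_rev {θ θ' : Idx d n} : rev θ ≤ rev θ' ↔ θ' ≤ θ := by
  constructor
  · intro h t
    have := h (Fin.rev t)
    have h2 : Fin.rev (θ.1 (Fin.rev (Fin.rev t))) ≤ Fin.rev (θ'.1 (Fin.rev (Fin.rev t))) := this
    rw [Fin.rev_rev, Fin.rev_le_rev] at h2
    exact h2
  · intro h t
    show Fin.rev (θ.1 (Fin.rev t)) ≤ Fin.rev (θ'.1 (Fin.rev t))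
    rw [Fin.rev_le_rev]
    exact h (Fin.rev t)

theorem rev_injective : Function.Injective (rev : Idx d n → Idx d n) :=
  Function.LeftInverse.injective rev_rev

/-- the reversal of a chain. -/
def revCh (c : Ch d n) : Ch d n :=
  ⟨c.1, fun k => rev (c.2.1 (Fin.rev k)), fun a b hab => by
    rw [rev_le_rev]
    exact c.2.2 (Fin.rev_le_rev.mpr hab)⟩

theorem revCh_revCh (c : Ch d n) : revCh (revCh c) = c := by
  obtain ⟨m, c, hc⟩ := c
  unfold revCh
  simp only [rev_rev, Fin.rev_rev]

theorem revCh_injective : Function.Injective (revCh : Ch d n → Ch d n) :=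
  Function.LeftInverse.injective revCh_revCh

variable (K : Type*) [CommRing K]

/-- the automorphism of the Plücker algebra induced by the reversal. -/
noncomputable def revHom : PlRing K d n →ₐ[K] PlRing K d n := MvPolynomial.rename rev

theorem revHom_X (θ : Idx d n) : revHom K (X θ) = X (rev θ) := rename_X _ _

theorem revHom_chainMon (c : Ch d n) :
    revHom K (chainMon K c.2.1) = chainMon K (revCh c).2.1 := by
  unfold chainMon
  rw [map_prod]
  simp only [revHom_X]
  exact (Equiv.prod_comp Fin.revPerm (fun k => (X (rev (c.2.1 k)) : PlRing K d n))).symm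

theorem det_submatrix_rev (A : Matrix (Fin n) (Fin d) K) (θ : Idx d n) :
    (A.submatrix (rev θ).1 id).det = ((A.submatrix Fin.rev Fin.rev).submatrix θ.1 id).det := by
  have e : A.submatrix (rev θ).1 id
      = (((A.submatrix Fin.rev Fin.rev).submatrix θ.1 id).submatrix Fin.revPerm Fin.revPerm) := by
    ext s t
    simp only [Matrix.submatrix_apply, id, Fin.revPerm_apply, rev, Fin.rev_rev]
  rw [e, Matrix.det_submatrix_equiv_self]

theorem evalMinors_revHom (A : Matrix (Fin n) (Fin d) K) (f : PlRing K d n) :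
    evalMinors K d n A (revHom K f) = evalMinors K d n (A.submatrix Fin.rev Fin.rev) f := by
  have hcomp : (evalMinors K d n A).comp (revHom K)
      = evalMinors K d n (A.submatrix Fin.rev Fin.rev) := by
    apply MvPolynomial.algHom_ext
    intro θ
    rw [AlgHom.comp_apply, revHom_X, evalMinors_X, evalMinors_X, det_submatrix_rev]
  exact congrArg (fun F => F f) hcomp

theorem revHom_mem_vanishing (f : PlRing K d n) (hf : f ∈ vanishing K d n) :
    revHom K f ∈ vanishing K d n := by
  unfold vanishing at hf ⊢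
  rw [Ideal.mem_iInf] at hf ⊢
  intro A
  have := hf (A.submatrix Fin.rev Fin.rev)
  rw [RingHom.mem_ker] at this ⊢
  exact (evalMinors_revHom K A f).trans this

end rev

end Groth.Agent.H59.Shape
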