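import Mathlib
import Groth.Agent.H59.ShapeRev
import Groth.Agent.H59.HibiFamily

/-!
# The full shape of the straightening relation of a skew pair
-/

set_option autoImplicit false

namespace Groth.Agent.H59.Shape

open W4bk4grassmannian MvPolynomial Groth.Agent.H59.SMTIndep Groth.Agent.H59.SMT
open Groth.Agent.H59.Straighten Groth.Agent.H59.HibiW

section pairs

variable {d n : ℕ}

/-- the chain of length two `a ≥ b`. -/
def mk2 (a b : Idx d n) (hab : b ≤ a) : Ch d n :=
  ⟨2, ![a, b], by
    intro i j hij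
    fin_cases i <;> fin_cases j
    · exact le_refl _
    · exact hab
    · exact absurd hij (by decide)
    · exact le_refl _⟩

theorem eq_mk2 (c : Ch d n) (hc : c.1 = 2) :
    ∃ (a b : Idx d n) (hab : b ≤ a), c = mk2 a b hab := by
  obtain ⟨m, c, hanti⟩ := c
  simp only at hc
  subst hc
  refine ⟨c 0, c 1, hanti (Fin.zero_le 1), ?_⟩
  unfold mk2
  congr 1
  apply Subtype.ext
  funext k
  fin_cases k <;> rfl

theorem esum_sup_inf (a b : Idx d n) :
    esum (W4bk4grassmannian.sup a b) + esum (W4bk4grassmannian.inf a b) = esum a + esum b := by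
  unfold esum
  rw [← Finset.sum_add_distrib, ← Finset.sum_add_distrib]
  refine Finset.sum_congr rfl fun t _ => ?_
  show (max (a.1 t) (b.1 t)).val + (min (a.1 t) (b.1 t)).val = _
  rcases le_total (a.1 t) (b.1 t) with h | h
  · rw [max_eq_right h, min_eq_left h, add_comm]
  · rw [max_eq_left h, min_eq_right h]

theorem le_sup_left' (a b : Idx d n) : a ≤ W4bk4grassmannian.sup a b := fun _ => le_max_left _ _
theorem le_sup_right' (a b : Idx d n) : b ≤ W4bk4grassmannian.sup a b := fun _ => le_max_right _ _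
theorem inf_le_left' (a b : Idx d n) : W4bk4grassmannian.inf a b ≤ a := fun _ => min_le_left _ _
theorem inf_le_right' (a b : Idx d n) : W4bk4grassmannian.inf a b ≤ b := fun _ => min_le_right _ _
theorem sup_le' {a b u : Idx d n} (ha : a ≤ u) (hb : b ≤ u) : W4bk4grassmannian.sup a b ≤ u :=
  fun t => max_le (ha t) (hb t)
theorem le_inf' {a b u : Idx d n} (ha : u ≤ a) (hb : u ≤ b) : u ≤ W4bk4grassmannian.inf a b :=
  fun t => le_min (ha t) (hb t)

theorem esum_strictMono : StrictMono (esum : Idx d n → ℕ) := by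
  intro a b hab
  unfold esum
  apply Finset.sum_lt_sum
  · intro t _
    exact Fin.le_def.mp (hab.le t)
  · by_contra hcon
    push Not at hcon
    apply hab.not_ge
    intro t
    exact Fin.le_def.mpr (hcon t (Finset.mem_univ t))

theorem eq_of_le_of_esum_eq {a b : Idx d n} (h : a ≤ b) (he : esum a = esum b) : a = b := by
  by_contra hne
  have := esum_strictMono (lt_of_le_of_ne h hne)
  omega

end pairs

section full

variable (K : Type*) [Field K] [Infinite K] {d n : ℕ}

omit [Infinite K] in
theorem chainMon_mk2 (a b : Idx d n) (hab : b ≤ a) :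
    chainMon K (mk2 a b hab).2.1 = X a * X b := by
  unfold chainMon mk2
  rw [Fin.prod_univ_two]
  rfl

/-- every standard monomial in the expansion has bottom member below `τ` and `φ`. -/
theorem ge_of_mem (hd : 0 < d) (τ φ : Idx d n) (T : Finset (Ch d n)) (l : Ch d n → K)
    (hmem : X τ * X φ - ∑ c ∈ T, l c • chainMon K c.2.1 ∈ vanishing K d n)
    (c : Ch d n) (hc : c ∈ T) (hl : l c ≠ 0) (β : Idx d n) (hβ : ∀ k, β ≤ c.2.1 k) :
    β ≤ τ ∧ β ≤ φ := by
  classical
  have h1 := revHom_mem_vanishing K _ hmem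
  rw [map_sub, map_mul, revHom_X, revHom_X, map_sum] at h1
  have h2 : X (rev τ) * X (rev φ)
      - ∑ c' ∈ T.image revCh, l (revCh c') • chainMon K c'.2.1 ∈ vanishing K d n := by
    rw [Finset.sum_image (fun x _ y _ h => revCh_injective h)]
    have e : ∑ c ∈ T, l (revCh (revCh c)) • chainMon K (revCh c).2.1
        = ∑ c ∈ T, revHom K (l c • chainMon K c.2.1) := by
      refine Finset.sum_congr rfl fun c _ => ?_
      rw [revCh_revCh, map_smul, revHom_chainMon]
    rw [e]
    exact h1
  have h3 := le_of_mem K hd (rev τ) (rev φ) (T.image revCh) (fun c' => l (revCh c')) h2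
    (revCh c) (Finset.mem_image_of_mem _ hc) (by rw [revCh_revCh]; exact hl) (rev β)
    (fun k => rev_le_rev.mpr (hβ (Fin.rev k)))
  exact ⟨rev_le_rev.mp h3.1, rev_le_rev.mp h3.2⟩

/-- the shape of the straightening relation of a skew pair. -/
theorem shape_full (hd : 0 < d) (hdn : d ≤ n) (τ φ : Idx d n) :
    ∃ g ∈ Submodule.span K {f : PlRing K d n | ∃ α β : Idx d n,
        β ≤ α ∧ W4bk4grassmannian.sup τ φ < α ∧ β < W4bk4grassmannian.inf τ φ ∧
          f = X α * X β},
      X τ * X φ - X (W4bk4grassmannian.sup τ φ) * X (W4bk4grassmannian.inf τ φ) - g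
        ∈ vanishing K d n := by
  classical
  obtain ⟨T, l, hl, hT2, hTsum, hTle, hTmem⟩ := exists_shape K hd hdn τ φ
  set sp := W4bk4grassmannian.sup τ φ with hsp
  set ip := W4bk4grassmannian.inf τ φ with hip
  have hipsp : ip ≤ sp := le_trans (inf_le_left' τ φ) (le_sup_left' τ φ)
  set c₀ : Ch d n := mk2 sp ip hipsp with hc₀
  -- the members of `T`
  have hfacts : ∀ c ∈ T, ∃ (a b : Idx d n) (hab : b ≤ a), c = mk2 a b hab ∧ sp ≤ a ∧ b ≤ ip ∧
      esum a + esum b = esum sp + esum ip := by
    intro c hc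
    obtain ⟨a, b, hab, rfl⟩ := eq_mk2 c (hT2 c hc)
    refine ⟨a, b, hab, rfl, ?_, ?_, ?_⟩
    · have := hTle _ hc a (by
        intro k
        fin_cases k
        · exact le_refl _
        · exact hab)
      exact sup_le' this.1 this.2
    · have := ge_of_mem K hd τ φ T l hTmem _ hc (hl _ hc) b (by
        intro k
        fin_cases k
        · exact hab
        · exact le_refl _)
      exact le_inf' this.1 this.2
    · have : ∑ k : Fin 2, esum (![a, b] k) = esum τ + esum φ := hTsum _ hc
      rw [Fin.sum_univ_two] at this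
      rw [esum_sup_inf]
      exact this
  -- apply the parametrisation of `X(sp)`
  have hker : psi K sp (X τ * X φ - ∑ c ∈ T, l c • chainMon K c.2.1) = 0 :=
    schubertVanishing_le_ker_psi K sp (vanishing_le K sp hTmem)
  have hzero : ∀ c ∈ T, c ≠ c₀ → psi K sp (chainMon K c.2.1) = 0 := by
    intro c hc hne
    apply psi_chainMon_eq_zero
    intro hall
    apply hne
    obtain ⟨a, b, hab, rfl, hspa, hbip, hsum⟩ := hfacts c hc
    have hall' : ∀ k : Fin 2, ![a, b] k ≤ sp := hall
    have ha : a = sp := le_antisymm (hall' 0) hspa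
    subst ha
    have hb : b = ip := eq_of_le_of_esum_eq hbip (by omega)
    subst hb
    rfl
  have hcoef1 : MvPolynomial.coeff (ex τ.1 + ex φ.1) (psi K sp (X τ * X φ)) = 1 := by
    rw [map_mul, psi_X, psi_X]
    have h := (hasTop_D K sp τ (le_sup_left' τ φ)).mul (hasTop_D K sp φ (le_sup_right' τ φ))
    rw [h.coeff (le_of_eq h.1.symm), if_pos rfl]
  have hcoef0 : MvPolynomial.coeff (ex τ.1 + ex φ.1) (psi K sp (chainMon K c₀.2.1)) = 1 := by
    rw [hc₀, chainMon_mk2, map_mul, psi_X, psi_X]
    have h := (hasTop_D K sp sp (le_refl _)).mul (hasTop_D K sp ip hipsp)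
    have e : ex sp.1 + ex ip.1 = ex τ.1 + ex φ.1 := ex_sup_inf τ φ
    rw [e] at h
    rw [h.coeff (le_of_eq h.1.symm), if_pos rfl]
  have hmain : c₀ ∈ T ∧ l c₀ = 1 := by
    rw [map_sub, sub_eq_zero, map_sum] at hker
    have hc := congrArg (MvPolynomial.coeff (ex τ.1 + ex φ.1)) hker
    rw [hcoef1, coeff_sum] at hc
    by_cases hmem : c₀ ∈ T
    · refine ⟨hmem, ?_⟩
      rw [Finset.sum_eq_single c₀] at hc
      · rw [map_smul, coeff_smul, hcoef0, smul_eq_mul, mul_one] at hc
        exact hc.symm
      · intro c hcT hne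
        rw [map_smul, hzero c hcT hne, smul_zero, coeff_zero]
      · intro h
        exact absurd hmem h
    · exfalso
      rw [Finset.sum_eq_zero] at hc
      · exact one_ne_zero hc
      · intro c hcT
        have hne : c ≠ c₀ := fun h => hmem (h ▸ hcT)
        rw [map_smul, hzero c hcT hne, smul_zero, coeff_zero]
  obtain ⟨hc₀T, hlc₀⟩ := hmain
  refine ⟨∑ c ∈ T.erase c₀, l c • chainMon K c.2.1, ?_, ?_⟩
  · apply Submodule.sum_mem
    intro c hc
    apply Submodule.smul_mem
    apply Submodule.subset_span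
    obtain ⟨hne, hcT⟩ := Finset.mem_erase.mp hc
    obtain ⟨a, b, hab, rfl, hspa, hbip, hsum⟩ := hfacts c hcT
    refine ⟨a, b, hab, ?_, ?_, chainMon_mk2 K a b hab⟩
    · apply lt_of_le_of_ne hspa
      intro ha
      apply hne
      subst ha
      have hb : b = ip := eq_of_le_of_esum_eq hbip (by omega)
      subst hb
      rfl
    · apply lt_of_le_of_ne hbip
      intro hb
      apply hne
      subst hb
      have ha : sp = a := eq_of_le_of_esum_eq hspa (by omega)
      subst ha
      rfl
  · have e : X τ * X φ - X sp * X ip - ∑ c ∈ T.erase c₀, l c • chainMon K c.2.1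
        = X τ * X φ - ∑ c ∈ T, l c • chainMon K c.2.1 := by
      rw [← Finset.add_sum_erase T _ hc₀T, hlc₀, one_smul, hc₀, chainMon_mk2]
      ring
    rw [e]
    exact hTmem

end full

end Groth.Agent.H59.Shape
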