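import Mathlib
import Groth.Agent.H59.ExtOneBC
import Groth.Agent.H59.LciH1RelJ
import Groth.Agent.H59.ConormalProj
import Groth.Agent.H95.TensorPowerSummand

/-!
# Base change of `T¹ = Ext¹(Ω, O)` for flat local complete intersections with generically smooth
fibres along a closed immersion of the base
-/

set_option autoImplicit false
set_option linter.style.haveILetI false
universe u

open IsLocalRing TensorProduct

namespace Groth.Agent.H59.T1BC

section LocalKill

variable {P : Type u} [CommRing P] {N F : Type u} [AddCommGroup N] [Module P N]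
  [AddCommGroup F] [Module P F] (i : N →ₗ[P] F)

/-- If `i` becomes split injective after localizing at `𝔓`, then every element of the kernel of
`Q ⊗ i` is killed by an element outside `𝔓`. -/
theorem exists_smul_eq_zero (𝔓 : Ideal P) [𝔓.IsPrime]
    (l : Localization.AtPrime 𝔓 ⊗[P] F →ₗ[P] Localization.AtPrime 𝔓 ⊗[P] N)
    (hl : l ∘ₗ i.lTensor (Localization.AtPrime 𝔓) = LinearMap.id)
    (Q : Type u) [AddCommGroup Q] [Module P Q] (x : Q ⊗[P] N) (hx : i.lTensor Q x = 0) :
    ∃ t : P, t ∉ 𝔓 ∧ t • x = 0 := by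
  set L := Localization.AtPrime 𝔓
  have h1 : (l.lTensor Q) ∘ₗ ((i.lTensor L).lTensor Q) = LinearMap.id := by
    rw [← LinearMap.lTensor_comp, hl, LinearMap.lTensor_id]
  have hnat : ∀ w : L ⊗[P] (Q ⊗[P] N),
      ((i.lTensor L).lTensor Q) (TensorProduct.leftComm P L Q N w) =
        TensorProduct.leftComm P L Q F (((i.lTensor Q).lTensor L) w) := by
    intro w
    induction w using TensorProduct.induction_on with
    | zero => simp
    | add a b ha hb => simp only [map_add, ha, hb]
    | tmul a v =>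
      induction v using TensorProduct.induction_on with
      | zero => simp
      | add c d hc hd => simp only [TensorProduct.tmul_add, map_add, hc, hd]
      | tmul q n => simp
  have hy : (1 : L) ⊗ₜ[P] x = 0 := by
    have h2 : ((i.lTensor Q).lTensor L) ((1 : L) ⊗ₜ[P] x) = 0 := by
      rw [LinearMap.lTensor_tmul, hx, TensorProduct.tmul_zero]
    have h3 := hnat ((1 : L) ⊗ₜ[P] x)
    rw [h2, map_zero] at h3
    have h4 := congrArg (l.lTensor Q) h3
    rw [map_zero] at h4
    have h5 : (l.lTensor Q) (((i.lTensor L).lTensor Q)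
        (TensorProduct.leftComm P L Q N ((1 : L) ⊗ₜ[P] x))) =
        TensorProduct.leftComm P L Q N ((1 : L) ⊗ₜ[P] x) := by
      rw [← LinearMap.comp_apply, h1, LinearMap.id_apply]
    rw [h5] at h4
    exact (TensorProduct.leftComm P L Q N).injective (by rw [h4, map_zero])
  have h6 : TensorProduct.mk P L (Q ⊗[P] N) 1 x = 0 := hy
  obtain ⟨t, ht⟩ := (IsLocalizedModule.eq_zero_iff 𝔓.primeCompl
    (TensorProduct.mk P L (Q ⊗[P] N) 1)).mp h6
  exact ⟨t.1, t.2, ht⟩

end LocalKill

section Split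

variable {A P : Type u} [CommRing A] [CommRing P] [Algebra A P]
  {N F : Type u} [AddCommGroup N] [Module P N] [AddCommGroup F] [Module P F]
  (i : N →ₗ[P] F) (π : F →ₗ[P] Ω[P⁄A])

/-- A short exact sequence `0 → N → F → Ω_{P/A} → 0` splits after localizing at a prime in the smooth
locus. -/
theorem exists_retraction (hi : Function.Injective i) (hex : Function.Exact i π)
    (hπ : Function.Surjective π) (𝔓 : Ideal P) [𝔓.IsPrime]
    [Algebra.FormallySmooth A (Localization.AtPrime 𝔓)] :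
    ∃ l : Localization.AtPrime 𝔓 ⊗[P] F →ₗ[P] Localization.AtPrime 𝔓 ⊗[P] N,
      l ∘ₗ i.lTensor (Localization.AtPrime 𝔓) = LinearMap.id := by
  set L := Localization.AtPrime 𝔓
  haveI : Algebra.FormallyEtale P L := Algebra.FormallyEtale.of_isLocalization 𝔓.primeCompl
  let eΩ : L ⊗[P] Ω[P⁄A] ≃ₗ[L] Ω[L⁄A] := KaehlerDifferential.tensorKaehlerEquivOfFormallyEtale A P L
  haveI : Module.Projective L (L ⊗[P] Ω[P⁄A]) := Module.Projective.of_equiv eΩ.symm
  have hiL : Function.Injective (i.baseChange L) := by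
    rw [LinearMap.baseChange_eq_ltensor]
    exact Module.Flat.lTensor_preserves_injective_linearMap i hi
  have hπL : Function.Surjective (π.baseChange L) := by
    rw [LinearMap.baseChange_eq_ltensor]
    exact LinearMap.lTensor_surjective L hπ
  have hexL : Function.Exact (i.baseChange L) (π.baseChange L) := by
    rw [LinearMap.baseChange_eq_ltensor, LinearMap.baseChange_eq_ltensor]
    exact lTensor_exact L hex hπ
  obtain ⟨σ, hσ⟩ := Module.projective_lifting_property (π.baseChange L) LinearMap.id hπL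
  obtain ⟨-, l, hl⟩ := ((hexL.split_tfae').out 0 1 rfl rfl).mp ⟨hiL, σ, hσ⟩
  refine ⟨l.restrictScalars P, ?_⟩
  apply LinearMap.ext
  intro y
  have := LinearMap.congr_fun hl y
  exact this

end Split

section Kaehler

variable (A P : Type u) [CommRing A] [CommRing P] [Algebra A P] (J : Ideal A)

/-- `Ω_{P/A} ⊗_P (P/JP) ≃ Ω_{(P/JP)/A}`. -/
theorem mapBaseChange_quotient_bijective :
    Function.Bijective (KaehlerDifferential.mapBaseChange A P (P ⧸ J.map (algebraMap A P))) := by
  set 𝔞 : Ideal P := J.map (algebraMap A P) with h𝔞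
  have hsurj : Function.Surjective (algebraMap P (P ⧸ 𝔞)) := Ideal.Quotient.mk_surjective
  refine ⟨?_, KaehlerDifferential.mapBaseChange_surjective A P (P ⧸ 𝔞) hsurj⟩
  rw [injective_iff_map_eq_zero]
  intro y hy
  obtain ⟨c, rfl⟩ :=
    ((KaehlerDifferential.exact_kerCotangentToTensor_mapBaseChange A P (P ⧸ 𝔞) hsurj) y).mp hy
  obtain ⟨x, rfl⟩ := Ideal.toCotangent_surjective _ c
  rw [KaehlerDifferential.kerCotangentToTensor_toCotangent]
  have hxmem : (x : P) ∈ 𝔞 := by
    have h0 : algebraMap P (P ⧸ 𝔞) (x : P) = 0 := x.2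
    exact Ideal.Quotient.eq_zero_iff_mem.mp h0
  have key : ∀ w : P, w ∈ 𝔞 →
      (1 : P ⧸ 𝔞) ⊗ₜ[P] KaehlerDifferential.D A P w = 0 := by
    intro w hw
    rw [h𝔞, Ideal.map, ] at hw
    induction hw using Submodule.span_induction with
    | mem w hw =>
      obtain ⟨a, -, rfl⟩ := hw
      rw [Derivation.map_algebraMap, TensorProduct.tmul_zero]
    | zero => rw [map_zero, TensorProduct.tmul_zero]
    | add u v _ _ hu hv => rw [map_add, TensorProduct.tmul_add, hu, hv, add_zero]
    | smul p w hw ih =>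
      rw [smul_eq_mul, Derivation.leibniz, TensorProduct.tmul_add, TensorProduct.tmul_smul, ih,
        smul_zero, zero_add, ← TensorProduct.smul_tmul, Algebra.smul_def, mul_one,
        Ideal.Quotient.algebraMap_eq]
      have : (Ideal.Quotient.mk 𝔞) w = 0 := by
        rw [Ideal.Quotient.eq_zero_iff_mem, h𝔞, Ideal.map]
        exact hw
      rw [this, TensorProduct.zero_tmul]
  exact key x hxmem

end Kaehler

section Inj

variable (A P : Type u) [CommRing A] [CommRing P] [Algebra A P] [IsNoetherianRing A]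
  [IsNoetherianRing P] [Module.Flat A P]
  {N F : Type u} [AddCommGroup N] [Module P N] [AddCommGroup F] [Module P F]
  (i : N →ₗ[P] F)

set_option backward.isDefEq.respectTransparency false in
/-- For a flat algebra with Gorenstein, generically smooth fibres, a map from a projective module
which is split injective at all smooth points stays injective modulo `J`. -/
theorem injective_lTensor_quotient
    (hfib : ∀ (𝔭 : Ideal A) [𝔭.IsPrime], LocCoh.IsGorensteinRing (𝔭.Fiber P))
    (hgs : ∀ 𝔓 : PrimeSpectrum P,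
      (∀ 𝔔 : PrimeSpectrum P, 𝔔 ≤ 𝔓 →
          𝔔.asIdeal.comap (algebraMap A P) = 𝔓.asIdeal.comap (algebraMap A P) → 𝔔 = 𝔓) →
        𝔓 ∈ Algebra.smoothLocus A P)
    [Module.Projective P N]
    (hsplit : ∀ (𝔓 : Ideal P) [𝔓.IsPrime], Algebra.FormallySmooth A (Localization.AtPrime 𝔓) →
      ∃ l : Localization.AtPrime 𝔓 ⊗[P] F →ₗ[P] Localization.AtPrime 𝔓 ⊗[P] N,
        l ∘ₗ i.lTensor (Localization.AtPrime 𝔓) = LinearMap.id)
    (J : Ideal A) :
    Function.Injective (i.lTensor (P ⧸ J.map (algebraMap A P))) := by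
  set 𝔞 : Ideal P := J.map (algebraMap A P) with h𝔞
  rw [injective_iff_map_eq_zero]
  intro x hx
  by_contra hx0
  haveI : Module.Projective (P ⧸ 𝔞) ((P ⧸ 𝔞) ⊗[P] N) := inferInstance
  obtain ⟨ψ, hψ⟩ : ∃ ψ : ((P ⧸ 𝔞) ⊗[P] N) →ₗ[P ⧸ 𝔞] (P ⧸ 𝔞), ψ x ≠ 0 := by
    by_contra hcon
    push Not at hcon
    exact hx0 (Groth.Agent.H95.eq_zero_of_forall_dual_eq_zero x hcon)
  obtain ⟨c, hc⟩ := Ideal.Quotient.mk_surjective (ψ x)
  let N0 : Submodule P (P ⧸ 𝔞) := Submodule.span P {ψ x}
  haveI : Nontrivial N0 :=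
    ⟨⟨⟨ψ x, Submodule.mem_span_singleton_self _⟩, 0, fun h0 => hψ (congrArg Subtype.val h0)⟩⟩
  obtain ⟨𝔓, h𝔓⟩ := associatedPrimes.nonempty P N0
  obtain ⟨h𝔓p, y, hy⟩ := isAssociatedPrime_iff.mp h𝔓
  obtain ⟨b, hb⟩ := Submodule.mem_span_singleton.mp y.2
  have hmem : ∀ a : P, a ∈ 𝔓 ↔ a * (b * c) ∈ 𝔞 := by
    intro a
    rw [hy, Submodule.mem_colon_singleton, Submodule.mem_bot, ← Subtype.coe_inj,
      Submodule.coe_smul, ← hb, Submodule.coe_zero, ← Ideal.Quotient.eq_zero_iff_mem, ← hc]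
    show a • b • (Ideal.Quotient.mk 𝔞 c) = 0 ↔ _
    rw [map_mul, map_mul]
    rfl
  set S := Localization.AtPrime 𝔓 with hS
  have h𝔞S : J.map (algebraMap A S) = 𝔞.map (algebraMap P S) := by
    rw [h𝔞, Ideal.map_map, ← IsScalarTower.algebraMap_eq]
  -- the depth zero witness
  have hz : algebraMap P S (b * c) ∉ J.map (algebraMap A S) := by
    rw [h𝔞S]
    intro h1
    obtain ⟨⟨⟨p, hp⟩, ⟨s, hs⟩⟩, hps⟩ :=
      (IsLocalization.mem_map_algebraMap_iff 𝔓.primeCompl S).mp h1
    simp only at hps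
    rw [← map_mul] at hps
    obtain ⟨⟨t, ht⟩, hts⟩ := (IsLocalization.eq_iff_exists 𝔓.primeCompl S).mp hps
    simp only at hts
    have h2 : (t * s) * (b * c) ∈ 𝔞 := by
      have : (t * s) * (b * c) = t * p := by rw [← hts]; ring
      rw [this]
      exact Ideal.mul_mem_left _ _ hp
    have h3 := (hmem (t * s)).mpr h2
    rcases h𝔓p.mem_or_mem h3 with h4 | h4
    · exact ht h4
    · exact hs h4
  have hkill : ∀ m ∈ maximalIdeal S, m * algebraMap P S (b * c) ∈ J.map (algebraMap A S) := by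
    rw [h𝔞S]
    have hle : 𝔓.map (algebraMap P S) ≤
        (𝔞.map (algebraMap P S)).colon {algebraMap P S (b * c)} := by
      rw [Ideal.map_le_iff_le_comap]
      intro a₀ ha₀
      rw [Ideal.mem_comap, Submodule.mem_colon_singleton, smul_eq_mul, ← map_mul]
      exact Ideal.mem_map_of_mem _ ((hmem a₀).mp ha₀)
    intro m hm
    rw [← Localization.AtPrime.map_eq_maximalIdeal] at hm
    have := hle hm
    rwa [Submodule.mem_colon_singleton] at this
  have hmin : ∀ 𝔔 : PrimeSpectrum P, 𝔔 ≤ ⟨𝔓, h𝔓p⟩ →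
      𝔔.asIdeal.comap (algebraMap A P) = 𝔓.comap (algebraMap A P) → 𝔔 = ⟨𝔓, h𝔓p⟩ := by
    intro 𝔔 hle hcm
    apply PrimeSpectrum.ext
    exact Groth.Agent.H59.LciH1RelJ.eq_of_le_of_comap_eq_rel A P hfib J 𝔓 _ hz hkill
      𝔔.asIdeal hle hcm
  have hsm : Algebra.FormallySmooth A (Localization.AtPrime 𝔓) := hgs ⟨𝔓, h𝔓p⟩ hmin
  obtain ⟨l, hl⟩ := hsplit 𝔓 hsm
  obtain ⟨t, ht, htx⟩ := exists_smul_eq_zero i 𝔓 l hl (P ⧸ 𝔞) x hx
  have h1 : ψ (t • x) = 0 := by rw [htx, map_zero]
  have h2 : t • x = (Ideal.Quotient.mk 𝔞 t) • x := by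
    rw [← Ideal.Quotient.algebraMap_eq, algebraMap_smul]
  rw [h2, map_smul, ← hc, smul_eq_mul, ← map_mul, Ideal.Quotient.eq_zero_iff_mem] at h1
  apply ht
  rw [hmem]
  have : t * (b * c) = b * (t * c) := by ring
  rw [this]
  exact Ideal.mul_mem_left _ _ h1

end Inj

section Main

open CategoryTheory

set_option backward.isDefEq.respectTransparency false in
/-- `T¹` of a flat local complete intersection algebra with generically smooth fibres over a
Noetherian ring commutes with base change along `A → A/J`. -/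
theorem main (A : Type u) [CommRing A] [IsNoetherianRing A]
    (P : Type u) [CommRing P] [Algebra A P] [Module.Flat A P] (hlci : LCI.IsLCI A P)
    (hgs : ∀ 𝔓 : PrimeSpectrum P,
      (∀ 𝔔 : PrimeSpectrum P, 𝔔 ≤ 𝔓 →
          𝔔.asIdeal.comap (algebraMap A P) = 𝔓.asIdeal.comap (algebraMap A P) → 𝔔 = 𝔓) →
        𝔓 ∈ Algebra.smoothLocus A P)
    (J : Ideal A) :
    Nonempty
      ((P ⧸ J.map (algebraMap A P)) ⊗[P]
          Abelian.Ext.{u} (ModuleCat.of P Ω[P⁄A]) (ModuleCat.of P P) 1 ≃ₗ[P ⧸ J.map (algebraMap A P)]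
        Abelian.Ext.{u}
          (ModuleCat.of (P ⧸ J.map (algebraMap A P)) Ω[(P ⧸ J.map (algebraMap A P))⁄A])
          (ModuleCat.of (P ⧸ J.map (algebraMap A P)) (P ⧸ J.map (algebraMap A P))) 1) := by
  haveI hft : Algebra.FiniteType A P := hlci.1
  haveI : IsNoetherianRing P := Algebra.FiniteType.isNoetherianRing A P
  have hfib : ∀ (𝔭 : Ideal A) [𝔭.IsPrime], LocCoh.IsGorensteinRing (𝔭.Fiber P) := by
    intro 𝔭 _
    have h1 := Groth.Agent.H26.KoszulBC2.isGorensteinRing_tensor_of_flat_isLCI A P hlci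
      𝔭.ResidueField (Groth.Agent.H26.GorFieldAny.isGorensteinRing_of_isRegularRing _)
    exact Groth.Agent.H26.GorRegHom.isGorensteinRing_of_ringEquiv
      (Algebra.TensorProduct.comm A P 𝔭.ResidueField).toRingEquiv h1
  have hH1 : Subsingleton (Algebra.H1Cotangent A P) :=
    Groth.Agent.H59.LciH1Rel.subsingleton_h1Cotangent A P hlci hgs
  obtain ⟨-, n, f, hf, hI⟩ := hlci
  let E : Algebra.Extension A P := Algebra.Extension.ofSurjective f hf
  haveI : Algebra.FormallySmooth A E.Ring :=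
    inferInstanceAs (Algebra.FormallySmooth A (MvPolynomial (Fin n) A))
  have hE1 : Subsingleton E.H1Cotangent :=
    E.equivH1CotangentOfFormallySmooth.subsingleton_congr.mpr hH1
  have hi : Function.Injective E.cotangentComplex := by
    rw [← LinearMap.ker_eq_bot]
    haveI : Subsingleton (LinearMap.ker E.cotangentComplex) := hE1
    exact Submodule.eq_bot_of_subsingleton
  have hex := E.exact_cotangentComplex_toKaehler
  have hπ := E.toKaehler_surjective
  have hker : E.ker = RingHom.ker f.toRingHom := rfl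
  obtain ⟨hNf, hNp⟩ := Groth.Agent.H59.ConormalProj.finite_projective_cotangent E (hker ▸ hI)
  haveI : Module.Free E.Ring Ω[E.Ring⁄A] :=
    inferInstanceAs (Module.Free (MvPolynomial (Fin n) A) Ω[MvPolynomial (Fin n) A⁄A])
  haveI : Module.Finite E.Ring Ω[E.Ring⁄A] :=
    inferInstanceAs (Module.Finite (MvPolynomial (Fin n) A) Ω[MvPolynomial (Fin n) A⁄A])
  haveI : Module.Free P E.CotangentSpace := inferInstanceAs (Module.Free P (P ⊗[E.Ring] Ω[E.Ring⁄A]))
  haveI : Module.Finite P E.CotangentSpace :=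
    inferInstanceAs (Module.Finite P (P ⊗[E.Ring] Ω[E.Ring⁄A]))
  have hinj := injective_lTensor_quotient A P E.cotangentComplex hfib hgs
    (fun 𝔓 _ hsm => exists_retraction E.cotangentComplex E.toKaehler hi hex hπ 𝔓) J
  let e : (P ⧸ J.map (algebraMap A P)) ⊗[P] Ω[P⁄A] ≃ₗ[P ⧸ J.map (algebraMap A P)]
      Ω[(P ⧸ J.map (algebraMap A P))⁄A] :=
    LinearEquiv.ofBijective _ (mapBaseChange_quotient_bijective A P J)
  exact Groth.Agent.H59.ExtOneBC.nonempty_equiv (P ⧸ J.map (algebraMap A P)) E.cotangentComplex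
    E.toKaehler hi hex hπ (by rw [LinearMap.baseChange_eq_ltensor]; exact hinj) _ e

end Main

end Groth.Agent.H59.T1BC
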